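import Groth.Prelude.Def_Flat
import Mathlib.Topology.KrullDimension
import Mathlib.Topology.NoetherianSpace
import Mathlib.Topology.Semicontinuity.Basic

set_option autoImplicit false
universe u

namespace Groth.Agent.H29

open TopologicalSpace Topology Set

/-- A chain of irreducible closed sets all containing a point `x` of an open `U` restricts to a chain
of the same length in `U`. -/
theorem length_le_dim_open {X : Type u} [TopologicalSpace X] (p : LTSeries (IrreducibleCloseds X))
    (x : X) (hx : x ∈ (p.head : Set X)) (U : Set X) (hU : IsOpen U) (hxU : x ∈ U) :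
    (p.length : WithBot ℕ∞) ≤ topologicalKrullDim U := by
  have hemb : IsOpenEmbedding (Subtype.val : U → X) := hU.isOpenEmbedding_subtypeVal
  let e := IrreducibleCloseds.orderIsoOfIsOpenEmbedding (Subtype.val : U → X) hemb
  have hmem : ∀ i, ((Subtype.val : U → X) ⁻¹' (p i : Set X)).Nonempty := by
    intro i
    refine ⟨⟨x, hxU⟩, ?_⟩
    have : p.head ≤ p i := p.head_le i
    exact this hx
  let q : LTSeries (IrreducibleCloseds U) :=
    { length := p.length
      toFun := fun i => e.symm ⟨p i, hmem i⟩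
      step := fun i => by
        apply e.symm.strictMono
        exact p.step i }
  exact Order.LTSeries.length_le_krullDim q

/-- Preimage in a subspace `Y` of an irreducible set contained in `Y` is irreducible. -/
theorem isIrreducible_preimage_val {X : Type u} [TopologicalSpace X] {Y Z : Set X}
    (hZ : IsIrreducible Z) (hZY : Z ⊆ Y) : IsIrreducible ((Subtype.val : Y → X) ⁻¹' Z) := by
  refine ⟨?_, ?_⟩
  · obtain ⟨z, hz⟩ := hZ.nonempty
    exact ⟨⟨z, hZY hz⟩, hz⟩
  · intro u v hu hv ⟨a, haZ, hau⟩ ⟨b, hbZ, hbv⟩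
    obtain ⟨u', hu', rfl⟩ := isOpen_induced_iff.mp hu
    obtain ⟨v', hv', rfl⟩ := isOpen_induced_iff.mp hv
    obtain ⟨c, hcZ, hcu, hcv⟩ := hZ.isPreirreducible u' v' hu' hv' ⟨a, haZ, hau⟩ ⟨b, hbZ, hbv⟩
    exact ⟨⟨c, hZY hcZ⟩, hcZ, hcu, hcv⟩

/-- A chain of irreducible closed sets all contained in a subset `Y` restricts to a chain
of the same length in `Y`. -/
theorem length_le_dim_of_subset {X : Type u} [TopologicalSpace X] (p : LTSeries (IrreducibleCloseds X))
    (Y : Set X) (hY : (p.last : Set X) ⊆ Y) :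
    (p.length : WithBot ℕ∞) ≤ topologicalKrullDim Y := by
  have hsub : ∀ i, (p i : Set X) ⊆ Y := fun i => by
    have h : p i ≤ p.last := p.monotone (Fin.le_last i)
    exact fun a ha => hY (h ha)
  let f : Fin (p.length + 1) → IrreducibleCloseds Y := fun i =>
    { carrier := (Subtype.val : Y → X) ⁻¹' (p i : Set X)
      isIrreducible' := isIrreducible_preimage_val (p i).isIrreducible (hsub i)
      isClosed' := (p i).isClosed.preimage continuous_subtype_val }
  have hf : StrictMono f := by
    intro i j hij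
    have hlt : p i < p j := p.strictMono hij
    have hle : p i ≤ p j := hlt.le
    have hle' : f i ≤ f j := fun a ha => hle ha
    refine lt_of_le_of_ne hle' ?_
    intro heq
    apply hlt.ne
    apply IrreducibleCloseds.ext
    have h1 : ((Subtype.val : Y → X) ⁻¹' (p i : Set X)) =
        ((Subtype.val : Y → X) ⁻¹' (p j : Set X)) := congrArg (fun s : IrreducibleCloseds Y => (s : Set Y)) heq
    have h2 := congrArg (fun s => (Subtype.val : Y → X) '' s) h1
    simp only [Subtype.image_preimage_coe] at h2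
    rwa [Set.inter_eq_right.mpr (hsub _), Set.inter_eq_right.mpr (hsub _)] at h2
  let q : LTSeries (IrreducibleCloseds Y) := LTSeries.mk p.length f hf
  exact Order.LTSeries.length_le_krullDim q

/-- A chain of irreducible closeds in a space covered by a locally finite family of closed sets has its last
term in one member. -/
theorem last_subset_of_locallyFinite {X : Type u} [TopologicalSpace X] (p : LTSeries (IrreducibleCloseds X))
    {ι : Type*} (Y : ι → Set X) (hY : ∀ i, IsClosed (Y i)) (hlf : LocallyFinite Y)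
    (hcov : ⋃ i, Y i = Set.univ) : ∃ i, (p.last : Set X) ⊆ Y i := by
  obtain ⟨x, hx⟩ := (p.last).isIrreducible.nonempty
  obtain ⟨U, hUn, hUfin⟩ := hlf x
  obtain ⟨V, hVU, hVo, hxV⟩ := mem_nhds_iff.mp hUn
  have hirr : IsIrreducible ((p.last : Set X) ∩ V) :=
    ⟨⟨x, hx, hxV⟩, by
      intro u v hu hv ⟨a, ⟨haZ, haV⟩, hau⟩ ⟨b, ⟨hbZ, hbV⟩, hbv⟩
      obtain ⟨c, hcZ, ⟨hcu, hcV⟩, hcv, _⟩ := (p.last).isIrreducible.isPreirreducible (u ∩ V) (v ∩ V)
        (hu.inter hVo) (hv.inter hVo) ⟨a, haZ, hau, haV⟩ ⟨b, hbZ, hbv, hbV⟩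
      exact ⟨c, ⟨hcZ, hcV⟩, hcu, hcv⟩⟩
  have hcover : (p.last : Set X) ∩ V ⊆ ⋃₀ ((hUfin.toFinset.image Y : Finset (Set X)) : Set (Set X)) := by
    intro y hy
    have : y ∈ ⋃ i, Y i := by rw [hcov]; trivial
    obtain ⟨i, hi⟩ := Set.mem_iUnion.mp this
    refine Set.mem_sUnion.mpr ⟨Y i, ?_, hi⟩
    simp only [Finset.coe_image, Set.Finite.coe_toFinset, Set.mem_image, Set.mem_ofPred_eq]
    exact ⟨i, ⟨y, hi, hVU hy.2⟩, rfl⟩
  classical
  obtain ⟨z, hz, hsub⟩ := isIrreducible_iff_sUnion_isClosed.mp hirr (hUfin.toFinset.image Y)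
    (by
      intro z hz
      obtain ⟨i, -, rfl⟩ := Finset.mem_image.mp hz
      exact hY i) hcover
  obtain ⟨i, -, rfl⟩ := Finset.mem_image.mp hz
  refine ⟨i, ?_⟩
  have h1 : (p.last : Set X) ⊆ closure ((p.last : Set X) ∩ V) :=
    subset_closure_inter_of_isPreirreducible_of_isOpen (p.last).isIrreducible.isPreirreducible hVo
      ⟨x, hx, hxV⟩
  exact h1.trans ((hY i).closure_subset_iff.mpr hsub)

end Groth.Agent.H29
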