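import Groth.Agent.H29.DepthFinite

/-!
# Integral modules and parameters: if `M/(x₁,…,x_k)M` is integral and the `x_i` are part of a
system of parameters, then `M` is integral and the `x_i` form a regular sequence.
-/

set_option autoImplicit false
set_option linter.style.haveILetI false

universe u v

open RingTheory.Sequence IsLocalRing
open Groth.Agent.H15.DepthSpread
open scoped Pointwise

namespace Groth.Agent.H29.IntMod

/-- A module with a single associated prime, at which it has length one. -/
def IsInt (A : Type u) [CommRing A] (N : Type v) [AddCommGroup N] [Module A N] : Prop :=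
  ∃ (p : Ideal A) (_ : p.IsPrime), associatedPrimes A N = {p} ∧
    Module.length (Localization.AtPrime p) (LocalizedModule p.primeCompl N) = 1

theorem IsInt.congr {A : Type u} [CommRing A] {N N' : Type v} [AddCommGroup N] [Module A N]
    [AddCommGroup N'] [Module A N'] (e : N ≃ₗ[A] N') (h : IsInt A N) : IsInt A N' := by
  obtain ⟨p, hp, hAss, hlen⟩ := h
  refine ⟨p, hp, by rw [← LinearEquiv.AssociatedPrimes.eq e]; exact hAss, ?_⟩
  rw [← hlen]
  exact (IsLocalizedModule.mapEquiv p.primeCompl (LocalizedModule.mkLinearMap p.primeCompl N)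
    (LocalizedModule.mkLinearMap p.primeCompl N') (Localization.AtPrime p) e).symm.length_eq

section L1

variable {R : Type u} [CommRing R] [IsNoetherianRing R] [IsLocalRing R]
variable {P : Type v} [AddCommGroup P] [Module R P] [Module.Finite R P]

/-- If `P/yP` is simple and some prime `Q ∌ y` lies in the support of `P`, then `P ≅ R/Q`. -/
theorem exists_generator (y : R) (hy : y ∈ maximalIdeal R)
    (hs : IsSimpleModule R (QuotSMulTop y P)) (Q : Ideal R) [hQprime : Q.IsPrime] (hyQ : y ∉ Q)
    (hQ : (⟨Q, hQprime⟩ : PrimeSpectrum R) ∈ Module.support R P) :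
    ∃ g : P, (∀ z : P, ∃ r : R, z = r • g) ∧ ∀ r : R, r • g = 0 ↔ r ∈ Q := by
  haveI := hs
  haveI : Nontrivial (QuotSMulTop y P) := IsSimpleModule.nontrivial R _
  obtain ⟨gbar, hgbar⟩ := exists_ne (0 : QuotSMulTop y P)
  obtain ⟨g, rfl⟩ := Submodule.Quotient.mk_surjective _ gbar
  have hcyc0 : ∀ z : P, ∃ r : R, ∃ w : P, z = r • g + y • w := by
    intro z
    obtain ⟨r, hr⟩ := IsSimpleModule.toSpanSingleton_surjective R hgbar
      (Submodule.Quotient.mk z : QuotSMulTop y P)
    rw [LinearMap.toSpanSingleton_apply] at hr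
    have h0 : (Submodule.Quotient.mk (z - r • g) : QuotSMulTop y P) = 0 := by
      rw [Submodule.Quotient.mk_sub, Submodule.Quotient.mk_smul, hr, sub_self]
    rw [Submodule.Quotient.mk_eq_zero, Submodule.mem_smul_pointwise_iff_exists] at h0
    obtain ⟨w, -, hw⟩ := h0
    refine ⟨r, w, ?_⟩
    rw [hw]
    abel
  have hcyc : ∀ z : P, ∃ r : R, z = r • g := by
    have h1 : (⊤ : Submodule R P) ≤ Submodule.span R {g} := by
      apply Submodule.le_of_le_smul_of_le_jacobson_bot (I := maximalIdeal R) Module.Finite.fg_top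
        (IsLocalRing.maximalIdeal_le_jacobson ⊥)
      intro z _
      obtain ⟨r, w, rfl⟩ := hcyc0 z
      exact Submodule.add_mem _
        (Submodule.mem_sup_left (Submodule.smul_mem _ _ (Submodule.mem_span_singleton_self g)))
        (Submodule.mem_sup_right (Submodule.smul_mem_smul hy Submodule.mem_top))
    intro z
    obtain ⟨r, hr⟩ := Submodule.mem_span_singleton.mp (h1 (Submodule.mem_top : z ∈ ⊤))
    exact ⟨r, hr.symm⟩
  have hJQ : ∀ r : R, r • g = 0 → r ∈ Q := by
    intro r hr
    rw [Module.mem_support_iff_exists_annihilator] at hQ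
    obtain ⟨m, hm⟩ := hQ
    apply hm
    rw [Submodule.mem_annihilator_span_singleton]
    obtain ⟨s, rfl⟩ := hcyc m
    rw [smul_smul, mul_comm, mul_smul, hr, smul_zero]
  have hbot : maximalIdeal R • (⊤ : Submodule R (QuotSMulTop y P)) = ⊥ :=
    (eq_bot_or_eq_top _).resolve_right
      (Groth.Agent.H29.maximalIdeal_smul_top_ne_top R (QuotSMulTop y P))
  have hmax : ∀ r ∈ maximalIdeal R, ∃ s : R, r • g = (y * s) • g := by
    intro r hr
    have h0 : r • (Submodule.Quotient.mk g : QuotSMulTop y P) = 0 := by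
      have h1 : r • (Submodule.Quotient.mk g : QuotSMulTop y P) ∈
          maximalIdeal R • (⊤ : Submodule R (QuotSMulTop y P)) :=
        Submodule.smul_mem_smul hr Submodule.mem_top
      rw [hbot] at h1
      exact (Submodule.mem_bot R).mp h1
    rw [← Submodule.Quotient.mk_smul, Submodule.Quotient.mk_eq_zero,
      Submodule.mem_smul_pointwise_iff_exists] at h0
    obtain ⟨w, -, hw⟩ := h0
    obtain ⟨s, rfl⟩ := hcyc w
    exact ⟨s, by rw [← hw, mul_smul]⟩
  have hQle : Q ≤ maximalIdeal R := le_maximalIdeal hQprime.ne_top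
  have hpow : ∀ k : ℕ, ∀ r ∈ Q, ∃ s ∈ Q, r • g = (y ^ k * s) • g := by
    intro k
    induction k with
    | zero =>
      intro r hr
      exact ⟨r, hr, by simp⟩
    | succ k ih =>
      intro r hr
      obtain ⟨s, hsQ, hs⟩ := ih r hr
      obtain ⟨t, ht⟩ := hmax s (hQle hsQ)
      have h1 : (s - y * t) • g = 0 := by rw [sub_smul, ht, sub_self]
      have h2 : y * t ∈ Q := by
        have h3 := hJQ _ h1
        have h4 : y * t = s - (s - y * t) := by ring
        rw [h4]
        exact Q.sub_mem hsQ h3
      have htQ : t ∈ Q := (hQprime.mem_or_mem h2).resolve_left hyQ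
      refine ⟨t, htQ, ?_⟩
      rw [hs, mul_smul, ht, ← mul_smul]
      congr 1
      ring
  have hQJ : ∀ r ∈ Q, r • g = 0 := by
    intro r hr
    have hK := Ideal.iInf_pow_smul_eq_bot_of_isLocalRing (M := P) (maximalIdeal R)
      (Ideal.IsMaximal.ne_top inferInstance)
    have h1 : r • g ∈ (⨅ i : ℕ, maximalIdeal R ^ i • (⊤ : Submodule R P)) := by
      rw [Submodule.mem_iInf]
      intro k
      obtain ⟨s, -, hs⟩ := hpow k r hr
      rw [hs, mul_smul]
      exact Submodule.smul_mem_smul (Ideal.pow_mem_pow hy k) Submodule.mem_top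
    rw [hK] at h1
    exact (Submodule.mem_bot R).mp h1
  exact ⟨g, hcyc, fun r => ⟨hJQ r, hQJ r⟩⟩

end L1

section Core

variable {A : Type u} [CommRing A] [IsNoetherianRing A] [IsLocalRing A]
variable {M : Type u} [AddCommGroup M] [Module A M] [Module.Finite A M]

/-- A prime of the support of top dimension. -/
theorem exists_mem_support_dim_eq [Nontrivial M] :
    ∃ q : PrimeSpectrum A, q ∈ Module.support A M ∧
      ringKrullDim (A ⧸ q.asIdeal) = Module.supportDim A M := by
  haveI : Nonempty ↥(Module.support A M) :=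
    (Module.nonempty_support_of_nontrivial (R := A) (M := M)).to_subtype
  have hlt : Module.supportDim A M < ⊤ := CM.supportDim_lt_top
  have hsup : Module.supportDim A M =
      ((⨆ a : ↥(Module.support A M), Order.coheight a : ℕ∞) : WithBot ℕ∞) :=
    Order.krullDim_eq_iSup_coheight_of_nonempty
  have hlt' : (⨆ a : ↥(Module.support A M), Order.coheight a) < ⊤ := by
    rw [hsup, ← WithBot.coe_top, WithBot.coe_lt_coe] at hlt
    exact hlt
  obtain ⟨a, ha⟩ := ENat.exists_eq_iSup_of_lt_top hlt'
  refine ⟨a.1, a.2, le_antisymm (CM.ringKrullDim_quotient_le_supportDim a.1 a.2) ?_⟩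
  rw [hsup, ← ha, Order.coheight_eq_krullDim_Ici, ringKrullDim_quotient]
  refine Order.krullDim_le_of_strictMono
    (fun b : Set.Ici a => (⟨b.1.1, ?_⟩ : ↥(PrimeSpectrum.zeroLocus (a.1.asIdeal : Set A)))) ?_
  · rw [PrimeSpectrum.mem_zeroLocus]
    exact SetLike.coe_subset_coe.2 ((PrimeSpectrum.asIdeal_le_asIdeal a.1 b.1.1).2 b.2)
  · intro b b' hlt
    exact hlt

theorem exists_prime_le [Nontrivial M] {x : A} (hx : x ∈ maximalIdeal A)
    (hdim : Module.supportDim A (QuotSMulTop x M) + 1 = Module.supportDim A M)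
    {p : Ideal A} [hpp : p.IsPrime] (hAss : associatedPrimes A (QuotSMulTop x M) = {p}) :
    ∃ q : PrimeSpectrum A, q ∈ Module.support A M ∧ q.asIdeal ≤ p ∧ x ∉ q.asIdeal := by
  obtain ⟨q, hq, hqdim⟩ := exists_mem_support_dim_eq (A := A) (M := M)
  haveI := q.isPrime
  haveI hNnt : Nontrivial (QuotSMulTop x M) := nontrivial_quotSMulTop_of_mem_maximalIdeal M hx
  have hpAss : p ∈ associatedPrimes A (QuotSMulTop x M) := by
    rw [hAss]
    exact Set.mem_singleton p
  have hpN : (⟨p, hpAss.isPrime⟩ : PrimeSpectrum A) ∈ Module.support A (QuotSMulTop x M) :=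
    CM.mem_support_of_mem_associatedPrimes hpAss
  have hNp : ∀ r : PrimeSpectrum A, r ∈ Module.support A (QuotSMulTop x M) → p ≤ r.asIdeal := by
    intro r hr
    rw [Module.support_eq_zeroLocus, PrimeSpectrum.mem_zeroLocus] at hr
    obtain ⟨r', hr'min, hr'le⟩ := Ideal.exists_minimalPrimes_le (SetLike.coe_subset_coe.1 hr)
    have h1 := Module.associatedPrimes.minimalPrimes_annihilator_subset_associatedPrimes A
      (QuotSMulTop x M) hr'min
    rw [hAss, Set.mem_singleton_iff] at h1
    rw [h1] at hr'le
    exact hr'le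
  have hdimN : Module.supportDim A (QuotSMulTop x M) ≤ ringKrullDim (A ⧸ p) := by
    rw [ringKrullDim_quotient]
    exact Order.krullDim_le_of_strictMono
      (fun r : ↥(Module.support A (QuotSMulTop x M)) =>
        (⟨r.1, (PrimeSpectrum.mem_zeroLocus _ _).2 (SetLike.coe_subset_coe.2 (hNp r.1 r.2))⟩ :
          ↥(PrimeSpectrum.zeroLocus (p : Set A)))) (fun r r' h => h)
  obtain ⟨e, he⟩ := CM.exists_nat_supportDim (A := A) (M := QuotSMulTop x M)
  have hxq : x ∉ q.asIdeal := by
    intro hxq
    have hqN : q ∈ Module.support A (QuotSMulTop x M) := by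
      rw [Module.support_quotSMulTop]
      refine ⟨hq, ?_⟩
      rw [PrimeSpectrum.mem_zeroLocus]
      simpa using hxq
    have h1 := CM.ringKrullDim_quotient_le_supportDim q hqN
    rw [hqdim, ← hdim, he] at h1
    have h2 : e + 1 ≤ e := by exact_mod_cast h1
    omega
  -- a top-dimensional prime over `q + (x)`
  haveI : Nontrivial (A ⧸ q.asIdeal) := Ideal.Quotient.nontrivial_iff.mpr q.isPrime.ne_top
  haveI : Nontrivial (QuotSMulTop x (A ⧸ q.asIdeal)) :=
    nontrivial_quotSMulTop_of_mem_maximalIdeal (A ⧸ q.asIdeal) hx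
  have h2 := Module.supportDim_le_supportDim_quotSMulTop_succ (M := A ⧸ q.asIdeal) hx
  obtain ⟨p', hp', hp'dim⟩ := exists_mem_support_dim_eq (A := A)
    (M := QuotSMulTop x (A ⧸ q.asIdeal))
  haveI := p'.isPrime
  rw [Module.support_quotSMulTop, Module.support_eq_zeroLocus, Ideal.annihilator_quotient] at hp'
  have hqp' : q.asIdeal ≤ p'.asIdeal := SetLike.coe_subset_coe.1 ((PrimeSpectrum.mem_zeroLocus _ _).1 hp'.1)
  have hxp' : x ∈ p'.asIdeal := by
    have h3 := (PrimeSpectrum.mem_zeroLocus _ _).1 hp'.2
    exact h3 (Set.mem_singleton x)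
  have hp'N : p' ∈ Module.support A (QuotSMulTop x M) := by
    rw [Module.support_quotSMulTop]
    refine ⟨Module.mem_support_mono ((PrimeSpectrum.asIdeal_le_asIdeal q p').1 hqp') hq, ?_⟩
    rw [PrimeSpectrum.mem_zeroLocus]
    simpa using hxp'
  have hpp' : p ≤ p'.asIdeal := hNp p' hp'N
  obtain ⟨e', he'⟩ := CM.exists_nat_ringKrullDim_quotient p'.asIdeal
  have h4 : ringKrullDim (A ⧸ p) ≤ ringKrullDim (A ⧸ p'.asIdeal) := by
    have h5 : ringKrullDim (A ⧸ p) ≤ Module.supportDim A (QuotSMulTop x M) :=
      CM.ringKrullDim_quotient_le_supportDim ⟨p, hpAss.isPrime⟩ hpN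
    refine h5.trans ?_
    rw [Module.supportDim_quotient_eq_ringKrullDim, hqdim, ← hdim, ← hp'dim, he, he'] at h2
    rw [he, he']
    have h6 : e + 1 ≤ e' + 1 := by exact_mod_cast h2
    have h7 : e ≤ e' := by omega
    exact_mod_cast h7
  have hpeq : p = p'.asIdeal := CM.eq_of_le_of_ringKrullDim_quotient_le hpp' h4
  refine ⟨q, hq, ?_, hxq⟩
  rw [hpeq]
  exact hqp'

theorem core [Nontrivial M] {x : A} (hx : x ∈ maximalIdeal A)
    (hdim : Module.supportDim A (QuotSMulTop x M) + 1 = Module.supportDim A M)
    {p : Ideal A} [hpp : p.IsPrime] (hAss : associatedPrimes A (QuotSMulTop x M) = {p})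
    (hlen : Module.length (Localization.AtPrime p)
      (LocalizedModule p.primeCompl (QuotSMulTop x M)) = 1) :
    IsSMulRegular M x ∧ IsInt A M := by
  obtain ⟨q, hqM, hqp, hxq⟩ := exists_prime_le hx hdim hAss
  haveI hqprime := q.isPrime
  have hpAss : p ∈ associatedPrimes A (QuotSMulTop x M) := by
    rw [hAss]
    exact Set.mem_singleton p
  have hxp : x ∈ p := by
    have hpN := CM.mem_support_of_mem_associatedPrimes hpAss
    rw [Module.support_quotSMulTop] at hpN
    exact ((PrimeSpectrum.mem_zeroLocus _ _).1 hpN.2) (Set.mem_singleton x)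
  have hy : algebraMap A (Localization.AtPrime p) x ∈ maximalIdeal (Localization.AtPrime p) :=
    (IsLocalization.AtPrime.to_map_mem_maximal_iff _ p x).mpr hxp
  have hs : IsSimpleModule (Localization.AtPrime p)
      (QuotSMulTop (algebraMap A (Localization.AtPrime p) x) (LocalizedModule p.primeCompl M)) := by
    rw [← Module.length_eq_one_iff,
      ← (Groth.Agent.H15.Depth.locQuotEquiv p.primeCompl M x).length_eq]
    exact hlen
  have hdisj : Disjoint (p.primeCompl : Set A) (q.asIdeal : Set A) := by
    rw [Set.disjoint_left]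
    intro a ha haq
    exact ha (hqp haq)
  haveI hQprime : (Ideal.map (algebraMap A (Localization.AtPrime p)) q.asIdeal).IsPrime :=
    IsLocalization.isPrime_of_isPrime_disjoint p.primeCompl (Localization.AtPrime p) q.asIdeal
      q.isPrime hdisj
  have hQcomap : ∀ a : A, algebraMap A (Localization.AtPrime p) a ∈
      Ideal.map (algebraMap A (Localization.AtPrime p)) q.asIdeal ↔ a ∈ q.asIdeal := by
    intro a
    have h1 := IsLocalization.under_map_of_isPrime_disjoint p.primeCompl (Localization.AtPrime p)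
      q.isPrime hdisj
    constructor
    · intro h
      rw [← h1]
      exact h
    · intro h
      exact Ideal.mem_map_of_mem _ h
  have hyQ : algebraMap A (Localization.AtPrime p) x ∉
      Ideal.map (algebraMap A (Localization.AtPrime p)) q.asIdeal :=
    fun h => hxq ((hQcomap x).mp h)
  have hQP : (⟨Ideal.map (algebraMap A (Localization.AtPrime p)) q.asIdeal, hQprime⟩ :
      PrimeSpectrum (Localization.AtPrime p)) ∈
      Module.support (Localization.AtPrime p) (LocalizedModule p.primeCompl M) := by
    rw [Module.mem_support_iff_exists_annihilator] at hqM ⊢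
    obtain ⟨m, hm⟩ := hqM
    refine ⟨LocalizedModule.mk m 1, fun r hr => ?_⟩
    rw [Submodule.mem_annihilator_span_singleton] at hr
    obtain ⟨a, s, rfl⟩ := IsLocalization.exists_mk'_eq p.primeCompl r
    rw [← Localization.mk_eq_mk', LocalizedModule.mk_smul_mk] at hr
    obtain ⟨t, ht, htm⟩ := exists_smul_eq_zero_of_mk_eq_zero p.primeCompl (a • m) _ hr
    have h1 : t * a ∈ q.asIdeal :=
      hm (by rw [Submodule.mem_annihilator_span_singleton, mul_smul]; exact htm)
    have haq : a ∈ q.asIdeal :=
      (q.isPrime.mem_or_mem h1).resolve_left (fun htq => ht (hqp htq))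
    exact (IsLocalization.mk'_mem_map_algebraMap_iff p.primeCompl (Localization.AtPrime p)
      q.asIdeal a s).mpr ⟨1, p.primeCompl.one_mem, by rwa [one_mul]⟩
  obtain ⟨g, hcyc, hann⟩ := exists_generator (P := LocalizedModule p.primeCompl M)
    (algebraMap A (Localization.AtPrime p) x) hy hs
    (Ideal.map (algebraMap A (Localization.AtPrime p)) q.asIdeal) hyQ hQP
  -- (i) `x` is regular on `M_p`
  have hyreg : ∀ z : LocalizedModule p.primeCompl M,
      algebraMap A (Localization.AtPrime p) x • z = 0 → z = 0 := by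
    intro z hz
    obtain ⟨r, rfl⟩ := hcyc z
    rw [smul_smul] at hz
    have h1 := (hann _).mp hz
    have hr := (hQprime.mem_or_mem h1).resolve_left hyQ
    exact (hann r).mpr hr
  -- (ii) annihilators of nonzero elements of `M_p`
  have hannz : ∀ z : LocalizedModule p.primeCompl M, z ≠ 0 → ∀ s : Localization.AtPrime p,
      s • z = 0 → s ∈ Ideal.map (algebraMap A (Localization.AtPrime p)) q.asIdeal := by
    intro z hz s hs
    obtain ⟨r, rfl⟩ := hcyc z
    rw [smul_smul] at hs
    have h1 := (hann _).mp hs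
    exact (hQprime.mem_or_mem h1).resolve_right (fun hr => hz ((hann r).mpr hr))
  have hQkill : ∀ z : LocalizedModule p.primeCompl M, ∀ s : Localization.AtPrime p,
      s ∈ Ideal.map (algebraMap A (Localization.AtPrime p)) q.asIdeal → s • z = 0 := by
    intro z s hs
    obtain ⟨r, rfl⟩ := hcyc z
    rw [smul_smul, mul_comm, mul_smul, (hann s).mpr hs, smul_zero]
  -- (iii) `M → M_p` is injective
  have hinj : ∀ m : M, LocalizedModule.mk m (1 : p.primeCompl) = 0 → m = 0 := by
    have hK : LinearMap.ker (LocalizedModule.mkLinearMap p.primeCompl M) = ⊥ := by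
      apply Submodule.eq_bot_of_le_smul_of_le_jacobson_bot (maximalIdeal A) _
        (IsNoetherian.noetherian _) ?_ (IsLocalRing.maximalIdeal_le_jacobson ⊥)
      intro k hk
      by_contra hknot
      have hk' : LocalizedModule.mk k (1 : p.primeCompl) = 0 := by
        rw [LinearMap.mem_ker, LocalizedModule.mkLinearMap_apply] at hk
        exact hk
      obtain ⟨s, hs, hsk⟩ := exists_smul_eq_zero_of_mk_eq_zero p.primeCompl k 1 hk'
      have hkbar : (Submodule.Quotient.mk k : QuotSMulTop x M) ≠ 0 := by
        intro h0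
        rw [Submodule.Quotient.mk_eq_zero, Submodule.mem_smul_pointwise_iff_exists] at h0
        obtain ⟨m', -, hm'⟩ := h0
        have hm'K : m' ∈ LinearMap.ker (LocalizedModule.mkLinearMap p.primeCompl M) := by
          rw [LinearMap.mem_ker, LocalizedModule.mkLinearMap_apply]
          apply hyreg
          rw [algebraMap_smul_mk, hm']
          exact hk'
        apply hknot
        rw [← hm']
        exact Submodule.smul_mem_smul hx hm'K
      have hsreg : IsSMulRegular (QuotSMulTop x M) s := by
        by_contra hns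
        have h1 : s ∈ ({r : A | IsSMulRegular (QuotSMulTop x M) r}ᶜ : Set A) := hns
        rw [← biUnion_associatedPrimes_eq_compl_regular A (QuotSMulTop x M), hAss] at h1
        simp at h1
        exact hs h1
      apply hkbar
      apply hsreg
      show s • (Submodule.Quotient.mk k : QuotSMulTop x M) = s • 0
      rw [smul_zero, ← Submodule.Quotient.mk_smul, hsk, Submodule.Quotient.mk_zero]
    intro m hm
    have h1 : m ∈ LinearMap.ker (LocalizedModule.mkLinearMap p.primeCompl M) := by
      rw [LinearMap.mem_ker, LocalizedModule.mkLinearMap_apply]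
      exact hm
    rw [hK] at h1
    exact (Submodule.mem_bot A).mp h1
  -- `x` is regular on `M`
  have hreg : IsSMulRegular M x := by
    rw [isSMulRegular_iff_right_eq_zero_of_smul]
    intro m hm
    apply hinj
    apply hyreg
    rw [algebraMap_smul_mk, hm, LocalizedModule.zero_mk]
  -- (iv) annihilators of nonzero elements of `M`
  have hannM : ∀ m : M, m ≠ 0 → ∀ a : A, a • m = 0 ↔ a ∈ q.asIdeal := by
    intro m hm a
    have hm' : LocalizedModule.mk m (1 : p.primeCompl) ≠ 0 := fun h => hm (hinj m h)
    constructor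
    · intro ha
      have h1 : algebraMap A (Localization.AtPrime p) a •
          LocalizedModule.mk m (1 : p.primeCompl) = 0 := by
        rw [algebraMap_smul_mk, ha, LocalizedModule.zero_mk]
      exact (hQcomap a).mp (hannz _ hm' _ h1)
    · intro ha
      apply hinj
      rw [← algebraMap_smul_mk]
      exact hQkill _ _ ((hQcomap a).mpr ha)
  have hAssM : associatedPrimes A M = {q.asIdeal} := by
    ext I
    rw [Set.mem_singleton_iff]
    constructor
    · intro hI
      obtain ⟨hIp, m, hm⟩ := (isAssociatedPrime_iff (M := M)).mp hI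
      have hm0 : m ≠ 0 := by
        rintro rfl
        apply hIp.ne_top
        rw [hm, Ideal.eq_top_iff_one, Submodule.mem_colon_singleton, Submodule.mem_bot, smul_zero]
      rw [hm]
      ext a
      rw [Submodule.mem_colon_singleton, Submodule.mem_bot]
      exact hannM m hm0 a
    · rintro rfl
      obtain ⟨m, hm0⟩ := exists_ne (0 : M)
      refine (isAssociatedPrime_iff (M := M)).mpr ⟨q.isPrime, m, ?_⟩
      ext a
      rw [Submodule.mem_colon_singleton, Submodule.mem_bot]
      exact (hannM m hm0 a).symm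
  refine ⟨hreg, q.asIdeal, q.isPrime, hAssM, ?_⟩
  -- (v) `M_q` is simple
  have hg0 : g ≠ 0 := by
    intro h0
    have h1 := (hann 1).mp (by rw [h0, smul_zero])
    exact hQprime.ne_top ((Ideal.eq_top_iff_one _).mpr h1)
  obtain ⟨e, t, rfl⟩ : ∃ (e : M) (t : p.primeCompl), g = LocalizedModule.mk e t := by
    induction g using LocalizedModule.induction_on with
    | h m s => exact ⟨m, s, rfl⟩
  have he0 : e ≠ 0 := by
    rintro rfl
    exact hg0 (LocalizedModule.zero_mk t)
  have hrep : ∀ m : M, ∃ c : A, c ∉ p ∧ ∃ b : A, c • m = b • e := by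
    intro m
    obtain ⟨r, hr⟩ := hcyc (LocalizedModule.mk m (1 : p.primeCompl))
    obtain ⟨a, s, rfl⟩ := IsLocalization.exists_mk'_eq p.primeCompl r
    rw [← Localization.mk_eq_mk', LocalizedModule.mk_smul_mk, LocalizedModule.mk_eq] at hr
    obtain ⟨u, hu⟩ := hr
    refine ⟨(u : A) * ((s : A) * (t : A)), ?_, (u : A) * a, ?_⟩
    · exact fun h => (p.primeCompl.mul_mem u.2 (p.primeCompl.mul_mem s.2 t.2)) h
    · have h1 : (u : A) • ((s : A) * (t : A)) • m = (u : A) • (1 : A) • a • e := hu
      rw [mul_smul, mul_smul (u : A) a e, h1, one_smul]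
  haveI hnt : Nontrivial (LocalizedModule q.asIdeal.primeCompl M) := Module.mem_support_iff.mp hqM
  have hrepq : ∀ z : LocalizedModule q.asIdeal.primeCompl M,
      ∃ (b : A) (c : q.asIdeal.primeCompl),
        z = Localization.mk b c • LocalizedModule.mk e (1 : q.asIdeal.primeCompl) := by
    intro z
    induction z using LocalizedModule.induction_on with
    | h m s =>
      obtain ⟨c, hc, b, hcb⟩ := hrep m
      have hcq : c ∈ q.asIdeal.primeCompl := fun h => hc (hqp h)
      refine ⟨b, ⟨c, hcq⟩ * s, ?_⟩
      rw [LocalizedModule.mk_smul_mk, mul_one, ← hcb]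
      exact (LocalizedModule.mk_cancel_common_left (⟨c, hcq⟩ : q.asIdeal.primeCompl) s m).symm
  rw [Module.length_eq_one_iff, isSimpleModule_iff_toSpanSingleton_surjective]
  refine ⟨hnt, fun z hz w => ?_⟩
  obtain ⟨b, c, rfl⟩ := hrepq z
  obtain ⟨b', c', rfl⟩ := hrepq w
  have hbq : b ∈ q.asIdeal.primeCompl := by
    intro hbq
    apply hz
    rw [LocalizedModule.mk_smul_mk, (hannM e he0 b).mpr hbq, LocalizedModule.zero_mk]
  have hu : IsUnit (Localization.mk b c : Localization.AtPrime q.asIdeal) := by
    rw [Localization.mk_eq_mk']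
    exact (IsLocalization.AtPrime.isUnit_mk'_iff _ q.asIdeal b c).mpr hbq
  refine ⟨Localization.mk b' c' * ↑(hu.unit⁻¹), ?_⟩
  rw [LinearMap.toSpanSingleton_apply, mul_smul, ← mul_smul _ (Localization.mk b c),
    IsUnit.val_inv_mul, one_smul]

/-- Main induction. -/
theorem main (rs : List A) :
    ∀ (M : Type u) [AddCommGroup M] [Module A M] [Module.Finite A M] [Nontrivial M],
      (∀ r ∈ rs, r ∈ maximalIdeal A) →
      Module.supportDim A (M ⧸ (Ideal.ofList rs • (⊤ : Submodule A M))) +
        (rs.length : WithBot ℕ∞) = Module.supportDim A M →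
      IsInt A (M ⧸ (Ideal.ofList rs • (⊤ : Submodule A M))) →
      IsInt A M ∧ IsWeaklyRegular M rs := by
  induction rs with
  | nil =>
    intro M _ _ _ _ _ _ hint
    refine ⟨hint.congr ?_, IsWeaklyRegular.nil A M⟩
    exact Submodule.quotEquivOfEqBot _ (by rw [Ideal.ofList_nil, Submodule.bot_smul])
  | cons x xs ih =>
    intro M _ _ _ _ hmem hdim hint
    have hx : x ∈ maximalIdeal A := hmem x List.mem_cons_self
    have hxs : ∀ r ∈ xs, r ∈ maximalIdeal A := fun r hr => hmem r (List.mem_cons_of_mem _ hr)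
    haveI : Nontrivial (QuotSMulTop x M) := nontrivial_quotSMulTop_of_mem_maximalIdeal M hx
    have e := Submodule.quotOfListConsSMulTopEquivQuotSMulTopInner M x xs
    have hint' := hint.congr e
    have hd0 := Module.supportDim_eq_of_equiv e
    have h1 := Module.supportDim_le_supportDim_quotSMulTop_succ (M := M) hx
    have h2 := CM.supportDim_le_supportDim_quotient_ofList_add_length xs (QuotSMulTop x M) hxs
    haveI : Nontrivial (QuotSMulTop x M ⧸
        (Ideal.ofList xs • (⊤ : Submodule A (QuotSMulTop x M)))) :=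
      CM.nontrivial_quotient_smul_top (CM.ofList_le_maximalIdeal hxs)
    obtain ⟨a, ha⟩ := CM.exists_nat_supportDim (A := A) (M := M)
    obtain ⟨b, hb⟩ := CM.exists_nat_supportDim (A := A) (M := QuotSMulTop x M)
    obtain ⟨c, hc⟩ := CM.exists_nat_supportDim (A := A)
      (M := QuotSMulTop x M ⧸ (Ideal.ofList xs • (⊤ : Submodule A (QuotSMulTop x M))))
    rw [hd0, hc, ha, List.length_cons] at hdim
    rw [ha, hb] at h1
    rw [hb, hc] at h2
    have e1 : c + (xs.length + 1) = a := by exact_mod_cast hdim
    have e2 : a ≤ b + 1 := by exact_mod_cast h1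
    have e3 : b ≤ c + xs.length := by exact_mod_cast h2
    have hdim' : Module.supportDim A (QuotSMulTop x M ⧸
        (Ideal.ofList xs • (⊤ : Submodule A (QuotSMulTop x M)))) + (xs.length : WithBot ℕ∞) =
        Module.supportDim A (QuotSMulTop x M) := by
      rw [hb, hc]
      have h3 : c + xs.length = b := by omega
      exact_mod_cast h3
    have hdim'' : Module.supportDim A (QuotSMulTop x M) + 1 = Module.supportDim A M := by
      rw [ha, hb]
      have h3 : b + 1 = a := by omega
      exact_mod_cast h3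
    obtain ⟨hintN, hregN⟩ := ih (QuotSMulTop x M) hxs hdim' hint'
    obtain ⟨p, hp, hAss, hlen⟩ := hintN
    haveI := hp
    obtain ⟨hreg, hintM⟩ := core hx hdim'' hAss hlen
    exact ⟨hintM, (isWeaklyRegular_cons_iff M x xs).mpr ⟨hreg, hregN⟩⟩

end Core

end Groth.Agent.H29.IntMod
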