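import Mathlib
import Groth.Agent.H29.IntMod

/-!
# Depth along flat local homomorphisms
-/

set_option autoImplicit false
set_option linter.style.haveILetI false

universe u

open RingTheory.Sequence IsLocalRing
open Groth.Agent.H15.Depth

namespace Groth.Agent.H29.FlatDepth

section Basic

variable {A B : Type u} [CommRing A] [CommRing B] [IsLocalRing A] [IsLocalRing B]
  [Algebra A B] [IsLocalHom (algebraMap A B)]

theorem map_mem_maximalIdeal {x : A} (hx : x ∈ maximalIdeal A) :
    algebraMap A B x ∈ maximalIdeal B := by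
  rw [mem_maximalIdeal, mem_nonunits_iff] at hx ⊢
  exact fun hu => hx (isUnit_of_map_unit (algebraMap A B) x hu)

variable [IsNoetherianRing A] [IsNoetherianRing B] [Module.Flat A B]

theorem hasSeq_map {n : ℕ} (h : HasSeq (maximalIdeal A) A n) : HasSeq (maximalIdeal B) B n := by
  obtain ⟨rs, hw, hm, hl⟩ := h
  refine ⟨rs.map (algebraMap A B), hw.of_flat, ?_, by simp [hl]⟩
  intro y hy
  obtain ⟨x, hx, rfl⟩ := List.mem_map.mp hy
  exact map_mem_maximalIdeal (hm x hx)

/-- Depth does not drop along a flat local homomorphism. -/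
theorem depth_le_depth : LocCoh.depth A A ≤ LocCoh.depth B B := by
  have hmA := Groth.Agent.H29.maximalIdeal_smul_top_ne_top A A
  rw [← ENat.forall_natCast_le_iff_le]
  intro n hn
  exact le_idealDepth_of_hasSeq (hasSeq_map ((le_idealDepth_iff hmA n).mp hn))

/-- Along a flat local homomorphism with `m_A B = m_B` the depth is unchanged. -/
theorem depth_eq_depth_of_map_maximalIdeal
    (hm : (maximalIdeal A).map (algebraMap A B) = maximalIdeal B) :
    LocCoh.depth A A = LocCoh.depth B B := by
  haveI : Module.FaithfullyFlat A B := Module.FaithfullyFlat.of_flat_of_isLocalHom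
  apply le_antisymm depth_le_depth
  obtain ⟨r, hr⟩ := CM.exists_nat_depth (A := A) (M := A)
  rw [hr]
  have hmA := Groth.Agent.H29.maximalIdeal_smul_top_ne_top A A
  obtain ⟨xs, hw, hxs, hlen⟩ := (le_idealDepth_iff hmA r).mp (le_of_eq hr.symm)
  have hnr := CM.forall_not_isSMulRegular_quotient_of_idealDepth_eq (I := maximalIdeal A) hmA hr hw
    hxs hlen
  have hItop : ∀ I : Ideal A, I • (⊤ : Submodule A A) = I := fun I => by simp
  have hItopB : ∀ I : Ideal B, I • (⊤ : Submodule B B) = I := fun I => by simp
  haveI : Nontrivial (A ⧸ (Ideal.ofList xs • (⊤ : Submodule A A))) :=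
    CM.nontrivial_quotient_smul_top (CM.ofList_le_maximalIdeal hxs)
  rcases exists_regular_or_hasSocle (I := maximalIdeal A)
    (A ⧸ (Ideal.ofList xs • (⊤ : Submodule A A))) with ⟨a, ha, hreg⟩ | hsoc
  · exact absurd hreg (hnr a ha)
  obtain ⟨abar, habar0, habar⟩ := hsoc
  obtain ⟨a, rfl⟩ := Submodule.Quotient.mk_surjective _ abar
  have ha0 : a ∉ Ideal.ofList xs := by
    intro h
    apply habar0
    rw [Submodule.Quotient.mk_eq_zero, hItop]
    exact h
  have hma : ∀ c ∈ maximalIdeal A, c * a ∈ Ideal.ofList xs := by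
    intro c hc
    have h1 := habar c hc
    rw [← Submodule.Quotient.mk_smul, Submodule.Quotient.mk_eq_zero, hItop] at h1
    exact h1
  have hmemB : ∀ y ∈ xs.map (algebraMap A B), y ∈ maximalIdeal B := by
    intro y hy
    obtain ⟨x, hx, rfl⟩ := List.mem_map.mp hy
    exact map_mem_maximalIdeal (hxs x hx)
  have hwB : IsWeaklyRegular B (xs.map (algebraMap A B)) := hw.of_flat
  have hd := CM.depth_quotient_ofList_add_length (xs.map (algebraMap A B)) B hmemB hwB
  haveI : Nontrivial (B ⧸ (Ideal.ofList (xs.map (algebraMap A B)) • (⊤ : Submodule B B))) :=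
    CM.nontrivial_quotient_smul_top (CM.ofList_le_maximalIdeal hmemB)
  have hofList : Ideal.ofList (xs.map (algebraMap A B)) =
      (Ideal.ofList xs).map (algebraMap A B) := (Ideal.map_ofList _ _).symm
  have hsocB : HasSocle (maximalIdeal B)
      (B ⧸ (Ideal.ofList (xs.map (algebraMap A B)) • (⊤ : Submodule B B))) := by
    refine ⟨Submodule.Quotient.mk (algebraMap A B a), ?_, ?_⟩
    · intro h0
      rw [Submodule.Quotient.mk_eq_zero, hItopB, hofList] at h0
      apply ha0
      rw [← Ideal.comap_map_eq_self_of_faithfullyFlat (B := B) (Ideal.ofList xs)]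
      exact h0
    · intro b hb
      rw [← Submodule.Quotient.mk_smul, Submodule.Quotient.mk_eq_zero, hItopB, hofList, smul_eq_mul]
      rw [← hm] at hb
      have h1 : b * algebraMap A B a ∈ (maximalIdeal A).map (algebraMap A B) *
          (Ideal.span {a}).map (algebraMap A B) :=
        Ideal.mul_mem_mul hb (Ideal.mem_map_of_mem _ (Ideal.mem_span_singleton_self a))
      rw [← Ideal.map_mul] at h1
      refine Ideal.map_mono ?_ h1
      rw [Ideal.mul_le]
      intro c hc d hd
      obtain ⟨e, rfl⟩ := Ideal.mem_span_singleton'.mp hd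
      have h2 : c * (e * a) = e * (c * a) := by ring
      rw [h2]
      exact Ideal.mul_mem_left _ _ (hma c hc)
  have h0 : LocCoh.depth B
      (B ⧸ (Ideal.ofList (xs.map (algebraMap A B)) • (⊤ : Submodule B B))) = 0 := by
    by_contra hne
    have hmB := Groth.Agent.H29.maximalIdeal_smul_top_ne_top B
      (B ⧸ (Ideal.ofList (xs.map (algebraMap A B)) • (⊤ : Submodule B B)))
    have hpos : (0 : ℕ∞) < LocCoh.depth B
        (B ⧸ (Ideal.ofList (xs.map (algebraMap A B)) • (⊤ : Submodule B B))) :=
      pos_iff_ne_zero.mpr hne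
    have h1 : ((1 : ℕ) : ℕ∞) ≤ LocCoh.depth B
        (B ⧸ (Ideal.ofList (xs.map (algebraMap A B)) • (⊤ : Submodule B B))) := by
      simpa using Order.add_one_le_of_lt hpos
    obtain ⟨y, hy, hyreg, -⟩ := hasSeq_succ_iff.mp ((le_idealDepth_iff hmB 1).mp h1)
    exact hsocB.not_regular hy hyreg
  rw [← hd, h0, zero_add, List.length_map, hlen]

/-- Along a flat local homomorphism with `m_A B = m_B` the dimension is unchanged. -/
theorem ringKrullDim_eq_of_map_maximalIdeal
    (hm : (maximalIdeal A).map (algebraMap A B) = maximalIdeal B) :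
    ringKrullDim A = ringKrullDim B := by
  rw [← IsLocalRing.maximalIdeal_height_eq_ringKrullDim,
    ← IsLocalRing.maximalIdeal_height_eq_ringKrullDim]
  have h := Ideal.height_eq_height_add_of_liesOver_of_hasGoingDown (maximalIdeal A) (maximalIdeal B)
  have key : ∀ I : Ideal B, I = maximalIdeal B →
      (Ideal.map (Ideal.Quotient.mk I) (maximalIdeal B)).height = 0 := by
    rintro I rfl
    rw [Ideal.map_quotient_self]
    exact Ideal.height_bot
  rw [h, key _ hm, add_zero]

end Basic

section Etale

variable (A B : Type u) [CommRing A] [CommRing B] [IsLocalRing A] [IsLocalRing B]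
  [Algebra A B] [IsLocalHom (algebraMap A B)]
  (E : Type u) [CommRing E] [Algebra A E] [Algebra.Etale A E] (P : Ideal E) [P.IsPrime]
  [Algebra E B] [IsScalarTower A E B] [IsLocalization.AtPrime B P]

include E P in
theorem etale_facts : Module.Flat A B ∧
    (maximalIdeal A).map (algebraMap A B) = maximalIdeal B := by
  haveI : Module.Flat A E := inferInstance
  haveI : Module.Flat E B := IsLocalization.flat B P.primeCompl
  haveI : Module.Flat A B := Module.Flat.trans A E B
  haveI : Algebra.FormallyUnramified E B := Algebra.FormallyUnramified.of_isLocalization P.primeCompl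
  haveI : Algebra.FormallyUnramified A B := Algebra.FormallyUnramified.comp A E B
  haveI : Algebra.EssFiniteType E B := Algebra.EssFiniteType.of_isLocalization B P.primeCompl
  haveI : Algebra.EssFiniteType A B := Algebra.EssFiniteType.comp A E B
  exact ⟨inferInstance, Algebra.FormallyUnramified.map_maximalIdeal⟩

end Etale

end Groth.Agent.H29.FlatDepth
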