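import Mathlib
import Groth.Agent.S9407

/-!
# Reductions modulo primes of reduced finite type `ℤ`-algebras
-/

set_option autoImplicit false
set_option linter.style.haveILetI false
set_option maxHeartbeats 400000

universe u v w

open Polynomial TensorProduct

namespace Groth.Agent.H29.RedModP

/-- Reducedness ascends along smooth ring maps (universe polymorphic copy of `S9407`). -/
theorem isReduced_of_smooth (R : Type v) [CommRing R] (S : Type w) [CommRing S]
    [Algebra R S] [Algebra.Smooth R S] [IsReduced R] : IsReduced S := by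
  constructor
  intro s hs
  have hz : IsNilpotent (s ⊗ₜ[R] (Polynomial.X : R[X])) := by
    obtain ⟨n, hn⟩ := hs
    exact ⟨n, by rw [Algebra.TensorProduct.tmul_pow, hn, zero_tmul]⟩
  have hzint : IsIntegral S (s ⊗ₜ[R] (Polynomial.X : R[X])) := by
    obtain ⟨n, hn⟩ := hz
    refine IsIntegral.of_pow (Nat.succ_pos n) ?_
    rw [pow_succ, hn, zero_mul]
    exact isIntegral_zero
  obtain ⟨w, hw⟩ := (TensorProduct.toIntegralClosure_bijective_of_smooth (R := R) (S := S)
    (B := R[X])).2 ⟨s ⊗ₜ[R] (Polynomial.X : R[X]), hzint⟩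
  have hzero : ∀ w : S ⊗[R] integralClosure R R[X],
      (LinearMap.lTensor S (Polynomial.lcoeff R 1))
        (Algebra.TensorProduct.map (AlgHom.id S S) (integralClosure R R[X]).val w) = 0 := by
    intro w
    induction w with
    | zero => simp
    | add x y hx hy => rw [map_add, map_add, hx, hy, add_zero]
    | tmul a b =>
      rw [Algebra.TensorProduct.map_tmul, LinearMap.lTensor_tmul]
      have hb : (Polynomial.lcoeff R 1) ((integralClosure R R[X]).val b) = 0 :=
        Groth.Agent.S9407.coeff_one_eq_zero_of_isIntegral _ b.2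
      rw [hb, tmul_zero]
  have hval : Algebra.TensorProduct.map (AlgHom.id S S) (integralClosure R R[X]).val w =
      s ⊗ₜ[R] (Polynomial.X : R[X]) := congrArg Subtype.val hw
  have h1 := hzero w
  rw [hval, LinearMap.lTensor_tmul] at h1
  have h2 : (Polynomial.lcoeff R 1) (Polynomial.X : R[X]) = 1 := by simp
  rw [h2] at h1
  have h3 := congrArg (TensorProduct.rid R S) h1
  simpa using h3

section ZeroDiv

variable {A : Type u} [CommRing A] [IsNoetherianRing A]

/-- Only finitely many prime numbers are zero divisors on a finite module over a Noetherian ring. -/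
theorem finite_setOf_prime_not_isSMulRegular (C : Type v) [AddCommGroup C] [Module A C]
    [Module.Finite A C] : {p : ℕ | p.Prime ∧ ¬ IsSMulRegular C (p : A)}.Finite := by
  have hfin : (associatedPrimes A C).Finite := associatedPrimes.finite A C
  have hsub : {p : ℕ | p.Prime ∧ ¬ IsSMulRegular C (p : A)} ⊆
      ⋃ Q ∈ associatedPrimes A C, {p : ℕ | p.Prime ∧ (p : A) ∈ Q} := by
    rintro p ⟨hp, hreg⟩
    have h1 : (p : A) ∈ ⋃ Q ∈ associatedPrimes A C, (Q : Set A) := by
      rw [biUnion_associatedPrimes_eq_compl_regular A C]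
      exact hreg
    simp only [Set.mem_iUnion] at h1 ⊢
    obtain ⟨Q, hQ, hpQ⟩ := h1
    exact ⟨Q, hQ, hp, hpQ⟩
  refine Set.Finite.subset (Set.Finite.biUnion hfin fun Q hQ => ?_) hsub
  apply Set.Subsingleton.finite
  rintro p ⟨hp, hpQ⟩ p' ⟨hp', hp'Q⟩
  by_contra hne
  have hcop : Nat.Coprime p p' := (Nat.coprime_primes hp hp').mpr hne
  have hQprime : Q.IsPrime := hQ.isPrime
  apply hQprime.ne_top
  rw [Ideal.eq_top_iff_one]
  have h1 : ((Nat.gcd p p' : ℤ) : A) = ((p : ℤ) : A) * ((Nat.gcdA p p' : ℤ) : A) +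
      ((p' : ℤ) : A) * ((Nat.gcdB p p' : ℤ) : A) := by
    rw [Nat.gcd_eq_gcd_ab p p']
    push_cast
    ring
  rw [hcop.gcd_eq_one] at h1
  have h2 : (1 : A) = (p : A) * ((Nat.gcdA p p' : ℤ) : A) + (p' : A) * ((Nat.gcdB p p' : ℤ) : A) := by
    have : ((1 : ℕ) : ℤ) = 1 := rfl
    simpa using h1
  rw [h2]
  exact Q.add_mem (Q.mul_mem_right _ hpQ) (Q.mul_mem_right _ hp'Q)

end ZeroDiv

section Radical

theorem isRadical_span_of_injective {A : Type u} {A' : Type v} [CommRing A] [CommRing A']
    [Algebra A A'] (hinj : Function.Injective (algebraMap A A')) (p : ℕ)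
    (hreg : IsSMulRegular (A' ⧸ LinearMap.range (Algebra.linearMap A A')) (p : A))
    (hrad : (Ideal.span {(p : A')}).IsRadical) : (Ideal.span {(p : A)}).IsRadical := by
  intro x hx
  obtain ⟨n, hn⟩ := hx
  obtain ⟨y, hy⟩ := Ideal.mem_span_singleton'.mp hn
  have h1 : (algebraMap A A' x) ^ n ∈ Ideal.span {(p : A')} := by
    rw [← map_pow, ← hy, map_mul, map_natCast]
    exact Ideal.mul_mem_left _ _ (Ideal.mem_span_singleton_self _)
  have h2 : algebraMap A A' x ∈ Ideal.span {(p : A')} := hrad ⟨n, h1⟩
  obtain ⟨a', ha'⟩ := Ideal.mem_span_singleton'.mp h2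
  have h3 : (p : A) • (Submodule.Quotient.mk a' :
      A' ⧸ LinearMap.range (Algebra.linearMap A A')) = 0 := by
    rw [← Submodule.Quotient.mk_smul, Submodule.Quotient.mk_eq_zero]
    refine ⟨x, ?_⟩
    rw [Algebra.linearMap_apply, ← ha', Algebra.smul_def, map_natCast, mul_comm]
  have h4 := hreg.right_eq_zero_of_smul h3
  rw [Submodule.Quotient.mk_eq_zero] at h4
  obtain ⟨a, ha⟩ := h4
  rw [Algebra.linearMap_apply] at ha
  rw [Ideal.mem_span_singleton']
  refine ⟨a, hinj ?_⟩
  rw [map_mul, map_natCast, ha, ha']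

theorem isRadical_span_pi {ι : Type*} (R : ι → Type*) [∀ i, CommRing (R i)] (p : ℕ)
    (h : ∀ i, (Ideal.span {(p : R i)}).IsRadical) :
    (Ideal.span {(p : ∀ i, R i)}).IsRadical := by
  intro x hx
  obtain ⟨n, hn⟩ := hx
  obtain ⟨y, hy⟩ := Ideal.mem_span_singleton'.mp hn
  have h1 : ∀ i, x i ∈ Ideal.span {(p : R i)} := by
    intro i
    apply h i
    refine ⟨n, ?_⟩
    rw [Ideal.mem_span_singleton']
    refine ⟨y i, ?_⟩
    have := congrFun hy i
    simpa using this
  choose z hz using fun i => Ideal.mem_span_singleton'.mp (h1 i)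
  rw [Ideal.mem_span_singleton']
  refine ⟨z, ?_⟩
  funext i
  simpa using hz i

end Radical

section Domain

/-- For a smooth `ℤ`-algebra `S` and a prime number `p`, the ideal `pS` is radical. -/
theorem isRadical_span_of_smooth (S : Type u) [CommRing S] [Algebra.Smooth ℤ S] (p : ℕ)
    (hp : p.Prime) : (Ideal.span {(p : S)}).IsRadical := by
  let I : Ideal ℤ := Ideal.span {(p : ℤ)}
  haveI hImax : I.IsMaximal :=
    PrincipalIdealRing.isMaximal_of_irreducible (Nat.prime_iff_prime_int.mp hp).irreducible
  letI : Field (ℤ ⧸ I) := Ideal.Quotient.field I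
  haveI : IsReduced ((ℤ ⧸ I) ⊗[ℤ] S) := isReduced_of_smooth (ℤ ⧸ I) ((ℤ ⧸ I) ⊗[ℤ] S)
  have e := Algebra.TensorProduct.quotIdealMapEquivQuotTensor S I
  haveI : IsReduced (S ⧸ I.map (algebraMap ℤ S)) :=
    isReduced_of_injective e.toRingEquiv.toRingHom e.injective
  have h1 : (I.map (algebraMap ℤ S)).IsRadical :=
    (Ideal.isRadical_iff_quotient_reduced _).mpr inferInstance
  have h2 : I.map (algebraMap ℤ S) = Ideal.span {(p : S)} := by
    rw [Ideal.map_span, Set.image_singleton]
    congr 2
    simp
  rwa [h2] at h1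

variable (D : Type u) [CommRing D] [IsDomain D]

theorem mem_span_of_mul_mem {h : D} (hh : h ≠ 0) (p : ℕ)
    (hreg : IsSMulRegular (D ⧸ Ideal.span {h}) (p : D)) (x : D)
    (hx : h * x ∈ Ideal.span {(p : D)}) : x ∈ Ideal.span {(p : D)} := by
  obtain ⟨y, hy⟩ := Ideal.mem_span_singleton'.mp hx
  have h1 : (p : D) • (Ideal.Quotient.mk (Ideal.span {h}) y) = 0 := by
    rw [Algebra.smul_def, Ideal.Quotient.algebraMap_eq, ← map_mul,
      Ideal.Quotient.eq_zero_iff_mem, mul_comm, hy]
    exact Ideal.mul_mem_right _ _ (Ideal.mem_span_singleton_self _)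
  have h2 := hreg.right_eq_zero_of_smul h1
  rw [Ideal.Quotient.eq_zero_iff_mem] at h2
  obtain ⟨z, hz⟩ := Ideal.mem_span_singleton'.mp h2
  rw [Ideal.mem_span_singleton']
  refine ⟨z, mul_left_cancel₀ hh ?_⟩
  rw [← hy, ← hz]
  ring

theorem finite_setOf_prime_not_isRadical_of_isDomain [Algebra.FiniteType ℤ D] :
    {p : ℕ | p.Prime ∧ ¬ (Ideal.span {(p : D)}).IsRadical}.Finite := by
  haveI : IsNoetherianRing D := Algebra.FiniteType.isNoetherianRing ℤ D
  by_cases hchar : CharZero D
  · -- characteristic zero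
    let K := FractionRing D
    haveI : CharZero K := charZero_of_injective_algebraMap (IsFractionRing.injective D K)
    haveI : Algebra.EssFiniteType D K := Algebra.EssFiniteType.of_isLocalization K (nonZeroDivisors D)
    haveI : Algebra.EssFiniteType ℤ K := Algebra.EssFiniteType.comp ℤ D K
    haveI := IsScalarTower.of_algebraMap_eq' (R := ℤ) (S := ℚ) (A := K) (RingHom.ext_int _ _)
    haveI : Algebra.EssFiniteType ℚ K := Algebra.EssFiniteType.of_comp ℤ ℚ K
    haveI : Algebra.FormallySmooth ℤ ℚ := Algebra.FormallySmooth.of_isLocalization (nonZeroDivisors ℤ)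
    haveI : Algebra.FormallySmooth ℤ K := Algebra.FormallySmooth.comp ℤ ℚ K
    have hcompl : (⊥ : Ideal D).primeCompl = nonZeroDivisors D := by
      ext x
      rw [mem_nonZeroDivisors_iff_ne_zero]
      rfl
    haveI : IsLocalization (⊥ : Ideal D).primeCompl K := by
      rw [hcompl]
      infer_instance
    let e : K ≃ₐ[D] Localization.AtPrime (⊥ : Ideal D) :=
      IsLocalization.algEquiv (⊥ : Ideal D).primeCompl K (Localization.AtPrime (⊥ : Ideal D))
    haveI : Algebra.IsSmoothAt ℤ (⊥ : Ideal D) :=
      Algebra.FormallySmooth.of_equiv (e.restrictScalars ℤ)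
    haveI : Algebra.FinitePresentation ℤ D := Algebra.FinitePresentation.of_finiteType.mp inferInstance
    obtain ⟨h, hh, hsm⟩ := Algebra.IsSmoothAt.exists_notMem_smooth ℤ (⊥ : Ideal D)
    have hh0 : h ≠ 0 := fun h0 => hh (by rw [h0]; exact Ideal.zero_mem _)
    haveI hsm' : @Algebra.Smooth ℤ _ (Localization.Away h) _ (Ring.toIntAlgebra _) := by
      convert hsm
      exact Subsingleton.elim _ _
    refine Set.Finite.subset (finite_setOf_prime_not_isSMulRegular (A := D)
      (D ⧸ Ideal.span {h})) ?_
    rintro p ⟨hp, hnr⟩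
    refine ⟨hp, fun hreg => hnr ?_⟩
    intro x hx
    obtain ⟨n, hn⟩ := hx
    have hrad := isRadical_span_of_smooth (Localization.Away h) p hp
    have h1 : (algebraMap D (Localization.Away h) x) ^ n ∈
        Ideal.span {(p : Localization.Away h)} := by
      obtain ⟨y, hy⟩ := Ideal.mem_span_singleton'.mp hn
      rw [← map_pow, ← hy, map_mul, map_natCast]
      exact Ideal.mul_mem_left _ _ (Ideal.mem_span_singleton_self _)
    have h2 : algebraMap D (Localization.Away h) x ∈ Ideal.span {(p : Localization.Away h)} :=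
      hrad ⟨n, h1⟩
    obtain ⟨w, hw⟩ := Ideal.mem_span_singleton'.mp h2
    obtain ⟨y, ⟨_, m, rfl⟩, rfl⟩ := IsLocalization.exists_mk'_eq (Submonoid.powers h) w
    -- `h^m x = p y` in `D`
    have h3 : h ^ m * x = y * (p : D) := by
      apply IsLocalization.injective (Localization.Away h)
        (powers_le_nonZeroDivisors_of_noZeroDivisors hh0)
      rw [map_mul, map_mul, map_natCast, ← hw]
      have hspec := IsLocalization.mk'_spec (Localization.Away h) y
        (⟨h ^ m, m, rfl⟩ : Submonoid.powers h)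
      calc algebraMap D (Localization.Away h) (h ^ m) *
            (IsLocalization.mk' (Localization.Away h) y (⟨h ^ m, m, rfl⟩ : Submonoid.powers h) *
              (p : Localization.Away h))
          = (IsLocalization.mk' (Localization.Away h) y (⟨h ^ m, m, rfl⟩ : Submonoid.powers h) *
              algebraMap D (Localization.Away h) (h ^ m)) * (p : Localization.Away h) := by ring
        _ = algebraMap D (Localization.Away h) y * (p : Localization.Away h) := by rw [hspec]
    have h4 : ∀ k : ℕ, h ^ k * x ∈ Ideal.span {(p : D)} → x ∈ Ideal.span {(p : D)} := by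
      intro k
      induction k with
      | zero => intro h5; simpa using h5
      | succ k ih =>
        intro h5
        apply ih
        apply mem_span_of_mul_mem D hh0 p hreg
        rw [← mul_assoc, ← pow_succ']
        exact h5
    exact h4 m (by rw [h3]; exact Ideal.mul_mem_left _ _ (Ideal.mem_span_singleton_self _))
  · -- positive characteristic
    obtain ⟨q, hq⟩ := CharP.exists D
    have hq0 : q ≠ 0 := by
      rintro rfl
      exact hchar (CharP.charP_to_charZero D)
    refine Set.Finite.subset (Set.finite_singleton q) ?_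
    rintro p ⟨hp, hnr⟩
    by_contra hpq
    have hpq' : p ≠ q := hpq
    apply hnr
    have hqprime : q.Prime := (CharP.char_is_prime_or_zero D q).resolve_right hq0
    have hcop : Nat.Coprime p q := (Nat.coprime_primes hp hqprime).mpr hpq'
    have hunit : IsUnit (p : D) := by
      have h1 : ((Nat.gcd p q : ℤ) : D) = ((p : ℤ) : D) * ((Nat.gcdA p q : ℤ) : D) +
          ((q : ℤ) : D) * ((Nat.gcdB p q : ℤ) : D) := by
        rw [Nat.gcd_eq_gcd_ab p q]
        push_cast
        ring
      rw [hcop.gcd_eq_one] at h1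
      have hq0' : ((q : ℤ) : D) = 0 := by
        rw [Int.cast_natCast]
        exact CharP.cast_eq_zero D q
      rw [hq0', zero_mul, add_zero] at h1
      refine IsUnit.of_mul_eq_one ((Nat.gcdA p q : ℤ) : D) ?_
      have : ((1 : ℕ) : ℤ) = 1 := rfl
      simpa using h1.symm
    have htop : Ideal.span {(p : D)} = ⊤ := Ideal.span_singleton_eq_top.mpr hunit
    rw [htop]
    exact fun x _ => Submodule.mem_top

end Domain

section Main

/-- For a reduced ring `A` of finite type over `ℤ`, the ideal `pA` is radical for all but finitely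
many prime numbers `p`. -/
theorem finite_setOf_prime_not_isRadical (A : Type u) [CommRing A] [Algebra.FiniteType ℤ A]
    [IsReduced A] : {p : ℕ | p.Prime ∧ ¬ (Ideal.span {(p : A)}).IsRadical}.Finite := by
  haveI : IsNoetherianRing A := Algebra.FiniteType.isNoetherianRing ℤ A
  have hfin : (minimalPrimes A).Finite := minimalPrimes.finite_of_isNoetherianRing A
  haveI : Finite ↥(minimalPrimes A) := hfin.to_subtype
  haveI : Fintype ↥(minimalPrimes A) := Fintype.ofFinite _
  haveI hprime : ∀ P : ↥(minimalPrimes A), P.1.IsPrime := fun P => P.2.1.1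
  let A' := ∀ P : ↥(minimalPrimes A), A ⧸ P.1
  have hinj : Function.Injective (algebraMap A A') := by
    rw [injective_iff_map_eq_zero]
    intro x hx
    have h1 : x ∈ sInf (minimalPrimes A) := by
      rw [Ideal.mem_sInf]
      intro P hP
      have := congrFun hx ⟨P, hP⟩
      exact Ideal.Quotient.eq_zero_iff_mem.mp this
    have h2 : sInf (minimalPrimes A) = ⊥ := by
      unfold minimalPrimes
      rw [Ideal.sInf_minimalPrimes]
      exact nilradical_eq_zero A
    rw [h2] at h1
    exact h1
  haveI : ∀ P : ↥(minimalPrimes A),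
      @Algebra.FiniteType ℤ (A ⧸ P.1) _ _ (Ring.toIntAlgebra _) := fun P => by
    have h := Algebra.FiniteType.of_surjective (Ideal.Quotient.mkₐ ℤ P.1)
      Ideal.Quotient.mk_surjective
    convert h
    exact Subsingleton.elim _ _
  refine Set.Finite.subset ((Set.finite_iUnion fun P : ↥(minimalPrimes A) =>
    finite_setOf_prime_not_isRadical_of_isDomain (A ⧸ P.1)).union
    (finite_setOf_prime_not_isSMulRegular (A := A)
      (A' ⧸ LinearMap.range (Algebra.linearMap A A')))) ?_
  rintro p ⟨hp, hnr⟩
  by_contra hcon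
  rw [Set.mem_union, not_or, Set.mem_iUnion, not_exists] at hcon
  obtain ⟨h1, h2⟩ := hcon
  apply hnr
  refine isRadical_span_of_injective hinj p ?_ (isRadical_span_pi _ p fun P => ?_)
  · by_contra hreg
    exact h2 ⟨hp, hreg⟩
  · by_contra hrad
    exact h1 P ⟨hp, hrad⟩

end Main

end Groth.Agent.H29.RedModP
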