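import Mathlib
import Groth.Prelude.Def_EGA4b
import Groth.Prelude.Def_Found

/-!
# Finite domains inside finite residue field extensions; localizations of tensor products
(helper29)
-/

set_option autoImplicit false
set_option maxHeartbeats 400000
set_option linter.style.haveILetI false
set_option linter.unusedVariables false
set_option linter.unusedSectionVars false

universe u

open TensorProduct

namespace Groth.Agent.H29.FinDomain

section Construct

theorem exists_finite_subalgebra (D k K : Type u) [CommRing D] [IsDomain D] [Field k] [Field K]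
    [Algebra D k] [IsFractionRing D k] [Algebra k K] [Algebra D K] [IsScalarTower D k K]
    [Module.Finite k K] :
    ∃ B : Subalgebra D K, Module.Finite D B ∧
      ∀ z : K, ∃ x : K, x ∈ B ∧ ∃ d : D, d ≠ 0 ∧ algebraMap D K d * z = x := by
  classical
  obtain ⟨s, hs⟩ := Module.finite_def.mp (inferInstance : Module.Finite k K)
  have halg : ∀ b : K, ∃ y : D, y ≠ 0 ∧ IsIntegral D (y • b) := fun b => by
    have h1 : IsAlgebraic k b := Algebra.IsAlgebraic.isAlgebraic b
    have h2 : IsAlgebraic D b := (IsFractionRing.isAlgebraic_iff D k K).mpr h1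
    exact h2.exists_integral_multiple
  choose y hy0 hyint using halg
  have hSfin : ((fun b => y b • b) '' (↑s : Set K)).Finite :=
    Set.Finite.image (fun b => y b • b) (Finset.finite_toSet s)
  have hSint : ∀ x ∈ (fun b => y b • b) '' (s : Set K), IsIntegral D x := by
    rintro _ ⟨b, -, rfl⟩
    exact hyint b
  refine ⟨Algebra.adjoin D ((fun b => y b • b) '' (s : Set K)), ?_, ?_⟩
  · exact Module.Finite.iff_fg.mpr (fg_adjoin_of_finite hSfin hSint)
  · intro z
    have hz : z ∈ Submodule.span k (s : Set K) := by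
      rw [hs]
      trivial
    induction hz using Submodule.span_induction with
    | mem b hb =>
      exact ⟨y b • b, Algebra.subset_adjoin ⟨b, hb, rfl⟩, y b, hy0 b, by rw [Algebra.smul_def]⟩
    | zero => exact ⟨0, Subalgebra.zero_mem _, 1, one_ne_zero, by simp⟩
    | add z₁ z₂ _ _ h₁ h₂ =>
      obtain ⟨x₁, hx₁, d₁, hd₁, e₁⟩ := h₁
      obtain ⟨x₂, hx₂, d₂, hd₂, e₂⟩ := h₂
      refine ⟨algebraMap D K d₂ * x₁ + algebraMap D K d₁ * x₂, ?_, d₁ * d₂,
        mul_ne_zero hd₁ hd₂, ?_⟩
      · exact Subalgebra.add_mem _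
          (Subalgebra.mul_mem _ (Subalgebra.algebraMap_mem _ _) hx₁)
          (Subalgebra.mul_mem _ (Subalgebra.algebraMap_mem _ _) hx₂)
      · rw [map_mul, ← e₁, ← e₂]
        ring
    | smul l z _ h =>
      obtain ⟨x, hx, d, hd, e⟩ := h
      obtain ⟨a, t, ht, hat⟩ := IsFractionRing.div_surjective (A := D) l
      have ht0 : t ≠ 0 := nonZeroDivisors.ne_zero ht
      have htk : algebraMap D k t ≠ 0 :=
        IsFractionRing.to_map_ne_zero_of_mem_nonZeroDivisors ht
      have hkey : algebraMap D k t * l = algebraMap D k a := by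
        rw [← hat]
        field_simp
      refine ⟨algebraMap D K a * x, Subalgebra.mul_mem _ (Subalgebra.algebraMap_mem _ _) hx,
        t * d, mul_ne_zero ht0 hd, ?_⟩
      have hkey' : algebraMap k K (algebraMap D k t) * algebraMap k K l =
          algebraMap k K (algebraMap D k a) := by
        rw [← map_mul, hkey]
      rw [← e, Algebra.smul_def, map_mul, IsScalarTower.algebraMap_apply D k K t,
        IsScalarTower.algebraMap_apply D k K a]
      linear_combination (algebraMap D K d * z) * hkey'

theorem exists_finite_domain (D k K : Type u) [CommRing D] [IsDomain D] [Field k] [Field K]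
    [Algebra D k] [IsFractionRing D k] [Algebra k K] [Algebra D K] [IsScalarTower D k K]
    [Module.Finite k K] :
    ∃ B : Subalgebra D K, Module.Finite D B ∧ IsFractionRing B K := by
  obtain ⟨B, hfin, hB⟩ := exists_finite_subalgebra D k K
  refine ⟨B, hfin, ?_⟩
  haveI : FaithfulSMul B K :=
    (faithfulSMul_iff_algebraMap_injective B K).mpr Subtype.val_injective
  refine IsFractionRing.of_field B K (fun z => ?_)
  obtain ⟨x, hx, d, hd, e⟩ := hB z
  have hd' : algebraMap D K d ≠ 0 := by
    rw [IsScalarTower.algebraMap_apply D k K]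
    intro h0
    have h1 : algebraMap D k d = 0 := (map_eq_zero_iff _ (algebraMap k K).injective).mp h0
    exact hd ((map_eq_zero_iff _ (IsFractionRing.injective D k)).mp h1)
  refine ⟨⟨x, hx⟩, ⟨algebraMap D K d, Subalgebra.algebraMap_mem _ _⟩, ?_⟩
  show z = x / algebraMap D K d
  rw [eq_div_iff hd', mul_comm]
  exact e

end Construct

section Loc

/-- local rings of a localization are local rings of the original ring -/
theorem nonempty_atPrime_equiv {T T' : Type u} [CommRing T] [CommRing T'] [Algebra T T']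
    (S₀ : Submonoid T) [IsLocalization S₀ T'] (q' : Ideal T') [q'.IsPrime] :
    Nonempty (Localization.AtPrime (q'.comap (algebraMap T T')) ≃+* Localization.AtPrime q') := by
  haveI : IsLocalization.AtPrime (Localization.AtPrime q') (q'.comap (algebraMap T T')) :=
    IsLocalization.isLocalization_isLocalization_atPrime_isLocalization S₀
      (Localization.AtPrime q') q'
  exact ⟨(IsLocalization.algEquiv (q'.comap (algebraMap T T')).primeCompl
    (Localization.AtPrime (q'.comap (algebraMap T T'))) (Localization.AtPrime q')).toRingEquiv⟩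

/-- primes disjoint from `S₀` come from the localization -/
theorem exists_prime_of_disjoint {T T' : Type u} [CommRing T] [CommRing T'] [Algebra T T']
    (S₀ : Submonoid T) [IsLocalization S₀ T'] (q : Ideal T) [hq : q.IsPrime]
    (hdisj : Disjoint (S₀ : Set T) (q : Set T)) :
    ∃ (q' : Ideal T') (_ : q'.IsPrime), q'.comap (algebraMap T T') = q :=
  ⟨q.map (algebraMap T T'), IsLocalization.isPrime_of_isPrime_disjoint S₀ T' q hq hdisj,
    IsLocalization.under_map_of_isPrime_disjoint S₀ T' hq hdisj⟩

end Loc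

section Tensor

variable (A B C K : Type u) [CommRing A] [CommRing B] [CommRing C] [Field K] [Algebra A B]
  [Algebra A C] [Algebra B K] [Algebra A K] [IsScalarTower A B K]

/-- `(B ⊗_A C) ⊗_B K ≅ K ⊗_A C`. -/
noncomputable def tensorFracEquiv : (B ⊗[A] C) ⊗[B] K ≃+* K ⊗[A] C :=
  (Algebra.TensorProduct.comm B (B ⊗[A] C) K).toRingEquiv.trans
    (Algebra.TensorProduct.cancelBaseChange A B B K C).toRingEquiv

end Tensor

section Frac

variable (P : ∀ (X : Type u) [CommRing X], Prop)
  (hP : ∀ (X Y : Type u) [CommRing X] [CommRing Y], (X ≃+* Y) → P X → P Y)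
  (A B C K : Type u) [CommRing A] [CommRing B] [IsDomain B] [CommRing C] [Field K] [Algebra A B]
  [Algebra A C] [Algebra B K] [IsFractionRing B K]

include hP in
/-- If all local rings of `B ⊗[A] C` at primes lying over `0 ⊂ B` satisfy `P`, so do all local rings
of `(B ⊗[A] C) ⊗[B] Frac B`. -/
theorem forall_loc_of_fraction
    (h : ∀ (q : Ideal (B ⊗[A] C)) [q.IsPrime],
      q.comap (algebraMap B (B ⊗[A] C)) = ⊥ → P (Localization.AtPrime q))
    (q' : Ideal ((B ⊗[A] C) ⊗[B] K)) [hq' : q'.IsPrime] : P (Localization.AtPrime q') := by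
  haveI : IsLocalization (nonZeroDivisors B) K := ‹IsFractionRing B K›
  haveI hloc : IsLocalization (Algebra.algebraMapSubmonoid (B ⊗[A] C) (nonZeroDivisors B))
      ((B ⊗[A] C) ⊗[B] K) := IsLocalization.tensor K (nonZeroDivisors B)
  obtain ⟨e⟩ := nonempty_atPrime_equiv
    (Algebra.algebraMapSubmonoid (B ⊗[A] C) (nonZeroDivisors B)) q'
  refine hP _ _ e (h _ ?_)
  rw [eq_bot_iff]
  intro b hb
  rw [Ideal.mem_bot]
  by_contra hb0
  have hbmem : b ∈ nonZeroDivisors B := mem_nonZeroDivisors_of_ne_zero hb0
  have hu : IsUnit (algebraMap (B ⊗[A] C) ((B ⊗[A] C) ⊗[B] K)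
      (algebraMap B (B ⊗[A] C) b)) :=
    IsLocalization.map_units (M := Algebra.algebraMapSubmonoid (B ⊗[A] C) (nonZeroDivisors B))
      ((B ⊗[A] C) ⊗[B] K) ⟨algebraMap B (B ⊗[A] C) b, ⟨b, hbmem, rfl⟩⟩
  exact hq'.ne_top (Ideal.eq_top_of_isUnit_mem _ hb hu)

include hP in
/-- Conversely. -/
theorem loc_of_forall_fraction
    (h : ∀ (q' : Ideal ((B ⊗[A] C) ⊗[B] K)) [q'.IsPrime], P (Localization.AtPrime q'))
    (q : Ideal (B ⊗[A] C)) [hq : q.IsPrime]
    (hq0 : q.comap (algebraMap B (B ⊗[A] C)) = ⊥) : P (Localization.AtPrime q) := by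
  haveI : IsLocalization (nonZeroDivisors B) K := ‹IsFractionRing B K›
  haveI hloc : IsLocalization (Algebra.algebraMapSubmonoid (B ⊗[A] C) (nonZeroDivisors B))
      ((B ⊗[A] C) ⊗[B] K) := IsLocalization.tensor K (nonZeroDivisors B)
  have hdisj : Disjoint
      ((Algebra.algebraMapSubmonoid (B ⊗[A] C) (nonZeroDivisors B) : Submonoid (B ⊗[A] C)) :
        Set (B ⊗[A] C)) (q : Set (B ⊗[A] C)) := by
    rw [Set.disjoint_left]
    rintro _ ⟨b, hb, rfl⟩ hbq
    have : b ∈ q.comap (algebraMap B (B ⊗[A] C)) := hbq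
    rw [hq0, Ideal.mem_bot] at this
    exact nonZeroDivisors.ne_zero hb this
  obtain ⟨q', hq', hqq'⟩ := exists_prime_of_disjoint (T' := (B ⊗[A] C) ⊗[B] K)
    (Algebra.algebraMapSubmonoid (B ⊗[A] C) (nonZeroDivisors B)) q hdisj
  haveI := hq'
  obtain ⟨e⟩ := nonempty_atPrime_equiv
    (Algebra.algebraMapSubmonoid (B ⊗[A] C) (nonZeroDivisors B)) q'
  have gen : ∀ (I : Ideal (B ⊗[A] C)) [I.IsPrime], I = q →
      ∀ (e : Localization.AtPrime I ≃+* Localization.AtPrime q'), P (Localization.AtPrime q) := by
    intro I _ hI e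
    subst hI
    exact hP _ _ e.symm (h q')
  exact gen _ hqq' e

end Frac

theorem of_comap_equiv
    (P : ∀ (X : Type u) [CommRing X], Prop)
    (hP : ∀ (X Y : Type u) [CommRing X] [CommRing Y], (X ≃+* Y) → P X → P Y)
    (X Y : Type u) [CommRing X] [CommRing Y] (e : X ≃+* Y) (J : Ideal Y) [J.IsPrime]
    [hI : (J.comap (e : X →+* Y)).IsPrime]
    (h : P (Localization.AtPrime (J.comap (e : X →+* Y)))) : P (Localization.AtPrime J) :=
  hP _ _ (Localization.localRingEquiv (J.comap (e : X →+* Y)) J e rfl) h

/-- Abstract form of `exists_finite_domain` hiding the subalgebra structure. -/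
theorem exists_finite_domain' (D k K : Type u) [CommRing D] [IsDomain D] [Field k] [Field K]
    [Algebra D k] [IsFractionRing D k] [Algebra k K] [Algebra D K] [IsScalarTower D k K]
    [Module.Finite k K] :
    ∃ (B : Type u) (_ : CommRing B) (_ : IsDomain B) (_ : Algebra D B) (_ : Algebra B K)
      (_ : IsScalarTower D B K), Module.Finite D B ∧ IsFractionRing B K := by
  obtain ⟨B, hBfin, hBfrac⟩ := exists_finite_domain D k K
  exact ⟨B, inferInstance, inferInstance, inferInstance, inferInstance, inferInstance, hBfin, hBfrac⟩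

/-- The main reduction: if `P` holds for local rings of `B ⊗[A] C` at primes over `0 ⊂ B`, for every
finite `A`-algebra domain `B`, then it holds for all local rings of `K ⊗[A] C`, `K` a finite extension
of the fraction field of a finite `A`-algebra domain `D`. -/
theorem forall_loc_tensor_field
    (P : ∀ (X : Type u) [CommRing X], Prop)
    (hP : ∀ (X Y : Type u) [CommRing X] [CommRing Y], (X ≃+* Y) → P X → P Y)
    (A D k K C : Type u) [CommRing A] [CommRing D] [IsDomain D] [Algebra A D] [Module.Finite A D]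
    [Field k] [Algebra D k] [IsFractionRing D k] [Field K] [Algebra k K] [Module.Finite k K]
    [Algebra D K] [IsScalarTower D k K] [Algebra A K] [IsScalarTower A D K] [CommRing C]
    [Algebra A C]
    (h : ∀ (B : Type u) [CommRing B] [IsDomain B] [Algebra A B] [Module.Finite A B]
        (q : Ideal (B ⊗[A] C)) [q.IsPrime],
        q.comap (algebraMap B (B ⊗[A] C)) = ⊥ → P (Localization.AtPrime q))
    (q' : Ideal (K ⊗[A] C)) [q'.IsPrime] : P (Localization.AtPrime q') := by
  obtain ⟨B, _, _, _, _, _, hBfin, hBfrac⟩ := exists_finite_domain' D k K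
  haveI := hBfin
  haveI := hBfrac
  letI : Algebra A B := ((algebraMap D B).comp (algebraMap A D)).toAlgebra
  haveI : IsScalarTower A D B := IsScalarTower.of_algebraMap_eq (fun x => rfl)
  haveI : Module.Finite A B := Module.Finite.trans D B
  haveI : IsScalarTower A B K := IsScalarTower.of_algebraMap_eq (fun x => by
    rw [IsScalarTower.algebraMap_apply A D K, IsScalarTower.algebraMap_apply D B K]
    rfl)
  let e1 : (B ⊗[A] C) ⊗[B] K ≃+* K ⊗[A] C := tensorFracEquiv A B C K
  haveI : (q'.comap (e1 : (B ⊗[A] C) ⊗[B] K →+* K ⊗[A] C)).IsPrime := Ideal.comap_isPrime _ _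
  have h1 := forall_loc_of_fraction P hP A B C K (fun q _ hq => h B q hq)
    (q'.comap (e1 : (B ⊗[A] C) ⊗[B] K →+* K ⊗[A] C))
  exact of_comap_equiv P hP _ _ e1 q' h1

end Groth.Agent.H29.FinDomain
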