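import Groth.Agent.H29.CM
import Mathlib.RingTheory.Ideal.AssociatedPrime.Localization
import Mathlib.RingTheory.Regular.LinearMap
import Mathlib.RingTheory.KrullDimension.Field

set_option autoImplicit false
universe u v

namespace Groth.Agent.H29.CM

open Groth.Agent.H15.Depth IsLocalRing RingTheory.Sequence
open scoped Pointwise

section Arith

theorem nat_of_add_natCast_eq {D : WithBot ℕ∞} {r d : ℕ}
    (h : D + (r : WithBot ℕ∞) = ((d : ℕ∞) : WithBot ℕ∞)) :
    ∃ e : ℕ, D = ((e : ℕ∞) : WithBot ℕ∞) ∧ e + r = d := by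
  induction D using WithBot.recBotCoe with
  | bot => simp at h
  | coe e =>
    induction e using ENat.recTopCoe with
    | top =>
      exfalso
      have h' : ((((⊤ : ℕ∞) + (r : ℕ∞) : ℕ∞)) : WithBot ℕ∞) = ((d : ℕ∞) : WithBot ℕ∞) := by
        rw [WithBot.coe_add]; exact h
      rw [WithBot.coe_inj, top_add] at h'
      exact ENat.top_ne_natCast d h'
    | coe n =>
      exact ⟨n, rfl, by exact_mod_cast h⟩

theorem cast_succ_eq (d : ℕ) :
    (((d + 1 : ℕ) : ℕ∞) : WithBot ℕ∞) = ((d : ℕ∞) : WithBot ℕ∞) + 1 := by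
  push_cast; rfl

end Arith

section General

variable {R : Type u} [CommRing R]

theorem smul_top_eq_top_of_equiv {I : Ideal R} {M : Type v} {N : Type v} [AddCommGroup M]
    [Module R M] [AddCommGroup N] [Module R N] (e : M ≃ₗ[R] N)
    (h : I • (⊤ : Submodule R M) = ⊤) : I • (⊤ : Submodule R N) = ⊤ := by
  have h1 := congrArg (Submodule.map e.toLinearMap) h
  rwa [Submodule.map_smul'', Submodule.map_top, LinearEquiv.range] at h1

theorem idealDepth_congr {I : Ideal R} {M N : Type v} [AddCommGroup M] [Module R M]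
    [AddCommGroup N] [Module R N] (e : M ≃ₗ[R] N) :
    LocCoh.idealDepth I M = LocCoh.idealDepth I N := by
  have h1 : (I • (⊤ : Submodule R M) = ⊤) ↔ (I • (⊤ : Submodule R N) = ⊤) :=
    ⟨smul_top_eq_top_of_equiv e, smul_top_eq_top_of_equiv e.symm⟩
  have h2 : ∀ rs : List R, (IsWeaklyRegular M rs ∧ ∀ r ∈ rs, r ∈ I) ↔
      (IsWeaklyRegular N rs ∧ ∀ r ∈ rs, r ∈ I) :=
    fun rs => and_congr_left' (e.isWeaklyRegular_congr rs)
  unfold LocCoh.idealDepth
  by_cases h : I • (⊤ : Submodule R M) = ⊤
  · rw [if_pos h, if_pos (h1.1 h)]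
  · rw [if_neg h, if_neg (fun h' => h (h1.2 h'))]
    apply le_antisymm
    · exact iSup₂_le fun rs hrs => le_iSup₂_of_le rs ((h2 rs).1 hrs) le_rfl
    · exact iSup₂_le fun rs hrs => le_iSup₂_of_le rs ((h2 rs).2 hrs) le_rfl

/-- `dim (M/pM) = dim (A/p)` for `p` in the support of the finite module `M`. -/
theorem supportDim_quotient_prime_smul_top {M : Type v} [AddCommGroup M] [Module R M]
    [Module.Finite R M] (p : PrimeSpectrum R) (hp : p ∈ Module.support R M) :
    Module.supportDim R (M ⧸ (p.asIdeal • (⊤ : Submodule R M))) = ringKrullDim (R ⧸ p.asIdeal) := by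
  rw [ringKrullDim_quotient]
  unfold Module.supportDim
  rw [Module.support_quotient]
  have : Module.support R M ∩ PrimeSpectrum.zeroLocus (p.asIdeal : Set R) =
      PrimeSpectrum.zeroLocus (p.asIdeal : Set R) := by
    apply Set.inter_eq_right.2
    intro q hq
    exact Module.mem_support_mono ((PrimeSpectrum.asIdeal_le_asIdeal p q).1
      (fun a ha => (PrimeSpectrum.mem_zeroLocus _ _).1 hq ha)) hp
  rw [this]

end General

section Local

variable {A : Type u} [CommRing A] [IsLocalRing A] [IsNoetherianRing A]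

theorem isCM_def {M : Type v} [AddCommGroup M] [Module A M] :
    LocCoh.IsCohenMacaulayModule A M ↔
      Module.supportDim A M = ((LocCoh.depth A M : ℕ∞) : WithBot ℕ∞) := Iff.rfl

theorem nontrivial_of_isCM {M : Type v} [AddCommGroup M] [Module A M]
    (hM : LocCoh.IsCohenMacaulayModule A M) : Nontrivial M := by
  apply (Module.supportDim_ne_bot_iff_nontrivial A M).1
  rw [isCM_def.1 hM]
  exact WithBot.coe_ne_bot

theorem isCM_of_equiv {M N : Type v} [AddCommGroup M] [Module A M] [AddCommGroup N] [Module A N]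
    (e : M ≃ₗ[A] N) (hM : LocCoh.IsCohenMacaulayModule A M) :
    LocCoh.IsCohenMacaulayModule A N := by
  rw [isCM_def] at hM ⊢
  have h1 : LocCoh.depth A M = LocCoh.depth A N := idealDepth_congr e
  rw [← Module.supportDim_eq_of_equiv e, hM, h1]

theorem depth_quotSMulTop_add_one {M : Type v} [AddCommGroup M] [Module A M] [Module.Finite A M]
    [Nontrivial M] {x : A} (hx : x ∈ maximalIdeal A) (hreg : IsSMulRegular M x) :
    LocCoh.depth A (QuotSMulTop x M) + 1 = LocCoh.depth A M :=
  idealDepth_quotSMulTop_add_one (Groth.Agent.H29.maximalIdeal_smul_top_ne_top A M) hx hreg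

theorem isCM_quotSMulTop {M : Type v} [AddCommGroup M] [Module A M] [Module.Finite A M]
    (hM : LocCoh.IsCohenMacaulayModule A M) {x : A} (hx : x ∈ maximalIdeal A)
    (hreg : IsSMulRegular M x) : LocCoh.IsCohenMacaulayModule A (QuotSMulTop x M) := by
  haveI := nontrivial_of_isCM hM
  have h1 := Module.supportDim_quotSMulTop_succ_eq_supportDim hreg hx
  have h2 := depth_quotSMulTop_add_one hx hreg
  rw [isCM_def] at hM ⊢
  apply ENat.WithBot.add_one_cancel.1
  rw [h1, hM, ← h2, WithBot.coe_add, WithBot.coe_one]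

theorem isCM_of_hasSeq {M : Type v} [AddCommGroup M] [Module A M] [Module.Finite A M]
    [Nontrivial M] {d : ℕ} (hd : Module.supportDim A M = ((d : ℕ∞) : WithBot ℕ∞))
    (h : HasSeq (maximalIdeal A) M d) : LocCoh.IsCohenMacaulayModule A M := by
  rw [isCM_def, hd]
  have h1 : (d : ℕ∞) ≤ LocCoh.depth A M :=
    (le_idealDepth_iff (Groth.Agent.H29.maximalIdeal_smul_top_ne_top A M) d).2 h
  have h2 := depth_le_supportDim (A := A) (M := M)
  rw [hd, WithBot.coe_le_coe] at h2
  exact congrArg (fun t : ℕ∞ => (t : WithBot ℕ∞)) (le_antisymm h1 h2)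

theorem ofList_le_maximalIdeal {xs : List A} (hxs : ∀ x ∈ xs, x ∈ maximalIdeal A) :
    Ideal.ofList xs ≤ maximalIdeal A :=
  Ideal.span_le.2 (fun x hx => hxs x hx)

theorem nontrivial_quotient_smul_top {M : Type v} [AddCommGroup M] [Module A M]
    [Module.Finite A M] [Nontrivial M] {I : Ideal A} (hI : I ≤ maximalIdeal A) :
    Nontrivial (M ⧸ (I • (⊤ : Submodule A M))) := by
  rw [Submodule.Quotient.nontrivial_iff]
  intro h
  apply Groth.Agent.H29.maximalIdeal_smul_top_ne_top A M
  exact top_le_iff.1 (h.symm.le.trans (Submodule.smul_mono_left hI))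

/-- `dim M ≤ dim M/(xs)M + length xs` for `xs` in the maximal ideal. -/
theorem supportDim_le_supportDim_quotient_ofList_add_length (xs : List A) :
    ∀ (M : Type v) [AddCommGroup M] [Module A M] [Module.Finite A M],
      (∀ x ∈ xs, x ∈ maximalIdeal A) →
      Module.supportDim A M ≤
        Module.supportDim A (M ⧸ (Ideal.ofList xs • (⊤ : Submodule A M))) +
          (xs.length : WithBot ℕ∞) := by
  induction xs with
  | nil =>
    intro M _ _ _ _
    have h0 : Ideal.ofList ([] : List A) • (⊤ : Submodule A M) = ⊥ := by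
      rw [Ideal.ofList_nil, Submodule.bot_smul]
    rw [Module.supportDim_eq_of_equiv (Submodule.quotEquivOfEqBot _ h0)]
    simp
  | cons x xs ih =>
    intro M _ _ _ hxs
    have hx : x ∈ maximalIdeal A := hxs x (by simp)
    have hxs' : ∀ y ∈ xs, y ∈ maximalIdeal A := fun y hy => hxs y (by simp [hy])
    have h1 := Module.supportDim_le_supportDim_quotSMulTop_succ (M := M) hx
    have h2 := ih (QuotSMulTop x M) hxs'
    rw [Module.supportDim_eq_of_equiv
      (Submodule.quotOfListConsSMulTopEquivQuotSMulTopInner M x xs), List.length_cons,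
      Nat.cast_add, Nat.cast_one, ← add_assoc]
    calc Module.supportDim A M ≤ Module.supportDim A (QuotSMulTop x M) + 1 := h1
      _ ≤ (Module.supportDim A (QuotSMulTop x M ⧸
            (Ideal.ofList xs • (⊤ : Submodule A (QuotSMulTop x M)))) +
            (xs.length : WithBot ℕ∞)) + 1 := by gcongr

/-- For a Cohen-Macaulay module, an element of the maximal ideal which drops the dimension is
regular. -/
theorem isSMulRegular_of_isCM_of_supportDim {M : Type v} [AddCommGroup M] [Module A M]
    [Module.Finite A M] (hM : LocCoh.IsCohenMacaulayModule A M) {x : A} (hx : x ∈ maximalIdeal A)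
    (h : Module.supportDim A (QuotSMulTop x M) + 1 = Module.supportDim A M) :
    IsSMulRegular M x := by
  haveI := nontrivial_of_isCM hM
  by_contra hreg
  have hx' : x ∈ ({r : A | IsSMulRegular M r}ᶜ : Set A) := hreg
  rw [← biUnion_associatedPrimes_eq_compl_regular A M] at hx'
  obtain ⟨p, hp, hxp⟩ := Set.mem_iUnion₂.1 hx'
  haveI := hp.isPrime
  have h1 := ringKrullDim_quotient_eq_supportDim_of_isCM hM hp
  have hpS : (⟨p, hp.isPrime⟩ : PrimeSpectrum A) ∈ Module.support A (QuotSMulTop x M) := by
    rw [Module.support_quotSMulTop]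
    refine ⟨mem_support_of_mem_associatedPrimes hp, ?_⟩
    simpa [PrimeSpectrum.mem_zeroLocus] using hxp
  have h2 : ringKrullDim (A ⧸ p) ≤ Module.supportDim A (QuotSMulTop x M) :=
    ringKrullDim_quotient_le_supportDim ⟨p, hp.isPrime⟩ hpS
  obtain ⟨d, hd⟩ := exists_nat_supportDim (A := A) (M := M)
  have h' : Module.supportDim A (QuotSMulTop x M) + ((1 : ℕ) : WithBot ℕ∞) =
      ((d : ℕ∞) : WithBot ℕ∞) := by
    rw [Nat.cast_one, h, hd]
  obtain ⟨e, he, hed⟩ := nat_of_add_natCast_eq h'
  rw [h1, hd, he] at h2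
  have h3 : d ≤ e := by exact_mod_cast h2
  omega

/-- S5758 in library form. -/
theorem isWeaklyRegular_iff_of_isCM (xs : List A) :
    ∀ (M : Type v) [AddCommGroup M] [Module A M] [Module.Finite A M],
      LocCoh.IsCohenMacaulayModule A M → (∀ x ∈ xs, x ∈ maximalIdeal A) →
      (IsWeaklyRegular M xs ↔
        Module.supportDim A (M ⧸ (Ideal.ofList xs • (⊤ : Submodule A M))) +
          (xs.length : WithBot ℕ∞) = Module.supportDim A M) ∧
      (IsWeaklyRegular M xs →
        LocCoh.IsCohenMacaulayModule A (M ⧸ (Ideal.ofList xs • (⊤ : Submodule A M)))) := by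
  induction xs with
  | nil =>
    intro M _ _ _ hM _
    have h0 : Ideal.ofList ([] : List A) • (⊤ : Submodule A M) = ⊥ := by
      rw [Ideal.ofList_nil, Submodule.bot_smul]
    have e := Submodule.quotEquivOfEqBot _ h0
    refine ⟨⟨fun _ => ?_, fun _ => IsWeaklyRegular.nil A M⟩, fun _ => isCM_of_equiv e.symm hM⟩
    rw [Module.supportDim_eq_of_equiv e]
    simp
  | cons x xs ih =>
    intro M _ _ _ hM hxs
    haveI := nontrivial_of_isCM hM
    have hx : x ∈ maximalIdeal A := hxs x (by simp)
    have hxs' : ∀ y ∈ xs, y ∈ maximalIdeal A := fun y hy => hxs y (by simp [hy])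
    have e := Submodule.quotOfListConsSMulTopEquivQuotSMulTopInner M x xs
    have hdim : Module.supportDim A (M ⧸ (Ideal.ofList (x :: xs) • (⊤ : Submodule A M))) =
        Module.supportDim A (QuotSMulTop x M ⧸
          (Ideal.ofList xs • (⊤ : Submodule A (QuotSMulTop x M)))) :=
      Module.supportDim_eq_of_equiv e
    have hlen : (((x :: xs).length : ℕ) : WithBot ℕ∞) = (xs.length : WithBot ℕ∞) + 1 := by
      rw [List.length_cons, Nat.cast_add, Nat.cast_one]
    rw [isWeaklyRegular_cons_iff, hdim, hlen]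
    have key := fun (hreg : IsSMulRegular M x) =>
      ih (QuotSMulTop x M) (isCM_quotSMulTop hM hx hreg) hxs'
    refine ⟨⟨?_, ?_⟩, ?_⟩
    · rintro ⟨hreg, hw⟩
      have h1 := ((key hreg).1).1 hw
      have h2 := Module.supportDim_quotSMulTop_succ_eq_supportDim hreg hx
      rw [← h2, ← h1, add_assoc]
    · intro h
      have i1 := Module.supportDim_le_supportDim_quotSMulTop_succ (M := M) hx
      have i2 := supportDim_le_supportDim_quotient_ofList_add_length xs (QuotSMulTop x M) hxs'
      haveI : Nontrivial (QuotSMulTop x M) := nontrivial_quotSMulTop_of_mem_maximalIdeal M hx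
      haveI : Nontrivial (QuotSMulTop x M ⧸
          (Ideal.ofList xs • (⊤ : Submodule A (QuotSMulTop x M)))) :=
        nontrivial_quotient_smul_top (ofList_le_maximalIdeal hxs')
      obtain ⟨d, hd⟩ := exists_nat_supportDim (A := A) (M := M)
      obtain ⟨c, hc⟩ := exists_nat_supportDim (A := A) (M := QuotSMulTop x M)
      obtain ⟨b, hb⟩ := exists_nat_supportDim (A := A) (M := QuotSMulTop x M ⧸
          (Ideal.ofList xs • (⊤ : Submodule A (QuotSMulTop x M))))
      rw [hd, hc] at i1
      rw [hc, hb] at i2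
      rw [hb, hd] at h
      have i1' : d ≤ c + 1 := by exact_mod_cast i1
      have i2' : c ≤ b + xs.length := by exact_mod_cast i2
      have h' : b + (xs.length + 1) = d := by exact_mod_cast h
      have hc1 : c + 1 = d := by omega
      have hb1 : b + xs.length = c := by omega
      have hreg : IsSMulRegular M x :=
        isSMulRegular_of_isCM_of_supportDim hM hx (by rw [hc, hd]; exact_mod_cast hc1)
      refine ⟨hreg, ((key hreg).1).2 ?_⟩
      rw [hb, hc]
      exact_mod_cast hb1
    · rintro ⟨hreg, hw⟩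
      exact isCM_of_equiv e.symm ((key hreg).2 hw)

/-- S5759 in library form. -/
theorem hasSeq_of_unmixed (d : ℕ) :
    ∀ (M : Type v) [AddCommGroup M] [Module A M] [Module.Finite A M] [Nontrivial M],
      Module.supportDim A M = ((d : ℕ∞) : WithBot ℕ∞) →
      (∀ xs : List A, (∀ x ∈ xs, x ∈ maximalIdeal A) →
        Module.supportDim A (M ⧸ (Ideal.ofList xs • (⊤ : Submodule A M))) +
          (xs.length : WithBot ℕ∞) = Module.supportDim A M →
        ∀ p ∈ associatedPrimes A (M ⧸ (Ideal.ofList xs • (⊤ : Submodule A M))),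
          ringKrullDim (A ⧸ p) =
            Module.supportDim A (M ⧸ (Ideal.ofList xs • (⊤ : Submodule A M)))) →
      HasSeq (maximalIdeal A) M d := by
  induction d with
  | zero => intro M _ _ _ _ _ _; exact hasSeq_zero
  | succ d ih =>
    intro M _ _ _ _ hd h
    have h0 : Ideal.ofList ([] : List A) • (⊤ : Submodule A M) = ⊥ := by
      rw [Ideal.ofList_nil, Submodule.bot_smul]
    have e0 := Submodule.quotEquivOfEqBot _ h0
    have hnil := h [] (by simp) (by rw [Module.supportDim_eq_of_equiv e0]; simp)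
    have hm : maximalIdeal A ∉ associatedPrimes A M := by
      intro hmem
      have hmem' : maximalIdeal A ∈ associatedPrimes A
          (M ⧸ (Ideal.ofList ([] : List A) • (⊤ : Submodule A M))) := by
        rw [LinearEquiv.AssociatedPrimes.eq e0]; exact hmem
      have h1 := hnil _ hmem'
      rw [Module.supportDim_eq_of_equiv e0, hd] at h1
      have h2 : ringKrullDim (A ⧸ maximalIdeal A) = 0 :=
        ringKrullDim_eq_zero_of_isField
          ((Ideal.Quotient.maximal_ideal_iff_isField_quotient _).1 (maximalIdeal.isMaximal A))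
      rw [h2] at h1
      have h3 : (0 : ℕ) = d + 1 := by exact_mod_cast h1
      omega
    have hex : ∃ x ∈ maximalIdeal A, IsSMulRegular M x := by
      by_contra hcon
      push_neg at hcon
      exact hm ((Groth.Agent.H29.forall_not_isSMulRegular_iff_mem_associatedPrimes A M).1 hcon)
    obtain ⟨x, hx, hreg⟩ := hex
    haveI : Nontrivial (QuotSMulTop x M) := nontrivial_quotSMulTop_of_mem_maximalIdeal M hx
    have hQ : Module.supportDim A (QuotSMulTop x M) = ((d : ℕ∞) : WithBot ℕ∞) := by
      have h2 := Module.supportDim_quotSMulTop_succ_eq_supportDim hreg hx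
      rw [hd, cast_succ_eq] at h2
      exact ENat.WithBot.add_one_cancel.1 h2
    refine hasSeq_succ_iff.mpr ⟨x, hx, hreg, ih (QuotSMulTop x M) hQ ?_⟩
    intro ys hys hdim p hp
    have e := Submodule.quotOfListConsSMulTopEquivQuotSMulTopInner M x ys
    have hxys : ∀ y ∈ x :: ys, y ∈ maximalIdeal A := by
      intro y hy
      rcases List.mem_cons.1 hy with rfl | hy
      · exact hx
      · exact hys y hy
    have hdim' : Module.supportDim A (M ⧸ (Ideal.ofList (x :: ys) • (⊤ : Submodule A M))) +
        (((x :: ys).length : ℕ) : WithBot ℕ∞) = Module.supportDim A M := by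
      rw [Module.supportDim_eq_of_equiv e, List.length_cons,
        ← Module.supportDim_quotSMulTop_succ_eq_supportDim hreg hx, ← hdim, Nat.cast_add,
        Nat.cast_one, add_assoc]
    have hp' : p ∈ associatedPrimes A (M ⧸ (Ideal.ofList (x :: ys) • (⊤ : Submodule A M))) := by
      rw [LinearEquiv.AssociatedPrimes.eq e]; exact hp
    have hfin := h (x :: ys) hxys hdim' p hp'
    rw [hfin, Module.supportDim_eq_of_equiv e]

theorem exists_nat_ringKrullDim_quotient (p : Ideal A) [p.IsPrime] :
    ∃ n : ℕ, ringKrullDim (A ⧸ p) = ((n : ℕ∞) : WithBot ℕ∞) := by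
  obtain ⟨n, hn⟩ := exists_nat_supportDim (A := A) (M := A ⧸ p)
  exact ⟨n, by rw [← hn, Module.supportDim_quotient_eq_ringKrullDim]⟩

/-- If `q ≤ p` are primes with `dim A/q ≤ dim A/p`, then `q = p`. -/
theorem eq_of_le_of_ringKrullDim_quotient_le {q p : Ideal A} [q.IsPrime] [p.IsPrime] (hqp : q ≤ p)
    (h : ringKrullDim (A ⧸ q) ≤ ringKrullDim (A ⧸ p)) : q = p := by
  by_contra hne
  have hlt : q < p := lt_of_le_of_ne hqp hne
  obtain ⟨x, hxp, hxq⟩ := SetLike.exists_of_lt hlt
  have h1 := ringKrullDim_quotient_succ_le_of_lt hqp hxp hxq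
  obtain ⟨n, hn⟩ := exists_nat_ringKrullDim_quotient p
  have h2 := h1.trans h
  rw [hn] at h2
  have h3 : n + 1 ≤ n := by exact_mod_cast h2
  omega

theorem eq_of_mem_support_of_le {N : Type v} [AddCommGroup N] [Module A N] {p : PrimeSpectrum A}
    (hdim : Module.supportDim A N ≤ ringKrullDim (A ⧸ p.asIdeal)) {q : PrimeSpectrum A}
    (hq : q ∈ Module.support A N) (hqp : q.asIdeal ≤ p.asIdeal) : q.asIdeal = p.asIdeal := by
  haveI := q.isPrime
  haveI := p.isPrime
  exact eq_of_le_of_ringKrullDim_quotient_le hqp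
    ((ringKrullDim_quotient_le_supportDim q hq).trans hdim)

theorem mem_associatedPrimes_of_dim {N : Type v} [AddCommGroup N] [Module A N] [Module.Finite A N]
    {p : PrimeSpectrum A} (hp : p ∈ Module.support A N)
    (hdim : Module.supportDim A N ≤ ringKrullDim (A ⧸ p.asIdeal)) :
    p.asIdeal ∈ associatedPrimes A N := by
  apply Module.associatedPrimes.minimalPrimes_annihilator_subset_associatedPrimes A N
  have hp' := hp
  rw [Module.support_eq_zeroLocus, PrimeSpectrum.mem_zeroLocus] at hp'
  refine ⟨⟨p.isPrime, SetLike.coe_subset_coe.1 hp'⟩, ?_⟩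
  rintro q ⟨hqprime, hqann⟩ hqp
  have hq : (⟨q, hqprime⟩ : PrimeSpectrum A) ∈ Module.support A N := by
    rw [Module.support_eq_zeroLocus, PrimeSpectrum.mem_zeroLocus]
    exact SetLike.coe_subset_coe.2 hqann
  exact (eq_of_mem_support_of_le hdim hq hqp).ge

theorem exists_regular_mem_of_dim_lt {M : Type v} [AddCommGroup M] [Module A M]
    [Module.Finite A M] (hM : LocCoh.IsCohenMacaulayModule A M) {p : Ideal A} [p.IsPrime]
    (hlt : ringKrullDim (A ⧸ p) < Module.supportDim A M) : ∃ x ∈ p, IsSMulRegular M x := by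
  haveI := nontrivial_of_isCM hM
  by_contra hcon
  push_neg at hcon
  have hexist : ∃ q ∈ associatedPrimes A M, p ≤ q := by
    rcases associatedPrimes.nonempty A M with ⟨Ia, hIa⟩
    apply (Ideal.subset_union_prime_finite (associatedPrimes.finite A M) Ia Ia _).mp
    · rw [biUnion_associatedPrimes_eq_compl_regular A M]
      exact fun r hr ↦ hcon r hr
    · exact fun I hin _ _ ↦ IsAssociatedPrime.isPrime hin
  obtain ⟨q, hq, hpq⟩ := hexist
  haveI := hq.isPrime
  have h2 : ringKrullDim (A ⧸ q) ≤ ringKrullDim (A ⧸ p) :=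
    ringKrullDim_le_of_surjective (Ideal.Quotient.factor hpq)
      (Ideal.Quotient.factor_surjective hpq)
  rw [ringKrullDim_quotient_eq_supportDim_of_isCM hM hq] at h2
  exact absurd (lt_of_le_of_lt h2 hlt) (lt_irrefl _)

theorem exists_regular_sequence_in_prime (r : ℕ) :
    ∀ (M : Type v) [AddCommGroup M] [Module A M] [Module.Finite A M],
      LocCoh.IsCohenMacaulayModule A M → ∀ (p : PrimeSpectrum A), p ∈ Module.support A M →
      ringKrullDim (A ⧸ p.asIdeal) + (r : WithBot ℕ∞) = Module.supportDim A M →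
      ∃ xs : List A, xs.length = r ∧ (∀ x ∈ xs, x ∈ p.asIdeal) ∧ IsWeaklyRegular M xs := by
  induction r with
  | zero => intro M _ _ _ _ p _ _; exact ⟨[], rfl, by simp, IsWeaklyRegular.nil A M⟩
  | succ r ih =>
    intro M _ _ _ hM p hp hdim
    haveI := nontrivial_of_isCM hM
    haveI := p.isPrime
    have hpm : p.asIdeal ≤ maximalIdeal A := IsLocalRing.le_maximalIdeal p.isPrime.ne_top
    obtain ⟨n, hn⟩ := exists_nat_ringKrullDim_quotient p.asIdeal
    have hlt : ringKrullDim (A ⧸ p.asIdeal) < Module.supportDim A M := by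
      rw [← hdim, hn]
      exact_mod_cast (by omega : n < n + (r + 1))
    obtain ⟨x, hxp, hreg⟩ := exists_regular_mem_of_dim_lt hM hlt
    have hx := hpm hxp
    have hQ := isCM_quotSMulTop hM hx hreg
    have hpQ : p ∈ Module.support A (QuotSMulTop x M) := by
      rw [Module.support_quotSMulTop]
      exact ⟨hp, by simpa [PrimeSpectrum.mem_zeroLocus] using hxp⟩
    have hdimQ : ringKrullDim (A ⧸ p.asIdeal) + (r : WithBot ℕ∞) =
        Module.supportDim A (QuotSMulTop x M) := by
      apply ENat.WithBot.add_one_cancel.1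
      rw [Module.supportDim_quotSMulTop_succ_eq_supportDim hreg hx, ← hdim, add_assoc,
        Nat.cast_add, Nat.cast_one]
    obtain ⟨ys, hlen, hys, hw⟩ := ih (QuotSMulTop x M) hQ p hpQ hdimQ
    refine ⟨x :: ys, by simp [hlen], ?_, (isWeaklyRegular_cons_iff M x ys).mpr ⟨hreg, hw⟩⟩
    intro y hy
    rcases List.mem_cons.1 hy with rfl | hy
    · exact hxp
    · exact hys y hy

end Local

end Groth.Agent.H29.CM
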