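import Mathlib
import Groth.Prelude.Def_EGA4b
import Groth.Agent.H87.ComplIso
import Groth.Agent.H87.ComplFlat
import Groth.Agent.Lead.CompleteNoetherian

/-!
# Completion of a quotient of a Noetherian local ring (helper29)

`Cpl (A ⧸ I) ≃ₐ[A ⧸ I] (A ⧸ I) ⊗[A] Cpl A`.
-/

set_option autoImplicit false
set_option maxHeartbeats 400000
set_option linter.style.haveILetI false
set_option linter.unusedVariables false
set_option linter.unusedSectionVars false

universe u

open IsLocalRing TensorProduct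

namespace Groth.Agent.H29.CplQuot

section Precomplete

variable {R : Type u} [CommRing R] (I : Ideal R) {M N : Type u} [AddCommGroup M] [Module R M]
  [AddCommGroup N] [Module R N]

theorem isPrecomplete_of_surjective (f : M →ₗ[R] N) (hf : Function.Surjective f)
    [IsPrecomplete I M] : IsPrecomplete I N := by
  rw [← AdicCompletion.of_surjective_iff]
  intro y
  obtain ⟨x, rfl⟩ := AdicCompletion.map_surjective I hf y
  obtain ⟨m, rfl⟩ := AdicCompletion.of_surjective I M x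
  exact ⟨f m, (AdicCompletion.map_of I f m).symm⟩

end Precomplete

section Main

variable (A : Type u) [CommRing A] [IsNoetherianRing A] [IsLocalRing A] (I : Ideal A)

/-- the quotient of the completion by the extended ideal -/
abbrev QS : Type u := EGA4.Cpl A ⧸ I.map (algebraMap A (EGA4.Cpl A))

theorem isAdicComplete_QS_module : IsAdicComplete (maximalIdeal (EGA4.Cpl A)) (QS A I) := by
  haveI : IsNoetherianRing (EGA4.Cpl A) :=
    Groth.Agent.Lead.isNoetherianRing_adicCompletion (maximalIdeal A)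
      (maximalIdeal A).fg_of_isNoetherianRing
  haveI h1 : IsHausdorff (maximalIdeal (EGA4.Cpl A)) (QS A I) := inferInstance
  haveI h0 : IsAdicComplete (maximalIdeal (EGA4.Cpl A)) (EGA4.Cpl A) := inferInstance
  haveI h2 : IsPrecomplete (maximalIdeal (EGA4.Cpl A)) (QS A I) :=
    isPrecomplete_of_surjective (maximalIdeal (EGA4.Cpl A))
      (Submodule.mkQ (I.map (algebraMap A (EGA4.Cpl A))))
      (Submodule.mkQ_surjective _)
  exact { toIsHausdorff := h1, toIsPrecomplete := h2 }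

variable [Nontrivial (A ⧸ I)]

theorem map_mk_maximalIdeal :
    (maximalIdeal A).map (Ideal.Quotient.mk I) = maximalIdeal (A ⧸ I) := by
  have hI : I ≠ ⊤ := Ideal.Quotient.nontrivial_iff.mp inferInstance
  haveI := IsLocalHom.of_surjective (Ideal.Quotient.mk I) Ideal.Quotient.mk_surjective
  ext x
  obtain ⟨x, rfl⟩ := Ideal.Quotient.mk_surjective x
  simp [sup_eq_left.mpr (le_maximalIdeal hI)]

/-- the maximal-ideal-adic ideal of `QS` -/
noncomputable abbrev nQS : Ideal (QS A I) := (maximalIdeal (A ⧸ I)).map (algebraMap (A ⧸ I) (QS A I))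

theorem map_maximalIdeal_cpl_eq :
    (maximalIdeal (EGA4.Cpl A)).map (algebraMap (EGA4.Cpl A) (QS A I)) = nQS A I := by
  rw [AdicCompletion.maximalIdeal_eq_map, Ideal.map_map]
  show _ = (maximalIdeal (A ⧸ I)).map (algebraMap (A ⧸ I) (QS A I))
  rw [← map_mk_maximalIdeal A I, Ideal.map_map]
  rfl

theorem isAdicComplete_QS : IsAdicComplete (nQS A I) (QS A I) := by
  have h1 : IsAdicComplete ((maximalIdeal (EGA4.Cpl A)).map (algebraMap (EGA4.Cpl A) (QS A I)))
      (QS A I) :=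
    (IsAdicComplete.map_algebraMap_iff (I := maximalIdeal (EGA4.Cpl A)) (S := QS A I)
      (M := QS A I)).2 (isAdicComplete_QS_module A I)
  rwa [map_maximalIdeal_cpl_eq] at h1

theorem nQS_pow (n : ℕ) :
    (nQS A I) ^ n = (maximalIdeal A ^ n).map (algebraMap A (QS A I)) := by
  show ((maximalIdeal (A ⧸ I)).map (algebraMap (A ⧸ I) (QS A I))) ^ n = _
  rw [← Ideal.map_pow, ← map_mk_maximalIdeal A I, ← Ideal.map_pow, Ideal.map_map]
  rfl

theorem nQS_pow' (n : ℕ) :
    (nQS A I) ^ n = ((maximalIdeal A ^ n).map (algebraMap A (EGA4.Cpl A))).map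
      (Ideal.Quotient.mk (I.map (algebraMap A (EGA4.Cpl A)))) := by
  rw [nQS_pow, Ideal.map_map]
  rfl

instance : Module.FaithfullyFlat A (EGA4.Cpl A) := by
  haveI : Module.Flat A (EGA4.Cpl A) := AdicCompletion.flat_of_isNoetherian (maximalIdeal A)
  exact Module.FaithfullyFlat.of_flat_of_isLocalHom

theorem hsurj (n : ℕ) (s : QS A I) :
    ∃ p : A ⧸ I, s - Algebra.ofId (A ⧸ I) (QS A I) p ∈ (nQS A I) ^ n := by
  obtain ⟨r, rfl⟩ := Ideal.Quotient.mk_surjective s
  obtain ⟨a, ha⟩ := Groth.Agent.H87.ComplFlat.exists_sub_mem_map_pow (maximalIdeal A)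
    (maximalIdeal A).fg_of_isNoetherianRing n r
  refine ⟨Ideal.Quotient.mk I a, ?_⟩
  rw [nQS_pow']
  have h1 : Ideal.Quotient.mk (I.map (algebraMap A (EGA4.Cpl A))) r -
      Algebra.ofId (A ⧸ I) (QS A I) (Ideal.Quotient.mk I a) =
      Ideal.Quotient.mk (I.map (algebraMap A (EGA4.Cpl A)))
        (r - algebraMap A (EGA4.Cpl A) a) := by
    rw [map_sub]
    rfl
  rw [h1]
  exact Ideal.mem_map_of_mem _ ha

theorem hinj (n : ℕ) (p : A ⧸ I)
    (hp : Algebra.ofId (A ⧸ I) (QS A I) p ∈ (nQS A I) ^ n) : p ∈ (maximalIdeal (A ⧸ I)) ^ n := by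
  obtain ⟨a, rfl⟩ := Ideal.Quotient.mk_surjective p
  rw [nQS_pow'] at hp
  have h1 : Algebra.ofId (A ⧸ I) (QS A I) (Ideal.Quotient.mk I a) =
      Ideal.Quotient.mk (I.map (algebraMap A (EGA4.Cpl A))) (algebraMap A (EGA4.Cpl A) a) := rfl
  rw [h1, Ideal.mem_quotient_iff_mem_sup, ← Ideal.map_sup] at hp
  have h2 : a ∈ ((maximalIdeal A ^ n ⊔ I).map (algebraMap A (EGA4.Cpl A))).comap
      (algebraMap A (EGA4.Cpl A)) := hp
  rw [Ideal.comap_map_eq_self_of_faithfullyFlat] at h2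
  rw [← map_mk_maximalIdeal A I, ← Ideal.map_pow, Ideal.mem_quotient_iff_mem_sup]
  exact h2

/-- **Completion of a quotient**: `Cpl (A ⧸ I) ≅ (A ⧸ I) ⊗[A] Cpl A` as `A ⧸ I`-algebras. -/
theorem nonempty_cplQuotEquiv :
    Nonempty (EGA4.Cpl (A ⧸ I) ≃ₐ[A ⧸ I] (A ⧸ I) ⊗[A] EGA4.Cpl A) := by
  obtain ⟨e1⟩ := Groth.Agent.H87.ComplIso.nonempty_algEquiv (R := A ⧸ I)
    (maximalIdeal (A ⧸ I)) (nQS A I) (Algebra.ofId (A ⧸ I) (QS A I))
    (fun x hx => Ideal.mem_map_of_mem _ hx) (hsurj A I) (hinj A I)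
  haveI := isAdicComplete_QS A I
  let e2 : QS A I ≃ₐ[QS A I] AdicCompletion (nQS A I) (QS A I) :=
    AdicCompletion.ofAlgEquiv (nQS A I)
  let e2' : QS A I ≃ₐ[A ⧸ I] AdicCompletion (nQS A I) (QS A I) := e2.restrictScalars (A ⧸ I)
  let e3 : QS A I ≃ₐ[A ⧸ I] (A ⧸ I) ⊗[A] EGA4.Cpl A :=
    Algebra.TensorProduct.quotIdealMapEquivQuotTensor (EGA4.Cpl A) I
  exact ⟨e1.trans (e2'.symm.trans e3)⟩

end Main

end Groth.Agent.H29.CplQuot
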