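import Mathlib
import Groth.Prelude.Def_EGA4b
import Groth.Agent.H87.ComplIso
import Groth.Agent.H87.ComplFlat
import Groth.Agent.H29.CplQuot

/-!
# Completion of a finite algebra over a Noetherian local ring (helper29)

For a Noetherian local ring `A` and a finite `A`-algebra `C`, the completion of `C` with respect to
its Jacobson radical is `C ⊗[A] Cpl A`.
-/

set_option autoImplicit false
set_option maxHeartbeats 400000
set_option linter.style.haveILetI false
set_option linter.unusedVariables false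
set_option linter.unusedSectionVars false

universe u

open IsLocalRing TensorProduct

namespace Groth.Agent.H29.CplFinite

section General

/-- Adic completeness only depends on the topology: if `I ≤ J` and `J ^ N ≤ I`. -/
theorem isAdicComplete_of_pow_le {R : Type*} [CommRing R] {I J : Ideal R} (hIJ : I ≤ J) (N : ℕ)
    (hJI : J ^ N ≤ I) [hc : IsAdicComplete I R] : IsAdicComplete J R := by
  have hpow : ∀ n : ℕ, J ^ ((N + 1) * n) ≤ I ^ n := fun n => by
    rw [pow_mul]
    exact Ideal.pow_right_mono ((Ideal.pow_le_pow_right (Nat.le_succ N)).trans hJI) n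
  have hIJn : ∀ n : ℕ, I ^ n ≤ J ^ n := fun n => Ideal.pow_right_mono hIJ n
  have hH : IsHausdorff J R := by
    refine ⟨fun x hx => ?_⟩
    refine IsHausdorff.haus hc.toIsHausdorff x (fun n => ?_)
    have h1 := hx ((N + 1) * n)
    rw [SModEq.sub_mem, smul_eq_mul, Ideal.mul_top] at h1 ⊢
    exact hpow n h1
  have hP : IsPrecomplete J R := by
    refine ⟨fun f hf => ?_⟩
    have hg : ∀ {m n : ℕ}, m ≤ n →
        f ((N + 1) * m) ≡ f ((N + 1) * n) [SMOD (I ^ m • ⊤ : Submodule R R)] := by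
      intro m n hmn
      have h1 := hf (Nat.mul_le_mul_left (N + 1) hmn)
      rw [SModEq.sub_mem, smul_eq_mul, Ideal.mul_top] at h1 ⊢
      exact hpow m h1
    obtain ⟨L, hL⟩ := IsPrecomplete.prec hc.toIsPrecomplete hg
    refine ⟨L, fun n => ?_⟩
    have h1 := hL n
    have h2 := hf (show n ≤ (N + 1) * n by nlinarith)
    rw [SModEq.sub_mem, smul_eq_mul, Ideal.mul_top] at h1 h2 ⊢
    have h3 : f n - L = (f n - f ((N + 1) * n)) + (f ((N + 1) * n) - L) := by ring
    rw [h3]
    exact add_mem h2 (hIJn n h1)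
  exact { toIsHausdorff := hH, toIsPrecomplete := hP }

variable {R : Type u} [CommRing R] (I : Ideal R) {M N : Type u} [AddCommGroup M] [Module R M]
  [AddCommGroup N] [Module R N]

theorem isHausdorff_of_injective (f : M →ₗ[R] N) (hf : Function.Injective f)
    [hN : IsHausdorff I N] : IsHausdorff I M := by
  refine ⟨fun x hx => hf ?_⟩
  rw [map_zero]
  refine IsHausdorff.haus hN (f x) (fun n => ?_)
  have h1 := hx n
  rw [SModEq.sub_mem, sub_zero] at h1 ⊢
  have h2 : f x ∈ (I ^ n • ⊤ : Submodule R M).map f := Submodule.mem_map_of_mem h1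
  rw [Submodule.map_smul''] at h2
  exact Submodule.smul_mono le_rfl le_top h2

theorem isAdicComplete_of_linearEquiv (e : M ≃ₗ[R] N) [hN : IsAdicComplete I N] :
    IsAdicComplete I M := by
  haveI : IsHausdorff I M := isHausdorff_of_injective I e.toLinearMap e.injective
  haveI : IsPrecomplete I M :=
    Groth.Agent.H29.CplQuot.isPrecomplete_of_surjective I e.symm.toLinearMap e.symm.surjective
  exact {}

end General

section Main

variable (A : Type u) [CommRing A] [IsNoetherianRing A] [IsLocalRing A]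
  (C : Type u) [CommRing C] [Algebra A C] [Module.Finite A C]

theorem map_maximalIdeal_le_jacobson :
    (maximalIdeal A).map (algebraMap A C) ≤ (⊥ : Ideal C).jacobson := by
  rw [Ideal.jacobson, le_sInf_iff]
  rintro M ⟨-, hM⟩
  haveI := hM
  haveI : Algebra.IsIntegral A C := Algebra.IsIntegral.of_finite A C
  haveI hmax : (M.comap (algebraMap A C)).IsMaximal :=
    Ideal.isMaximal_comap_of_isIntegral_of_isMaximal (R := A) M
  rw [Ideal.map_le_iff_le_comap, ← IsLocalRing.eq_maximalIdeal hmax]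

theorem exists_jacobson_pow_le :
    ∃ N : ℕ, ((⊥ : Ideal C).jacobson) ^ N ≤ (maximalIdeal A).map (algebraMap A C) := by
  letI := Ideal.Quotient.field (maximalIdeal A)
  haveI : IsArtinianRing (C ⧸ (maximalIdeal A).map (algebraMap A C)) :=
    IsArtinianRing.of_finite (A ⧸ maximalIdeal A) _
  obtain ⟨N, hN⟩ := IsArtinianRing.isNilpotent_jacobson_bot
    (R := C ⧸ (maximalIdeal A).map (algebraMap A C))
  refine ⟨N, ?_⟩
  have h1 : ((maximalIdeal A).map (algebraMap A C)).jacobson = (⊥ : Ideal C).jacobson := by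
    apply le_antisymm
    · calc ((maximalIdeal A).map (algebraMap A C)).jacobson
          ≤ ((⊥ : Ideal C).jacobson).jacobson :=
            Ideal.jacobson_mono (map_maximalIdeal_le_jacobson A C)
        _ = (⊥ : Ideal C).jacobson := Ideal.jacobson_idem
    · exact Ideal.jacobson_mono bot_le
  have h2 : Ideal.map (Ideal.Quotient.mk ((maximalIdeal A).map (algebraMap A C)))
      ((maximalIdeal A).map (algebraMap A C)).jacobson =
      (⊥ : Ideal (C ⧸ (maximalIdeal A).map (algebraMap A C))).jacobson := by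
    rw [Ideal.map_jacobson_of_surjective Ideal.Quotient.mk_surjective (by rw [Ideal.mk_ker]),
      Ideal.map_quotient_self]
  rw [← h2, h1, ← Ideal.map_pow, Ideal.zero_eq_bot, Ideal.map_eq_bot_iff_le_ker,
    Ideal.mk_ker] at hN
  exact hN

/-- the extension of the Jacobson radical of `C` to `C ⊗[A] Â` -/
noncomputable abbrev JS : Ideal (C ⊗[A] EGA4.Cpl A) :=
  ((⊥ : Ideal C).jacobson).map (algebraMap C (C ⊗[A] EGA4.Cpl A))

theorem isAdicComplete_tensor_module :
    IsAdicComplete (maximalIdeal A) (C ⊗[A] EGA4.Cpl A) := by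
  haveI : IsAdicComplete (maximalIdeal A) (AdicCompletion (maximalIdeal A) C) :=
    AdicCompletion.isAdicComplete (maximalIdeal A).fg_of_isNoetherianRing
  exact isAdicComplete_of_linearEquiv (maximalIdeal A)
    ((TensorProduct.comm A C (EGA4.Cpl A)).trans
      ((AdicCompletion.ofTensorProductEquivOfFiniteNoetherian (maximalIdeal A) C).restrictScalars A))

theorem isAdicComplete_tensor_map :
    IsAdicComplete (((maximalIdeal A).map (algebraMap A C)).map
      (algebraMap C (C ⊗[A] EGA4.Cpl A))) (C ⊗[A] EGA4.Cpl A) := by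
  have h1 : IsAdicComplete ((maximalIdeal A).map (algebraMap A (C ⊗[A] EGA4.Cpl A)))
      (C ⊗[A] EGA4.Cpl A) :=
    (IsAdicComplete.map_algebraMap_iff (I := maximalIdeal A) (S := C ⊗[A] EGA4.Cpl A)
      (M := C ⊗[A] EGA4.Cpl A)).2 (isAdicComplete_tensor_module A C)
  rwa [Ideal.map_map, ← IsScalarTower.algebraMap_eq]

theorem isAdicComplete_JS : IsAdicComplete (JS A C) (C ⊗[A] EGA4.Cpl A) := by
  obtain ⟨N, hN⟩ := exists_jacobson_pow_le A C
  haveI := isAdicComplete_tensor_map A C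
  refine isAdicComplete_of_pow_le (Ideal.map_mono (map_maximalIdeal_le_jacobson A C)) N ?_
  rw [← Ideal.map_pow]
  exact Ideal.map_mono hN

theorem map_pow_le_JS_pow (n : ℕ) :
    (maximalIdeal A ^ n).map (algebraMap A (C ⊗[A] EGA4.Cpl A)) ≤ (JS A C) ^ n := by
  rw [Ideal.map_pow, IsScalarTower.algebraMap_eq A C (C ⊗[A] EGA4.Cpl A), ← Ideal.map_map]
  exact Ideal.pow_right_mono (Ideal.map_mono (map_maximalIdeal_le_jacobson A C)) n

theorem tmul_mem_map (n : ℕ) (c : C) (x : EGA4.Cpl A)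
    (hx : x ∈ (maximalIdeal A ^ n).map (algebraMap A (EGA4.Cpl A))) :
    c ⊗ₜ[A] x ∈ (maximalIdeal A ^ n).map (algebraMap A (C ⊗[A] EGA4.Cpl A)) := by
  let ι : EGA4.Cpl A →+* C ⊗[A] EGA4.Cpl A :=
    (Algebra.TensorProduct.includeRight : EGA4.Cpl A →ₐ[A] C ⊗[A] EGA4.Cpl A).toRingHom
  have h1 : ι x ∈ ((maximalIdeal A ^ n).map (algebraMap A (EGA4.Cpl A))).map ι :=
    Ideal.mem_map_of_mem _ hx
  rw [Ideal.map_map] at h1
  have h2 : ι.comp (algebraMap A (EGA4.Cpl A)) = algebraMap A (C ⊗[A] EGA4.Cpl A) :=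
    (Algebra.TensorProduct.includeRight : EGA4.Cpl A →ₐ[A] C ⊗[A] EGA4.Cpl A).comp_algebraMap
  rw [h2] at h1
  have h3 : c ⊗ₜ[A] x = (c ⊗ₜ[A] (1 : EGA4.Cpl A)) * ι x := by
    show c ⊗ₜ[A] x = (c ⊗ₜ[A] (1 : EGA4.Cpl A)) * ((1 : C) ⊗ₜ[A] x)
    rw [Algebra.TensorProduct.tmul_mul_tmul, mul_one, one_mul]
  rw [h3]
  exact Ideal.mul_mem_left _ _ h1

theorem hsurj (n : ℕ) (s : C ⊗[A] EGA4.Cpl A) :
    ∃ c : C, s - Algebra.ofId C (C ⊗[A] EGA4.Cpl A) c ∈ (JS A C) ^ n := by
  suffices h : ∃ c : C, s - Algebra.ofId C (C ⊗[A] EGA4.Cpl A) c ∈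
      (maximalIdeal A ^ n).map (algebraMap A (C ⊗[A] EGA4.Cpl A)) by
    obtain ⟨c, hc⟩ := h
    exact ⟨c, map_pow_le_JS_pow A C n hc⟩
  induction s with
  | zero => exact ⟨0, by simp⟩
  | add x y hx hy =>
    obtain ⟨c₁, h₁⟩ := hx
    obtain ⟨c₂, h₂⟩ := hy
    refine ⟨c₁ + c₂, ?_⟩
    have : x + y - Algebra.ofId C (C ⊗[A] EGA4.Cpl A) (c₁ + c₂) =
        (x - Algebra.ofId C (C ⊗[A] EGA4.Cpl A) c₁) +
        (y - Algebra.ofId C (C ⊗[A] EGA4.Cpl A) c₂) := by
      rw [map_add]; ring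
    rw [this]
    exact add_mem h₁ h₂
  | tmul c r =>
    obtain ⟨a, ha⟩ := Groth.Agent.H87.ComplFlat.exists_sub_mem_map_pow (maximalIdeal A)
      (maximalIdeal A).fg_of_isNoetherianRing n r
    refine ⟨a • c, ?_⟩
    have h1 : c ⊗ₜ[A] r - Algebra.ofId C (C ⊗[A] EGA4.Cpl A) (a • c) =
        c ⊗ₜ[A] (r - algebraMap A (EGA4.Cpl A) a) := by
      rw [Algebra.ofId_apply, Algebra.TensorProduct.algebraMap_apply, Algebra.algebraMap_self,
        RingHom.id_apply, tmul_sub, Algebra.algebraMap_eq_smul_one, TensorProduct.tmul_smul,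
        TensorProduct.smul_tmul']
    rw [h1]
    exact tmul_mem_map A C n c _ ha

instance : Module.FaithfullyFlat A (EGA4.Cpl A) := by
  haveI : Module.Flat A (EGA4.Cpl A) := AdicCompletion.flat_of_isNoetherian (maximalIdeal A)
  exact Module.FaithfullyFlat.of_flat_of_isLocalHom

theorem hinj (n : ℕ) (c : C)
    (hc : Algebra.ofId C (C ⊗[A] EGA4.Cpl A) c ∈ (JS A C) ^ n) :
    c ∈ ((⊥ : Ideal C).jacobson) ^ n := by
  rw [← Ideal.map_pow] at hc
  have h2 : c ∈ ((((⊥ : Ideal C).jacobson) ^ n).map (algebraMap C (C ⊗[A] EGA4.Cpl A))).comap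
      (algebraMap C (C ⊗[A] EGA4.Cpl A)) := hc
  rwa [Ideal.comap_map_eq_self_of_faithfullyFlat] at h2

/-- **Completion of a finite algebra**: for `C` finite over the Noetherian local ring `A`, the
completion of `C` along its Jacobson radical is `C ⊗[A] Cpl A`. -/
theorem nonempty_cplFiniteEquiv :
    Nonempty (AdicCompletion ((⊥ : Ideal C).jacobson) C ≃ₐ[C] C ⊗[A] EGA4.Cpl A) := by
  obtain ⟨e1⟩ := Groth.Agent.H87.ComplIso.nonempty_algEquiv (R := C)
    ((⊥ : Ideal C).jacobson) (JS A C) (Algebra.ofId C (C ⊗[A] EGA4.Cpl A))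
    (fun x hx => Ideal.mem_map_of_mem _ hx) (hsurj A C) (hinj A C)
  haveI := isAdicComplete_JS A C
  let e2 : C ⊗[A] EGA4.Cpl A ≃ₐ[C ⊗[A] EGA4.Cpl A]
      AdicCompletion (JS A C) (C ⊗[A] EGA4.Cpl A) :=
    AdicCompletion.ofAlgEquiv (JS A C)
  let e2' : C ⊗[A] EGA4.Cpl A ≃ₐ[C] AdicCompletion (JS A C) (C ⊗[A] EGA4.Cpl A) :=
    e2.restrictScalars C
  exact ⟨e1.trans e2'.symm⟩

end Main

end Groth.Agent.H29.CplFinite
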