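import Groth.Agent.H29.Depth
import Groth.Agent.H15.Depth
import Mathlib.RingTheory.KrullDimension.Regular
import Mathlib.RingTheory.KrullDimension.NonZeroDivisors
import Mathlib.RingTheory.Ideal.KrullsHeightTheorem

set_option autoImplicit false
universe u v

namespace Groth.Agent.H29.CM

open Groth.Agent.H15.Depth IsLocalRing
open scoped Pointwise

section General

variable {A : Type u} [CommRing A]

theorem mem_support_of_mem_associatedPrimes [IsNoetherianRing A] {M : Type v} [AddCommGroup M]
    [Module A M] {p : Ideal A} (hp : p ∈ associatedPrimes A M) :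
    (⟨p, hp.isPrime⟩ : PrimeSpectrum A) ∈ Module.support A M := by
  obtain ⟨-, m₀, hm₀⟩ := (isAssociatedPrime_iff (M := M)).mp hp
  rw [Module.mem_support_iff_exists_annihilator]
  refine ⟨m₀, fun a ha => ?_⟩
  change a ∈ p
  rw [hm₀, Submodule.mem_colon_singleton, Submodule.mem_bot]
  exact (Submodule.mem_annihilator_span_singleton _ _).1 ha

theorem ringKrullDim_quotient_le_supportDim {M : Type v} [AddCommGroup M] [Module A M]
    (p : PrimeSpectrum A) (hp : p ∈ Module.support A M) :
    ringKrullDim (A ⧸ p.asIdeal) ≤ Module.supportDim A M := by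
  rw [ringKrullDim_quotient]
  refine Order.krullDim_le_of_strictMono
    (fun q : PrimeSpectrum.zeroLocus (R := A) (p.asIdeal : Set A) =>
      (⟨q.1, Module.mem_support_mono (p := p) (q := q.1) q.2 hp⟩ : Module.support A M))
    (fun _ _ h => h)

theorem ringKrullDim_quotient_succ_le_of_lt {p q : Ideal A} [p.IsPrime] (hpq : p ≤ q) {x : A}
    (hxq : x ∈ q) (hxp : x ∉ p) : ringKrullDim (A ⧸ q) + 1 ≤ ringKrullDim (A ⧸ p) := by
  refine ringKrullDim_succ_le_of_surjective (Ideal.Quotient.factor hpq)
    (Ideal.Quotient.factor_surjective hpq) (r := Ideal.Quotient.mk p x) ?_ ?_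
  · apply mem_nonZeroDivisors_of_ne_zero
    rwa [Ne, Ideal.Quotient.eq_zero_iff_mem]
  · rw [Ideal.Quotient.factor_mk, Ideal.Quotient.eq_zero_iff_mem]
    exact hxq

theorem withBot_enat_le_of_forall_nat {d : ℕ∞} {D : WithBot ℕ∞}
    (h : ∀ n : ℕ, (n : ℕ∞) ≤ d → ((n : ℕ∞) : WithBot ℕ∞) ≤ D) : (d : WithBot ℕ∞) ≤ D := by
  induction D using WithBot.recBotCoe with
  | bot =>
    have := h 0 (zero_le)
    simp at this
  | coe D' =>
    rw [WithBot.coe_le_coe]
    rw [← ENat.forall_natCast_le_iff_le]
    intro n hn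
    exact WithBot.coe_le_coe.1 (h n hn)

end General

section Local

variable {A : Type u} [CommRing A] [IsLocalRing A] [IsNoetherianRing A]

theorem not_mem_of_mem_associatedPrimes_of_isSMulRegular {M : Type v} [AddCommGroup M] [Module A M]
    {x : A} (hreg : IsSMulRegular M x) {p : Ideal A} (hp : p ∈ associatedPrimes A M) : x ∉ p := by
  intro hxp
  obtain ⟨hpp, m₀, hm₀⟩ := (isAssociatedPrime_iff (M := M)).mp hp
  have hm₀0 : m₀ ≠ 0 := by
    rintro rfl
    apply hpp.ne_top
    rw [Ideal.eq_top_iff_one, hm₀, Submodule.mem_colon_singleton]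
    simp
  rw [hm₀, Submodule.mem_colon_singleton, Submodule.mem_bot] at hxp
  exact hm₀0 (hreg.right_eq_zero_of_smul hxp)

/-- An associated prime of `M` is contained in an associated prime of `M/xM` containing `x`. -/
theorem exists_mem_associatedPrimes_quotSMulTop {M : Type v} [AddCommGroup M] [Module A M]
    [Module.Finite A M] {x : A} (hx : x ∈ maximalIdeal A) (hreg : IsSMulRegular M x) {p : Ideal A}
    (hp : p ∈ associatedPrimes A M) :
    ∃ q ∈ associatedPrimes A (QuotSMulTop x M), p ≤ q ∧ x ∈ q := by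
  obtain ⟨hpp, m₀, hm₀⟩ := (isAssociatedPrime_iff (M := M)).mp hp
  have hm₀0 : m₀ ≠ 0 := by
    rintro rfl
    apply hpp.ne_top
    rw [Ideal.eq_top_iff_one, hm₀, Submodule.mem_colon_singleton]
    simp
  let N : Submodule A M :=
    { carrier := {m | ∀ a ∈ p, a • m = 0}
      add_mem' := fun {m m'} hm hm' a ha => by rw [smul_add, hm a ha, hm' a ha, add_zero]
      zero_mem' := fun a _ => smul_zero a
      smul_mem' := fun c m hm a ha => by rw [smul_comm, hm a ha, smul_zero] }
  have hN : ∀ m, m ∈ N ↔ ∀ a ∈ p, a • m = 0 := fun m => Iff.rfl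
  have hm₀N : m₀ ∈ N := by
    intro a ha
    rw [hm₀, Submodule.mem_colon_singleton, Submodule.mem_bot] at ha
    exact ha
  have hex : ∃ m ∈ N, m ∉ (x • (⊤ : Submodule A M)) := by
    by_contra hcon
    push_neg at hcon
    have hle : N ≤ Ideal.span {x} • N := by
      intro n hn
      obtain ⟨m', -, rfl⟩ := (Submodule.mem_smul_pointwise_iff_exists _ _ _).1 (hcon n hn)
      have hm'N : m' ∈ N := by
        intro a ha
        have h1 := hn a ha
        rw [smul_comm] at h1
        exact hreg.right_eq_zero_of_smul h1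
      exact Submodule.smul_mem_smul (Ideal.mem_span_singleton_self x) hm'N
    have hN0 : N = ⊥ := Submodule.eq_bot_of_le_smul_of_le_jacobson_bot (Ideal.span {x}) N
      (IsNoetherian.noetherian N) hle (by
        rw [Ideal.span_singleton_le_iff_mem]
        exact IsLocalRing.maximalIdeal_le_jacobson _ hx)
    rw [hN0, Submodule.mem_bot] at hm₀N
    exact hm₀0 hm₀N
  obtain ⟨m, hmN, hmx⟩ := hex
  have hy : (Submodule.Quotient.mk m : QuotSMulTop x M) ≠ 0 := by
    rwa [Ne, Submodule.Quotient.mk_eq_zero]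
  obtain ⟨q, hq, hle⟩ := exists_le_isAssociatedPrime_of_isNoetherianRing A
    (Submodule.Quotient.mk m : QuotSMulTop x M) hy
  refine ⟨q, hq, fun a ha => hle ?_, hle ?_⟩
  · rw [Submodule.mem_colon_singleton, Submodule.mem_bot, ← Submodule.Quotient.mk_smul, hmN a ha,
      Submodule.Quotient.mk_zero]
  · rw [Submodule.mem_colon_singleton, Submodule.mem_bot, ← Submodule.Quotient.mk_smul,
      Submodule.Quotient.mk_eq_zero]
    exact Submodule.smul_mem_pointwise_smul m x ⊤ Submodule.mem_top

theorem hasSeq_le_ringKrullDim_quotient (n : ℕ) :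
    ∀ (M : Type v) [AddCommGroup M] [Module A M] [Module.Finite A M],
      HasSeq (maximalIdeal A) M n → ∀ p ∈ associatedPrimes A M,
        ((n : ℕ∞) : WithBot ℕ∞) ≤ ringKrullDim (A ⧸ p) := by
  induction n with
  | zero =>
    intro M _ _ _ _ p hp
    haveI := hp.isPrime
    haveI : Nontrivial (A ⧸ p) := Ideal.Quotient.nontrivial_iff.2 hp.isPrime.ne_top
    exact ringKrullDim_nonneg_of_nontrivial
  | succ n ih =>
    intro M _ _ _ h p hp
    haveI := hp.isPrime
    obtain ⟨x, hx, hreg, h'⟩ := hasSeq_succ_iff.mp h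
    obtain ⟨q, hq, hpq, hxq⟩ := exists_mem_associatedPrimes_quotSMulTop hx hreg hp
    have hxp : x ∉ p := not_mem_of_mem_associatedPrimes_of_isSMulRegular hreg hp
    have h1 := ih (QuotSMulTop x M) h' q hq
    have h2 := ringKrullDim_quotient_succ_le_of_lt hpq hxq hxp
    calc (((n + 1 : ℕ) : ℕ∞) : WithBot ℕ∞) = ((n : ℕ∞) : WithBot ℕ∞) + 1 := by push_cast; rfl
      _ ≤ ringKrullDim (A ⧸ q) + 1 := by gcongr
      _ ≤ ringKrullDim (A ⧸ p) := h2

theorem depth_le_ringKrullDim_quotient {M : Type v} [AddCommGroup M] [Module A M]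
    [Module.Finite A M] {p : Ideal A} (hp : p ∈ associatedPrimes A M) :
    ((LocCoh.depth A M : ℕ∞) : WithBot ℕ∞) ≤ ringKrullDim (A ⧸ p) := by
  haveI : Nontrivial M := by
    by_contra hM
    rw [not_nontrivial_iff_subsingleton] at hM
    exact not_isAssociatedPrime_of_subsingleton hp
  have hmM := Groth.Agent.H29.maximalIdeal_smul_top_ne_top A M
  apply withBot_enat_le_of_forall_nat
  intro n hn
  have hseq : HasSeq (maximalIdeal A) M n := (le_idealDepth_iff hmM n).1 hn
  exact hasSeq_le_ringKrullDim_quotient n M hseq p hp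

theorem depth_le_supportDim {M : Type v} [AddCommGroup M] [Module A M] [Module.Finite A M]
    [Nontrivial M] : ((LocCoh.depth A M : ℕ∞) : WithBot ℕ∞) ≤ Module.supportDim A M := by
  obtain ⟨p, hp⟩ := associatedPrimes.nonempty A M
  exact (depth_le_ringKrullDim_quotient hp).trans
    (ringKrullDim_quotient_le_supportDim ⟨p, hp.isPrime⟩ (mem_support_of_mem_associatedPrimes hp))

theorem supportDim_lt_top {M : Type v} [AddCommGroup M] [Module A M] :
    Module.supportDim A M < ⊤ :=
  lt_of_le_of_lt (Module.supportDim_le_ringKrullDim A M) ringKrullDim_lt_top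

/-- For a nonzero finite module over a Noetherian local ring the dimension is a natural number. -/
theorem exists_nat_supportDim {M : Type v} [AddCommGroup M] [Module A M] [Nontrivial M] :
    ∃ d : ℕ, Module.supportDim A M = ((d : ℕ∞) : WithBot ℕ∞) := by
  have h1 : Module.supportDim A M ≠ ⊥ := Module.supportDim_ne_bot_of_nontrivial A M
  have h2 : Module.supportDim A M < ⊤ := supportDim_lt_top
  obtain ⟨e, he⟩ := WithBot.ne_bot_iff_exists.1 h1
  rw [← he] at h2 ⊢
  have h3 : e ≠ ⊤ := by
    rintro rfl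
    exact lt_irrefl _ h2
  obtain ⟨d, rfl⟩ := ENat.ne_top_iff_exists.1 h3
  exact ⟨d, rfl⟩

theorem exists_nat_depth {M : Type v} [AddCommGroup M] [Module A M] [Module.Finite A M]
    [Nontrivial M] : ∃ k : ℕ, LocCoh.depth A M = (k : ℕ∞) := by
  obtain ⟨d, hd⟩ := exists_nat_supportDim (A := A) (M := M)
  have h := depth_le_supportDim (A := A) (M := M)
  rw [hd, WithBot.coe_le_coe] at h
  have h3 : LocCoh.depth A M ≠ ⊤ := by
    intro h4
    rw [h4] at h
    exact absurd h (by simp)
  obtain ⟨k, hk⟩ := ENat.ne_top_iff_exists.1 h3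
  exact ⟨k, hk.symm⟩

/-- S5757: a Cohen-Macaulay module is unmixed. -/
theorem ringKrullDim_quotient_eq_supportDim_of_isCM {M : Type v} [AddCommGroup M] [Module A M]
    [Module.Finite A M] (hM : LocCoh.IsCohenMacaulayModule A M) {p : Ideal A}
    (hp : p ∈ associatedPrimes A M) : ringKrullDim (A ⧸ p) = Module.supportDim A M := by
  apply le_antisymm
  · exact ringKrullDim_quotient_le_supportDim ⟨p, hp.isPrime⟩ (mem_support_of_mem_associatedPrimes hp)
  · rw [hM]
    exact depth_le_ringKrullDim_quotient hp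

end Local

end Groth.Agent.H29.CM
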