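import Groth.Prelude.Def_CAlg
import Mathlib.RingTheory.Ideal.AssociatedPrime.Basic
import Mathlib.RingTheory.Ideal.AssociatedPrime.Finiteness
import Mathlib.RingTheory.Regular.IsSMulRegular
import Mathlib.RingTheory.Nakayama

set_option autoImplicit false
universe u v

namespace Groth.Agent.H29

open RingTheory.Sequence

/-- Depth zero, unfolded. -/
theorem depth_eq_zero_iff (A : Type u) [CommRing A] [IsLocalRing A] (M : Type v) [AddCommGroup M]
    [Module A M] :
    LocCoh.depth A M = 0 ↔
      IsLocalRing.maximalIdeal A • (⊤ : Submodule A M) ≠ ⊤ ∧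
        ∀ r ∈ IsLocalRing.maximalIdeal A, ¬ IsSMulRegular M r := by
  unfold LocCoh.depth LocCoh.idealDepth
  split_ifs with h
  · simp [h]
  · simp only [ne_eq, h, not_false_eq_true, true_and]
    constructor
    · intro h0 r hr hreg
      have h1 : ((([r] : List A).length : ℕ) : ℕ∞) ≤ 0 := by
        rw [← h0]
        exact le_iSup₂_of_le [r] ⟨(isWeaklyRegular_singleton_iff M r).mpr hreg,
          by simpa using hr⟩ le_rfl
      simp at h1
    · intro h0
      apply le_antisymm _ zero_le
      apply iSup₂_le
      rintro rs ⟨hrs, hmem⟩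
      cases rs with
      | nil => simp
      | cons r rs =>
        exfalso
        exact h0 r (hmem r (by simp)) ((isWeaklyRegular_cons_iff M r rs).mp hrs).1

/-- No element of the maximal ideal is regular iff the maximal ideal is an associated prime. -/
theorem forall_not_isSMulRegular_iff_mem_associatedPrimes (A : Type u) [CommRing A] [IsLocalRing A]
    [IsNoetherianRing A] (M : Type v) [AddCommGroup M] [Module A M] [Module.Finite A M] :
    (∀ r ∈ IsLocalRing.maximalIdeal A, ¬ IsSMulRegular M r) ↔
      IsLocalRing.maximalIdeal A ∈ associatedPrimes A M := by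
  constructor
  · intro h
    have hsub : ((IsLocalRing.maximalIdeal A : Ideal A) : Set A) ⊆
        ⋃ p ∈ (((associatedPrimes.finite A M).toFinset : Finset (Ideal A)) : Set (Ideal A)), (p : Set A) := by
      intro r hr
      have : r ∈ ⋃ p ∈ associatedPrimes A M, (p : Set A) := by
        rw [biUnion_associatedPrimes_eq_compl_regular A M]
        exact h r hr
      simpa using this
    obtain ⟨p, hp, hle⟩ := (Ideal.subset_union_prime (f := fun p : Ideal A => p) ⊥ ⊥
      (fun i hi _ _ => by
        have : i ∈ associatedPrimes A M := by simpa using hi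
        exact this.isPrime)).mp hsub
    have hp' : p ∈ associatedPrimes A M := by simpa using hp
    have hpp : p.IsPrime := hp'.isPrime
    have : p = IsLocalRing.maximalIdeal A :=
      le_antisymm (IsLocalRing.le_maximalIdeal hpp.ne_top) hle
    rwa [← this]
  · intro h r hr hreg
    obtain ⟨-, x, hx⟩ := (isAssociatedPrime_iff (M := M)).mp h
    have hx0 : x ≠ 0 := by
      rintro rfl
      have : (1 : A) ∈ IsLocalRing.maximalIdeal A := by
        rw [hx]; simp [Submodule.mem_colon_singleton]
      exact (IsLocalRing.maximalIdeal.isMaximal A).ne_top ((Ideal.eq_top_iff_one _).mpr this)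
    rw [hx] at hr
    have hrx : r • x = 0 := by simpa [Submodule.mem_colon_singleton] using hr
    exact hx0 (hreg.right_eq_zero_of_smul hrx)

/-- Nakayama: a nonzero finite module over a local ring is not `m M`. -/
theorem maximalIdeal_smul_top_ne_top (A : Type u) [CommRing A] [IsLocalRing A]
    (M : Type v) [AddCommGroup M] [Module A M] [Module.Finite A M] [Nontrivial M] :
    IsLocalRing.maximalIdeal A • (⊤ : Submodule A M) ≠ ⊤ := by
  intro h
  have := Submodule.eq_bot_of_le_smul_of_le_jacobson_bot (IsLocalRing.maximalIdeal A)
    (⊤ : Submodule A M) Module.Finite.fg_top (le_of_eq h.symm)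
    (IsLocalRing.maximalIdeal_le_jacobson _)
  exact top_ne_bot this

end Groth.Agent.H29
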