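import Groth.Agent.H29.CM2
import Groth.Agent.H15.DepthLoc
import Mathlib.RingTheory.Regular.Flat

set_option autoImplicit false
universe u v

namespace Groth.Agent.H29.CM

open Groth.Agent.H15.Depth IsLocalRing RingTheory.Sequence
open scoped Pointwise

section General

variable {R : Type u} [CommRing R]

/-- Regular sequences inside `I ≤ p` localize to regular sequences in the maximal ideal of `R_p`. -/
theorem hasSeq_atPrime {M : Type v} [AddCommGroup M] [Module R M] {I : Ideal R} (p : Ideal R)
    [p.IsPrime] (hIp : I ≤ p) {n : ℕ} (h : HasSeq I M n) :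
    HasSeq (maximalIdeal (Localization.AtPrime p)) (LocalizedModule p.primeCompl M) n := by
  obtain ⟨rs, hw, hI, hl⟩ := h
  refine ⟨rs.map (algebraMap R (Localization.AtPrime p)),
    hw.of_isLocalizedModule (Localization.AtPrime p) p.primeCompl
      (LocalizedModule.mkLinearMap p.primeCompl M), ?_, by simp [hl]⟩
  intro y hy
  obtain ⟨x, hx, rfl⟩ := List.mem_map.1 hy
  exact (IsLocalization.AtPrime.to_map_mem_maximal_iff _ p x).2 (hIp (hI x hx))

/-- If `I ≤ p` and `p` is in the support of the finite module `M` then `IM ≠ M`. -/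
theorem smul_top_ne_top_of_mem_support {M : Type v} [AddCommGroup M] [Module R M]
    [Module.Finite R M] {I : Ideal R} (p : PrimeSpectrum R) (hIp : I ≤ p.asIdeal)
    (hp : p ∈ Module.support R M) : I • (⊤ : Submodule R M) ≠ ⊤ := by
  intro h
  have hnt : Nontrivial (LocalizedModule p.asIdeal.primeCompl M) := Module.mem_support_iff.1 hp
  obtain ⟨r, hr, hr0⟩ := Submodule.exists_sub_one_mem_and_smul_eq_zero_of_fg_of_le_smul I
    (⊤ : Submodule R M) Module.Finite.fg_top (le_of_eq h.symm)
  have hrp : r ∉ p.asIdeal := by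
    intro hrp
    apply p.isPrime.ne_top
    rw [Ideal.eq_top_iff_one]
    have h1 : r - (r - 1) ∈ p.asIdeal := Ideal.sub_mem _ hrp (hIp hr)
    simpa using h1
  have hsub : Subsingleton (LocalizedModule p.asIdeal.primeCompl M) := by
    rw [LocalizedModule.subsingleton_iff]
    intro m
    exact ⟨r, hrp, hr0 m Submodule.mem_top⟩
  exact not_subsingleton _ hsub

theorem exists_le_mem_associatedPrimes_of_forall_not_isSMulRegular [IsNoetherianRing R]
    {N : Type v} [AddCommGroup N] [Module R N] [Module.Finite R N] [Nontrivial N] {I : Ideal R}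
    (h : ∀ x ∈ I, ¬ IsSMulRegular N x) : ∃ q ∈ associatedPrimes R N, I ≤ q := by
  rcases associatedPrimes.nonempty R N with ⟨Ia, hIa⟩
  apply (Ideal.subset_union_prime_finite (associatedPrimes.finite R N) Ia Ia _).mp
  · rw [biUnion_associatedPrimes_eq_compl_regular R N]
    exact fun r hr ↦ h r hr
  · exact fun I hin _ _ ↦ IsAssociatedPrime.isPrime hin

/-- S18724: `depth_I M ≤ dim M_p` for `p ⊇ I` in the support of `M`. -/
theorem idealDepth_le_supportDim_atPrime [IsNoetherianRing R] {M : Type u} [AddCommGroup M]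
    [Module R M] [Module.Finite R M] (I : Ideal R) (p : PrimeSpectrum R) (hIp : I ≤ p.asIdeal)
    (hp : p ∈ Module.support R M) :
    ((LocCoh.idealDepth I M : ℕ∞) : WithBot ℕ∞) ≤
      Module.supportDim (Localization.AtPrime p.asIdeal)
        (LocalizedModule p.asIdeal.primeCompl M) := by
  haveI := p.isPrime
  haveI hnt : Nontrivial (LocalizedModule p.asIdeal.primeCompl M) := Module.mem_support_iff.1 hp
  have hIM := smul_top_ne_top_of_mem_support p hIp hp
  apply withBot_enat_le_of_forall_nat
  intro n hn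
  have hseq := hasSeq_atPrime p.asIdeal hIp ((le_idealDepth_iff hIM n).1 hn)
  have h1 : (n : ℕ∞) ≤ LocCoh.depth (Localization.AtPrime p.asIdeal)
      (LocalizedModule p.asIdeal.primeCompl M) := le_idealDepth_of_hasSeq hseq
  exact (WithBot.coe_le_coe.2 h1).trans depth_le_supportDim

end General

section Local

variable {A : Type u} [CommRing A] [IsLocalRing A] [IsNoetherianRing A]

theorem smul_top_ne_top_of_le_maximalIdeal {M : Type v} [AddCommGroup M] [Module A M]
    [Module.Finite A M] [Nontrivial M] {I : Ideal A} (hI : I ≤ maximalIdeal A) :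
    I • (⊤ : Submodule A M) ≠ ⊤ :=
  fun h => Groth.Agent.H29.maximalIdeal_smul_top_ne_top A M
    (top_le_iff.1 (h.symm.le.trans (Submodule.smul_mono_left hI)))

theorem idealDepth_le_depth {M : Type v} [AddCommGroup M] [Module A M] [Module.Finite A M]
    [Nontrivial M] {I : Ideal A} (hI : I ≤ maximalIdeal A) :
    LocCoh.idealDepth I M ≤ LocCoh.depth A M := by
  have hmM := Groth.Agent.H29.maximalIdeal_smul_top_ne_top A M
  have hIM := smul_top_ne_top_of_le_maximalIdeal (M := M) hI
  rw [← ENat.forall_natCast_le_iff_le]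
  intro n hn
  obtain ⟨rs, hw, hmem, hl⟩ := (le_idealDepth_iff hIM n).mp hn
  exact (le_idealDepth_iff hmM n).mpr ⟨rs, hw, fun r hr => hI (hmem r hr), hl⟩

/-- S0322: for a Cohen-Macaulay module, `dim M = dim M/IM + depth_I M`. -/
theorem supportDim_eq_add_idealDepth_of_isCM {M : Type v} [AddCommGroup M] [Module A M]
    [Module.Finite A M] (hM : LocCoh.IsCohenMacaulayModule A M) {I : Ideal A} (hI : I ≠ ⊤) :
    Module.supportDim A M = Module.supportDim A (M ⧸ (I • (⊤ : Submodule A M))) +
      ((LocCoh.idealDepth I M : ℕ∞) : WithBot ℕ∞) := by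
  haveI := nontrivial_of_isCM hM
  have hIm : I ≤ maximalIdeal A := IsLocalRing.le_maximalIdeal hI
  have hIM := smul_top_ne_top_of_le_maximalIdeal (M := M) hIm
  obtain ⟨k, hk⟩ := exists_nat_depth (A := A) (M := M)
  have hle := idealDepth_le_depth (M := M) hIm
  rw [hk] at hle
  have hne : LocCoh.idealDepth I M ≠ ⊤ := by
    intro h
    rw [h] at hle
    exact absurd hle (by simp)
  obtain ⟨r, hr⟩ := ENat.ne_top_iff_exists.1 hne
  obtain ⟨xs, hw, hxsI, hlen⟩ := (le_idealDepth_iff hIM r).1 (le_of_eq hr)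
  have hxs : ∀ x ∈ xs, x ∈ maximalIdeal A := fun x hx => hIm (hxsI x hx)
  obtain ⟨h1, h2⟩ := isWeaklyRegular_iff_of_isCM xs M hM hxs
  have hN := h2 hw
  have hdimN := h1.1 hw
  haveI := nontrivial_of_isCM hN
  -- no element of `I` is regular on `N`
  have hnoreg : ∀ y ∈ I, ¬ IsSMulRegular (M ⧸ (Ideal.ofList xs • (⊤ : Submodule A M))) y := by
    intro y hy hyreg
    have hw' : IsWeaklyRegular M (xs ++ [y]) :=
      (isWeaklyRegular_append_iff M xs [y]).2
        ⟨hw, (isWeaklyRegular_cons_iff _ y []).2 ⟨hyreg, IsWeaklyRegular.nil A _⟩⟩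
    have hseq : HasSeq I M (r + 1) := by
      refine ⟨xs ++ [y], hw', ?_, by simp [hlen]⟩
      intro z hz
      rcases List.mem_append.1 hz with hz | hz
      · exact hxsI z hz
      · rw [List.mem_singleton] at hz
        rw [hz]; exact hy
    have h3 := (le_idealDepth_iff hIM (r + 1)).2 hseq
    rw [← hr] at h3
    have h4 : r + 1 ≤ r := by exact_mod_cast h3
    omega
  obtain ⟨q, hq, hIq⟩ := exists_le_mem_associatedPrimes_of_forall_not_isSMulRegular hnoreg
  have hqdim := ringKrullDim_quotient_eq_supportDim_of_isCM hN hq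
  have hqN := mem_support_of_mem_associatedPrimes hq
  have hqM : (⟨q, hq.isPrime⟩ : PrimeSpectrum A) ∈
      Module.support A (M ⧸ (I • (⊤ : Submodule A M))) := by
    rw [Module.support_quotient]
    refine ⟨Module.support_subset_of_surjective _ (Submodule.mkQ_surjective _) hqN, ?_⟩
    rw [PrimeSpectrum.mem_zeroLocus]
    exact SetLike.coe_subset_coe.2 hIq
  have hge : Module.supportDim A (M ⧸ (Ideal.ofList xs • (⊤ : Submodule A M))) ≤
      Module.supportDim A (M ⧸ (I • (⊤ : Submodule A M))) := by
    rw [← hqdim]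
    exact ringKrullDim_quotient_le_supportDim ⟨q, hq.isPrime⟩ hqM
  have hle' : Ideal.ofList xs • (⊤ : Submodule A M) ≤ I • (⊤ : Submodule A M) :=
    Submodule.smul_mono_left (Ideal.span_le.2 (fun x hx => hxsI x hx))
  have hle2 : Module.supportDim A (M ⧸ (I • (⊤ : Submodule A M))) ≤
      Module.supportDim A (M ⧸ (Ideal.ofList xs • (⊤ : Submodule A M))) :=
    Module.supportDim_le_of_surjective (Submodule.factor hle') (Submodule.factor_surjective hle')
  rw [← hdimN, le_antisymm hge hle2, ← hr, hlen]
  rfl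

end Local

end Groth.Agent.H29.CM
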