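import Mathlib
import Groth.Prelude.Def_EGA4b
import Groth.Agent.H29.FlatDepth
import Groth.Agent.H57.RegFlat

/-!
# Depth of `N ⊗ M` along a flat local homomorphism (module version)

`depth_S (N ⊗_R M) = depth_R M + depth_S (N / m_R N)` for a local homomorphism `R → S` of Noetherian
local rings, `M` finite over `R`, `N` finite over `S` and flat over `R`.
-/

set_option autoImplicit false
set_option linter.style.haveILetI false
set_option maxHeartbeats 400000

universe u

open RingTheory.Sequence IsLocalRing TensorProduct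
open scoped Pointwise
open Groth.Agent.H15.Depth Groth.Agent.H15.DepthSpread

namespace Groth.Agent.H29.FlatDepthMod

theorem add_one_cancel {d : ℕ∞} {e : ℕ} (h : d + 1 = ((e + 1 : ℕ) : ℕ∞)) : d = e := by
  cases d using ENat.recTopCoe with
  | top =>
    exfalso
    rw [top_add] at h
    exact ENat.top_ne_coe _ h
  | coe n =>
    have h1 : n + 1 = e + 1 := by exact_mod_cast h
    exact_mod_cast Nat.succ_injective h1

theorem idealDepth_eq_zero_of_hasSocle {B : Type u} [CommRing B] {I : Ideal B} {X : Type u}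
    [AddCommGroup X] [Module B X] (hI : I • (⊤ : Submodule B X) ≠ ⊤) (h : HasSocle I X) :
    LocCoh.idealDepth I X = 0 := by
  by_contra hne
  have hpos : (0 : ℕ∞) < LocCoh.idealDepth I X := pos_iff_ne_zero.mpr hne
  have h1 : ((1 : ℕ) : ℕ∞) ≤ LocCoh.idealDepth I X := by
    simpa using Order.add_one_le_of_lt hpos
  obtain ⟨y, hy, hyreg, -⟩ := hasSeq_succ_iff.mp ((le_idealDepth_iff hI 1).mp h1)
  exact h.not_regular hy hyreg

theorem nontrivial_of_idealDepth_ne_top {B : Type u} [CommRing B] {I : Ideal B} {X : Type u}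
    [AddCommGroup X] [Module B X] (h : LocCoh.idealDepth I X ≠ ⊤) : Nontrivial X := by
  by_contra hn
  rw [not_nontrivial_iff_subsingleton] at hn
  exact h (idealDepth_eq_top_of_subsingleton (I := I) (M := X))

theorem hasSocle_of_idealDepth_eq_zero {B : Type u} [CommRing B] [IsNoetherianRing B] {I : Ideal B}
    {X : Type u} [AddCommGroup X] [Module B X] [Module.Finite B X]
    (h : LocCoh.idealDepth I X = 0) : HasSocle I X := by
  rcases exists_regular_or_hasSocle (I := I) X with ⟨a, ha, hreg⟩ | hs
  · exfalso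
    have h1 : ((1 : ℕ) : ℕ∞) ≤ LocCoh.idealDepth I X :=
      le_idealDepth_of_hasSeq (hasSeq_succ_iff.mpr ⟨a, ha, hreg, hasSeq_zero⟩)
    rw [h] at h1
    simp at h1
  · exact hs

section Tensor

variable {R S : Type u} [CommRing R] [CommRing S] [Algebra R S]
  (N : Type u) [AddCommGroup N] [Module S N] [Module R N] [IsScalarTower R S N]
  (M : Type u) [AddCommGroup M] [Module R M]

theorem finite_tensor [Module.Finite S N] [Module.Finite R M] : Module.Finite S (N ⊗[R] M) :=
  Module.Finite.equiv (AlgebraTensorModule.cancelBaseChange R S S N M)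

theorem algebraMap_isSMulRegular_iff (X : Type*) [AddCommGroup X] [Module S X] [Module R X]
    [IsScalarTower R S X] (x : R) :
    IsSMulRegular X (algebraMap R S x) ↔ IsSMulRegular X x := by
  constructor
  · intro h a b hab
    apply h
    show algebraMap R S x • a = algebraMap R S x • b
    rw [algebraMap_smul, algebraMap_smul]
    exact hab
  · intro h a b hab
    apply h
    show x • a = x • b
    rw [← algebraMap_smul S x a, ← algebraMap_smul S x b]
    exact hab

theorem isSMulRegular_tensor_of_regular_right [Module.Flat R N] {x : R}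
    (hx : IsSMulRegular M x) : IsSMulRegular (N ⊗[R] M) (algebraMap R S x) :=
  (algebraMap_isSMulRegular_iff (N ⊗[R] M) x).mpr (IsSMulRegular.lTensor N hx)

theorem nonempty_quotTensorRightEquiv (x : R) :
    Nonempty (QuotSMulTop (algebraMap R S x) (N ⊗[R] M) ≃ₗ[S] N ⊗[R] QuotSMulTop x M) := by
  let g : N ⊗[R] M →ₗ[S] N ⊗[R] QuotSMulTop x M :=
    AlgebraTensorModule.lTensor S N (Submodule.mkQ (x • (⊤ : Submodule R M)))
  let u : M →ₗ[R] M := x • LinearMap.id
  have hu : ∀ m, u m = x • m := fun m => rfl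
  have hg : ∀ t, g t = LinearMap.lTensor N (Submodule.mkQ (x • (⊤ : Submodule R M))) t :=
    fun t => rfl
  have hsurj : Function.Surjective g :=
    LinearMap.lTensor_surjective N (Submodule.mkQ_surjective _)
  have hex : Function.Exact u (Submodule.mkQ (x • (⊤ : Submodule R M))) := by
    intro m
    rw [Submodule.mkQ_apply, Submodule.Quotient.mk_eq_zero,
      Submodule.mem_smul_pointwise_iff_exists, Set.mem_range]
    constructor
    · rintro ⟨b, -, rfl⟩
      exact ⟨b, rfl⟩
    · rintro ⟨b, rfl⟩
      exact ⟨b, Submodule.mem_top, rfl⟩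
  have hex2 := lTensor_exact N hex (Submodule.mkQ_surjective _)
  have hut : ∀ b : N ⊗[R] M, LinearMap.lTensor N u b = algebraMap R S x • b := by
    intro b
    rw [LinearMap.lTensor_smul, LinearMap.lTensor_id, LinearMap.smul_apply, LinearMap.id_apply,
      algebraMap_smul]
  have hker : (algebraMap R S x) • (⊤ : Submodule S (N ⊗[R] M)) = LinearMap.ker g := by
    ext t
    rw [LinearMap.mem_ker, hg, hex2 t, Submodule.mem_smul_pointwise_iff_exists, Set.mem_range]
    constructor
    · rintro ⟨b, -, rfl⟩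
      exact ⟨b, hut b⟩
    · rintro ⟨b, rfl⟩
      exact ⟨b, Submodule.mem_top, (hut b).symm⟩
  exact ⟨(Submodule.quotEquivOfEq _ _ hker).trans (g.quotKerEquivOfSurjective hsurj)⟩

theorem rTensor_lsmul_apply (y : S) (t : N ⊗[R] M) :
    LinearMap.rTensor M ((LinearMap.lsmul S N y).restrictScalars R) t = y • t := by
  induction t using TensorProduct.induction_on with
  | zero => simp
  | tmul n m =>
    rw [LinearMap.rTensor_tmul, TensorProduct.smul_tmul']
    rfl
  | add a b ha hb => rw [map_add, ha, hb, smul_add]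

theorem exact_lsmul_mkQ (y : S) :
    Function.Exact ((LinearMap.lsmul S N y).restrictScalars R)
      ((Submodule.mkQ (y • (⊤ : Submodule S N))).restrictScalars R) := by
  intro n
  show Submodule.Quotient.mk n = 0 ↔ _
  rw [Submodule.Quotient.mk_eq_zero, Submodule.mem_smul_pointwise_iff_exists, Set.mem_range]
  constructor
  · rintro ⟨b, -, rfl⟩
    exact ⟨b, rfl⟩
  · rintro ⟨b, rfl⟩
    exact ⟨b, Submodule.mem_top, rfl⟩

theorem isSMulRegular_tensor_of_flat_quot {y : S} (hy : IsSMulRegular N y)
    [Module.Flat R (N ⧸ (y • ⊤ : Submodule S N))] : IsSMulRegular (N ⊗[R] M) y := by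
  let u : N →ₗ[R] N := (LinearMap.lsmul S N y).restrictScalars R
  let f : N →ₗ[R] (N ⧸ (y • ⊤ : Submodule S N)) :=
    (Submodule.mkQ (y • ⊤ : Submodule S N)).restrictScalars R
  have hf : Function.Surjective f := fun q => Submodule.mkQ_surjective (y • ⊤ : Submodule S N) q
  have hu : Function.Injective u := hy
  have h1 := LinearMap.lTensor_injective_of_exact_of_flat f hf u hu (exact_lsmul_mkQ N y) M
  have h2 : Function.Injective (LinearMap.rTensor M u) := by
    have h3 : LinearMap.rTensor M u = (TensorProduct.comm R M N).toLinearMap ∘ₗ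
        LinearMap.lTensor M u ∘ₗ (TensorProduct.comm R N M).toLinearMap :=
      (LinearMap.comm_comp_lTensor_comp_comm_eq u).symm
    rw [h3]
    exact (TensorProduct.comm R M N).injective.comp
      (h1.comp (TensorProduct.comm R N M).injective)
  intro a b hab
  apply h2
  rw [rTensor_lsmul_apply, rTensor_lsmul_apply]
  exact hab

theorem rTensorS_apply (y : S) (t : N ⊗[R] M) :
    AlgebraTensorModule.rTensor R M (Submodule.mkQ (y • (⊤ : Submodule S N))) t =
      LinearMap.rTensor M ((Submodule.mkQ (y • ⊤ : Submodule S N)).restrictScalars R) t := by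
  induction t using TensorProduct.induction_on with
  | zero => rw [map_zero, map_zero]
  | tmul n m => rfl
  | add a b ha hb => rw [map_add, map_add, ha, hb]

theorem nonempty_quotTensorLeftEquiv (y : S) :
    Nonempty (QuotSMulTop y (N ⊗[R] M) ≃ₗ[S] (QuotSMulTop y N) ⊗[R] M) := by
  have hf : Function.Surjective ((Submodule.mkQ (y • ⊤ : Submodule S N)).restrictScalars R) :=
    fun q => Submodule.mkQ_surjective (y • ⊤ : Submodule S N) q
  have hsurj : Function.Surjective
      (AlgebraTensorModule.rTensor R M (Submodule.mkQ (y • (⊤ : Submodule S N)))) := by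
    intro q
    obtain ⟨t, ht⟩ := LinearMap.rTensor_surjective M hf q
    exact ⟨t, (rTensorS_apply N M y t).trans ht⟩
  have hex2 := rTensor_exact M (exact_lsmul_mkQ (R := R) N y) hf
  have hker : y • (⊤ : Submodule S (N ⊗[R] M)) = LinearMap.ker
      (AlgebraTensorModule.rTensor R M (Submodule.mkQ (y • (⊤ : Submodule S N)))) := by
    ext t
    rw [LinearMap.mem_ker, rTensorS_apply, hex2 t, Submodule.mem_smul_pointwise_iff_exists,
      Set.mem_range]
    constructor
    · rintro ⟨b, -, rfl⟩
      exact ⟨b, rTensor_lsmul_apply N M y b⟩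
    · rintro ⟨b, rfl⟩
      exact ⟨b, Submodule.mem_top, (rTensor_lsmul_apply N M y b).symm⟩
  exact ⟨(Submodule.quotEquivOfEq _ _ hker).trans (LinearMap.quotKerEquivOfSurjective _ hsurj)⟩

end Tensor

section Local

variable {R S : Type u} [CommRing R] [CommRing S] [IsLocalRing R] [IsLocalRing S]
  [Algebra R S] [IsLocalHom (algebraMap R S)]
  (N : Type u) [AddCommGroup N] [Module S N] [Module R N] [IsScalarTower R S N]
  (M : Type u) [AddCommGroup M] [Module R M]

theorem tmul_ne_zero_of_socle [Module.Flat R N] {m : M} (hm0 : m ≠ 0)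
    (hm : ∀ a ∈ maximalIdeal R, a • m = 0) {n : N}
    (hn : n ∉ (maximalIdeal R • ⊤ : Submodule R N)) : n ⊗ₜ[R] m ≠ 0 := by
  intro h0
  apply hn
  let φ : R →ₗ[R] M := LinearMap.toSpanSingleton R M m
  have hle : maximalIdeal R ≤ LinearMap.ker φ := fun a ha => by
    rw [LinearMap.mem_ker, LinearMap.toSpanSingleton_apply]
    exact hm a ha
  have hne : LinearMap.ker φ ≠ ⊤ := by
    intro htop
    apply hm0
    have h1 : (1 : R) ∈ LinearMap.ker φ := htop ▸ Submodule.mem_top
    rw [LinearMap.mem_ker, LinearMap.toSpanSingleton_apply, one_smul] at h1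
    exact h1
  have hker : LinearMap.ker φ = maximalIdeal R :=
    ((maximalIdeal.isMaximal R).eq_of_le hne hle).symm
  let ψ : (R ⧸ maximalIdeal R) →ₗ[R] M := Submodule.liftQ (maximalIdeal R) φ hle
  have hψ : Function.Injective ψ := by
    rw [← LinearMap.ker_eq_bot]
    exact Submodule.ker_liftQ_eq_bot _ _ _ (le_of_eq hker)
  have hinj := Module.Flat.lTensor_preserves_injective_linearMap (M := N) ψ hψ
  have h1 : LinearMap.lTensor N ψ (n ⊗ₜ[R] (Ideal.Quotient.mk (maximalIdeal R) 1)) = 0 := by
    rw [LinearMap.lTensor_tmul]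
    have h2 : ψ (Ideal.Quotient.mk (maximalIdeal R) 1) = m := by
      show (Submodule.liftQ (maximalIdeal R) φ hle) (Submodule.Quotient.mk 1) = m
      rw [Submodule.liftQ_apply, LinearMap.toSpanSingleton_apply, one_smul]
    rw [h2]
    exact h0
  have h2 : n ⊗ₜ[R] (Ideal.Quotient.mk (maximalIdeal R) 1) = 0 :=
    hinj (h1.trans (map_zero _).symm)
  have h3 := congrArg (TensorProduct.tensorQuotEquivQuotSMul N (maximalIdeal R)) h2
  rw [TensorProduct.tensorQuotEquivQuotSMul_tmul_mk, map_zero, one_smul,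
    Submodule.Quotient.mk_eq_zero] at h3
  exact h3

theorem hasSocle_tensor [Module.Flat R N] (hM : HasSocle (maximalIdeal R) M)
    (hN : HasSocle (maximalIdeal S) (EGA4.FibMod R S N)) :
    HasSocle (maximalIdeal S) (N ⊗[R] M) := by
  obtain ⟨m, hm0, hm⟩ := hM
  obtain ⟨nbar, hn0, hn⟩ := hN
  obtain ⟨n, rfl⟩ := Submodule.Quotient.mk_surjective _ nbar
  have hn0' : n ∉ (maximalIdeal R • ⊤ : Submodule R N) := by
    intro h
    apply hn0
    rw [Submodule.Quotient.mk_eq_zero, Groth.Agent.H57.mem_map_smul_top_iff]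
    exact h
  have hn' : ∀ s ∈ maximalIdeal S, s • n ∈ (maximalIdeal R • ⊤ : Submodule R N) := by
    intro s hs
    have h1 := hn s hs
    rw [← Submodule.Quotient.mk_smul, Submodule.Quotient.mk_eq_zero,
      Groth.Agent.H57.mem_map_smul_top_iff] at h1
    exact h1
  refine ⟨n ⊗ₜ[R] m, tmul_ne_zero_of_socle N M hm0 hm hn0', ?_⟩
  intro s hs
  rw [TensorProduct.smul_tmul']
  have key : ∀ z ∈ (maximalIdeal R • ⊤ : Submodule R N), z ⊗ₜ[R] m = 0 := by
    intro z hz
    refine Submodule.smul_induction_on hz ?_ ?_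
    · intro a ha z' _
      rw [TensorProduct.smul_tmul, hm a ha, TensorProduct.tmul_zero]
    · intro z1 z2 h1 h2
      rw [TensorProduct.add_tmul, h1, h2, add_zero]
  exact key _ (hn' s hs)

theorem smul_top_ne_top_of_nontrivial [Module.Finite S N] [Nontrivial N] :
    (maximalIdeal R • ⊤ : Submodule R N) ≠ ⊤ := by
  intro h
  have h1 := Groth.Agent.H29.maximalIdeal_smul_top_ne_top S N
  apply h1
  rw [eq_top_iff]
  intro z _
  have hz : z ∈ (maximalIdeal R • ⊤ : Submodule R N) := by
    rw [h]
    exact Submodule.mem_top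
  rw [← Groth.Agent.H57.mem_map_smul_top_iff (B := S)] at hz
  exact Submodule.smul_mono_left (IsLocalRing.map_maximalIdeal_le (algebraMap R S)) hz

theorem faithfullyFlat_of_nontrivial [Module.Finite S N] [Nontrivial N] [Module.Flat R N] :
    Module.FaithfullyFlat R N := by
  refine ⟨fun m hm => ?_⟩
  rw [IsLocalRing.eq_maximalIdeal hm]
  exact smul_top_ne_top_of_nontrivial (S := S) N

theorem nontrivial_fibMod [Module.Finite S N] [Nontrivial N] :
    Nontrivial (EGA4.FibMod R S N) := by
  have hne : (EGA4.mB R S • (⊤ : Submodule S N)) ≠ ⊤ := by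
    intro h
    apply Groth.Agent.H29.maximalIdeal_smul_top_ne_top S N
    rw [eq_top_iff]
    calc (⊤ : Submodule S N) = EGA4.mB R S • ⊤ := h.symm
      _ ≤ _ := Submodule.smul_mono_left (IsLocalRing.map_maximalIdeal_le (algebraMap R S))
  exact Submodule.Quotient.nontrivial_iff.mpr hne

end Local

section Main

variable {R S : Type u} [CommRing R] [CommRing S] [IsLocalRing R] [IsLocalRing S]
  [IsNoetherianRing R] [IsNoetherianRing S] [Algebra R S] [IsLocalHom (algebraMap R S)]

theorem depth_tensor_of_depth_zero (M : Type u) [AddCommGroup M] [Module R M] [Module.Finite R M]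
    (hM : LocCoh.depth R M = 0) :
    ∀ (d : ℕ) (N : Type u) [AddCommGroup N] [Module S N] [Module R N] [IsScalarTower R S N]
      [Module.Finite S N] [Module.Flat R N],
      LocCoh.depth S (EGA4.FibMod R S N) = d → LocCoh.depth S (N ⊗[R] M) = d := by
  haveI : Nontrivial M :=
    nontrivial_of_idealDepth_ne_top (I := maximalIdeal R) (by
      show LocCoh.depth R M ≠ ⊤
      rw [hM]; exact ENat.zero_ne_top)
  have hMsoc : HasSocle (maximalIdeal R) M := hasSocle_of_idealDepth_eq_zero hM
  intro d
  induction d with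
  | zero =>
    intro N _ _ _ _ _ _ hd
    have hd0 : LocCoh.idealDepth (maximalIdeal S) (EGA4.FibMod R S N) = 0 :=
      hd.trans Nat.cast_zero
    have hNsoc : HasSocle (maximalIdeal S) (EGA4.FibMod R S N) :=
      hasSocle_of_idealDepth_eq_zero hd0
    have hsoc := hasSocle_tensor N M hMsoc hNsoc
    haveI := finite_tensor (R := R) (S := S) N M
    haveI : Nontrivial (N ⊗[R] M) := by
      obtain ⟨t, ht, -⟩ := hsoc
      exact ⟨⟨t, 0, ht⟩⟩
    have h0 := idealDepth_eq_zero_of_hasSocle
      (Groth.Agent.H29.maximalIdeal_smul_top_ne_top S (N ⊗[R] M)) hsoc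
    show LocCoh.idealDepth (maximalIdeal S) (N ⊗[R] M) = ((0 : ℕ) : ℕ∞)
    rw [h0]
    rfl
  | succ d ih =>
    intro N _ _ _ _ _ _ hd
    haveI : Nontrivial (EGA4.FibMod R S N) :=
      nontrivial_of_idealDepth_ne_top (I := maximalIdeal S) (by
        show LocCoh.depth S (EGA4.FibMod R S N) ≠ ⊤
        rw [hd]; exact ENat.coe_ne_top _)
    haveI : Nontrivial N := by
      by_contra hn
      rw [not_nontrivial_iff_subsingleton] at hn
      exact not_subsingleton (EGA4.FibMod R S N)
        ((Submodule.mkQ_surjective _).subsingleton)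
    have hFne := Groth.Agent.H29.maximalIdeal_smul_top_ne_top S (EGA4.FibMod R S N)
    have h1 : ((d + 1 : ℕ) : ℕ∞) ≤ LocCoh.idealDepth (maximalIdeal S) (EGA4.FibMod R S N) :=
      le_of_eq hd.symm
    obtain ⟨y, hy, hyreg, -⟩ := hasSeq_succ_iff.mp ((le_idealDepth_iff hFne (d + 1)).mp h1)
    obtain ⟨hyN, hflat⟩ := Groth.Agent.H57.isSMulRegular_and_flat_quot N y hyreg
    haveI := hflat
    have e1 := Groth.Agent.H57.quotSwapEquiv N ((maximalIdeal R).map (algebraMap R S)) y
    have hd1 : LocCoh.idealDepth (maximalIdeal S) (QuotSMulTop y (EGA4.FibMod R S N)) + 1 =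
        LocCoh.idealDepth (maximalIdeal S) (EGA4.FibMod R S N) :=
      idealDepth_quotSMulTop_add_one hFne hy hyreg
    have hd2 : LocCoh.depth S (EGA4.FibMod R S (QuotSMulTop y N)) = d := by
      show LocCoh.idealDepth (maximalIdeal S) (EGA4.FibMod R S (QuotSMulTop y N)) = d
      rw [← idealDepth_congr (I := maximalIdeal S) e1]
      exact add_one_cancel (hd1.trans hd)
    have hih := ih (QuotSMulTop y N) hd2
    haveI := finite_tensor (R := R) (S := S) N M
    haveI : Module.FaithfullyFlat R N := faithfullyFlat_of_nontrivial (S := S) N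
    haveI : Nontrivial (N ⊗[R] M) := inferInstance
    have hTne := Groth.Agent.H29.maximalIdeal_smul_top_ne_top S (N ⊗[R] M)
    have hyT : IsSMulRegular (N ⊗[R] M) y := isSMulRegular_tensor_of_flat_quot N M hyN
    obtain ⟨e2⟩ := nonempty_quotTensorLeftEquiv (R := R) N M y
    have hd3 := idealDepth_quotSMulTop_add_one hTne hy hyT
    rw [idealDepth_congr (I := maximalIdeal S) e2] at hd3
    show LocCoh.idealDepth (maximalIdeal S) (N ⊗[R] M) = ((d + 1 : ℕ) : ℕ∞)
    rw [← hd3]
    have hih' : LocCoh.idealDepth (maximalIdeal S) (QuotSMulTop y N ⊗[R] M) = d := hih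
    rw [hih']
    push_cast
    rfl

theorem depth_tensor_aux (N : Type u) [AddCommGroup N] [Module S N] [Module R N]
    [IsScalarTower R S N] [Module.Finite S N] [Module.Flat R N] [Nontrivial N] (d : ℕ)
    (hd : LocCoh.depth S (EGA4.FibMod R S N) = d) :
    ∀ (r : ℕ) (M : Type u) [AddCommGroup M] [Module R M] [Module.Finite R M],
      LocCoh.depth R M = r → LocCoh.depth S (N ⊗[R] M) = ((r + d : ℕ) : ℕ∞) := by
  intro r
  induction r with
  | zero =>
    intro M _ _ _ hM
    have h := depth_tensor_of_depth_zero (S := S) M (hM.trans Nat.cast_zero) d N hd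
    rw [h, Nat.zero_add]
  | succ r ih =>
    intro M _ _ _ hM
    haveI : Nontrivial M :=
      nontrivial_of_idealDepth_ne_top (I := maximalIdeal R) (by
        show LocCoh.depth R M ≠ ⊤
        rw [hM]; exact ENat.coe_ne_top _)
    have hMne := Groth.Agent.H29.maximalIdeal_smul_top_ne_top R M
    have h1 : ((r + 1 : ℕ) : ℕ∞) ≤ LocCoh.idealDepth (maximalIdeal R) M := le_of_eq hM.symm
    obtain ⟨x, hx, hxreg, -⟩ := hasSeq_succ_iff.mp ((le_idealDepth_iff hMne (r + 1)).mp h1)
    have hd1 : LocCoh.idealDepth (maximalIdeal R) (QuotSMulTop x M) + 1 =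
        LocCoh.idealDepth (maximalIdeal R) M :=
      idealDepth_quotSMulTop_add_one hMne hx hxreg
    have hd2 : LocCoh.depth R (QuotSMulTop x M) = r := add_one_cancel (hd1.trans hM)
    have hih := ih (QuotSMulTop x M) hd2
    haveI := finite_tensor (R := R) (S := S) N M
    haveI : Module.FaithfullyFlat R N := faithfullyFlat_of_nontrivial (S := S) N
    haveI : Nontrivial (N ⊗[R] M) := inferInstance
    have hTne := Groth.Agent.H29.maximalIdeal_smul_top_ne_top S (N ⊗[R] M)
    have hxT : IsSMulRegular (N ⊗[R] M) (algebraMap R S x) :=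
      isSMulRegular_tensor_of_regular_right N M hxreg
    obtain ⟨e⟩ := nonempty_quotTensorRightEquiv (S := S) N M x
    have hd3 := idealDepth_quotSMulTop_add_one hTne
      (Groth.Agent.H29.FlatDepth.map_mem_maximalIdeal (B := S) hx) hxT
    rw [idealDepth_congr (I := maximalIdeal S) e] at hd3
    show LocCoh.idealDepth (maximalIdeal S) (N ⊗[R] M) = ((r + 1 + d : ℕ) : ℕ∞)
    rw [← hd3]
    have hih' : LocCoh.idealDepth (maximalIdeal S) (N ⊗[R] QuotSMulTop x M) =
        ((r + d : ℕ) : ℕ∞) := hih
    rw [hih']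
    push_cast
    ring

/-- The depth formula for flat local homomorphisms. -/
theorem depth_tensor (M : Type u) [AddCommGroup M] [Module R M] [Module.Finite R M]
    (N : Type u) [AddCommGroup N] [Module S N] [Module R N] [IsScalarTower R S N]
    [Module.Finite S N] [Module.Flat R N] :
    LocCoh.depth S (N ⊗[R] M) = LocCoh.depth R M + LocCoh.depth S (EGA4.FibMod R S N) := by
  by_cases hM : Subsingleton M
  · haveI := hM
    have h1 : LocCoh.depth R M = ⊤ := idealDepth_eq_top_of_subsingleton
    have h2 : LocCoh.depth S (N ⊗[R] M) = ⊤ := idealDepth_eq_top_of_subsingleton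
    rw [h1, h2, top_add]
  by_cases hN : Subsingleton N
  · haveI := hN
    haveI : Subsingleton (EGA4.FibMod R S N) := (Submodule.mkQ_surjective _).subsingleton
    have h1 : LocCoh.depth S (EGA4.FibMod R S N) = ⊤ := idealDepth_eq_top_of_subsingleton
    have h2 : LocCoh.depth S (N ⊗[R] M) = ⊤ := idealDepth_eq_top_of_subsingleton
    rw [h1, h2, add_top]
  rw [not_subsingleton_iff_nontrivial] at hM hN
  haveI := hM
  haveI := hN
  haveI : Nontrivial (EGA4.FibMod R S N) := nontrivial_fibMod N
  obtain ⟨r, hr⟩ := Groth.Agent.H29.CM.exists_nat_depth (A := R) (M := M)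
  obtain ⟨d, hd⟩ := Groth.Agent.H29.CM.exists_nat_depth (A := S) (M := EGA4.FibMod R S N)
  rw [depth_tensor_aux N d hd r M hr, hr, hd]
  push_cast
  rfl

end Main

end Groth.Agent.H29.FlatDepthMod
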