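import Mathlib
import Groth.Agent.H29.FlatDepthMod

/-!
# Consequences of the depth formula for flat local homomorphisms
-/

set_option autoImplicit false
set_option linter.style.haveILetI false
set_option maxHeartbeats 400000

universe u

open RingTheory.Sequence IsLocalRing TensorProduct
open scoped Pointwise
open Groth.Agent.H15.Depth Groth.Agent.H15.DepthSpread

namespace Groth.Agent.H29.FlatDepthMod

/-- A nonzero module of finite length over a local ring has a nonzero element killed by the maximal
ideal. -/
theorem hasSocle_of_isFiniteLength {B : Type u} [CommRing B] [IsLocalRing B] {X : Type u}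
    [AddCommGroup X] [Module B X] [Nontrivial X] (h : IsFiniteLength B X) :
    HasSocle (maximalIdeal B) X := by
  obtain ⟨_, hart⟩ := isFiniteLength_iff_isNoetherian_isArtinian.mp h
  haveI := hart
  obtain ⟨P, hP⟩ := IsAtomic.exists_atom (Submodule B X)
  haveI : IsSimpleModule B P := isSimpleModule_iff_isAtom.mpr hP
  haveI : Nontrivial P := IsSimpleModule.nontrivial B P
  obtain ⟨⟨m, hmP⟩, hm0⟩ := exists_ne (0 : P)
  refine ⟨m, fun h0 => hm0 (Subtype.ext h0), fun a ha => ?_⟩
  by_contra hne
  have hne' : a • (⟨m, hmP⟩ : P) ≠ 0 := fun h0 => hne (congrArg Subtype.val h0)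
  obtain ⟨b, hb⟩ := IsSimpleModule.toSpanSingleton_surjective B hne' ⟨m, hmP⟩
  have hb' : b • (a • m) = m := congrArg Subtype.val hb
  have h1 : (1 - b * a) • m = 0 := by
    rw [sub_smul, one_smul, mul_smul, hb', sub_self]
  have hu : IsUnit (1 - b * a) :=
    IsLocalRing.isUnit_one_sub_self_of_mem_nonunits _
      ((IsLocalRing.mem_maximalIdeal _).mp (Ideal.mul_mem_left _ b ha))
  exact hm0 (Subtype.ext (hu.smul_eq_zero.mp h1))

/-- If the maximal ideal is the only prime containing `I`, then `B/I` has depth zero. -/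
theorem hasSocle_quotient_of_forall_prime {B : Type u} [CommRing B] [IsLocalRing B]
    [IsNoetherianRing B] (I : Ideal B) (hI : I ≠ ⊤)
    (h : ∀ J : Ideal B, J.IsPrime → I ≤ J → J = maximalIdeal B) :
    HasSocle (maximalIdeal B) (B ⧸ (I • ⊤ : Submodule B B)) := by
  have hItop : I • (⊤ : Submodule B B) = I := by simp
  rcases exists_regular_or_hasSocle (I := maximalIdeal B) (B ⧸ (I • ⊤ : Submodule B B)) with
    ⟨a, ha, hreg⟩ | hs
  · exfalso
    have hrad : maximalIdeal B ≤ I.radical := by
      rw [Ideal.radical_eq_sInf]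
      refine le_sInf ?_
      rintro J ⟨hIJ, hJ⟩
      rw [h J hJ hIJ]
    obtain ⟨n, hn⟩ := hrad ha
    have hreg' : IsSMulRegular (B ⧸ (I • ⊤ : Submodule B B)) (a ^ n) := hreg.pow n
    have h0 : (a ^ n) • (Submodule.Quotient.mk (1 : B) : B ⧸ (I • ⊤ : Submodule B B)) = 0 := by
      rw [← Submodule.Quotient.mk_smul, Submodule.Quotient.mk_eq_zero, hItop, smul_eq_mul, mul_one]
      exact hn
    have h1 : (Submodule.Quotient.mk (1 : B) : B ⧸ (I • ⊤ : Submodule B B)) = 0 :=
      hreg' (h0.trans (smul_zero _).symm)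
    rw [Submodule.Quotient.mk_eq_zero, hItop] at h1
    exact hI ((Ideal.eq_top_iff_one I).mpr h1)
  · exact hs

section Local

variable {A B : Type u} [CommRing A] [CommRing B] [IsLocalRing A] [IsLocalRing B]
  [IsNoetherianRing A] [IsNoetherianRing B] [Algebra A B] [IsLocalHom (algebraMap A B)]

/-- depth of `N ⊗ M` when the closed fibre of `N` has depth zero. -/
theorem depth_tensor_of_hasSocle_fibre (M : Type u) [AddCommGroup M] [Module A M]
    [Module.Finite A M] (N : Type u) [AddCommGroup N] [Module B N] [Module A N]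
    [IsScalarTower A B N] [Module.Finite B N] [Module.Flat A N] [Nontrivial N]
    (hs : HasSocle (maximalIdeal B) (EGA4.FibMod A B N)) :
    LocCoh.depth B (N ⊗[A] M) = LocCoh.depth A M := by
  haveI : Nontrivial (EGA4.FibMod A B N) := nontrivial_fibMod N
  have h0 : LocCoh.depth B (EGA4.FibMod A B N) = 0 :=
    idealDepth_eq_zero_of_hasSocle
      (Groth.Agent.H29.maximalIdeal_smul_top_ne_top B (EGA4.FibMod A B N)) hs
  rw [depth_tensor M N, h0, add_zero]

/-- Along a flat local homomorphism whose closed fibre has a unique prime, depth is unchanged. -/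
theorem depth_self_eq_of_flat [Module.Flat A B]
    (h : ∀ J : Ideal B, J.IsPrime → EGA4.mB A B ≤ J → J = maximalIdeal B) :
    LocCoh.depth B B = LocCoh.depth A A := by
  have hI : EGA4.mB A B ≠ ⊤ := fun htop =>
    (maximalIdeal.isMaximal B).ne_top
      (top_le_iff.mp (htop ▸ IsLocalRing.map_maximalIdeal_le (algebraMap A B)))
  have hs := hasSocle_quotient_of_forall_prime (EGA4.mB A B) hI h
  have h1 := depth_tensor_of_hasSocle_fibre (A := A) (B := B) A B hs
  rw [← h1]
  exact (idealDepth_congr (I := maximalIdeal B) (AlgebraTensorModule.rid A B B)).symm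

end Local

end Groth.Agent.H29.FlatDepthMod
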