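import Mathlib
import Groth.Agent.H29.FlatDepthMod2

/-!
# Change of rings for regular sequences (surjections and ring isomorphisms)
-/

set_option autoImplicit false
set_option linter.style.haveILetI false
set_option maxHeartbeats 400000

universe u v

open RingTheory.Sequence IsLocalRing
open scoped Pointwise
open Groth.Agent.H15.Depth Groth.Agent.H15.DepthSpread

namespace Groth.Agent.H29.DepthChange

section Alg

variable {R : Type*} {A' : Type*} [CommRing R] [CommRing A'] [Algebra R A']

theorem smul_top_eq_restrictScalars (x : R) (M : Type v) [AddCommGroup M] [Module A' M]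
    [Module R M] [IsScalarTower R A' M] :
    (x • (⊤ : Submodule R M)) =
      ((algebraMap R A' x) • (⊤ : Submodule A' M)).restrictScalars R := by
  ext m
  rw [Submodule.restrictScalars_mem, Submodule.mem_smul_pointwise_iff_exists,
    Submodule.mem_smul_pointwise_iff_exists]
  constructor
  · rintro ⟨b, -, rfl⟩
    exact ⟨b, Submodule.mem_top, algebraMap_smul A' x b⟩
  · rintro ⟨b, -, rfl⟩
    exact ⟨b, Submodule.mem_top, (algebraMap_smul A' x b).symm⟩

/-- `M/xM ≃ M/(φ x)M` as `R`-modules. -/
noncomputable def quotSMulTopAlgEquiv (x : R) (M : Type v) [AddCommGroup M] [Module A' M]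
    [Module R M] [IsScalarTower R A' M] :
    QuotSMulTop x M ≃ₗ[R] QuotSMulTop (algebraMap R A' x) M :=
  Submodule.quotEquivOfEq _ _ (smul_top_eq_restrictScalars x M) ≪≫ₗ
    Submodule.Quotient.restrictScalarsEquiv R ((algebraMap R A' x) • (⊤ : Submodule A' M))

theorem isSMulRegular_algebraMap_iff (x : R) (M : Type v) [AddCommGroup M] [Module A' M]
    [Module R M] [IsScalarTower R A' M] :
    IsSMulRegular M (algebraMap R A' x) ↔ IsSMulRegular M x := by
  constructor
  · intro h a b hab
    apply h
    show algebraMap R A' x • a = algebraMap R A' x • b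
    rw [algebraMap_smul, algebraMap_smul]
    exact hab
  · intro h a b hab
    apply h
    show x • a = x • b
    rw [← algebraMap_smul A' x a, ← algebraMap_smul A' x b]
    exact hab

/-- A regular sequence for an `A'`-module, with terms in an ideal whose elements lift to `I`, gives a
regular sequence over `R` with terms in `I`. -/
theorem hasSeq_of_algebraMap {I : Ideal R} {I' : Ideal A'}
    (hI : ∀ y ∈ I', ∃ x ∈ I, algebraMap R A' x = y) :
    ∀ (n : ℕ) (M : Type v) [AddCommGroup M] [Module A' M] [Module R M] [IsScalarTower R A' M],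
      HasSeq I' M n → HasSeq I M n := by
  intro n
  induction n with
  | zero =>
    intro M _ _ _ _ _
    exact hasSeq_zero
  | succ n ih =>
    intro M _ _ _ _ h
    obtain ⟨y, hy, hreg, hrest⟩ := hasSeq_succ_iff.mp h
    obtain ⟨x, hx, rfl⟩ := hI y hy
    have h1 : HasSeq I (QuotSMulTop (algebraMap R A' x) M) n :=
      ih (QuotSMulTop (algebraMap R A' x) M) hrest
    exact hasSeq_succ_iff.mpr ⟨x, hx, (isSMulRegular_algebraMap_iff x M).mp hreg,
      h1.congr (quotSMulTopAlgEquiv x M).symm⟩

/-- A regular sequence over `R` with terms in `I`, on a module over an `R`-algebra `A'`, gives a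
regular sequence over `A'` with terms in `I A'`. -/
theorem hasSeq_map {I : Ideal R} :
    ∀ (n : ℕ) (M : Type v) [AddCommGroup M] [Module A' M] [Module R M] [IsScalarTower R A' M],
      HasSeq I M n → HasSeq (I.map (algebraMap R A')) M n := by
  intro n
  induction n with
  | zero =>
    intro M _ _ _ _ _
    exact hasSeq_zero
  | succ n ih =>
    intro M _ _ _ _ h
    obtain ⟨x, hx, hreg, hrest⟩ := hasSeq_succ_iff.mp h
    have h1 : HasSeq I (QuotSMulTop (algebraMap R A' x) M) n :=
      hrest.congr (quotSMulTopAlgEquiv x M)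
    exact hasSeq_succ_iff.mpr ⟨algebraMap R A' x, Ideal.mem_map_of_mem _ hx,
      (isSMulRegular_algebraMap_iff x M).mpr hreg, ih (QuotSMulTop (algebraMap R A' x) M) h1⟩

theorem HasSeq.mono_ideal {B : Type*} [CommRing B] {I J : Ideal B} (hIJ : I ≤ J) {M : Type v}
    [AddCommGroup M] [Module B M] {n : ℕ} (h : HasSeq I M n) : HasSeq J M n := by
  obtain ⟨rs, hw, hI, hl⟩ := h
  exact ⟨rs, hw, fun r hr => hIJ (hI r hr), hl⟩

end Alg

section Local

variable {B C : Type*} [CommRing B] [CommRing C] [IsLocalRing B] [IsLocalRing C] [Algebra B C]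

theorem exists_lift_maximalIdeal (hsurj : Function.Surjective (algebraMap B C)) :
    ∀ y ∈ maximalIdeal C, ∃ x ∈ maximalIdeal B, algebraMap B C x = y := by
  intro y hy
  obtain ⟨x, rfl⟩ := hsurj y
  refine ⟨x, ?_, rfl⟩
  rw [mem_maximalIdeal, mem_nonunits_iff] at hy ⊢
  exact fun hu => hy (hu.map (algebraMap B C))

theorem map_maximalIdeal_le_of_surjective (hsurj : Function.Surjective (algebraMap B C)) :
    (maximalIdeal B).map (algebraMap B C) ≤ maximalIdeal C := by
  rw [Ideal.map_le_iff_le_comap]
  intro x hx
  rw [Ideal.mem_comap, mem_maximalIdeal, mem_nonunits_iff]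
  intro hu
  rw [mem_maximalIdeal, mem_nonunits_iff] at hx
  apply hx
  -- `algebraMap x` is a unit: find `z` with `x z - 1 ∈ ker ⊆ m_B`
  obtain ⟨w, hw⟩ := hu.exists_right_inv
  obtain ⟨z, rfl⟩ := hsurj w
  by_contra hnu
  have hxm : x ∈ maximalIdeal B := (mem_maximalIdeal x).mpr hnu
  have h1 : x * z ∈ maximalIdeal B := Ideal.mul_mem_right _ _ hxm
  have h2 : IsUnit (1 - x * z) :=
    IsLocalRing.isUnit_one_sub_self_of_mem_nonunits _ ((mem_maximalIdeal _).mp h1)
  have h3 : algebraMap B C (1 - x * z) = 0 := by
    rw [map_sub, map_one, map_mul, hw, sub_self]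
  have h4 := h2.map (algebraMap B C)
  rw [h3] at h4
  exact not_isUnit_zero h4

/-- Regular sequences in the maximal ideal do not depend on the ring, along a surjection. -/
theorem hasSeq_maximalIdeal_iff_of_surjective (hsurj : Function.Surjective (algebraMap B C))
    (n : ℕ) (M : Type v) [AddCommGroup M] [Module C M] [Module B M] [IsScalarTower B C M] :
    HasSeq (maximalIdeal C) M n ↔ HasSeq (maximalIdeal B) M n :=
  ⟨hasSeq_of_algebraMap (exists_lift_maximalIdeal hsurj) n M,
    fun h => HasSeq.mono_ideal (map_maximalIdeal_le_of_surjective hsurj) (hasSeq_map n M h)⟩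

end Local

section RingEquiv

/-- Regular sequences of a local ring over itself are invariant under ring isomorphisms. -/
theorem hasSeq_ringEquiv {D₁ D₂ : Type*} [CommRing D₁] [CommRing D₂] [IsLocalRing D₁]
    [IsLocalRing D₂] (e : D₁ ≃+* D₂) (n : ℕ) (h : HasSeq (maximalIdeal D₁) D₁ n) :
    HasSeq (maximalIdeal D₂) D₂ n := by
  letI : Algebra D₂ D₁ := e.symm.toRingHom.toAlgebra
  have hsurj : Function.Surjective (algebraMap D₂ D₁) := e.symm.surjective
  have h1 : HasSeq (maximalIdeal D₂) D₁ n :=
    (hasSeq_maximalIdeal_iff_of_surjective hsurj n D₁).mp h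
  let f : D₁ ≃ₗ[D₂] D₂ :=
    { toFun := e
      map_add' := map_add e
      map_smul' := fun c x => by
        show e (e.symm c * x) = c * e x
        rw [map_mul, e.apply_symm_apply]
      invFun := e.symm
      left_inv := e.symm_apply_apply
      right_inv := e.apply_symm_apply }
  exact h1.congr f

end RingEquiv

end Groth.Agent.H29.DepthChange
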