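import Mathlib
import Groth.Agent.H29.DepthChange
import Groth.Agent.H29.CM3

/-!
# Cohen–Macaulay local rings along flat local homomorphisms
-/

set_option autoImplicit false
set_option linter.style.haveILetI false
set_option maxHeartbeats 400000

universe u v

open RingTheory.Sequence IsLocalRing TensorProduct
open scoped Pointwise
open Groth.Agent.H15.Depth Groth.Agent.H15.DepthSpread

namespace Groth.Agent.H29.FlatCM

theorem map_mk_maximalIdeal {B : Type*} [CommRing B] [IsLocalRing B] (I : Ideal B) (hI : I ≠ ⊤)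
    [IsLocalRing (B ⧸ I)] :
    (maximalIdeal B).map (Ideal.Quotient.mk I) = maximalIdeal (B ⧸ I) := by
  have hle : I ≤ maximalIdeal B := IsLocalRing.le_maximalIdeal hI
  rcases Ideal.map_eq_top_or_isMaximal_of_surjective (Ideal.Quotient.mk I)
    Ideal.Quotient.mk_surjective (maximalIdeal.isMaximal B) with h | h
  · exfalso
    have h1 : ((maximalIdeal B).map (Ideal.Quotient.mk I)).comap (Ideal.Quotient.mk I) = ⊤ := by
      rw [h]; exact Ideal.comap_top
    rw [Ideal.comap_map_of_surjective _ Ideal.Quotient.mk_surjective, ← RingHom.ker_eq_comap_bot,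
      Ideal.mk_ker, sup_eq_left.mpr hle] at h1
    exact (maximalIdeal.isMaximal B).ne_top h1
  · exact IsLocalRing.eq_maximalIdeal h

/-- Depth does not depend on the ring, along a surjection of local rings. -/
theorem depth_eq_of_surjective {B C : Type u} [CommRing B] [CommRing C] [IsLocalRing B]
    [IsLocalRing C] [Algebra B C] (hsurj : Function.Surjective (algebraMap B C)) (X : Type v)
    [AddCommGroup X] [Module C X] [Module B X] [IsScalarTower B C X] [Module.Finite C X]
    [Module.Finite B X] : LocCoh.depth C X = LocCoh.depth B X := by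
  by_cases hX : Subsingleton X
  · have h1 : LocCoh.depth C X = ⊤ := idealDepth_eq_top_of_subsingleton
    have h2 : LocCoh.depth B X = ⊤ := idealDepth_eq_top_of_subsingleton
    rw [h1, h2]
  rw [not_subsingleton_iff_nontrivial] at hX
  have hC := Groth.Agent.H29.maximalIdeal_smul_top_ne_top C X
  have hB := Groth.Agent.H29.maximalIdeal_smul_top_ne_top B X
  apply le_antisymm
  · rw [← ENat.forall_natCast_le_iff_le]
    intro n hn
    exact (le_idealDepth_iff hB n).mpr
      ((DepthChange.hasSeq_maximalIdeal_iff_of_surjective hsurj n X).mp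
        ((le_idealDepth_iff hC n).mp hn))
  · rw [← ENat.forall_natCast_le_iff_le]
    intro n hn
    exact (le_idealDepth_iff hC n).mpr
      ((DepthChange.hasSeq_maximalIdeal_iff_of_surjective hsurj n X).mpr
        ((le_idealDepth_iff hB n).mp hn))

/-- Depth of a local ring is invariant under ring isomorphisms. -/
theorem depth_ringEquiv {D₁ D₂ : Type u} [CommRing D₁] [CommRing D₂] [IsLocalRing D₁]
    [IsLocalRing D₂] (e : D₁ ≃+* D₂) : LocCoh.depth D₁ D₁ = LocCoh.depth D₂ D₂ := by
  have h1 := Groth.Agent.H29.maximalIdeal_smul_top_ne_top D₁ D₁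
  have h2 := Groth.Agent.H29.maximalIdeal_smul_top_ne_top D₂ D₂
  apply le_antisymm
  · rw [← ENat.forall_natCast_le_iff_le]
    intro n hn
    exact (le_idealDepth_iff h2 n).mpr
      (DepthChange.hasSeq_ringEquiv e n ((le_idealDepth_iff h1 n).mp hn))
  · rw [← ENat.forall_natCast_le_iff_le]
    intro n hn
    exact (le_idealDepth_iff h1 n).mpr
      (DepthChange.hasSeq_ringEquiv e.symm n ((le_idealDepth_iff h2 n).mp hn))

/-- Cohen–Macaulayness of a local ring is invariant under ring isomorphisms. -/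
theorem isCM_ringEquiv {D₁ D₂ : Type u} [CommRing D₁] [CommRing D₂] [IsLocalRing D₁]
    [IsLocalRing D₂] (e : D₁ ≃+* D₂) (h : LocCoh.IsCohenMacaulayLocalRing D₁) :
    LocCoh.IsCohenMacaulayLocalRing D₂ := by
  haveI := h
  haveI : IsNoetherianRing D₂ := isNoetherianRing_of_ringEquiv D₁ e
  refine ⟨?_⟩
  have h1 := h.supportDim_eq_depth
  rw [Module.supportDim_self_eq_ringKrullDim] at h1 ⊢
  rw [← ringKrullDim_eq_of_ringEquiv e, h1, depth_ringEquiv e]

section Flat

variable {A B : Type u} [CommRing A] [CommRing B] [IsLocalRing A] [IsLocalRing B]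
  [IsNoetherianRing A] [IsNoetherianRing B] [Algebra A B] [IsLocalHom (algebraMap A B)]

theorem mB_ne_top : EGA4.mB A B ≠ ⊤ := fun htop =>
  (maximalIdeal.isMaximal B).ne_top
    (top_le_iff.mp (htop ▸ IsLocalRing.map_maximalIdeal_le (algebraMap A B)))

/-- `dim B = dim A + dim B/m_A B` for a flat local homomorphism. -/
theorem ringKrullDim_eq_add_fibre [Module.Flat A B] :
    ringKrullDim B = ringKrullDim A + ringKrullDim (EGA4.FibRing A B) := by
  rw [← IsLocalRing.maximalIdeal_height_eq_ringKrullDim (R := B),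
    ← IsLocalRing.maximalIdeal_height_eq_ringKrullDim (R := A),
    ← IsLocalRing.maximalIdeal_height_eq_ringKrullDim (R := EGA4.FibRing A B)]
  have h := Ideal.height_eq_height_add_of_liesOver_of_hasGoingDown (maximalIdeal A)
    (maximalIdeal B)
  have h2 : (maximalIdeal B).map (Ideal.Quotient.mk (EGA4.mB A B)) =
      maximalIdeal (EGA4.FibRing A B) := map_mk_maximalIdeal (EGA4.mB A B) mB_ne_top
  rw [h, h2]
  rfl

/-- `depth B = depth A + depth B/m_A B` for a flat local homomorphism. -/
theorem depth_eq_add_fibre [Module.Flat A B] :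
    LocCoh.depth B B = LocCoh.depth A A +
      LocCoh.depth (EGA4.FibRing A B) (EGA4.FibRing A B) := by
  have h6 := Groth.Agent.H29.FlatDepthMod.depth_tensor (R := A) (S := B) A B
  have h7 : LocCoh.depth B B = LocCoh.depth B (B ⊗[A] A) :=
    (idealDepth_congr (I := maximalIdeal B) (AlgebraTensorModule.rid A B B)).symm
  have hsmul : (EGA4.mB A B • (⊤ : Submodule B B)) = EGA4.mB A B := by simp
  have h8 : LocCoh.depth B (EGA4.FibMod A B B) = LocCoh.depth B (EGA4.FibRing A B) :=
    idealDepth_congr (I := maximalIdeal B) (Submodule.quotEquivOfEq _ _ hsmul)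
  have hsurj : Function.Surjective (algebraMap B (EGA4.FibRing A B)) :=
    Ideal.Quotient.mk_surjective
  have h9 := depth_eq_of_surjective hsurj (EGA4.FibRing A B)
  rw [h7, h6, h8, h9]

/-- numerical data of a flat local homomorphism -/
theorem exists_nat_data [Module.Flat A B] :
    ∃ a c da dc : ℕ, LocCoh.depth A A = a ∧
      LocCoh.depth (EGA4.FibRing A B) (EGA4.FibRing A B) = c ∧
      Module.supportDim A A = ((da : ℕ∞) : WithBot ℕ∞) ∧
      Module.supportDim (EGA4.FibRing A B) (EGA4.FibRing A B) = ((dc : ℕ∞) : WithBot ℕ∞) ∧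
      LocCoh.depth B B = ((a + c : ℕ) : ℕ∞) ∧
      Module.supportDim B B = (((da + dc : ℕ) : ℕ∞) : WithBot ℕ∞) ∧ a ≤ da ∧ c ≤ dc := by
  haveI : IsNoetherianRing (EGA4.FibRing A B) := inferInstance
  obtain ⟨a, ha⟩ := CM.exists_nat_depth (A := A) (M := A)
  obtain ⟨c, hc⟩ := CM.exists_nat_depth (A := EGA4.FibRing A B) (M := EGA4.FibRing A B)
  obtain ⟨da, hda⟩ := CM.exists_nat_supportDim (A := A) (M := A)
  obtain ⟨dc, hdc⟩ := CM.exists_nat_supportDim (A := EGA4.FibRing A B) (M := EGA4.FibRing A B)
  refine ⟨a, c, da, dc, ha, hc, hda, hdc, ?_, ?_, ?_, ?_⟩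
  · rw [depth_eq_add_fibre (A := A), ha, hc]
    push_cast
    rfl
  · rw [Module.supportDim_self_eq_ringKrullDim] at hda hdc ⊢
    rw [ringKrullDim_eq_add_fibre (A := A), hda, hdc]
    push_cast
    rfl
  · have h := CM.depth_le_supportDim (A := A) (M := A)
    rw [ha, hda] at h
    exact_mod_cast h
  · have h := CM.depth_le_supportDim (A := EGA4.FibRing A B) (M := EGA4.FibRing A B)
    rw [hc, hdc] at h
    exact_mod_cast h

/-- Descent: if `B` is Cohen–Macaulay and flat over `A`, then `A` and the closed fibre are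
Cohen–Macaulay. -/
theorem isCM_of_flat_of_isCM [Module.Flat A B] (hB : LocCoh.IsCohenMacaulayLocalRing B) :
    LocCoh.IsCohenMacaulayLocalRing A ∧ LocCoh.IsCohenMacaulayLocalRing (EGA4.FibRing A B) := by
  obtain ⟨a, c, da, dc, ha, hc, hda, hdc, hb, hdb, hle1, hle2⟩ := exists_nat_data (A := A) (B := B)
  have h := hB.supportDim_eq_depth
  rw [hb, hdb] at h
  have h' : da + dc = a + c := by exact_mod_cast h
  have h1 : a = da := by omega
  have h2 : c = dc := by omega
  haveI : IsNoetherianRing (EGA4.FibRing A B) := inferInstance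
  refine ⟨⟨?_⟩, ⟨?_⟩⟩
  · rw [ha, hda, h1]
  · rw [hc, hdc, h2]

/-- Ascent: if `A` and the closed fibre are Cohen–Macaulay and `B` is flat over `A`, then `B` is
Cohen–Macaulay. -/
theorem isCM_of_flat_of_isCM_of_isCM [Module.Flat A B] (hA : LocCoh.IsCohenMacaulayLocalRing A)
    (hF : LocCoh.IsCohenMacaulayLocalRing (EGA4.FibRing A B)) :
    LocCoh.IsCohenMacaulayLocalRing B := by
  obtain ⟨a, c, da, dc, ha, hc, hda, hdc, hb, hdb, hle1, hle2⟩ := exists_nat_data (A := A) (B := B)
  have h1 := hA.supportDim_eq_depth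
  rw [ha, hda] at h1
  have h1' : da = a := by exact_mod_cast h1
  have h2 := hF.supportDim_eq_depth
  rw [hc, hdc] at h2
  have h2' : dc = c := by exact_mod_cast h2
  refine ⟨?_⟩
  rw [hb, hdb, h1', h2']

end Flat

end Groth.Agent.H29.FlatCM
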