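import Groth.Agent.H29.CM3
import Mathlib.RingTheory.Spectrum.Prime.Module
import Mathlib.RingTheory.Localization.Ideal

set_option autoImplicit false
universe u v

namespace Groth.Agent.H29.CM

open Groth.Agent.H15.Depth IsLocalRing RingTheory.Sequence
open scoped Pointwise

section General

variable {R : Type u} [CommRing R]

/-- A prime of `R_p` in the support of `M_p` contracts to a prime in the support of `M`. -/
theorem comap_mem_support_of_mem_support_atPrime {M : Type v} [AddCommGroup M] [Module R M]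
    (p : Ideal R) [p.IsPrime] (Q : PrimeSpectrum (Localization.AtPrime p))
    (hQ : Q ∈ Module.support (Localization.AtPrime p) (LocalizedModule p.primeCompl M)) :
    (⟨Ideal.comap (algebraMap R (Localization.AtPrime p)) Q.asIdeal, inferInstance⟩ :
      PrimeSpectrum R) ∈ Module.support R M := by
  rw [Module.mem_support_iff'] at hQ ⊢
  obtain ⟨y, hy⟩ := hQ
  induction y using LocalizedModule.induction_on with
  | h m s =>
    refine ⟨m, fun r hr hrm => ?_⟩
    apply hy (algebraMap R (Localization.AtPrime p) r) hr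
    rw [algebraMap_smul, LocalizedModule.smul'_mk, hrm, LocalizedModule.zero_mk]

/-- `dim M_p + dim A/p ≤ dim M` for `p` in the support of `M`. -/
theorem supportDim_atPrime_add_ringKrullDim_quotient_le {M : Type v} [AddCommGroup M] [Module R M]
    (p : PrimeSpectrum R) (hp : p ∈ Module.support R M) :
    Module.supportDim (Localization.AtPrime p.asIdeal) (LocalizedModule p.asIdeal.primeCompl M) +
      ringKrullDim (R ⧸ p.asIdeal) ≤ Module.supportDim R M := by
  let x : ↥(Module.support R M) := ⟨p, hp⟩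
  haveI : Nonempty ↥(Module.support R M) := ⟨x⟩
  -- (1) the localized support maps into `Iic x`
  have h1 : Module.supportDim (Localization.AtPrime p.asIdeal)
      (LocalizedModule p.asIdeal.primeCompl M) ≤ Order.krullDim (Set.Iic x) := by
    refine Order.krullDim_le_of_strictMono
      (fun Q : ↥(Module.support (Localization.AtPrime p.asIdeal)
          (LocalizedModule p.asIdeal.primeCompl M)) =>
        (⟨⟨⟨Ideal.comap (algebraMap R (Localization.AtPrime p.asIdeal)) Q.1.asIdeal,
          inferInstance⟩, comap_mem_support_of_mem_support_atPrime p.asIdeal Q.1 Q.2⟩, ?_⟩ :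
          Set.Iic x)) ?_
    · show Ideal.comap (algebraMap R (Localization.AtPrime p.asIdeal)) Q.1.asIdeal ≤ p.asIdeal
      have hle : Q.1.asIdeal ≤ maximalIdeal (Localization.AtPrime p.asIdeal) :=
        IsLocalRing.le_maximalIdeal Q.1.isPrime.ne_top
      calc Ideal.comap (algebraMap R (Localization.AtPrime p.asIdeal)) Q.1.asIdeal
          ≤ Ideal.comap (algebraMap R (Localization.AtPrime p.asIdeal))
            (maximalIdeal (Localization.AtPrime p.asIdeal)) := Ideal.comap_mono hle
        _ = p.asIdeal :=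
          IsLocalization.AtPrime.under_maximalIdeal (Localization.AtPrime p.asIdeal) p.asIdeal
    · intro Q Q' hlt
      show Ideal.comap (algebraMap R (Localization.AtPrime p.asIdeal)) Q.1.asIdeal <
        Ideal.comap (algebraMap R (Localization.AtPrime p.asIdeal)) Q'.1.asIdeal
      exact (IsLocalization.orderEmbedding p.asIdeal.primeCompl
        (Localization.AtPrime p.asIdeal)).lt_iff_lt.2 hlt
  -- (2) `V(p)` maps into `Ici x`
  have h2 : ringKrullDim (R ⧸ p.asIdeal) ≤ Order.krullDim (Set.Ici x) := by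
    rw [ringKrullDim_quotient]
    refine Order.krullDim_le_of_strictMono
      (fun q : ↥(PrimeSpectrum.zeroLocus (p.asIdeal : Set R)) =>
        (⟨⟨q.1, Module.mem_support_mono ((PrimeSpectrum.asIdeal_le_asIdeal p q.1).1
          (fun a ha => (PrimeSpectrum.mem_zeroLocus _ _).1 q.2 ha)) hp⟩, ?_⟩ : Set.Ici x)) ?_
    · show p.asIdeal ≤ q.1.asIdeal
      exact fun a ha => (PrimeSpectrum.mem_zeroLocus _ _).1 q.2 ha
    · intro q q' hlt
      exact hlt
  -- (3) height + coheight
  have h3 : ((Order.height x + Order.coheight x : ℕ∞) : WithBot ℕ∞) ≤ Module.supportDim R M := by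
    unfold Module.supportDim
    rw [Order.krullDim_eq_iSup_height_add_coheight_of_nonempty, WithBot.coe_le_coe]
    exact le_iSup (fun a : ↥(Module.support R M) => Order.height a + Order.coheight a) x
  rw [← Order.height_eq_krullDim_Iic] at h1
  rw [← Order.coheight_eq_krullDim_Ici] at h2
  calc _ ≤ ((Order.height x : ℕ∞) : WithBot ℕ∞) + ((Order.coheight x : ℕ∞) : WithBot ℕ∞) :=
        add_le_add h1 h2
    _ = ((Order.height x + Order.coheight x : ℕ∞) : WithBot ℕ∞) := (WithBot.coe_add _ _).symm
    _ ≤ _ := h3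

theorem forall_not_isSMulRegular_quotient_of_idealDepth_eq {M : Type v} [AddCommGroup M]
    [Module R M] {I : Ideal R} (hIM : I • (⊤ : Submodule R M) ≠ ⊤) {r : ℕ}
    (hr : LocCoh.idealDepth I M = r) {xs : List R} (hw : IsWeaklyRegular M xs)
    (hxsI : ∀ x ∈ xs, x ∈ I) (hlen : xs.length = r) :
    ∀ y ∈ I, ¬ IsSMulRegular (M ⧸ (Ideal.ofList xs • (⊤ : Submodule R M))) y := by
  intro y hy hyreg
  have hw' : IsWeaklyRegular M (xs ++ [y]) :=
    (isWeaklyRegular_append_iff M xs [y]).2
      ⟨hw, (isWeaklyRegular_cons_iff _ y []).2 ⟨hyreg, IsWeaklyRegular.nil R _⟩⟩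
  have hseq : HasSeq I M (r + 1) := by
    refine ⟨xs ++ [y], hw', ?_, by simp [hlen]⟩
    intro z hz
    rcases List.mem_append.1 hz with hz | hz
    · exact hxsI z hz
    · rw [List.mem_singleton] at hz
      rw [hz]; exact hy
  have h3 := (le_idealDepth_iff hIM (r + 1)).2 hseq
  rw [hr] at h3
  have h4 : r + 1 ≤ r := by exact_mod_cast h3
  omega

end General

section Local

variable {A : Type u} [CommRing A] [IsLocalRing A] [IsNoetherianRing A]

theorem exists_nat_idealDepth {M : Type v} [AddCommGroup M] [Module A M] [Module.Finite A M]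
    [Nontrivial M] {I : Ideal A} (hI : I ≤ maximalIdeal A) :
    ∃ r : ℕ, LocCoh.idealDepth I M = (r : ℕ∞) := by
  obtain ⟨k, hk⟩ := exists_nat_depth (A := A) (M := M)
  have hle := idealDepth_le_depth (M := M) hI
  rw [hk] at hle
  have hne : LocCoh.idealDepth I M ≠ ⊤ := by
    intro h
    rw [h] at hle
    exact absurd hle (by simp)
  obtain ⟨r, hr⟩ := ENat.ne_top_iff_exists.1 hne
  exact ⟨r, hr.symm⟩

theorem depth_quotient_ofList_add_length (xs : List A) :
    ∀ (M : Type v) [AddCommGroup M] [Module A M] [Module.Finite A M] [Nontrivial M],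
      (∀ x ∈ xs, x ∈ maximalIdeal A) → IsWeaklyRegular M xs →
      LocCoh.depth A (M ⧸ (Ideal.ofList xs • (⊤ : Submodule A M))) + (xs.length : ℕ∞) =
        LocCoh.depth A M := by
  induction xs with
  | nil =>
    intro M _ _ _ _ _ _
    have h0 : Ideal.ofList ([] : List A) • (⊤ : Submodule A M) = ⊥ := by
      rw [Ideal.ofList_nil, Submodule.bot_smul]
    have h1 : LocCoh.depth A (M ⧸ (Ideal.ofList ([] : List A) • (⊤ : Submodule A M))) =
        LocCoh.depth A M := idealDepth_congr (Submodule.quotEquivOfEqBot _ h0)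
    rw [h1]
    simp
  | cons x xs ih =>
    intro M _ _ _ _ hxs hw
    have hx : x ∈ maximalIdeal A := hxs x (by simp)
    have hxs' : ∀ y ∈ xs, y ∈ maximalIdeal A := fun y hy => hxs y (by simp [hy])
    obtain ⟨hreg, hw'⟩ := (isWeaklyRegular_cons_iff M x xs).1 hw
    haveI : Nontrivial (QuotSMulTop x M) := nontrivial_quotSMulTop_of_mem_maximalIdeal M hx
    have h1 : LocCoh.depth A (M ⧸ (Ideal.ofList (x :: xs) • (⊤ : Submodule A M))) =
        LocCoh.depth A (QuotSMulTop x M ⧸
          (Ideal.ofList xs • (⊤ : Submodule A (QuotSMulTop x M)))) :=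
      idealDepth_congr (Submodule.quotOfListConsSMulTopEquivQuotSMulTopInner M x xs)
    have h2 := ih (QuotSMulTop x M) hxs' hw'
    have h3 := depth_quotSMulTop_add_one hx hreg
    rw [h1, List.length_cons, Nat.cast_add, Nat.cast_one, ← add_assoc, h2, h3]

/-- `depth M ≤ depth_p M + dim A/p`. -/
theorem depth_le_idealDepth_add_ringKrullDim_quotient {M : Type v} [AddCommGroup M] [Module A M]
    [Module.Finite A M] [Nontrivial M] (p : Ideal A) [p.IsPrime] :
    ((LocCoh.depth A M : ℕ∞) : WithBot ℕ∞) ≤
      ((LocCoh.idealDepth p M : ℕ∞) : WithBot ℕ∞) + ringKrullDim (A ⧸ p) := by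
  have hpm : p ≤ maximalIdeal A := IsLocalRing.le_maximalIdeal (Ideal.IsPrime.ne_top inferInstance)
  have hpM := smul_top_ne_top_of_le_maximalIdeal (M := M) hpm
  obtain ⟨r, hr⟩ := exists_nat_idealDepth (M := M) hpm
  obtain ⟨xs, hw, hxsI, hlen⟩ := (le_idealDepth_iff hpM r).1 (le_of_eq hr.symm)
  have hxs : ∀ x ∈ xs, x ∈ maximalIdeal A := fun x hx => hpm (hxsI x hx)
  haveI : Nontrivial (M ⧸ (Ideal.ofList xs • (⊤ : Submodule A M))) :=
    nontrivial_quotient_smul_top (ofList_le_maximalIdeal hxs)
  have hnoreg := forall_not_isSMulRegular_quotient_of_idealDepth_eq hpM hr hw hxsI hlen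
  obtain ⟨q, hq, hpq⟩ := exists_le_mem_associatedPrimes_of_forall_not_isSMulRegular hnoreg
  haveI := hq.isPrime
  have h1 := depth_le_ringKrullDim_quotient hq
  have h2 : ringKrullDim (A ⧸ q) ≤ ringKrullDim (A ⧸ p) :=
    ringKrullDim_le_of_surjective (Ideal.Quotient.factor hpq)
      (Ideal.Quotient.factor_surjective hpq)
  have h3 := depth_quotient_ofList_add_length xs M hxs hw
  obtain ⟨s, hs⟩ := exists_nat_ringKrullDim_quotient p
  obtain ⟨k', hk'⟩ := exists_nat_depth (A := A)
    (M := M ⧸ (Ideal.ofList xs • (⊤ : Submodule A M)))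
  have h4 := h1.trans h2
  rw [hk', hs] at h4
  rw [hk', hlen] at h3
  rw [← h3, hr, hs]
  have h5 : k' ≤ s := by exact_mod_cast h4
  exact_mod_cast (by omega : k' + r ≤ r + s)

theorem idealDepth_le_depth_atPrime {M : Type u} [AddCommGroup M] [Module A M] [Module.Finite A M]
    [Nontrivial M] (p : Ideal A) [p.IsPrime] :
    LocCoh.idealDepth p M ≤
      LocCoh.depth (Localization.AtPrime p) (LocalizedModule p.primeCompl M) := by
  have hpm : p ≤ maximalIdeal A := IsLocalRing.le_maximalIdeal (Ideal.IsPrime.ne_top inferInstance)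
  have hpM := smul_top_ne_top_of_le_maximalIdeal (M := M) hpm
  rw [← ENat.forall_natCast_le_iff_le]
  intro n hn
  exact le_idealDepth_of_hasSeq (hasSeq_atPrime p le_rfl ((le_idealDepth_iff hpM n).1 hn))

/-- Localization of a Cohen-Macaulay module: dimension and depth. -/
theorem isCM_atPrime_aux {M : Type u} [AddCommGroup M] [Module A M] [Module.Finite A M]
    (hM : LocCoh.IsCohenMacaulayModule A M) (p : PrimeSpectrum A) (hp : p ∈ Module.support A M) :
    ∃ r : ℕ, Module.supportDim A (M ⧸ (p.asIdeal • (⊤ : Submodule A M))) + (r : WithBot ℕ∞) =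
        Module.supportDim A M ∧
      Module.supportDim (Localization.AtPrime p.asIdeal)
        (LocalizedModule p.asIdeal.primeCompl M) = ((r : ℕ∞) : WithBot ℕ∞) ∧
      LocCoh.depth (Localization.AtPrime p.asIdeal)
        (LocalizedModule p.asIdeal.primeCompl M) = (r : ℕ∞) := by
  haveI := nontrivial_of_isCM hM
  haveI hnt : Nontrivial (LocalizedModule p.asIdeal.primeCompl M) := Module.mem_support_iff.1 hp
  obtain ⟨d, hd⟩ := exists_nat_supportDim (A := A) (M := M)
  obtain ⟨s, hs⟩ := exists_nat_ringKrullDim_quotient p.asIdeal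
  have hsd : s ≤ d := by
    have h1 := ringKrullDim_quotient_le_supportDim p hp
    rw [hs, hd] at h1
    exact_mod_cast h1
  obtain ⟨r, hrd⟩ : ∃ r : ℕ, s + r = d := ⟨d - s, by omega⟩
  have hr : ringKrullDim (A ⧸ p.asIdeal) + ((r : ℕ) : WithBot ℕ∞) =
      Module.supportDim A M := by
    rw [hs, hd]
    exact_mod_cast hrd
  obtain ⟨xs, hlen, hxs, hw⟩ := exists_regular_sequence_in_prime r M hM p hp hr
  have hseq' := hasSeq_atPrime p.asIdeal le_rfl (⟨xs, hw, hxs, hlen⟩ : HasSeq p.asIdeal M r)
  have h1 : ((r : ℕ) : ℕ∞) ≤ LocCoh.depth (Localization.AtPrime p.asIdeal)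
      (LocalizedModule p.asIdeal.primeCompl M) := le_idealDepth_of_hasSeq hseq'
  have h2 := depth_le_supportDim (A := Localization.AtPrime p.asIdeal)
    (M := LocalizedModule p.asIdeal.primeCompl M)
  have h3 := supportDim_atPrime_add_ringKrullDim_quotient_le p hp
  obtain ⟨e, he⟩ := exists_nat_supportDim (A := Localization.AtPrime p.asIdeal)
    (M := LocalizedModule p.asIdeal.primeCompl M)
  obtain ⟨k, hk⟩ := exists_nat_depth (A := Localization.AtPrime p.asIdeal)
    (M := LocalizedModule p.asIdeal.primeCompl M)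
  rw [hk] at h1 h2
  rw [he] at h2
  rw [he, hs, hd] at h3
  have h1' : r ≤ k := by exact_mod_cast h1
  have h2' : k ≤ e := by exact_mod_cast h2
  have h3' : e + s ≤ d := by exact_mod_cast h3
  have hek : e = r := by omega
  have hkk : k = r := by omega
  refine ⟨r, ?_, ?_, ?_⟩
  · rw [supportDim_quotient_prime_smul_top p hp]
    exact hr
  · rw [he, hek]
  · rw [hk, hkk]

/-- S2616: the codepth does not increase under localization. -/
theorem codepth_atPrime_le {M : Type u} [AddCommGroup M] [Module A M] [Module.Finite A M]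
    (p : Ideal A) [p.IsPrime] [Nontrivial (LocalizedModule p.primeCompl M)] :
    Module.supportDim (Localization.AtPrime p) (LocalizedModule p.primeCompl M) +
        ((LocCoh.depth A M : ℕ∞) : WithBot ℕ∞) ≤
      Module.supportDim A M +
        ((LocCoh.depth (Localization.AtPrime p) (LocalizedModule p.primeCompl M) : ℕ∞) :
          WithBot ℕ∞) := by
  have hp : (⟨p, inferInstance⟩ : PrimeSpectrum A) ∈ Module.support A M :=
    Module.mem_support_iff.2 ‹_›
  haveI : Nontrivial M := by
    by_contra hM
    rw [not_nontrivial_iff_subsingleton] at hM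
    rw [Module.support_eq_empty] at hp
    exact hp
  have hpm : p ≤ maximalIdeal A := IsLocalRing.le_maximalIdeal (Ideal.IsPrime.ne_top inferInstance)
  have h1 := depth_le_idealDepth_add_ringKrullDim_quotient (M := M) p
  have h2 := idealDepth_le_depth_atPrime (M := M) p
  have h3 := supportDim_atPrime_add_ringKrullDim_quotient_le (⟨p, inferInstance⟩ : PrimeSpectrum A) hp
  obtain ⟨d, hd⟩ := exists_nat_supportDim (A := A) (M := M)
  obtain ⟨k, hk⟩ := exists_nat_depth (A := A) (M := M)
  obtain ⟨s, hs⟩ := exists_nat_ringKrullDim_quotient p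
  obtain ⟨r, hr⟩ := exists_nat_idealDepth (M := M) hpm
  obtain ⟨e, he⟩ := exists_nat_supportDim (A := Localization.AtPrime p)
    (M := LocalizedModule p.primeCompl M)
  obtain ⟨k2, hk2⟩ := exists_nat_depth (A := Localization.AtPrime p)
    (M := LocalizedModule p.primeCompl M)
  rw [hk, hr, hs] at h1
  rw [hr, hk2] at h2
  have h3' : Module.supportDim (Localization.AtPrime p) (LocalizedModule p.primeCompl M) +
      ringKrullDim (A ⧸ p) ≤ Module.supportDim A M := h3
  rw [he, hs, hd] at h3'
  rw [he, hk, hd, hk2]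
  have h1' : k ≤ r + s := by exact_mod_cast h1
  have h2' : r ≤ k2 := by exact_mod_cast h2
  have h3'' : e + s ≤ d := by exact_mod_cast h3'
  exact_mod_cast (by omega : e + k ≤ d + k2)

end Local

end Groth.Agent.H29.CM
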