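import Mathlib
import Groth.Prelude.Def_EGA4b
import Groth.Prelude.Def_Found
import Groth.Agent.H15.FlatLoc
import Groth.Agent.H15.FibreSk
import Groth.Agent.H34.FibLoc

/-!
# Composition of regular / normal homomorphisms (helper29)

Generic machinery: if `B → C` is flat with geometrically regular (resp. normal) fibres, `R` is a
Noetherian regular (resp. normal) `B`-algebra which is quasi-finite over `B`, and `R ⊗[B] C` is
Noetherian, then `R ⊗[B] C` is regular (resp. normal).
-/

set_option autoImplicit false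
set_option maxHeartbeats 400000
set_option linter.style.haveILetI false
set_option linter.unusedVariables false
set_option linter.unusedSectionVars false

universe u

open TensorProduct

namespace Groth.Agent.H29.HomComp

section Field

variable {B : Type u} [CommRing B]

/-- A field `L` quasi-finite over `B` is finite over the residue field of any prime `q` of `B`
through which `B → L` factors. -/
theorem finite_of_quasiFinite_field (L : Type u) [Field L] [Algebra B L]
    [Algebra.QuasiFinite B L] (q : Ideal B) [q.IsPrime] [Algebra q.ResidueField L]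
    [IsScalarTower B q.ResidueField L] : Module.Finite q.ResidueField L := by
  haveI h1 : Module.Finite q.ResidueField (q.Fiber L) := Algebra.QuasiFinite.finite_fiber q
  let f : q.Fiber L →ₐ[q.ResidueField] L :=
    Algebra.TensorProduct.lift (Algebra.ofId q.ResidueField L) (AlgHom.id B L)
      (fun _ _ => Commute.all _ _)
  have hf : Function.Surjective f := by
    intro l
    refine ⟨1 ⊗ₜ[B] l, ?_⟩
    show Algebra.TensorProduct.lift (Algebra.ofId q.ResidueField L) (AlgHom.id B L)
      (fun _ _ => Commute.all _ _) (1 ⊗ₜ[B] l) = l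
    rw [Algebra.TensorProduct.lift_tmul, map_one, one_mul]
    rfl
  exact Module.Finite.of_surjective f.toLinearMap hf

variable (C : Type u) [CommRing C] [Algebra B C]

/-- For a field `L` quasi-finite over `B`, `L ⊗[B] C` is a finite base change of a fibre of
`B → C`. -/
theorem exists_fiber_field_equiv (L : Type u) [Field L] [Algebra B L] [Algebra.QuasiFinite B L] :
    ∃ (q : Ideal B) (_ : q.IsPrime) (_ : Algebra q.ResidueField L),
      Module.Finite q.ResidueField L ∧
      Nonempty (L ⊗[q.ResidueField] (q.Fiber C) ≃+* L ⊗[B] C) := by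
  let q : Ideal B := RingHom.ker (algebraMap B L)
  haveI hq : q.IsPrime := RingHom.ker_isPrime _
  let φ : q.ResidueField →+* L := Ideal.ResidueField.lift q (algebraMap B L) le_rfl (by
    intro x hx
    simp only [Submonoid.mem_comap, IsUnit.mem_submonoid_iff]
    exact IsUnit.mk0 _ (fun h0 => hx (by simpa [q, RingHom.mem_ker] using h0)))
  letI alg : Algebra q.ResidueField L := φ.toAlgebra
  haveI : IsScalarTower B q.ResidueField L := IsScalarTower.of_algebraMap_eq (fun x => by
    change algebraMap B L x = φ (algebraMap B q.ResidueField x)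
    rw [Ideal.ResidueField.lift_algebraMap])
  refine ⟨q, hq, alg, finite_of_quasiFinite_field L q, ⟨?_⟩⟩
  exact (Algebra.TensorProduct.cancelBaseChange B q.ResidueField q.ResidueField L C).toRingEquiv

theorem isRegularRing_tensor_field
    (hBC : ∀ (q : Ideal B) [q.IsPrime], CAlg.IsGeometricallyRegular q.ResidueField (q.Fiber C))
    (L : Type u) [Field L] [Algebra B L] [Algebra.QuasiFinite B L] :
    IsRegularRing (L ⊗[B] C) := by
  obtain ⟨q, hq, alg, hfin, ⟨e⟩⟩ := exists_fiber_field_equiv (B := B) C L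
  haveI := hq
  letI := alg
  have h : IsRegularRing (L ⊗[q.ResidueField] (q.Fiber C)) := hBC q L hfin
  exact @IsRegularRing.of_ringEquiv _ _ _ _ e h

theorem isNormalRing_tensor_field
    (hBC : ∀ (q : Ideal B) [q.IsPrime], EGA4.IsGeomNormal q.ResidueField (q.Fiber C))
    (L : Type u) [Field L] [Algebra B L] [Algebra.QuasiFinite B L] :
    EGA4.IsNormalRing (L ⊗[B] C) := by
  obtain ⟨q, hq, alg, hfin, ⟨e⟩⟩ := exists_fiber_field_equiv (B := B) C L
  haveI := hq
  letI := alg
  have h : EGA4.IsNormalRing (L ⊗[q.ResidueField] (q.Fiber C)) := hBC q L hfin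
  exact Groth.Agent.H34.FibLoc.isNormalRing_of_ringEquiv e h

end Field

section FibLoc

variable {R T : Type u} [CommRing R] [CommRing T] [Algebra R T]

/-- If all fibre rings of `R → T` are regular, so are all fibre local rings. -/
theorem isRegularLocalRing_fibLocRing
    (hfib : ∀ (Q : Ideal R) [Q.IsPrime], IsRegularRing (Q.Fiber T)) (𝔔 : Ideal T) [𝔔.IsPrime] :
    IsRegularLocalRing (EGA4.FibLocRing R T 𝔔) := by
  obtain ⟨𝔯, h𝔯, h𝔯eq⟩ :=
    Groth.Agent.H15.FibreSk.exists_fiber_prime R T (𝔔.comap (algebraMap R T)) 𝔔 rfl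
  haveI := h𝔯
  obtain ⟨-, ⟨e⟩⟩ := Groth.Agent.H15.FibreSk.exists_fiber_equiv R T (𝔔.comap (algebraMap R T)) 𝔯
  haveI := hfib (𝔔.comap (algebraMap R T))
  haveI h1 : IsRegularLocalRing (Localization.AtPrime 𝔯) :=
    IsRegularRing.isRegularLocalRing_localization 𝔯
  have h2 := IsRegularLocalRing.of_ringEquiv (R := Localization.AtPrime 𝔯) e
  have gen : ∀ (I : Ideal T) [I.IsPrime], I = 𝔔 → IsRegularLocalRing (EGA4.FibLocRing R T I) →
      IsRegularLocalRing (EGA4.FibLocRing R T 𝔔) := by
    intro I _ hI hc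
    subst hI
    exact hc
  exact gen _ h𝔯eq h2

/-- If all fibre rings of `R → T` are normal, so are all fibre local rings. -/
theorem normal_fibLocRing
    (hfib : ∀ (Q : Ideal R) [Q.IsPrime], EGA4.IsNormalRing (Q.Fiber T)) (𝔔 : Ideal T)
    [𝔔.IsPrime] :
    IsDomain (EGA4.FibLocRing R T 𝔔) ∧ IsIntegrallyClosed (EGA4.FibLocRing R T 𝔔) := by
  obtain ⟨𝔯, h𝔯, h𝔯eq⟩ :=
    Groth.Agent.H15.FibreSk.exists_fiber_prime R T (𝔔.comap (algebraMap R T)) 𝔔 rfl
  haveI := h𝔯
  obtain ⟨-, ⟨e⟩⟩ := Groth.Agent.H15.FibreSk.exists_fiber_equiv R T (𝔔.comap (algebraMap R T)) 𝔯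
  obtain ⟨hd, hic⟩ := hfib (𝔔.comap (algebraMap R T)) 𝔯
  haveI := hd
  haveI := hic
  have h2 : IsDomain (EGA4.FibLocRing R T
        (𝔯.comap (Algebra.TensorProduct.includeRight : T →ₐ[R] _))) ∧
      IsIntegrallyClosed (EGA4.FibLocRing R T
        (𝔯.comap (Algebra.TensorProduct.includeRight : T →ₐ[R] _))) :=
    ⟨e.symm.toMulEquiv.isDomain _, IsIntegrallyClosed.of_equiv (R := Localization.AtPrime 𝔯) e⟩
  have gen : ∀ (I : Ideal T) [I.IsPrime], I = 𝔔 →
      (IsDomain (EGA4.FibLocRing R T I) ∧ IsIntegrallyClosed (EGA4.FibLocRing R T I)) →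
      (IsDomain (EGA4.FibLocRing R T 𝔔) ∧ IsIntegrallyClosed (EGA4.FibLocRing R T 𝔔)) := by
    intro I _ hI hc
    subst hI
    exact hc
  exact gen _ h𝔯eq h2

end FibLoc

section Main

variable {B C : Type u} [CommRing B] [CommRing C] [Algebra B C] [Module.Flat B C]
  (R : Type u) [CommRing R] [Algebra B R] [Algebra.QuasiFinite B R]

/-- the fibre of `R → R ⊗[B] C` over `Q` is `κ(Q) ⊗[B] C`. -/
noncomputable def fiberTensorEquiv (Q : Ideal R) [Q.IsPrime] :
    Q.Fiber (R ⊗[B] C) ≃+* Q.ResidueField ⊗[B] C :=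
  (Algebra.TensorProduct.cancelBaseChange B R R Q.ResidueField C).toRingEquiv

theorem isRegularRing_tensor_of_quasiFinite
    (hBC : ∀ (q : Ideal B) [q.IsPrime], CAlg.IsGeometricallyRegular q.ResidueField (q.Fiber C))
    [IsRegularRing R] [IsNoetherianRing (R ⊗[B] C)] : IsRegularRing (R ⊗[B] C) := by
  have hfib : ∀ (Q : Ideal R) [Q.IsPrime], IsRegularRing (Q.Fiber (R ⊗[B] C)) := by
    intro Q _
    haveI := isRegularRing_tensor_field C hBC Q.ResidueField
    exact IsRegularRing.of_ringEquiv (fiberTensorEquiv (B := B) (C := C) R Q).symm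
  refine ⟨fun 𝔔 h𝔔 => ?_⟩
  have hf := isRegularLocalRing_fibLocRing hfib 𝔔
  haveI : IsLocalRing (EGA4.FibLocRing R (R ⊗[B] C) 𝔔) := hf.toIsLocalRing
  exact (Groth.Agent.H15.FlatLoc.flat_data R (R ⊗[B] C) 𝔔).2.2
    (IsRegularRing.isRegularLocalRing_localization _) hf

theorem isNormalRing_tensor_of_quasiFinite
    (hBC : ∀ (q : Ideal B) [q.IsPrime], EGA4.IsGeomNormal q.ResidueField (q.Fiber C))
    [IsNoetherianRing R] (hR : EGA4.IsNormalRing R) [IsNoetherianRing (R ⊗[B] C)] :
    EGA4.IsNormalRing (R ⊗[B] C) := by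
  have hfib : ∀ (Q : Ideal R) [Q.IsPrime], EGA4.IsNormalRing (Q.Fiber (R ⊗[B] C)) := by
    intro Q _
    have := isNormalRing_tensor_field C hBC Q.ResidueField
    exact Groth.Agent.H34.FibLoc.isNormalRing_of_ringEquiv
      (fiberTensorEquiv (B := B) (C := C) R Q).symm this
  intro 𝔔 h𝔔
  obtain ⟨hd, hic⟩ := hR (𝔔.comap (algebraMap R (R ⊗[B] C)))
  haveI := hd
  haveI := hic
  exact Groth.Agent.H15.FlatLoc.normal_of_flat R (R ⊗[B] C)
    (fun q _ => normal_fibLocRing hfib q) 𝔔

end Main

section Comp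

theorem isNoetherianRing_tensor_finite (k X K : Type u) [Field k] [CommRing X] [Algebra k X]
    [IsNoetherianRing X] [Field K] [Algebra k K] [Module.Finite k K] :
    IsNoetherianRing (K ⊗[k] X) := by
  haveI : Module.Finite X (X ⊗[k] K) := Module.Finite.base_change k X K
  haveI : IsNoetherianRing (X ⊗[k] K) := IsNoetherianRing.of_finite X (X ⊗[k] K)
  exact isNoetherianRing_of_ringEquiv _ (Algebra.TensorProduct.comm k X K).toRingEquiv

variable (A B C : Type u) [CommRing A] [CommRing B] [CommRing C] [Algebra A B] [Algebra B C]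
  [Algebra A C] [IsScalarTower A B C]
  (p : Ideal A) [p.IsPrime] (K : Type u) [Field K] [Algebra p.ResidueField K]
  [Algebra A K] [IsScalarTower A p.ResidueField K]

theorem quasiFinite_of_finite_residueField [Module.Finite p.ResidueField K] :
    Algebra.QuasiFinite A K := by
  haveI : Algebra.QuasiFinite A p.ResidueField := inferInstance
  exact Algebra.QuasiFinite.trans A p.ResidueField K

/-- `K ⊗_{κ(p)} (κ(p) ⊗_A B) ≅ B ⊗_A K`. -/
noncomputable def fibreBEquiv : K ⊗[p.ResidueField] (p.Fiber B) ≃+* B ⊗[A] K :=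
  (Algebra.TensorProduct.cancelBaseChange A p.ResidueField p.ResidueField K B).toRingEquiv.trans
    (Algebra.TensorProduct.comm A K B).toRingEquiv

/-- `(B ⊗_A K) ⊗_B C ≅ K ⊗_{κ(p)} (κ(p) ⊗_A C)`. -/
noncomputable def fibreCEquiv : (B ⊗[A] K) ⊗[B] C ≃+* K ⊗[p.ResidueField] (p.Fiber C) :=
  (Algebra.TensorProduct.comm B (B ⊗[A] K) C).toRingEquiv.trans
    ((Algebra.TensorProduct.cancelBaseChange A B B C K).toRingEquiv.trans
      ((Algebra.TensorProduct.comm A C K).toRingEquiv.trans
        (Algebra.TensorProduct.cancelBaseChange A p.ResidueField p.ResidueField K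
          C).symm.toRingEquiv))

end Comp

section Results

variable (A B C : Type u) [CommRing A] [CommRing B] [CommRing C] [Algebra A B] [Algebra B C]
  [Algebra A C] [IsScalarTower A B C]

/-- Composition of regular homomorphisms (fibres of the composite assumed Noetherian). -/
theorem isRegularHom_comp (hAB : CAlg.IsRegularHom A B) (hBC : CAlg.IsRegularHom B C)
    (hN : ∀ (p : Ideal A) [p.IsPrime], IsNoetherianRing (p.Fiber C)) :
    CAlg.IsRegularHom A C := by
  obtain ⟨hflatAB, hfibAB⟩ := hAB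
  obtain ⟨hflatBC, hfibBC⟩ := hBC
  haveI := hflatAB
  haveI := hflatBC
  refine ⟨Module.Flat.trans A B C, fun p hp => ⟨hN p, ?_⟩⟩
  intro K _ _ hfin
  haveI := hfin
  letI : Algebra A K :=
    ((algebraMap p.ResidueField K).comp (algebraMap A p.ResidueField)).toAlgebra
  haveI : IsScalarTower A p.ResidueField K := IsScalarTower.of_algebraMap_eq (fun _ => rfl)
  haveI : Algebra.QuasiFinite A K := quasiFinite_of_finite_residueField A p K
  haveI hR0 : IsRegularRing (K ⊗[p.ResidueField] (p.Fiber B)) := (hfibAB p).2 K hfin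
  haveI hR : IsRegularRing (B ⊗[A] K) :=
    @IsRegularRing.of_ringEquiv (K ⊗[p.ResidueField] (p.Fiber B)) _ (B ⊗[A] K) _
      (fibreBEquiv A B p K) hR0
  haveI := hN p
  haveI hT0 : IsNoetherianRing (K ⊗[p.ResidueField] (p.Fiber C)) :=
    isNoetherianRing_tensor_finite _ _ _
  haveI hT : IsNoetherianRing ((B ⊗[A] K) ⊗[B] C) :=
    isNoetherianRing_of_ringEquiv _ (fibreCEquiv A B C p K).symm
  have hfin := isRegularRing_tensor_of_quasiFinite (B := B) (C := C) (B ⊗[A] K)
    (fun q _ => (hfibBC q).2)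
  exact @IsRegularRing.of_ringEquiv ((B ⊗[A] K) ⊗[B] C) _ (K ⊗[p.ResidueField] (p.Fiber C)) _
    (fibreCEquiv A B C p K) hfin

/-- Composition of normal homomorphisms of Noetherian rings. -/
theorem isNormalHom_comp [IsNoetherianRing A] [IsNoetherianRing B] [IsNoetherianRing C]
    (hAB : EGA4.IsNormalHom A B) (hBC : EGA4.IsNormalHom B C) : EGA4.IsNormalHom A C := by
  obtain ⟨hflatAB, hfibAB⟩ := hAB
  obtain ⟨hflatBC, hfibBC⟩ := hBC
  haveI := hflatAB
  haveI := hflatBC
  refine ⟨Module.Flat.trans A B C, fun p hp => ?_⟩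
  intro K _ _ hfin
  haveI := hfin
  letI : Algebra A K :=
    ((algebraMap p.ResidueField K).comp (algebraMap A p.ResidueField)).toAlgebra
  haveI : IsScalarTower A p.ResidueField K := IsScalarTower.of_algebraMap_eq (fun _ => rfl)
  haveI : Algebra.QuasiFinite A K := quasiFinite_of_finite_residueField A p K
  have hR0 : EGA4.IsNormalRing (K ⊗[p.ResidueField] (p.Fiber B)) := hfibAB p K hfin
  have hR : EGA4.IsNormalRing (B ⊗[A] K) :=
    Groth.Agent.H34.FibLoc.isNormalRing_of_ringEquiv (fibreBEquiv A B p K) hR0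
  haveI : IsNoetherianRing (p.Fiber B) := Groth.Agent.H34.FibLoc.isNoetherianRing_fiber A B p
  haveI : IsNoetherianRing (p.Fiber C) := Groth.Agent.H34.FibLoc.isNoetherianRing_fiber A C p
  haveI hR1 : IsNoetherianRing (K ⊗[p.ResidueField] (p.Fiber B)) :=
    isNoetherianRing_tensor_finite _ _ _
  haveI hR2 : IsNoetherianRing (B ⊗[A] K) :=
    isNoetherianRing_of_ringEquiv _ (fibreBEquiv A B p K)
  haveI hT0 : IsNoetherianRing (K ⊗[p.ResidueField] (p.Fiber C)) :=
    isNoetherianRing_tensor_finite _ _ _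
  haveI hT : IsNoetherianRing ((B ⊗[A] K) ⊗[B] C) :=
    isNoetherianRing_of_ringEquiv _ (fibreCEquiv A B C p K).symm
  have := isNormalRing_tensor_of_quasiFinite (B := B) (C := C) (B ⊗[A] K) hfibBC hR
  exact Groth.Agent.H34.FibLoc.isNormalRing_of_ringEquiv (fibreCEquiv A B C p K) this

end Results

end Groth.Agent.H29.HomComp
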