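import Mathlib
import Groth.Prelude.Def_EGA4b
import Groth.Prelude.Def_Found
import Groth.Agent.H29.CplQuot
import Groth.Agent.H34.FibLoc

/-!
# Formal fibres of a quotient of a Noetherian local ring (helper29)

Geometric fibres of `A' → B'` (with `A → A'` surjective and `B' ≅ A' ⊗[A] B`) are geometric fibres
of `A → B`; applied to `A ⧸ I → Cpl (A ⧸ I) ≅ (A ⧸ I) ⊗[A] Cpl A`.
-/

set_option autoImplicit false
set_option maxHeartbeats 400000
set_option linter.style.haveILetI false
set_option linter.unusedVariables false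
set_option linter.unusedSectionVars false

universe u

open IsLocalRing TensorProduct

namespace Groth.Agent.H29.QuotFib

section General

variable (A B A' B' : Type u) [CommRing A] [CommRing B] [CommRing A'] [CommRing B']
  [Algebra A B] [Algebra A A'] [Algebra A' B']

theorem exists_ringEquiv_core (hsurj : Function.Surjective (algebraMap A A'))
    (e : B' ≃ₐ[A'] A' ⊗[A] B) (p' : Ideal A') [p'.IsPrime] (k' : Type u) [Field k']
    [Algebra p'.ResidueField k'] :
    ∃ (σ : (p'.comap (algebraMap A A')).ResidueField →+* p'.ResidueField)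
      (_ : Function.Bijective σ)
      (alg : Algebra (p'.comap (algebraMap A A')).ResidueField k'),
      (@algebraMap _ k' _ _ alg = (algebraMap p'.ResidueField k').comp σ) ∧
      Nonempty ((k' ⊗[(p'.comap (algebraMap A A')).ResidueField]
          (p'.comap (algebraMap A A')).Fiber B) ≃+*
        (k' ⊗[p'.ResidueField] p'.Fiber B')) := by
  set p := p'.comap (algebraMap A A') with hp
  let σ : p.ResidueField →+* p'.ResidueField :=
    Ideal.ResidueField.map p p' (algebraMap A A') rfl
  have hσ : Function.Bijective σ :=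
    (RingHom.surjectiveOnStalks_of_surjective hsurj).residueFieldMap_bijective p p' rfl
  let algκk' : Algebra p.ResidueField k' := ((algebraMap p'.ResidueField k').comp σ).toAlgebra
  refine ⟨σ, hσ, algκk', rfl, ⟨?_⟩⟩
  letI : Algebra A' k' :=
    ((algebraMap p'.ResidueField k').comp (algebraMap A' p'.ResidueField)).toAlgebra
  haveI : IsScalarTower A' p'.ResidueField k' := IsScalarTower.of_algebraMap_eq (fun _ => rfl)
  letI : Algebra A k' := ((algebraMap A' k').comp (algebraMap A A')).toAlgebra
  haveI : IsScalarTower A A' k' := IsScalarTower.of_algebraMap_eq (fun _ => rfl)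
  haveI : IsScalarTower A p.ResidueField k' := IsScalarTower.of_algebraMap_eq (fun a => by
    show algebraMap p'.ResidueField k' (algebraMap A' p'.ResidueField (algebraMap A A' a)) =
      algebraMap p'.ResidueField k' (σ (algebraMap A p.ResidueField a))
    rw [Ideal.ResidueField.map_algebraMap])
  let e1 : k' ⊗[p'.ResidueField] (p'.ResidueField ⊗[A'] B') ≃ₐ[p'.ResidueField] k' ⊗[A'] B' :=
    Algebra.TensorProduct.cancelBaseChange A' p'.ResidueField p'.ResidueField k' B'
  let e2 : k' ⊗[A'] (A' ⊗[A] B) ≃ₐ[A'] k' ⊗[A'] B' :=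
    Algebra.TensorProduct.congr AlgEquiv.refl e.symm
  let e3 : k' ⊗[A'] (A' ⊗[A] B) ≃ₐ[A'] k' ⊗[A] B :=
    Algebra.TensorProduct.cancelBaseChange A A' A' k' B
  let e4 : k' ⊗[p.ResidueField] (p.ResidueField ⊗[A] B) ≃ₐ[p.ResidueField] k' ⊗[A] B :=
    Algebra.TensorProduct.cancelBaseChange A p.ResidueField p.ResidueField k' B
  exact e4.toRingEquiv.trans (e3.symm.toRingEquiv.trans (e2.toRingEquiv.trans e1.symm.toRingEquiv))

/-- Finite version. -/
theorem exists_ringEquiv (hsurj : Function.Surjective (algebraMap A A'))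
    (e : B' ≃ₐ[A'] A' ⊗[A] B) (p' : Ideal A') [p'.IsPrime] (k' : Type u) [Field k']
    [Algebra p'.ResidueField k'] (hfin : Module.Finite p'.ResidueField k') :
    ∃ (_ : Algebra (p'.comap (algebraMap A A')).ResidueField k'),
      Module.Finite (p'.comap (algebraMap A A')).ResidueField k' ∧
      Nonempty ((k' ⊗[(p'.comap (algebraMap A A')).ResidueField]
          (p'.comap (algebraMap A A')).Fiber B) ≃+*
        (k' ⊗[p'.ResidueField] p'.Fiber B')) := by
  obtain ⟨σ, hσ, alg, halg, he⟩ := exists_ringEquiv_core A B A' B' hsurj e p' k'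
  refine ⟨alg, ?_, he⟩
  let := alg
  let algκκ' : Algebra (p'.comap (algebraMap A A')).ResidueField p'.ResidueField := σ.toAlgebra
  have : IsScalarTower (p'.comap (algebraMap A A')).ResidueField p'.ResidueField k' :=
    IsScalarTower.of_algebraMap_eq (fun x => by rw [halg]; rfl)
  have hfinκ : Module.Finite (p'.comap (algebraMap A A')).ResidueField p'.ResidueField :=
    Module.Finite.of_surjective
      (Algebra.linearMap (p'.comap (algebraMap A A')).ResidueField p'.ResidueField) hσ.2
  exact Module.Finite.trans p'.ResidueField k'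

/-- Algebraic version. -/
theorem exists_ringEquiv_algebraic (hsurj : Function.Surjective (algebraMap A A'))
    (e : B' ≃ₐ[A'] A' ⊗[A] B) (p' : Ideal A') [p'.IsPrime] (k' : Type u) [Field k']
    [Algebra p'.ResidueField k'] [Algebra.IsAlgebraic p'.ResidueField k'] :
    ∃ (_ : Algebra (p'.comap (algebraMap A A')).ResidueField k'),
      Algebra.IsAlgebraic (p'.comap (algebraMap A A')).ResidueField k' ∧
      Nonempty ((k' ⊗[(p'.comap (algebraMap A A')).ResidueField]
          (p'.comap (algebraMap A A')).Fiber B) ≃+*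
        (k' ⊗[p'.ResidueField] p'.Fiber B')) := by
  obtain ⟨σ, hσ, alg, halg, he⟩ := exists_ringEquiv_core A B A' B' hsurj e p' k'
  refine ⟨alg, ?_, he⟩
  let := alg
  exact Algebra.IsAlgebraic.of_ringHom_of_comp_eq σ (RingHom.id k') hσ.2
    Function.injective_id (by rw [halg]; rfl)

/-- The fibre itself (no field extension). -/
theorem exists_fiber_ringEquiv (hsurj : Function.Surjective (algebraMap A A'))
    (e : B' ≃ₐ[A'] A' ⊗[A] B) (p' : Ideal A') [p'.IsPrime] :
    Nonempty ((p'.comap (algebraMap A A')).Fiber B ≃+* p'.Fiber B') := by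
  obtain ⟨σ, hσ, alg, halg, ⟨e0⟩⟩ :=
    exists_ringEquiv_core A B A' B' hsurj e p' p'.ResidueField
  letI := alg
  set p := p'.comap (algebraMap A A') with hp
  have hbij : Function.Bijective (algebraMap p.ResidueField p'.ResidueField) := by
    rw [halg]
    exact hσ
  let f : p.ResidueField ≃ₐ[p.ResidueField] p'.ResidueField :=
    AlgEquiv.ofBijective (Algebra.ofId p.ResidueField p'.ResidueField) hbij
  let e5 : p.ResidueField ⊗[p.ResidueField] (p.Fiber B) ≃ₐ[p.ResidueField]
      p'.ResidueField ⊗[p.ResidueField] (p.Fiber B) :=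
    Algebra.TensorProduct.congr f AlgEquiv.refl
  let e6 : p.ResidueField ⊗[p.ResidueField] (p.Fiber B) ≃ₐ[p.ResidueField] p.Fiber B :=
    Algebra.TensorProduct.lid p.ResidueField (p.Fiber B)
  let e7 : p'.ResidueField ⊗[p'.ResidueField] (p'.Fiber B') ≃ₐ[p'.ResidueField] p'.Fiber B' :=
    Algebra.TensorProduct.lid p'.ResidueField (p'.Fiber B')
  exact ⟨e6.symm.toRingEquiv.trans (e5.toRingEquiv.trans (e0.trans e7.toRingEquiv))⟩

end General

section Cpl

variable (A : Type u) [CommRing A] [IsNoetherianRing A] [IsLocalRing A] (I : Ideal A)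
  [Nontrivial (A ⧸ I)]

theorem comap_isPrime (p' : Ideal (A ⧸ I)) [p'.IsPrime] :
    (p'.comap (algebraMap A (A ⧸ I))).IsPrime := inferInstance

/-- geometric formal fibres of `A ⧸ I` are geometric formal fibres of `A` (finite extensions). -/
theorem exists_formalFibre_equiv (p' : Ideal (A ⧸ I)) [p'.IsPrime] (k' : Type u) [Field k']
    [Algebra p'.ResidueField k'] (hfin : Module.Finite p'.ResidueField k') :
    ∃ (_ : Algebra (p'.comap (algebraMap A (A ⧸ I))).ResidueField k'),
      Module.Finite (p'.comap (algebraMap A (A ⧸ I))).ResidueField k' ∧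
      Nonempty ((k' ⊗[(p'.comap (algebraMap A (A ⧸ I))).ResidueField]
          EGA4.formalFibre A (p'.comap (algebraMap A (A ⧸ I)))) ≃+*
        (k' ⊗[p'.ResidueField] EGA4.formalFibre (A ⧸ I) p')) := by
  obtain ⟨e⟩ := Groth.Agent.H29.CplQuot.nonempty_cplQuotEquiv A I
  exact exists_ringEquiv A (EGA4.Cpl A) (A ⧸ I) (EGA4.Cpl (A ⧸ I)) Ideal.Quotient.mk_surjective e
    p' k' hfin

theorem exists_formalFibre_equiv_algebraic (p' : Ideal (A ⧸ I)) [p'.IsPrime] (k' : Type u)
    [Field k'] [Algebra p'.ResidueField k'] [Algebra.IsAlgebraic p'.ResidueField k'] :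
    ∃ (_ : Algebra (p'.comap (algebraMap A (A ⧸ I))).ResidueField k'),
      Algebra.IsAlgebraic (p'.comap (algebraMap A (A ⧸ I))).ResidueField k' ∧
      Nonempty ((k' ⊗[(p'.comap (algebraMap A (A ⧸ I))).ResidueField]
          EGA4.formalFibre A (p'.comap (algebraMap A (A ⧸ I)))) ≃+*
        (k' ⊗[p'.ResidueField] EGA4.formalFibre (A ⧸ I) p')) := by
  obtain ⟨e⟩ := Groth.Agent.H29.CplQuot.nonempty_cplQuotEquiv A I
  exact exists_ringEquiv_algebraic A (EGA4.Cpl A) (A ⧸ I) (EGA4.Cpl (A ⧸ I))
    Ideal.Quotient.mk_surjective e p' k'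

theorem nonempty_formalFibre_equiv (p' : Ideal (A ⧸ I)) [p'.IsPrime] :
    Nonempty (EGA4.formalFibre A (p'.comap (algebraMap A (A ⧸ I))) ≃+*
      EGA4.formalFibre (A ⧸ I) p') := by
  obtain ⟨e⟩ := Groth.Agent.H29.CplQuot.nonempty_cplQuotEquiv A I
  exact exists_fiber_ringEquiv A (EGA4.Cpl A) (A ⧸ I) (EGA4.Cpl (A ⧸ I))
    Ideal.Quotient.mk_surjective e p'

end Cpl

end Groth.Agent.H29.QuotFib
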