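import Mathlib
import Groth.Agent.H29.FlatCM

/-!
# Cohen–Macaulay fibres of a composite of flat local homomorphisms
-/

set_option autoImplicit false
set_option linter.style.haveILetI false
set_option maxHeartbeats 400000

universe u v

open IsLocalRing TensorProduct

namespace Groth.Agent.H29.FlatCMComp

open Groth.Agent.H29.FlatCM

theorem isUnit_of_isUnit_mk {R : Type*} [CommRing R] [IsLocalRing R] (J : Ideal R) (hJ : J ≠ ⊤)
    (x : R) (h : IsUnit (Ideal.Quotient.mk J x)) : IsUnit x := by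
  by_contra hx
  have hxm : x ∈ maximalIdeal R := (mem_maximalIdeal x).mpr hx
  have hle : J ≤ maximalIdeal R := IsLocalRing.le_maximalIdeal hJ
  have h1 : Ideal.Quotient.mk J x ∈ (maximalIdeal R).map (Ideal.Quotient.mk J) :=
    Ideal.mem_map_of_mem _ hxm
  have h2 : (maximalIdeal R).map (Ideal.Quotient.mk J) = ⊤ := Ideal.eq_top_of_isUnit_mem _ h1 h
  have h3 : ((maximalIdeal R).map (Ideal.Quotient.mk J)).comap (Ideal.Quotient.mk J) = ⊤ := by
    rw [h2]; exact Ideal.comap_top
  rw [Ideal.comap_map_of_surjective _ Ideal.Quotient.mk_surjective, ← RingHom.ker_eq_comap_bot,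
    Ideal.mk_ker, sup_eq_left.mpr hle] at h3
  exact (maximalIdeal.isMaximal R).ne_top h3

/-- descent of flatness along a faithfully flat extension of the top ring -/
theorem flat_of_flat_of_faithfullyFlat (A B C : Type u) [CommRing A] [CommRing B] [CommRing C]
    [Algebra A B] [Algebra B C] [Algebra A C] [IsScalarTower A B C] [Module.FaithfullyFlat B C]
    [Module.Flat A C] : Module.Flat A B := by
  rw [Module.Flat.iff_lTensor_preserves_injective_linearMap]
  intro N P _ _ _ _ f hf
  have h1 : Function.Injective (LinearMap.lTensor C f) :=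
    Module.Flat.lTensor_preserves_injective_linearMap f hf
  have h2 : Function.Injective
      (LinearMap.lTensor C (AlgebraTensorModule.lTensor B B f)) := by
    have hcomm : ∀ z : C ⊗[B] (B ⊗[A] N),
        AlgebraTensorModule.cancelBaseChange A B C C P
          (LinearMap.lTensor C (AlgebraTensorModule.lTensor B B f) z) =
        LinearMap.lTensor C f (AlgebraTensorModule.cancelBaseChange A B C C N z) := by
      intro z
      induction z using TensorProduct.induction_on with
      | zero => simp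
      | tmul c w =>
        induction w using TensorProduct.induction_on with
        | zero => simp
        | tmul b n =>
          simp [AlgebraTensorModule.cancelBaseChange_tmul]
        | add w1 w2 h1 h2 =>
          rw [TensorProduct.tmul_add, map_add, map_add, h1, h2, map_add, map_add]
      | add z1 z2 h1 h2 => rw [map_add, map_add, h1, h2, map_add, map_add]
    intro z1 z2 hz
    apply (AlgebraTensorModule.cancelBaseChange A B C C N).injective
    apply h1
    rw [← hcomm, ← hcomm, hz]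
  exact (Module.FaithfullyFlat.lTensor_injective_iff_injective B C
    (AlgebraTensorModule.lTensor B B f)).mp h2

section Comp

variable {A B C : Type u} [CommRing A] [CommRing B] [CommRing C] [IsLocalRing A] [IsLocalRing B]
  [IsLocalRing C] [Algebra A B] [Algebra B C] [IsLocalHom (algebraMap A B)]
  [IsLocalHom (algebraMap B C)]

theorem mB_ne_top' : EGA4.mB A B ≠ ⊤ := fun htop =>
  (maximalIdeal.isMaximal B).ne_top
    (top_le_iff.mp (htop ▸ IsLocalRing.map_maximalIdeal_le (algebraMap A B)))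

theorem map_mB_le : (EGA4.mB A B).map (algebraMap B C) ≤ EGA4.mB B C :=
  Ideal.map_mono (IsLocalRing.map_maximalIdeal_le (algebraMap A B))

theorem map_mB_ne_top : (EGA4.mB A B).map (algebraMap B C) ≠ ⊤ := fun h =>
  mB_ne_top' (A := B) (B := C) (top_le_iff.mp (h ▸ map_mB_le))

theorem isLocalRing_F3 : IsLocalRing (C ⧸ (EGA4.mB A B).map (algebraMap B C)) := by
  haveI : Nontrivial (C ⧸ (EGA4.mB A B).map (algebraMap B C)) :=
    Submodule.Quotient.nontrivial_iff.mpr map_mB_ne_top
  exact IsLocalRing.of_surjective' (Ideal.Quotient.mk _) Ideal.Quotient.mk_surjective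

theorem isLocalHom_F1F3 :
    IsLocalHom (algebraMap (EGA4.FibRing A B) (C ⧸ (EGA4.mB A B).map (algebraMap B C))) := by
  constructor
  intro a ha
  obtain ⟨b, rfl⟩ := Ideal.Quotient.mk_surjective a
  have h1 : IsUnit (Ideal.Quotient.mk ((EGA4.mB A B).map (algebraMap B C))
      (algebraMap B C b)) := ha
  have h2 : IsUnit (algebraMap B C b) := isUnit_of_isUnit_mk _ map_mB_ne_top _ h1
  have h3 : IsUnit b := isUnit_of_map_unit (algebraMap B C) b h2
  exact h3.map (Ideal.Quotient.mk _)

theorem flat_F1F3 [Module.Flat B C] :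
    Module.Flat (EGA4.FibRing A B) (C ⧸ (EGA4.mB A B).map (algebraMap B C)) :=
  Module.Flat.of_linearEquiv
    (Algebra.TensorProduct.quotIdealMapEquivQuotTensor C (EGA4.mB A B)).toLinearEquiv

theorem nonempty_fibEquiv :
    Nonempty (EGA4.FibRing (EGA4.FibRing A B) (C ⧸ (EGA4.mB A B).map (algebraMap B C)) ≃+*
      EGA4.FibRing B C) := by
  have h : (maximalIdeal (EGA4.FibRing A B)).map
      (algebraMap (EGA4.FibRing A B) (C ⧸ (EGA4.mB A B).map (algebraMap B C))) =
      (EGA4.mB B C).map (Ideal.Quotient.mk ((EGA4.mB A B).map (algebraMap B C))) := by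
    have e1 := map_mk_maximalIdeal (EGA4.mB A B) (mB_ne_top' (A := A) (B := B))
    calc (maximalIdeal (EGA4.FibRing A B)).map
          (algebraMap (EGA4.FibRing A B) (C ⧸ (EGA4.mB A B).map (algebraMap B C)))
        = ((maximalIdeal B).map (Ideal.Quotient.mk (EGA4.mB A B))).map
          (algebraMap (EGA4.FibRing A B) (C ⧸ (EGA4.mB A B).map (algebraMap B C))) := by
          rw [e1]
      _ = (maximalIdeal B).map
          ((algebraMap (EGA4.FibRing A B) (C ⧸ (EGA4.mB A B).map (algebraMap B C))).comp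
            (Ideal.Quotient.mk (EGA4.mB A B))) := Ideal.map_map _ _
      _ = (maximalIdeal B).map
          ((Ideal.Quotient.mk ((EGA4.mB A B).map (algebraMap B C))).comp (algebraMap B C)) := rfl
      _ = _ := (Ideal.map_map _ _).symm
  exact ⟨(Ideal.quotEquivOfEq h).trans
    ((DoubleQuot.quotQuotEquivQuotSup ((EGA4.mB A B).map (algebraMap B C)) (EGA4.mB B C)).trans
      (Ideal.quotEquivOfEq (sup_eq_right.mpr map_mB_le)))⟩

/-- If the closed fibres of `A → B` and `B → C` are Cohen–Macaulay and `C` is flat over `B`, the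
closed fibre of `A → C` is Cohen–Macaulay. -/
theorem isCM_fibre_comp [Module.Flat B C]
    [IsNoetherianRing (C ⧸ (EGA4.mB A B).map (algebraMap B C))]
    (h1 : LocCoh.IsCohenMacaulayLocalRing (EGA4.FibRing A B))
    (h2 : LocCoh.IsCohenMacaulayLocalRing (EGA4.FibRing B C)) :
    LocCoh.IsCohenMacaulayLocalRing (C ⧸ (EGA4.mB A B).map (algebraMap B C)) := by
  haveI := isLocalRing_F3 (A := A) (B := B) (C := C)
  haveI := isLocalHom_F1F3 (A := A) (B := B) (C := C)
  haveI := flat_F1F3 (A := A) (B := B) (C := C)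
  haveI := h1
  obtain ⟨e⟩ := nonempty_fibEquiv (A := A) (B := B) (C := C)
  have h2' := isCM_ringEquiv e.symm h2
  exact isCM_of_flat_of_isCM_of_isCM (A := EGA4.FibRing A B)
    (B := C ⧸ (EGA4.mB A B).map (algebraMap B C)) h1 h2'

/-- If the closed fibre of `A → C` is Cohen–Macaulay and `C` is flat over `B`, then the closed fibres
of `A → B` and `B → C` are Cohen–Macaulay. -/
theorem isCM_fibre_decomp [Module.Flat B C] [IsNoetherianRing (EGA4.FibRing A B)]
    (h3 : LocCoh.IsCohenMacaulayLocalRing (C ⧸ (EGA4.mB A B).map (algebraMap B C))) :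
    LocCoh.IsCohenMacaulayLocalRing (EGA4.FibRing A B) ∧
      LocCoh.IsCohenMacaulayLocalRing (EGA4.FibRing B C) := by
  haveI := isLocalRing_F3 (A := A) (B := B) (C := C)
  haveI := isLocalHom_F1F3 (A := A) (B := B) (C := C)
  haveI := flat_F1F3 (A := A) (B := B) (C := C)
  haveI := h3
  obtain ⟨e⟩ := nonempty_fibEquiv (A := A) (B := B) (C := C)
  obtain ⟨hA, hF⟩ := isCM_of_flat_of_isCM (A := EGA4.FibRing A B)
    (B := C ⧸ (EGA4.mB A B).map (algebraMap B C)) h3
  exact ⟨hA, isCM_ringEquiv e hF⟩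

end Comp

section Hom

variable {A B C F1 F2 F3 : Type u} [CommRing A] [CommRing B] [CommRing C] [CommRing F1]
  [CommRing F2] [CommRing F3] [IsLocalRing A] [IsLocalRing B] [IsLocalRing C] [IsLocalRing F1]
  [IsLocalRing F2] [IsLocalRing F3]

theorem local_comp (φ : A →+* B) (ψ : B →+* C) [IsLocalHom φ] [IsLocalHom ψ] (hψ : ψ.Flat)
    (e1 : (B ⧸ Ideal.map φ (maximalIdeal A)) ≃+* F1)
    (e2 : (C ⧸ Ideal.map ψ (maximalIdeal B)) ≃+* F2)
    (e3 : (C ⧸ Ideal.map (ψ.comp φ) (maximalIdeal A)) ≃+* F3)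
    [IsNoetherianRing F3] (h1 : LocCoh.IsCohenMacaulayLocalRing F1)
    (h2 : LocCoh.IsCohenMacaulayLocalRing F2) : LocCoh.IsCohenMacaulayLocalRing F3 := by
  letI : Algebra A B := φ.toAlgebra
  letI : Algebra B C := ψ.toAlgebra
  haveI : IsLocalHom (algebraMap A B) := ‹IsLocalHom φ›
  haveI : IsLocalHom (algebraMap B C) := ‹IsLocalHom ψ›
  haveI : Module.Flat B C := hψ
  have hI : (EGA4.mB A B).map (algebraMap B C) = Ideal.map (ψ.comp φ) (maximalIdeal A) :=
    Ideal.map_map _ _
  have e3' : (C ⧸ (EGA4.mB A B).map (algebraMap B C)) ≃+* F3 := (Ideal.quotEquivOfEq hI).trans e3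
  haveI := isLocalRing_F3 (A := A) (B := B) (C := C)
  haveI : IsNoetherianRing (C ⧸ (EGA4.mB A B).map (algebraMap B C)) :=
    isNoetherianRing_of_ringEquiv F3 e3'.symm
  have h1' : LocCoh.IsCohenMacaulayLocalRing (EGA4.FibRing A B) := isCM_ringEquiv e1.symm h1
  have h2' : LocCoh.IsCohenMacaulayLocalRing (EGA4.FibRing B C) := isCM_ringEquiv e2.symm h2
  exact isCM_ringEquiv e3' (isCM_fibre_comp h1' h2')

theorem local_decomp (φ : A →+* B) (ψ : B →+* C) [IsLocalHom φ] [IsLocalHom ψ] (hψ : ψ.Flat)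
    (e1 : (B ⧸ Ideal.map φ (maximalIdeal A)) ≃+* F1)
    (e2 : (C ⧸ Ideal.map ψ (maximalIdeal B)) ≃+* F2)
    (e3 : (C ⧸ Ideal.map (ψ.comp φ) (maximalIdeal A)) ≃+* F3)
    [IsNoetherianRing F1] (h3 : LocCoh.IsCohenMacaulayLocalRing F3) :
    LocCoh.IsCohenMacaulayLocalRing F1 ∧ LocCoh.IsCohenMacaulayLocalRing F2 := by
  letI : Algebra A B := φ.toAlgebra
  letI : Algebra B C := ψ.toAlgebra
  haveI : IsLocalHom (algebraMap A B) := ‹IsLocalHom φ›
  haveI : IsLocalHom (algebraMap B C) := ‹IsLocalHom ψ›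
  haveI : Module.Flat B C := hψ
  have hI : (EGA4.mB A B).map (algebraMap B C) = Ideal.map (ψ.comp φ) (maximalIdeal A) :=
    Ideal.map_map _ _
  have e3' : (C ⧸ (EGA4.mB A B).map (algebraMap B C)) ≃+* F3 := (Ideal.quotEquivOfEq hI).trans e3
  haveI := isLocalRing_F3 (A := A) (B := B) (C := C)
  haveI : IsNoetherianRing (EGA4.FibRing A B) := isNoetherianRing_of_ringEquiv F1 e1.symm
  have h3' : LocCoh.IsCohenMacaulayLocalRing (C ⧸ (EGA4.mB A B).map (algebraMap B C)) :=
    isCM_ringEquiv e3'.symm h3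
  obtain ⟨hA, hF⟩ := isCM_fibre_decomp (A := A) (B := B) (C := C) h3'
  exact ⟨isCM_ringEquiv e1 hA, isCM_ringEquiv e2 hF⟩

end Hom

end Groth.Agent.H29.FlatCMComp
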