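import Mathlib
import Groth.Agent.H29.FlatCMComp
import Groth.Agent.H9.FiberStalk

/-!
# Local rings of fibres at a point of the source, and flatness along composites
-/

set_option autoImplicit false
set_option linter.style.haveILetI false
set_option maxHeartbeats 400000

universe u

open AlgebraicGeometry CategoryTheory IsLocalRing

namespace Groth.Agent.H29.FiberStalkAt

/-- `O_{X,x} / m_{f x} O_{X,x}` is the local ring at `y` of the fibre, for `y` over `x`. -/
theorem nonempty_fiberStalkEquiv_of_eq {X S : Scheme.{u}} (f : X ⟶ S) (s : S) (y : ↥(f.fiber s))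
    (x : X) (hx : (f.fiberι s).base y = x) :
    Nonempty ((X.presheaf.stalk x ⧸ Ideal.map (f.stalkMap x).hom
      (maximalIdeal (S.presheaf.stalk (f.base x)))) ≃+* (f.fiber s).presheaf.stalk y) := by
  subst hx
  exact ⟨Groth.Agent.H9.fiberStalkEquiv f s y⟩

/-- `O_{X,x} / m_{f x} O_{X,x}` is the local ring at `x` of the fibre through `x`. -/
theorem nonempty_fiberStalkEquiv {X S : Scheme.{u}} (f : X ⟶ S) (x : X) :
    Nonempty ((X.presheaf.stalk x ⧸ Ideal.map (f.stalkMap x).hom
      (maximalIdeal (S.presheaf.stalk (f.base x)))) ≃+*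
        (f.fiber (f.base x)).presheaf.stalk (f.asFiber x)) :=
  nonempty_fiberStalkEquiv_of_eq f (f.base x) (f.asFiber x) x (f.fiberι_asFiber x)

theorem stalkMap_comp_hom {X Y Z : Scheme.{u}} (f : X ⟶ Y) (g : Y ⟶ Z) (x : X) :
    ((f ≫ g).stalkMap x).hom = (f.stalkMap x).hom.comp (g.stalkMap (f.base x)).hom :=
  (congrArg CommRingCat.Hom.hom (Scheme.Hom.stalkMap_comp f g x)).trans rfl

/-- If `ψ ∘ φ` is flat and `ψ` is a flat local homomorphism, then `φ` is flat. -/
theorem flat_of_comp {A B C : Type u} [CommRing A] [CommRing B] [CommRing C] [IsLocalRing B]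
    [IsLocalRing C] (φ : A →+* B) (ψ : B →+* C) [IsLocalHom ψ] (hψ : ψ.Flat)
    (hc : (ψ.comp φ).Flat) : φ.Flat := by
  letI : Algebra A B := φ.toAlgebra
  letI : Algebra B C := ψ.toAlgebra
  letI : Algebra A C := (ψ.comp φ).toAlgebra
  haveI : IsScalarTower A B C := IsScalarTower.of_algebraMap_eq (fun _ => rfl)
  haveI : IsLocalHom (algebraMap B C) := ‹IsLocalHom ψ›
  haveI : Module.Flat B C := hψ
  haveI : Module.FaithfullyFlat B C := Module.FaithfullyFlat.of_flat_of_isLocalHom
  haveI : Module.Flat A C := hc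
  exact Groth.Agent.H29.FlatCMComp.flat_of_flat_of_faithfullyFlat A B C

end Groth.Agent.H29.FiberStalkAt
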