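import Groth.Agent.H29.LocQuot

/-!
# Depth is insensitive to finite ring extensions; localization of a ring as a module over itself
-/

set_option autoImplicit false

universe u v

open RingTheory.Sequence IsLocalRing
open Groth.Agent.H15.Depth
open scoped Pointwise

namespace Groth.Agent.H29.DepthFinite

theorem succ_le_add_one_iff {n : ℕ} {d : ℕ∞} :
    ((n + 1 : ℕ) : ℕ∞) ≤ d + 1 ↔ (n : ℕ∞) ≤ d := by
  cases d using ENat.recTopCoe with
  | top => simp
  | coe m =>
    constructor
    · intro h
      have h1 : n + 1 ≤ m + 1 := by exact_mod_cast h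
      have h2 : n ≤ m := by omega
      exact_mod_cast h2
    · intro h
      have h1 : n ≤ m := by exact_mod_cast h
      have h2 : n + 1 ≤ m + 1 := by omega
      exact_mod_cast h2

section SelfLoc

variable {R : Type u} [CommRing R]

/-- The localization of `R` as a module is the localization of `R` as a ring. -/
noncomputable def selfEquiv (S : Submonoid R) :
    LocalizedModule S R ≃ₗ[Localization S] Localization S :=
  (IsLocalizedModule.iso S (Algebra.linearMap R (Localization S))).extendScalarsOfIsLocalization S
    (Localization S)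

end SelfLoc

section Finite

variable {A : Type u} {B : Type u} [CommRing A] [CommRing B] [Algebra A B]
variable {M : Type v} [AddCommGroup M] [Module B M] [Module A M] [IsScalarTower A B M]

theorem map_smul_mem (a : Ideal A) {b : B} (hb : b ∈ a.map (algebraMap A B)) :
    ∀ m : M, b • m ∈ a • (⊤ : Submodule A M) := by
  have hb' : b ∈ Submodule.span B (algebraMap A B '' (a : Set A)) := hb
  refine Submodule.span_induction
    (p := fun b _ => ∀ m : M, b • m ∈ a • (⊤ : Submodule A M)) ?_ ?_ ?_ ?_ hb'
  · rintro _ ⟨x, hx, rfl⟩ m
    rw [algebraMap_smul]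
    exact Submodule.smul_mem_smul hx Submodule.mem_top
  · intro m
    rw [zero_smul]
    exact Submodule.zero_mem _
  · intro b c _ _ hb hc m
    rw [add_smul]
    exact Submodule.add_mem _ (hb m) (hc m)
  · intro c b _ hb m
    rw [smul_eq_mul, mul_comm, mul_smul]
    exact hb (c • m)

theorem smul_top_iff (a : Ideal A) (m : M) :
    m ∈ (a.map (algebraMap A B)) • (⊤ : Submodule B M) ↔ m ∈ a • (⊤ : Submodule A M) := by
  constructor
  · intro h
    refine Submodule.smul_induction_on h ?_ ?_
    · intro b hb n _
      exact map_smul_mem a hb n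
    · intro x y hx hy
      exact Submodule.add_mem _ hx hy
  · intro h
    refine Submodule.smul_induction_on h ?_ ?_
    · intro x hx n _
      rw [← algebraMap_smul B x n]
      exact Submodule.smul_mem_smul (Ideal.mem_map_of_mem _ hx) Submodule.mem_top
    · intro x y hx hy
      exact Submodule.add_mem _ hx hy

theorem smul_top_ne_top_map (a : Ideal A) (h : a • (⊤ : Submodule A M) ≠ ⊤) :
    (a.map (algebraMap A B)) • (⊤ : Submodule B M) ≠ ⊤ := by
  intro htop
  apply h
  rw [eq_top_iff]
  intro m _
  rw [← smul_top_iff (B := B) a m, htop]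
  trivial

theorem isSMulRegular_algebraMap_iff (x : A) :
    IsSMulRegular M (algebraMap A B x) ↔ IsSMulRegular M x := by
  constructor
  · intro h m₁ m₂ hm
    apply h
    show algebraMap A B x • m₁ = algebraMap A B x • m₂
    rw [algebraMap_smul, algebraMap_smul]
    exact hm
  · intro h m₁ m₂ hm
    apply h
    show x • m₁ = x • m₂
    rw [← algebraMap_smul B x m₁, ← algebraMap_smul B x m₂]
    exact hm

theorem hasSocle_map_iff (a : Ideal A) :
    HasSocle (a.map (algebraMap A B)) M ↔ HasSocle a M := by
  constructor
  · rintro ⟨m, hm0, hm⟩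
    refine ⟨m, hm0, fun x hx => ?_⟩
    rw [← algebraMap_smul B x m]
    exact hm _ (Ideal.mem_map_of_mem _ hx)
  · rintro ⟨m, hm0, hm⟩
    refine ⟨m, hm0, fun b hb => ?_⟩
    have hb' : b ∈ Submodule.span B (algebraMap A B '' (a : Set A)) := hb
    have key : ∀ n : M, (∀ x ∈ a, x • n = 0) → b • n = 0 := by
      refine Submodule.span_induction
        (p := fun b _ => ∀ n : M, (∀ x ∈ a, x • n = 0) → b • n = 0) ?_ ?_ ?_ ?_ hb'
      · rintro _ ⟨x, hx, rfl⟩ n hn
        rw [algebraMap_smul]
        exact hn x hx
      · intro n _
        exact zero_smul _ _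
      · intro b c _ _ hb hc n hn
        rw [add_smul, hb n hn, hc n hn, add_zero]
      · intro c b _ hb n hn
        rw [smul_eq_mul, mul_smul, hb n hn, smul_zero]
    exact key m hm

/-- `M/xM` computed over `A` and over `B`. -/
noncomputable def quotEquiv (x : A) :
    QuotSMulTop x M ≃ₗ[A] QuotSMulTop (algebraMap A B x) M :=
  Submodule.quotEquivOfEq (x • (⊤ : Submodule A M))
    ((algebraMap A B x • (⊤ : Submodule B M)).restrictScalars A) (by
      ext m
      simp only [Submodule.restrictScalars_mem, Submodule.mem_smul_pointwise_iff_exists,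
        Submodule.mem_top, true_and]
      constructor
      · rintro ⟨n, rfl⟩
        exact ⟨n, algebraMap_smul B x n⟩
      · rintro ⟨n, rfl⟩
        exact ⟨n, (algebraMap_smul B x n).symm⟩) ≪≫ₗ
  Submodule.Quotient.restrictScalarsEquiv A (algebraMap A B x • (⊤ : Submodule B M))

end Finite

section Main

variable {A : Type u} {B : Type u} [CommRing A] [CommRing B] [Algebra A B]

theorem natCast_le_idealDepth_iff [IsNoetherianRing A] [IsLocalRing A] [Module.Finite A B]
    (a : Ideal A) (ha : a ≤ maximalIdeal A) (n : ℕ) :
    ∀ (M : Type u) [AddCommGroup M] [Module B M] [Module A M] [IsScalarTower A B M]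
      [Module.Finite B M],
      (n : ℕ∞) ≤ LocCoh.idealDepth a M ↔
        (n : ℕ∞) ≤ LocCoh.idealDepth (a.map (algebraMap A B)) M := by
  haveI : IsNoetherianRing B := IsNoetherianRing.of_finite A B
  induction n with
  | zero =>
    intro M _ _ _ _ _
    simp
  | succ n ih =>
    intro M _ _ _ _ _
    haveI : Module.Finite A M := Module.Finite.trans B M
    by_cases hM : Subsingleton M
    · rw [idealDepth_eq_top_of_subsingleton, idealDepth_eq_top_of_subsingleton]
    · rw [not_subsingleton_iff_nontrivial] at hM
      have hA : a • (⊤ : Submodule A M) ≠ ⊤ := CM.smul_top_ne_top_of_le_maximalIdeal ha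
      have hB : (a.map (algebraMap A B)) • (⊤ : Submodule B M) ≠ ⊤ := smul_top_ne_top_map a hA
      rcases exists_regular_or_hasSocle (I := a) M with ⟨x, hx, hreg⟩ | hsoc
      · have e := quotEquiv (B := B) (M := M) x
        have h1 := idealDepth_quotSMulTop_add_one hA hx hreg
        have hregB : IsSMulRegular M (algebraMap A B x) :=
          (isSMulRegular_algebraMap_iff x).mpr hreg
        have h2 := idealDepth_quotSMulTop_add_one hB (Ideal.mem_map_of_mem _ hx) hregB
        have h3 : LocCoh.idealDepth a (QuotSMulTop x M) =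
            LocCoh.idealDepth a (QuotSMulTop (algebraMap A B x) M) :=
          Groth.Agent.H15.DepthSpread.idealDepth_congr e
        have h4 := ih (QuotSMulTop (algebraMap A B x) M)
        rw [← h1, ← h2, succ_le_add_one_iff, succ_le_add_one_iff, h3]
        exact h4
      · constructor <;> intro h <;> exfalso
        · obtain ⟨y, hy, hyreg, -⟩ := hasSeq_succ_iff.mp ((le_idealDepth_iff hA (n + 1)).mp h)
          exact hsoc.not_regular hy hyreg
        · obtain ⟨y, hy, hyreg, -⟩ := hasSeq_succ_iff.mp ((le_idealDepth_iff hB (n + 1)).mp h)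
          exact ((hasSocle_map_iff a).mpr hsoc).not_regular hy hyreg

theorem idealDepth_eq_idealDepth_map [IsNoetherianRing A] [IsLocalRing A] [Module.Finite A B]
    (a : Ideal A) (ha : a ≤ maximalIdeal A) (M : Type u) [AddCommGroup M] [Module B M] [Module A M]
    [IsScalarTower A B M] [Module.Finite B M] :
    LocCoh.idealDepth a M = LocCoh.idealDepth (a.map (algebraMap A B)) M := by
  apply le_antisymm
  · rw [← ENat.forall_natCast_le_iff_le]
    intro n hn
    exact (natCast_le_idealDepth_iff a ha n M).mp hn
  · rw [← ENat.forall_natCast_le_iff_le]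
    intro n hn
    exact (natCast_le_idealDepth_iff a ha n M).mpr hn

end Main

end Groth.Agent.H29.DepthFinite
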