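import Groth.Agent.H29.CM4
import Groth.Agent.H15.DepthSpread2

/-!
# Localization of quotients, and depth as an infimum of local depths
-/

set_option autoImplicit false

universe u v

open RingTheory.Sequence IsLocalRing
open Groth.Agent.H15.Depth

namespace Groth.Agent.H29.LocQuot

section General

variable {R : Type u} [CommRing R]

/-- Localization commutes with the quotient by `I • ⊤`. -/
noncomputable def locQuotIdealEquiv (S : Submonoid R) (I : Ideal R) (M : Type v) [AddCommGroup M]
    [Module R M] :
    LocalizedModule S (M ⧸ (I • (⊤ : Submodule R M))) ≃ₗ[Localization S]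
      (LocalizedModule S M ⧸ (I.map (algebraMap R (Localization S)) •
        (⊤ : Submodule (Localization S) (LocalizedModule S M)))) :=
  (localizedQuotientEquiv S (I • (⊤ : Submodule R M))).symm ≪≫ₗ
    Submodule.quotEquivOfEq _ _ (by rw [Submodule.localized,
      Submodule.localized'_smul, Ideal.localized'_eq_map, Submodule.localized'_top])

/-- Localization commutes with the quotient by a list of elements. -/
noncomputable def locQuotListEquiv (S : Submonoid R) (rs : List R) (M : Type v) [AddCommGroup M]
    [Module R M] :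
    LocalizedModule S (M ⧸ (Ideal.ofList rs • (⊤ : Submodule R M))) ≃ₗ[Localization S]
      (LocalizedModule S M ⧸ (Ideal.ofList (rs.map (algebraMap R (Localization S))) •
        (⊤ : Submodule (Localization S) (LocalizedModule S M)))) :=
  locQuotIdealEquiv S (Ideal.ofList rs) M ≪≫ₗ
    Submodule.quotEquivOfEq _ _ (by rw [Ideal.map_ofList])

theorem depth_eq_top_of_subsingleton (p : Ideal R) [p.IsPrime] (M : Type v) [AddCommGroup M]
    [Module R M] [Subsingleton (LocalizedModule p.primeCompl M)] :
    LocCoh.depth (Localization.AtPrime p) (LocalizedModule p.primeCompl M) = ⊤ :=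
  idealDepth_eq_top_of_subsingleton (I := maximalIdeal (Localization.AtPrime p))
    (M := LocalizedModule p.primeCompl M)

/-- `depth_I M ≤ depth M_p` for every prime `p ⊇ I`. -/
theorem idealDepth_le_depth_atPrime_of_le {M : Type v} [AddCommGroup M] [Module R M]
    [Module.Finite R M] (I : Ideal R) (p : PrimeSpectrum R) (hIp : I ≤ p.asIdeal) :
    LocCoh.idealDepth I M ≤
      LocCoh.depth (Localization.AtPrime p.asIdeal) (LocalizedModule p.asIdeal.primeCompl M) := by
  by_cases hp : p ∈ Module.support R M
  · have hIM := CM.smul_top_ne_top_of_mem_support p hIp hp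
    rw [← ENat.forall_natCast_le_iff_le]
    intro n hn
    exact le_idealDepth_of_hasSeq
      (CM.hasSeq_atPrime p.asIdeal hIp ((le_idealDepth_iff hIM n).mp hn))
  · rw [Module.mem_support_iff, not_nontrivial_iff_subsingleton] at hp
    haveI := hp
    rw [depth_eq_top_of_subsingleton p.asIdeal M]
    exact le_top

/-- If `depth_I M = n` is finite, some prime `q ⊇ I` has `depth M_q ≤ n`. -/
theorem exists_prime_depth_le [IsNoetherianRing R] (I : Ideal R) (n : ℕ) :
    ∀ (M : Type v) [AddCommGroup M] [Module R M] [Module.Finite R M],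
      I • (⊤ : Submodule R M) ≠ ⊤ → LocCoh.idealDepth I M = (n : ℕ∞) →
      ∃ q : PrimeSpectrum R, I ≤ q.asIdeal ∧
        LocCoh.depth (Localization.AtPrime q.asIdeal)
          (LocalizedModule q.asIdeal.primeCompl M) ≤ (n : ℕ∞) := by
  induction n with
  | zero =>
    intro M _ _ _ hIM hM
    haveI : Nontrivial M := by
      by_contra hns
      rw [not_nontrivial_iff_subsingleton] at hns
      exact hIM (Subsingleton.elim _ _)
    have hnr : ∀ x ∈ I, ¬ IsSMulRegular M x := by
      intro x hx hreg
      have h1 : ((1 : ℕ) : ℕ∞) ≤ LocCoh.idealDepth I M :=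
        (le_idealDepth_iff hIM 1).mpr (hasSeq_succ_iff.mpr ⟨x, hx, hreg, hasSeq_zero⟩)
      rw [hM] at h1
      simp at h1
    obtain ⟨q, hqAss, hIq⟩ := CM.exists_le_mem_associatedPrimes_of_forall_not_isSMulRegular hnr
    obtain ⟨hqp, m, hm⟩ := (isAssociatedPrime_iff (M := M)).mp hqAss
    haveI := hqp
    refine ⟨⟨q, hqp⟩, hIq, ?_⟩
    have hsoc := hasSocle_localization_of_eq_colon q M m hm
    obtain ⟨z, hz0, hz⟩ := id hsoc
    haveI : Nontrivial (LocalizedModule q.primeCompl M) := ⟨⟨z, 0, hz0⟩⟩
    have hmq := Groth.Agent.H29.maximalIdeal_smul_top_ne_top (Localization.AtPrime q)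
      (LocalizedModule q.primeCompl M)
    by_contra hcon
    rw [not_le] at hcon
    have h1 : ((1 : ℕ) : ℕ∞) ≤ LocCoh.depth (Localization.AtPrime q)
        (LocalizedModule q.primeCompl M) := by
      simpa using Order.add_one_le_of_lt hcon
    obtain ⟨y, hy, hyreg, -⟩ := hasSeq_succ_iff.mp ((le_idealDepth_iff hmq 1).mp h1)
    exact HasSocle.not_regular hsoc hy hyreg
  | succ n ih =>
    intro M _ _ _ hIM hM
    have hseq : HasSeq I M (n + 1) := (le_idealDepth_iff hIM (n + 1)).mp (le_of_eq hM.symm)
    obtain ⟨x, hxI, hreg, -⟩ := hasSeq_succ_iff.mp hseq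
    have hadd := idealDepth_quotSMulTop_add_one hIM hxI hreg
    rw [hM] at hadd
    have hn : LocCoh.idealDepth I (QuotSMulTop x M) = (n : ℕ∞) := Groth.Agent.H15.DepthSpread.enat_add_one_cancel hadd
    have hIM' : I • (⊤ : Submodule R (QuotSMulTop x M)) ≠ ⊤ :=
      smul_top_quotSMulTop_ne_top hxI hIM
    obtain ⟨q, hIq, hle⟩ := ih (QuotSMulTop x M) hIM' hn
    refine ⟨q, hIq, ?_⟩
    have hy : algebraMap R (Localization.AtPrime q.asIdeal) x ∈
        maximalIdeal (Localization.AtPrime q.asIdeal) :=
      (IsLocalization.AtPrime.to_map_mem_maximal_iff _ q.asIdeal x).mpr (hIq hxI)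
    have hyreg : IsSMulRegular (LocalizedModule q.asIdeal.primeCompl M)
        (algebraMap R (Localization.AtPrime q.asIdeal) x) :=
      hreg.of_isLocalizedModule (Localization.AtPrime q.asIdeal) q.asIdeal.primeCompl
        (LocalizedModule.mkLinearMap q.asIdeal.primeCompl M)
    let e := locQuotEquiv q.asIdeal.primeCompl M x
    have hcongr : LocCoh.idealDepth (maximalIdeal (Localization.AtPrime q.asIdeal))
        (LocalizedModule q.asIdeal.primeCompl (QuotSMulTop x M)) =
        LocCoh.idealDepth (maximalIdeal (Localization.AtPrime q.asIdeal))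
          (QuotSMulTop (algebraMap R (Localization.AtPrime q.asIdeal) x)
            (LocalizedModule q.asIdeal.primeCompl M)) :=
      Groth.Agent.H15.DepthSpread.idealDepth_congr e
    haveI : Nontrivial (LocalizedModule q.asIdeal.primeCompl (QuotSMulTop x M)) := by
      by_contra hns
      rw [not_nontrivial_iff_subsingleton] at hns
      haveI := hns
      rw [depth_eq_top_of_subsingleton q.asIdeal (QuotSMulTop x M)] at hle
      simp at hle
    haveI : Nontrivial (LocalizedModule q.asIdeal.primeCompl M) :=
      (e.symm.surjective.comp (Submodule.mkQ_surjective _)).nontrivial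
    have hmq := Groth.Agent.H29.maximalIdeal_smul_top_ne_top (Localization.AtPrime q.asIdeal)
      (LocalizedModule q.asIdeal.primeCompl M)
    have hadd' := idealDepth_quotSMulTop_add_one hmq hy hyreg
    have hle' : LocCoh.idealDepth (maximalIdeal (Localization.AtPrime q.asIdeal))
        (LocalizedModule q.asIdeal.primeCompl (QuotSMulTop x M)) ≤ (n : ℕ∞) := hle
    show LocCoh.idealDepth (maximalIdeal (Localization.AtPrime q.asIdeal))
        (LocalizedModule q.asIdeal.primeCompl M) ≤ _
    rw [← hadd', ← hcongr]
    push_cast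
    gcongr

/-- `depth_I M` is the infimum of the depths of the localizations at primes containing `I`. -/
theorem idealDepth_eq_iInf [IsNoetherianRing R] (I : Ideal R) (M : Type v) [AddCommGroup M]
    [Module R M] [Module.Finite R M] :
    LocCoh.idealDepth I M = ⨅ (p : PrimeSpectrum R) (_ : I ≤ p.asIdeal),
      LocCoh.depth (Localization.AtPrime p.asIdeal) (LocalizedModule p.asIdeal.primeCompl M) := by
  apply le_antisymm
  · exact le_iInf₂ fun p hp => idealDepth_le_depth_atPrime_of_le I p hp
  · by_cases htop : LocCoh.idealDepth I M = ⊤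
    · rw [htop]
      exact le_top
    · obtain ⟨n, hn⟩ := ENat.ne_top_iff_exists.mp htop
      have hIM : I • (⊤ : Submodule R M) ≠ ⊤ :=
        fun h => htop (idealDepth_eq_top_of_smul_top_eq_top h)
      obtain ⟨q, hIq, hle⟩ := exists_prime_depth_le I n M hIM hn.symm
      calc _ ≤ LocCoh.depth (Localization.AtPrime q.asIdeal)
            (LocalizedModule q.asIdeal.primeCompl M) := iInf₂_le q hIq
        _ ≤ (n : ℕ∞) := hle
        _ = LocCoh.idealDepth I M := hn

end General

end Groth.Agent.H29.LocQuot
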