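import Mathlib
import Groth.Agent.H29.CM4
import Groth.Agent.H29.LocQuot
import Groth.Agent.H29.DepthFinite
import Groth.Agent.H29.FlatCM

/-!
# Dimension and depth of a module finite over `A`, computed over an `A`-algebra `B` acting on it
(EGA IV 5.7.? / 0_IV 16.4.8-type statements)
-/

set_option autoImplicit false
set_option linter.style.haveILetI false
set_option maxHeartbeats 400000

universe u v

open RingTheory.Sequence IsLocalRing
open scoped Pointwise
open Groth.Agent.H15.Depth Groth.Agent.H15.DepthSpread

namespace Groth.Agent.H29.FinDimDepth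

section LemmaD

variable {R : Type u} [CommRing R] {M : Type v} [AddCommGroup M] [Module R M]

/-- A prime in the support of `M` contained in `p` extends to a prime in the support of `M_p`. -/
theorem map_mem_support_atPrime (p : Ideal R) [p.IsPrime] (Q : PrimeSpectrum R)
    (hQ : Q ∈ Module.support R M) (hQp : Q.asIdeal ≤ p)
    (Q' : PrimeSpectrum (Localization.AtPrime p))
    (hQ' : Q'.asIdeal = Q.asIdeal.map (algebraMap R (Localization.AtPrime p))) :
    Q' ∈ Module.support (Localization.AtPrime p) (LocalizedModule p.primeCompl M) := by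
  rw [Module.mem_support_iff'] at hQ ⊢
  obtain ⟨m, hm⟩ := hQ
  refine ⟨LocalizedModule.mk m 1, fun r' hr' hzero => ?_⟩
  obtain ⟨r, s, rfl⟩ := IsLocalization.exists_mk'_eq p.primeCompl r'
  have hrQ : r ∉ Q.asIdeal := by
    intro hr
    apply hr'
    rw [hQ']
    have : IsLocalization.mk' (Localization.AtPrime p) r s =
        IsLocalization.mk' (Localization.AtPrime p) 1 s *
          algebraMap R (Localization.AtPrime p) r := by
      rw [mul_comm, IsLocalization.mul_mk'_eq_mk'_of_mul, mul_one]
    rw [this]
    exact Ideal.mul_mem_left _ _ (Ideal.mem_map_of_mem _ hr)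
  rw [← Localization.mk_eq_mk', LocalizedModule.mk_smul_mk, ← LocalizedModule.zero_mk (s * 1),
    LocalizedModule.mk_eq] at hzero
  obtain ⟨t, ht⟩ := hzero
  rw [smul_zero, smul_zero, Submonoid.smul_def, Submonoid.smul_def, smul_comm] at ht
  have htQ : (t : R) ∉ Q.asIdeal := fun h => t.2 (hQp h)
  have hsQ : ((s * 1 : p.primeCompl) : R) ∉ Q.asIdeal := fun h => (s * 1).2 (hQp h)
  apply hm (((s * 1 : p.primeCompl) : R) * ((t : R) * r))
  · intro h
    rcases Q.isPrime.mem_or_mem h with h | h
    · exact hsQ h
    · rcases Q.isPrime.mem_or_mem h with h | h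
      · exact htQ h
      · exact hrQ h
  · rw [mul_smul, mul_smul]
    exact ht

/-- The dimension of `M_p` over `R_p` is the height of `p` in the support of `M`. -/
theorem supportDim_atPrime_eq_height (p : PrimeSpectrum R) (hp : p ∈ Module.support R M) :
    Module.supportDim (Localization.AtPrime p.asIdeal) (LocalizedModule p.asIdeal.primeCompl M) =
      ((Order.height (⟨p, hp⟩ : ↥(Module.support R M)) : ℕ∞) : WithBot ℕ∞) := by
  let x : ↥(Module.support R M) := ⟨p, hp⟩
  rw [Order.height_eq_krullDim_Iic]
  apply le_antisymm
  · refine Order.krullDim_le_of_strictMono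
      (fun Q : ↥(Module.support (Localization.AtPrime p.asIdeal)
          (LocalizedModule p.asIdeal.primeCompl M)) =>
        (⟨⟨⟨Ideal.comap (algebraMap R (Localization.AtPrime p.asIdeal)) Q.1.asIdeal,
          inferInstance⟩, CM.comap_mem_support_of_mem_support_atPrime p.asIdeal Q.1 Q.2⟩, ?_⟩ :
          Set.Iic x)) ?_
    · show Ideal.comap (algebraMap R (Localization.AtPrime p.asIdeal)) Q.1.asIdeal ≤ p.asIdeal
      have hle : Q.1.asIdeal ≤ maximalIdeal (Localization.AtPrime p.asIdeal) :=
        IsLocalRing.le_maximalIdeal Q.1.isPrime.ne_top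
      calc Ideal.comap (algebraMap R (Localization.AtPrime p.asIdeal)) Q.1.asIdeal
          ≤ Ideal.comap (algebraMap R (Localization.AtPrime p.asIdeal))
            (maximalIdeal (Localization.AtPrime p.asIdeal)) := Ideal.comap_mono hle
        _ = p.asIdeal :=
          IsLocalization.AtPrime.under_maximalIdeal (Localization.AtPrime p.asIdeal) p.asIdeal
    · intro Q Q' hlt
      show Ideal.comap (algebraMap R (Localization.AtPrime p.asIdeal)) Q.1.asIdeal <
        Ideal.comap (algebraMap R (Localization.AtPrime p.asIdeal)) Q'.1.asIdeal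
      exact (IsLocalization.orderEmbedding p.asIdeal.primeCompl
        (Localization.AtPrime p.asIdeal)).lt_iff_lt.2 hlt
  · have hdisj : ∀ Q : Set.Iic x, Disjoint (p.asIdeal.primeCompl : Set R) (Q.1.1.asIdeal : Set R) := by
      intro Q
      rw [Set.disjoint_left]
      intro a ha haQ
      exact ha (Q.2 haQ)
    have hprime : ∀ Q : Set.Iic x,
        (Q.1.1.asIdeal.map (algebraMap R (Localization.AtPrime p.asIdeal))).IsPrime := fun Q =>
      IsLocalization.isPrime_of_isPrime_disjoint p.asIdeal.primeCompl _ _ Q.1.1.isPrime (hdisj Q)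
    refine Order.krullDim_le_of_strictMono
      (fun Q : Set.Iic x =>
        (⟨⟨Q.1.1.asIdeal.map (algebraMap R (Localization.AtPrime p.asIdeal)), hprime Q⟩,
          map_mem_support_atPrime p.asIdeal Q.1.1 Q.1.2 Q.2 _ rfl⟩ :
          ↥(Module.support (Localization.AtPrime p.asIdeal)
            (LocalizedModule p.asIdeal.primeCompl M)))) ?_
    intro Q Q' hlt
    show Q.1.1.asIdeal.map (algebraMap R (Localization.AtPrime p.asIdeal)) <
      Q'.1.1.asIdeal.map (algebraMap R (Localization.AtPrime p.asIdeal))
    have hlt' : Q.1.1.asIdeal < Q'.1.1.asIdeal := hlt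
    refine lt_of_le_of_ne (Ideal.map_mono hlt'.le) fun heq => ?_
    have h1 := IsLocalization.under_map_of_isPrime_disjoint p.asIdeal.primeCompl
      (Localization.AtPrime p.asIdeal) Q.1.1.isPrime (hdisj Q)
    have h2 := IsLocalization.under_map_of_isPrime_disjoint p.asIdeal.primeCompl
      (Localization.AtPrime p.asIdeal) Q'.1.1.isPrime (hdisj Q')
    rw [heq, h2] at h1
    exact hlt'.ne h1.symm

end LemmaD

section Dim

variable {A B : Type u} [CommRing A] [CommRing B] [Algebra A B]
variable {M : Type u} [AddCommGroup M] [Module B M] [Module A M] [IsScalarTower A B M]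

/-- Cayley–Hamilton: every element of `B` satisfies a monic polynomial over `A` modulo the
annihilator of a `B`-module which is finite over `A`. -/
theorem exists_monic_eval₂_mem_annihilator [Module.Finite A M] (b : B) :
    ∃ P : Polynomial A, P.Monic ∧ P.eval₂ (algebraMap A B) b ∈ Module.annihilator B M := by
  obtain ⟨P, hP, h0⟩ := LinearMap.exists_monic_and_aeval_eq_zero A (Algebra.lsmul A A M b)
  refine ⟨P, hP, ?_⟩
  rw [Polynomial.aeval_algHom_apply] at h0
  rw [Module.mem_annihilator]
  intro m
  have h1 : (Polynomial.aeval b P) • m = 0 := LinearMap.congr_fun h0 m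
  rwa [Polynomial.aeval_def] at h1

variable (A B M) in
theorem isIntegral_quotient_annihilator [Module.Finite A M] :
    Algebra.IsIntegral A (B ⧸ Module.annihilator B M) := by
  refine ⟨fun x => ?_⟩
  obtain ⟨b, rfl⟩ := Ideal.Quotient.mk_surjective x
  obtain ⟨P, hP, hPb⟩ := exists_monic_eval₂_mem_annihilator (A := A) (M := M) b
  refine ⟨P, hP, ?_⟩
  have h1 : algebraMap A (B ⧸ Module.annihilator B M) =
      (Ideal.Quotient.mk (Module.annihilator B M)).comp (algebraMap A B) := rfl
  rw [h1, ← Polynomial.hom_eval₂, Ideal.Quotient.eq_zero_iff_mem]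
  exact hPb

/-- The contraction of a prime in the support over `B` lies in the support over `A`. -/
theorem comap_mem_support (q : PrimeSpectrum B) (hq : q ∈ Module.support B M) :
    PrimeSpectrum.comap (algebraMap A B) q ∈ Module.support A M := by
  rw [Module.mem_support_iff'] at hq ⊢
  obtain ⟨m, hm⟩ := hq
  refine ⟨m, fun a ha h0 => hm (algebraMap A B a) ha ?_⟩
  rw [algebraMap_smul]
  exact h0

variable (A B M) in
/-- Contraction of supports. -/
def comapSupp : ↥(Module.support B M) → ↥(Module.support A M) := fun q =>
  ⟨PrimeSpectrum.comap (algebraMap A B) q.1, comap_mem_support q.1 q.2⟩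

theorem comapSupp_strictMono [Module.Finite A M] : StrictMono (comapSupp A B M) := by
  intro Q Q' hlt
  have hlt' : Q.1.asIdeal < Q'.1.asIdeal := hlt
  obtain ⟨b, hbQ', hbQ⟩ := SetLike.exists_of_lt hlt'
  obtain ⟨P, hP, hPb⟩ := exists_monic_eval₂_mem_annihilator (A := A) (M := M) b
  haveI := Q.1.isPrime
  show Q.1.asIdeal.comap (algebraMap A B) < Q'.1.asIdeal.comap (algebraMap A B)
  refine Ideal.comap_lt_comap_of_root_mem_sdiff hlt'.le ⟨hbQ', hbQ⟩ (p := P) ?_ ?_
  · intro h0
    have h1 := hP.map (Ideal.Quotient.mk (Q.1.asIdeal.comap (algebraMap A B)))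
    rw [h0] at h1
    haveI : Nontrivial (A ⧸ Q.1.asIdeal.comap (algebraMap A B)) :=
      Ideal.Quotient.nontrivial_iff.mpr (Ideal.IsPrime.ne_top inferInstance)
    exact Polynomial.not_monic_zero h1
  · exact Module.annihilator_le_of_mem_support Q.2 hPb

/-- Going up on supports: chains in `Supp_A M` lift to chains in `Supp_B M`. -/
theorem exists_ltSeries_lift [Module.Finite A M] (l : LTSeries ↥(Module.support A M)) :
    ∃ L : LTSeries ↥(Module.support B M), L.length = l.length ∧
      comapSupp A B M L.last = l.last := by
  haveI : Module.Finite B M := Module.Finite.of_restrictScalars_finite A B M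
  haveI := isIntegral_quotient_annihilator A B M
  let J := Module.annihilator B M
  let l' : LTSeries (PrimeSpectrum A) := l.map Subtype.val (fun _ _ h => h)
  have hker : (⊥ : Ideal (B ⧸ J)).comap (algebraMap A (B ⧸ J)) ≤ l'.head.asIdeal := by
    intro a ha
    rw [Ideal.mem_comap, Ideal.mem_bot] at ha
    have h1 : algebraMap A (B ⧸ J) a = Ideal.Quotient.mk J (algebraMap A B a) := rfl
    rw [h1, Ideal.Quotient.eq_zero_iff_mem, Module.mem_annihilator] at ha
    have h2 : a ∈ Module.annihilator A M := by
      rw [Module.mem_annihilator]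
      intro m
      rw [← algebraMap_smul B a m]
      exact ha m
    have h3 : l'.head = l.head.1 := LTSeries.head_map _ _ _
    rw [h3]
    exact Module.annihilator_le_of_mem_support l.head.2 h2
  obtain ⟨Q, -, hQ, hQl⟩ := Ideal.exists_ideal_over_prime_of_isIntegral (S := B ⧸ J)
    l'.head.asIdeal ⊥ hker
  haveI : Q.LiesOver l'.head.asIdeal := ⟨hQl.symm⟩
  obtain ⟨L', hlen, -, hlist⟩ := Ideal.exists_ltSeries_of_hasGoingUp l' Q
  let g : PrimeSpectrum (B ⧸ J) → ↥(Module.support B M) := fun P =>
    ⟨PrimeSpectrum.comap (Ideal.Quotient.mk J) P, by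
      rw [Module.support_eq_zeroLocus, PrimeSpectrum.mem_zeroLocus]
      intro b hb
      show Ideal.Quotient.mk J b ∈ P.asIdeal
      rw [Ideal.Quotient.eq_zero_iff_mem.mpr hb]
      exact Ideal.zero_mem _⟩
  have hg : StrictMono g := by
    intro P P' hlt
    have hlt' : P.asIdeal < P'.asIdeal := hlt
    show P.asIdeal.comap (Ideal.Quotient.mk J) < P'.asIdeal.comap (Ideal.Quotient.mk J)
    refine lt_of_le_of_ne (Ideal.comap_mono hlt'.le) fun heq => hlt'.ne ?_
    exact Ideal.comap_injective_of_surjective _ Ideal.Quotient.mk_surjective heq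
  refine ⟨L'.map g hg, ?_, ?_⟩
  · rw [LTSeries.map_length, hlen]
    rfl
  · have h1 := congrArg List.getLast? hlist
    rw [List.getLast?_map, List.getLast?_eq_getLast_of_ne_nil L'.toList_ne_nil,
      List.getLast?_eq_getLast_of_ne_nil l'.toList_ne_nil, RelSeries.getLast_toList,
      RelSeries.getLast_toList] at h1
    simp only [Option.map_some, Option.some.injEq] at h1
    have h2 : l'.last = l.last.1 := LTSeries.last_map _ _ _
    have h3 : (L'.map g hg).last = g L'.last := LTSeries.last_map _ _ _
    rw [h3]
    apply Subtype.ext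
    rw [← h2, ← h1]
    rfl

/-- **Dimension formula.** For a `B`-module `M` finite over `A` and a prime `p` of `A`,
`dim_{A_p} M_p = sup_q dim_{B_q} M_q`, over the primes `q` of `B` above `p` in the support. -/
theorem supportDim_atPrime_eq_iSup [Module.Finite A M] (p : Ideal A) [hpp : p.IsPrime] :
    Module.supportDim (Localization.AtPrime p) (LocalizedModule p.primeCompl M) =
      ⨆ q ∈ {q : PrimeSpectrum B | q.asIdeal.comap (algebraMap A B) = p ∧
          q ∈ Module.support B M},
        Module.supportDim (Localization.AtPrime q.asIdeal)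
          (LocalizedModule q.asIdeal.primeCompl M) := by
  by_cases hp : (⟨p, hpp⟩ : PrimeSpectrum A) ∈ Module.support A M
  · refine (supportDim_atPrime_eq_height (M := M) ⟨p, hpp⟩ hp).trans ?_
    apply le_antisymm
    · apply CM.withBot_enat_le_of_forall_nat
      intro n hn
      obtain ⟨l, hlast, hlen⟩ := Order.exists_series_of_le_height _ hn
      obtain ⟨L, hLlen, hLlast⟩ := exists_ltSeries_lift (B := B) l
      have hqT : L.last.1 ∈ {q : PrimeSpectrum B | q.asIdeal.comap (algebraMap A B) = p ∧
          q ∈ Module.support B M} := by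
        refine ⟨?_, L.last.2⟩
        have := congrArg (fun z : ↥(Module.support A M) => z.1.asIdeal) (hLlast.trans hlast)
        exact this
      refine le_trans ?_ (le_iSup₂ (f := fun (q : PrimeSpectrum B)
        (_ : q ∈ {q : PrimeSpectrum B | q.asIdeal.comap (algebraMap A B) = p ∧
          q ∈ Module.support B M}) =>
        Module.supportDim (Localization.AtPrime q.asIdeal)
          (LocalizedModule q.asIdeal.primeCompl M)) L.last.1 hqT)
      rw [supportDim_atPrime_eq_height L.last.1 L.last.2, WithBot.coe_le_coe]
      calc (n : ℕ∞) = L.length := by rw [hLlen, hlen]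
        _ ≤ Order.height L.last := Order.length_le_height_last
    · apply iSup₂_le
      intro q hq
      rw [supportDim_atPrime_eq_height q hq.2, WithBot.coe_le_coe]
      have h1 := Order.height_le_height_apply_of_strictMono (comapSupp A B M)
        comapSupp_strictMono ⟨q, hq.2⟩
      have h2 : comapSupp A B M ⟨q, hq.2⟩ = ⟨⟨p, hpp⟩, hp⟩ :=
        Subtype.ext (PrimeSpectrum.ext hq.1)
      rwa [h2] at h1
  · have hsub : Subsingleton (LocalizedModule p.primeCompl M) :=
      (Module.notMem_support_iff (p := (⟨p, hpp⟩ : PrimeSpectrum A))).mp hp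
    rw [Module.supportDim_eq_bot_of_subsingleton]
    symm
    rw [iSup₂_eq_bot]
    intro q hq
    exfalso
    apply hp
    have h1 := comap_mem_support (A := A) q hq.2
    have h2 : PrimeSpectrum.comap (algebraMap A B) q = ⟨p, hpp⟩ := PrimeSpectrum.ext hq.1
    rwa [h2] at h1

end Dim

section DepthMap

open Groth.Agent.H29.DepthFinite

variable {A : Type u} {B : Type u} [CommRing A] [CommRing B] [Algebra A B]

theorem natCast_le_idealDepth_iff' [IsNoetherianRing A] [IsLocalRing A] [IsNoetherianRing B]
    (a : Ideal A) (ha : a ≤ maximalIdeal A) (n : ℕ) :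
    ∀ (M : Type u) [AddCommGroup M] [Module B M] [Module A M] [IsScalarTower A B M]
      [Module.Finite A M],
      (n : ℕ∞) ≤ LocCoh.idealDepth a M ↔
        (n : ℕ∞) ≤ LocCoh.idealDepth (a.map (algebraMap A B)) M := by
  induction n with
  | zero =>
    intro M _ _ _ _ _
    simp
  | succ n ih =>
    intro M _ _ _ _ _
    haveI : Module.Finite B M := Module.Finite.of_restrictScalars_finite A B M
    by_cases hM : Subsingleton M
    · rw [idealDepth_eq_top_of_subsingleton, idealDepth_eq_top_of_subsingleton]
    · rw [not_subsingleton_iff_nontrivial] at hM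
      have hA : a • (⊤ : Submodule A M) ≠ ⊤ := CM.smul_top_ne_top_of_le_maximalIdeal ha
      have hB : (a.map (algebraMap A B)) • (⊤ : Submodule B M) ≠ ⊤ := smul_top_ne_top_map a hA
      rcases exists_regular_or_hasSocle (I := a) M with ⟨x, hx, hreg⟩ | hsoc
      · have e := quotEquiv (B := B) (M := M) x
        have h1 := idealDepth_quotSMulTop_add_one hA hx hreg
        have hregB : IsSMulRegular M (algebraMap A B x) :=
          (DepthFinite.isSMulRegular_algebraMap_iff x).mpr hreg
        have h2 := idealDepth_quotSMulTop_add_one hB (Ideal.mem_map_of_mem _ hx) hregB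
        have h3 : LocCoh.idealDepth a (QuotSMulTop x M) =
            LocCoh.idealDepth a (QuotSMulTop (algebraMap A B x) M) :=
          Groth.Agent.H15.DepthSpread.idealDepth_congr e
        haveI : Module.Finite A (QuotSMulTop (algebraMap A B x) M) := Module.Finite.equiv e
        have h4 := ih (QuotSMulTop (algebraMap A B x) M)
        rw [← h1, ← h2, succ_le_add_one_iff, succ_le_add_one_iff, h3]
        exact h4
      · constructor <;> intro h <;> exfalso
        · obtain ⟨y, hy, hyreg, -⟩ := hasSeq_succ_iff.mp ((le_idealDepth_iff hA (n + 1)).mp h)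
          exact hsoc.not_regular hy hyreg
        · obtain ⟨y, hy, hyreg, -⟩ := hasSeq_succ_iff.mp ((le_idealDepth_iff hB (n + 1)).mp h)
          exact ((hasSocle_map_iff a).mpr hsoc).not_regular hy hyreg

/-- The depth of a `B`-module finite over the local ring `A`, with respect to an ideal `a` of `A`,
may be computed over `B` with respect to `aB`. -/
theorem idealDepth_eq_idealDepth_map' [IsNoetherianRing A] [IsLocalRing A] [IsNoetherianRing B]
    (a : Ideal A) (ha : a ≤ maximalIdeal A) (M : Type u) [AddCommGroup M] [Module B M] [Module A M]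
    [IsScalarTower A B M] [Module.Finite A M] :
    LocCoh.idealDepth a M = LocCoh.idealDepth (a.map (algebraMap A B)) M := by
  apply le_antisymm
  · rw [← ENat.forall_natCast_le_iff_le]
    intro n hn
    exact (natCast_le_idealDepth_iff' a ha n M).mp hn
  · rw [← ENat.forall_natCast_le_iff_le]
    intro n hn
    exact (natCast_le_idealDepth_iff' a ha n M).mpr hn

end DepthMap

section LocalCore

variable {A B : Type u} [CommRing A] [CommRing B] [Algebra A B]

/-- **Depth formula, local case.** -/
theorem depth_eq_iInf_of_isLocalRing [IsNoetherianRing A] [IsLocalRing A] [IsNoetherianRing B]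
    (M : Type u) [AddCommGroup M] [Module B M] [Module A M] [IsScalarTower A B M]
    [Module.Finite A M] :
    LocCoh.depth A M =
      ⨅ q ∈ {q : PrimeSpectrum B | q.asIdeal.comap (algebraMap A B) = maximalIdeal A ∧
          q ∈ Module.support B M},
        LocCoh.depth (Localization.AtPrime q.asIdeal)
          (LocalizedModule q.asIdeal.primeCompl M) := by
  haveI : Module.Finite B M := Module.Finite.of_restrictScalars_finite A B M
  show LocCoh.idealDepth (maximalIdeal A) M = _
  rw [idealDepth_eq_idealDepth_map' (B := B) _ le_rfl M, LocQuot.idealDepth_eq_iInf]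
  apply le_antisymm
  · refine le_iInf₂ fun q hq => ?_
    exact iInf₂_le q (Ideal.map_le_iff_le_comap.mpr hq.1.ge)
  · refine le_iInf₂ fun q hq => ?_
    by_cases hsupp : q ∈ Module.support B M
    · have hqT : q ∈ {q : PrimeSpectrum B | q.asIdeal.comap (algebraMap A B) = maximalIdeal A ∧
          q ∈ Module.support B M} := by
        refine ⟨?_, hsupp⟩
        have h1 : maximalIdeal A ≤ q.asIdeal.comap (algebraMap A B) :=
          Ideal.map_le_iff_le_comap.mp hq
        exact ((maximalIdeal.isMaximal A).eq_of_le (Ideal.IsPrime.ne_top inferInstance) h1).symm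
      exact iInf₂_le q hqT
    · rw [Module.mem_support_iff, not_nontrivial_iff_subsingleton] at hsupp
      haveI := hsupp
      rw [LocQuot.depth_eq_top_of_subsingleton q.asIdeal M]
      exact le_top

end LocalCore

section Transfer

/-- Depth of an abstract localization at a prime agrees with the depth of the concrete one. -/
theorem depth_eq_of_isLocalizedModule {R : Type u} [CommRing R] (q : Ideal R) [q.IsPrime]
    (R' : Type u) [CommRing R'] [Algebra R R'] [IsLocalization.AtPrime R' q] [IsLocalRing R']
    {N : Type u} [AddCommGroup N] [Module R N] (N' : Type u) [AddCommGroup N'] [Module R N']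
    [Module R' N'] [IsScalarTower R R' N'] (g : N →ₗ[R] N') [IsLocalizedModule q.primeCompl g]
    [Module.Finite R' N'] :
    LocCoh.depth R' N' =
      LocCoh.depth (Localization.AtPrime q) (LocalizedModule q.primeCompl N) := by
  let e : Localization.AtPrime q ≃ₐ[R] R' := IsLocalization.algEquiv q.primeCompl _ _
  letI : Algebra (Localization.AtPrime q) R' := e.toAlgHom.toRingHom.toAlgebra
  haveI : IsScalarTower R (Localization.AtPrime q) R' :=
    IsScalarTower.of_algebraMap_eq (fun r => (e.commutes r).symm)
  letI : Module (Localization.AtPrime q) N' :=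
    Module.compHom N' (algebraMap (Localization.AtPrime q) R')
  haveI : IsScalarTower (Localization.AtPrime q) R' N' :=
    ⟨fun a b n => by
      show (a • b) • n = algebraMap (Localization.AtPrime q) R' a • (b • n)
      rw [Algebra.smul_def, mul_smul]⟩
  haveI : IsScalarTower R (Localization.AtPrime q) N' :=
    IsScalarTower.of_algebraMap_smul (fun r n => by
      show algebraMap (Localization.AtPrime q) R' (algebraMap R (Localization.AtPrime q) r) • n =
        r • n
      rw [← IsScalarTower.algebraMap_apply R (Localization.AtPrime q) R', algebraMap_smul])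
  let l : LocalizedModule q.primeCompl N ≃ₗ[R] N' := IsLocalizedModule.iso q.primeCompl g
  let l' : LocalizedModule q.primeCompl N ≃ₗ[Localization.AtPrime q] N' :=
    l.extendScalarsOfIsLocalization q.primeCompl (Localization.AtPrime q)
  have hsurj : Function.Surjective (algebraMap (Localization.AtPrime q) R') := e.surjective
  haveI : Module.Finite (Localization.AtPrime q) R' :=
    Module.Finite.of_surjective (Algebra.linearMap (Localization.AtPrime q) R') hsurj
  haveI : Module.Finite (Localization.AtPrime q) N' := Module.Finite.trans R' N'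
  rw [FlatCM.depth_eq_of_surjective hsurj N']
  exact (CM.idealDepth_congr l').symm

end Transfer

section LocLoc

/-- Localizing a localization `S⁻¹N` at a prime `q'` of `S⁻¹R` gives the localization of `N` at the
contraction of `q'`: depth and nontriviality agree. -/
theorem depth_localization_localization {R : Type u} [CommRing R] (S : Submonoid R) (N : Type u)
    [AddCommGroup N] [Module R N] [Module.Finite R N] (q' : Ideal (Localization S)) [q'.IsPrime] :
    LocCoh.depth (Localization.AtPrime q')
        (LocalizedModule q'.primeCompl (LocalizedModule S N)) =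
      LocCoh.depth (Localization.AtPrime (q'.comap (algebraMap R (Localization S))))
        (LocalizedModule (q'.comap (algebraMap R (Localization S))).primeCompl N) ∧
    (Nontrivial (LocalizedModule q'.primeCompl (LocalizedModule S N)) ↔
      Nontrivial (LocalizedModule (q'.comap (algebraMap R (Localization S))).primeCompl N)) := by
  let R' := Localization S
  let N' := LocalizedModule S N
  let T := Localization.AtPrime q'
  let O := LocalizedModule q'.primeCompl N'
  let q := q'.comap (algebraMap R R')
  let f1 : N →ₗ[R] N' := LocalizedModule.mkLinearMap S N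
  let f2 : N' →ₗ[R'] O := LocalizedModule.mkLinearMap q'.primeCompl N'
  have h1 : IsBaseChange R' f1 := IsLocalizedModule.isBaseChange S R' f1
  have h2 : IsBaseChange T f2 := IsLocalizedModule.isBaseChange q'.primeCompl T f2
  have h3 : IsBaseChange T ((f2.restrictScalars R).comp f1) := h1.comp h2
  haveI : IsLocalizedModule q.primeCompl ((f2.restrictScalars R).comp f1) :=
    (isLocalizedModule_iff_isBaseChange q.primeCompl T _).mpr h3
  refine ⟨depth_eq_of_isLocalizedModule q T O ((f2.restrictScalars R).comp f1), ?_⟩
  let l : LocalizedModule q.primeCompl N ≃ₗ[R] O :=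
    IsLocalizedModule.iso q.primeCompl ((f2.restrictScalars R).comp f1)
  exact ⟨fun h => l.toEquiv.nontrivial, fun h => l.symm.toEquiv.nontrivial⟩

end LocLoc

section Main

variable {A B : Type u} [CommRing A] [CommRing B] [IsNoetherianRing A] [IsNoetherianRing B]
  [Algebra A B]

/-- **Depth formula.** For a `B`-module `M` finite over `A` and a prime `p` of `A`,
`depth_{A_p} M_p = inf_q depth_{B_q} M_q`, over the primes `q` of `B` above `p` in the support. -/
theorem depth_atPrime_eq_iInf (M : Type u) [AddCommGroup M] [Module B M] [Module A M]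
    [IsScalarTower A B M] [Module.Finite A M] (p : Ideal A) [hpp : p.IsPrime] :
    LocCoh.depth (Localization.AtPrime p) (LocalizedModule p.primeCompl M) =
      ⨅ q ∈ {q : PrimeSpectrum B | q.asIdeal.comap (algebraMap A B) = p ∧
          q ∈ Module.support B M},
        LocCoh.depth (Localization.AtPrime q.asIdeal)
          (LocalizedModule q.asIdeal.primeCompl M) := by
  let S := p.primeCompl
  let SB := Algebra.algebraMapSubmonoid B S
  let A' := Localization.AtPrime p
  let B' := Localization SB
  let M' := LocalizedModule SB M
  haveI : Module.Finite B M := Module.Finite.of_restrictScalars_finite A B M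
  haveI : IsNoetherianRing B' := IsLocalization.isNoetherianRing SB B' inferInstance
  letI : Module A' M' := Module.compHom M' (algebraMap A' B')
  haveI : IsScalarTower A' B' M' :=
    ⟨fun a b n => by
      show (a • b) • n = algebraMap A' B' a • (b • n)
      rw [Algebra.smul_def, mul_smul]⟩
  haveI : IsScalarTower A A' M' :=
    IsScalarTower.of_algebraMap_smul (fun a n => by
      show algebraMap A' B' (algebraMap A A' a) • n = a • n
      rw [← IsScalarTower.algebraMap_apply A A' B', algebraMap_smul])
  let f1 : M →ₗ[B] M' := LocalizedModule.mkLinearMap SB M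
  haveI : IsLocalizedModule S (f1.restrictScalars A) := IsLocalizedModule.restrictScalars S f1
  let l : LocalizedModule S M ≃ₗ[A] M' := IsLocalizedModule.iso S (f1.restrictScalars A)
  let l' : LocalizedModule S M ≃ₗ[A'] M' := l.extendScalarsOfIsLocalization S A'
  haveI : Module.Finite A' M' := Module.Finite.equiv l'
  have hstep : LocCoh.depth A' (LocalizedModule S M) = LocCoh.depth A' M' :=
    CM.idealDepth_congr l'
  refine hstep.trans ?_
  rw [depth_eq_iInf_of_isLocalRing (A := A') (B := B') M']
  have key : ∀ (I J : Ideal B) [I.IsPrime] [J.IsPrime], I = J →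
      LocCoh.depth (Localization.AtPrime I) (LocalizedModule I.primeCompl M) =
        LocCoh.depth (Localization.AtPrime J) (LocalizedModule J.primeCompl M) ∧
      (Nontrivial (LocalizedModule I.primeCompl M) ↔
        Nontrivial (LocalizedModule J.primeCompl M)) := by
    intro I J _ _ h
    subst h
    exact ⟨rfl, Iff.rfl⟩
  apply le_antisymm
  · refine le_iInf₂ fun q hq => ?_
    have hdisj : Disjoint (SB : Set B) (q.asIdeal : Set B) := by
      rw [Set.disjoint_left]
      rintro _ ⟨a, ha, rfl⟩ haq
      have : a ∈ q.asIdeal.comap (algebraMap A B) := haq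
      rw [hq.1] at this
      exact ha this
    haveI hq'prime : (q.asIdeal.map (algebraMap B B')).IsPrime :=
      IsLocalization.isPrime_of_isPrime_disjoint SB _ _ q.isPrime hdisj
    have hcomap : (q.asIdeal.map (algebraMap B B')).comap (algebraMap B B') = q.asIdeal :=
      IsLocalization.under_map_of_isPrime_disjoint SB B' q.isPrime hdisj
    obtain ⟨hdepth, hnontriv⟩ :=
      depth_localization_localization SB M (q.asIdeal.map (algebraMap B B'))
    obtain ⟨hk1, hk2⟩ := key _ _ hcomap
    have hq'T : (⟨q.asIdeal.map (algebraMap B B'), hq'prime⟩ : PrimeSpectrum B') ∈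
        {q : PrimeSpectrum B' | q.asIdeal.comap (algebraMap A' B') = maximalIdeal A' ∧
          q ∈ Module.support B' M'} := by
      refine ⟨?_, ?_⟩
      · have h1 : maximalIdeal A' ≤
            (q.asIdeal.map (algebraMap B B')).comap (algebraMap A' B') := by
          rw [← Localization.AtPrime.map_eq_maximalIdeal, Ideal.map_le_iff_le_comap]
          intro a ha
          show algebraMap A' B' (algebraMap A A' a) ∈ q.asIdeal.map (algebraMap B B')
          rw [← IsScalarTower.algebraMap_apply A A' B', IsScalarTower.algebraMap_apply A B B']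
          apply Ideal.mem_map_of_mem
          have : a ∈ q.asIdeal.comap (algebraMap A B) := by rw [hq.1]; exact ha
          exact this
        exact ((maximalIdeal.isMaximal A').eq_of_le (Ideal.IsPrime.ne_top inferInstance) h1).symm
      · rw [Module.mem_support_iff]
        exact hnontriv.mpr (hk2.mpr (Module.mem_support_iff.mp hq.2))
    refine le_trans (iInf₂_le (⟨q.asIdeal.map (algebraMap B B'), hq'prime⟩ : PrimeSpectrum B')
      hq'T) ?_
    exact le_of_eq (hdepth.trans hk1)
  · refine le_iInf₂ fun q' hq' => ?_
    obtain ⟨hdepth, hnontriv⟩ := depth_localization_localization SB M q'.asIdeal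
    have hqT : PrimeSpectrum.comap (algebraMap B B') q' ∈
        {q : PrimeSpectrum B | q.asIdeal.comap (algebraMap A B) = p ∧
          q ∈ Module.support B M} := by
      refine ⟨?_, ?_⟩
      · show (q'.asIdeal.comap (algebraMap B B')).comap (algebraMap A B) = p
        rw [Ideal.comap_comap, ← IsScalarTower.algebraMap_eq A B B',
          IsScalarTower.algebraMap_eq A A' B', ← Ideal.comap_comap, hq'.1]
        exact IsLocalization.AtPrime.under_maximalIdeal A' p
      · rw [Module.mem_support_iff]
        exact hnontriv.mp (Module.mem_support_iff.mp hq'.2)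
    exact le_trans (iInf₂_le (PrimeSpectrum.comap (algebraMap B B') q') hqT) (le_of_eq hdepth.symm)

end Main

end Groth.Agent.H29.FinDimDepth
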