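import Mathlib
import Groth.Prelude.Def_EGA4b
import Groth.Prelude.Def_FlatCA
import Groth.Agent.H29.FlatCM
import Groth.Agent.H29.FlatDepthMod2
import Groth.Agent.H57.LocalCrit
import Groth.Agent.H15.ExtDepth

/-!
# Flatness from depth of the closed fibre (Kollár's criterion)

Let `A → B` be a local homomorphism of Noetherian local rings, `J` an ideal of `B` and `M` a finite
`B`-module which is flat over `A` off `V(J)`.  If `depth_J (M/𝔪M) ≥ 1` then `M` is flat over `A`;
if `depth_J (M/𝔪M) ≥ n` for a flat `M`, then `depth_J (M ⊗ Q) ≥ n` for all `A`-modules `Q` of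
finite length.
-/

set_option autoImplicit false
set_option linter.style.haveILetI false
set_option maxHeartbeats 400000

universe u

open IsLocalRing TensorProduct LinearMap Function
open Groth.Agent.H15.Depth Groth.Agent.H15.DepthSpread

namespace Groth.Agent.H29.KollarFlat

section Length

variable {A : Type u} [CommRing A] [IsLocalRing A] {M : Type u} [AddCommGroup M] [Module A M]

/-- Socle elements of arbitrary modules detect `𝔪 M`: if `ε ≠ 0` is killed by `𝔪` and
`ε ⊗ y = 0` then `y ∈ 𝔪 M`. -/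
def SocleDetects (A : Type u) [CommRing A] [IsLocalRing A] (M : Type u) [AddCommGroup M]
    [Module A M] : Prop :=
  ∀ (N : Type u) [AddCommGroup N] [Module A N] (ε : N), ε ≠ 0 →
    (∀ a ∈ maximalIdeal A, a • ε = 0) → ∀ y : M, ε ⊗ₜ[A] y = 0 →
      y ∈ (maximalIdeal A • ⊤ : Submodule A M)

theorem smul_one_quot (I : Ideal A) (a : A) :
    a • (1 : A ⧸ I) = Ideal.Quotient.mk I a := by
  rw [Algebra.smul_def, mul_one, Ideal.Quotient.algebraMap_eq]

theorem rTensor_injective_of_simple (hkey : SocleDetects A M) {S₀ N : Type u} [AddCommGroup S₀]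
    [Module A S₀] [AddCommGroup N] [Module A N] [IsSimpleModule A S₀] (j : S₀ →ₗ[A] N)
    (hj : Injective j) : Injective (rTensor M j) := by
  obtain ⟨I, hI, ⟨e⟩⟩ := isSimpleModule_iff_quot_maximal.mp (inferInstance : IsSimpleModule A S₀)
  obtain rfl : I = maximalIdeal A := IsLocalRing.eq_maximalIdeal hI
  obtain ⟨s₀, hs₀⟩ : ∃ s₀ : S₀, s₀ = e.symm 1 := ⟨_, rfl⟩
  have hes₀ : e s₀ = 1 := by rw [hs₀, e.apply_symm_apply]
  have hs₀ne : s₀ ≠ 0 := by
    intro h
    rw [h, map_zero] at hes₀
    exact zero_ne_one hes₀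
  have hkill : ∀ a ∈ maximalIdeal A, a • s₀ = 0 := by
    intro a ha
    apply e.injective
    rw [map_smul, hes₀, map_zero, smul_one_quot]
    exact Ideal.Quotient.eq_zero_iff_mem.mpr ha
  have hgen : ∀ s : S₀, ∃ a : A, s = a • s₀ := by
    intro s
    obtain ⟨a, ha⟩ := Ideal.Quotient.mk_surjective (e s)
    refine ⟨a, ?_⟩
    apply e.injective
    rw [map_smul, hes₀, smul_one_quot, ha]
  have hform : ∀ z : S₀ ⊗[A] M, ∃ y : M, z = s₀ ⊗ₜ[A] y := by
    intro z
    induction z using TensorProduct.induction_on with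
    | zero => exact ⟨0, (tmul_zero _ _).symm⟩
    | tmul s y =>
      obtain ⟨a, rfl⟩ := hgen s
      exact ⟨a • y, smul_tmul a s₀ y⟩
    | add z w hz hw =>
      obtain ⟨y, rfl⟩ := hz
      obtain ⟨y', rfl⟩ := hw
      exact ⟨y + y', (tmul_add _ _ _).symm⟩
  rw [injective_iff_map_eq_zero]
  intro z hz
  obtain ⟨y, rfl⟩ := hform z
  rw [rTensor_tmul] at hz
  have hy := hkey N (j s₀) (fun h => hs₀ne (hj (h.trans (map_zero j).symm)))
    (fun a ha => by rw [← map_smul, hkill a ha, map_zero]) y hz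
  refine Submodule.smul_induction_on hy (fun a ha y' _ => ?_) (fun y₁ y₂ h₁ h₂ => ?_)
  · rw [← smul_tmul, hkill a ha, zero_tmul]
  · rw [tmul_add, h₁, h₂, add_zero]

theorem tensor_eq_zero_of_subsingleton {P : Type u} [AddCommGroup P] [Module A P] [Subsingleton P]
    (z : P ⊗[A] M) : z = 0 := by
  induction z using TensorProduct.induction_on with
  | zero => rfl
  | tmul p y => rw [Subsingleton.elim p 0, zero_tmul]
  | add a b ha hb => rw [ha, hb, add_zero]

theorem rTensor_injective_of_isFiniteLength (hkey : SocleDetects A M) {P : Type u} [AddCommGroup P]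
    [Module A P] (hP : IsFiniteLength A P) :
    ∀ (N : Type u) [AddCommGroup N] [Module A N] (j : P →ₗ[A] N), Injective j →
      Injective (rTensor M j) := by
  induction hP with
  | @of_subsingleton P _ _ _ =>
    intro N _ _ j _ z w _
    rw [tensor_eq_zero_of_subsingleton z, tensor_eq_zero_of_subsingleton w]
  | @of_simple_quotient P _ _ S _ _ ih =>
    intro N _ _ j hj
    rw [injective_iff_map_eq_zero]
    intro z hz
    let j₂ : (P ⧸ S) →ₗ[A] N ⧸ S.map j := S.mapQ (S.map j) j (Submodule.le_comap_map j S)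
    have hj₂ : Injective j₂ := by
      rw [injective_iff_map_eq_zero]
      intro x hx
      obtain ⟨p, rfl⟩ := Submodule.mkQ_surjective S x
      have hx' : (Submodule.Quotient.mk (j p) : N ⧸ S.map j) = 0 := hx
      rw [Submodule.Quotient.mk_eq_zero] at hx'
      obtain ⟨p', hp', hpp'⟩ := hx'
      rw [Submodule.mkQ_apply, Submodule.Quotient.mk_eq_zero, ← hj hpp']
      exact hp'
    have hcomm : j₂ ∘ₗ S.mkQ = (S.map j).mkQ ∘ₗ j := by
      ext p
      rfl
    have h1 : rTensor M S.mkQ z = 0 := by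
      apply rTensor_injective_of_simple hkey j₂ hj₂
      rw [map_zero, ← LinearMap.comp_apply, ← rTensor_comp, hcomm, rTensor_comp,
        LinearMap.comp_apply, hz, map_zero]
    have hex : Function.Exact (rTensor M S.subtype) (rTensor M S.mkQ) :=
      rTensor_exact M (LinearMap.exact_subtype_mkQ S) (Submodule.mkQ_surjective S)
    obtain ⟨s, rfl⟩ := (hex z).mp h1
    have h2 : rTensor M (j ∘ₗ S.subtype) s = 0 := by
      rw [rTensor_comp, LinearMap.comp_apply, hz]
    have h3 : Injective (rTensor M (j ∘ₗ S.subtype)) :=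
      ih N (j ∘ₗ S.subtype) (by rw [LinearMap.coe_comp]; exact hj.comp S.injective_subtype)
    rw [(injective_iff_map_eq_zero _).mp h3 s h2, map_zero]

end Length

section Loc

variable {A B : Type u} [CommRing A] [CommRing B] [Algebra A B] {M : Type u} [AddCommGroup M]
  [Module B M] [Module A M] [IsScalarTower A B M]

theorem exists_smul_mem_of_mk_mem (S : Submonoid B) (I : Ideal A) (y : M)
    (h : LocalizedModule.mk y (1 : S) ∈ (I • ⊤ : Submodule A (LocalizedModule S M))) :
    ∃ s ∈ S, s • y ∈ (I.map (algebraMap A B) • ⊤ : Submodule B M) := by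
  have key : ∀ x ∈ (I • ⊤ : Submodule A (LocalizedModule S M)),
      ∃ y' ∈ (I.map (algebraMap A B) • ⊤ : Submodule B M), ∃ s : S,
        x = LocalizedModule.mk y' s := by
    intro x hx
    refine Submodule.smul_induction_on hx ?_ ?_
    · intro a ha n _
      induction n using LocalizedModule.induction_on with
      | h y₀ s₀ =>
        refine ⟨a • y₀, ?_, s₀, LocalizedModule.smul'_mk a y₀ s₀⟩
        rw [← algebraMap_smul B a y₀]
        exact Submodule.smul_mem_smul (Ideal.mem_map_of_mem _ ha) Submodule.mem_top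
    · rintro x₁ x₂ ⟨y₁, hy₁, s₁, rfl⟩ ⟨y₂, hy₂, s₂, rfl⟩
      refine ⟨s₂ • y₁ + s₁ • y₂, ?_, s₁ * s₂, LocalizedModule.mk_add_mk⟩
      exact add_mem (Submodule.smul_mem _ (s₂ : B) hy₁) (Submodule.smul_mem _ (s₁ : B) hy₂)
  obtain ⟨y', hy', s, hs⟩ := key _ h
  obtain ⟨t, ht⟩ := LocalizedModule.mk_eq.mp hs
  refine ⟨((t * s : S) : B), (t * s).2, ?_⟩
  have h1 : ((t * s : S) : B) • y = (t : B) • y' := by
    have h2 : t • s • y = t • (1 : S) • y' := ht
    rw [one_smul] at h2
    rw [Submonoid.coe_mul, mul_smul]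
    exact h2
  rw [h1]
  exact Submodule.smul_mem _ (t : B) hy'

end Loc

section Key

variable {A B : Type u} [CommRing A] [CommRing B] [IsNoetherianRing A] [IsNoetherianRing B]
  [IsLocalRing A] [IsLocalRing B] [Algebra A B] [IsLocalHom (algebraMap A B)] (J : Ideal B)
  {M : Type u} [AddCommGroup M] [Module B M] [Module A M] [IsScalarTower A B M] [Module.Finite B M]

omit [IsNoetherianRing A] [IsLocalRing A] [IsLocalRing B] [Algebra A B]
  [IsLocalHom (algebraMap A B)] in
/-- If `depth_J X ≥ 1`, an element of `X` which is killed, locally at every prime not containing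
`J`, is zero. -/
theorem torsion_eq_zero {X : Type u} [AddCommGroup X] [Module B X] [Module.Finite B X]
    (h1 : 1 ≤ LocCoh.idealDepth J X) (t : X)
    (ht : ∀ q : PrimeSpectrum B, ¬ J ≤ q.asIdeal → ∃ s, s ∉ q.asIdeal ∧ s • t = 0) : t = 0 := by
  let 𝔞 : Ideal B := LinearMap.ker (LinearMap.toSpanSingleton B X t)
  have h𝔞 : ∀ b : B, b ∈ 𝔞 ↔ b • t = 0 := fun b => by
    show LinearMap.toSpanSingleton B X t b = 0 ↔ _
    rw [LinearMap.toSpanSingleton_apply]
  have hrad : J ≤ 𝔞.radical := by
    rw [Ideal.radical_eq_sInf]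
    refine le_sInf ?_
    rintro q ⟨h𝔞q, hq⟩
    by_contra hJq
    obtain ⟨s, hs, hst⟩ := ht ⟨q, hq⟩ hJq
    exact hs (h𝔞q ((h𝔞 s).mpr hst))
  obtain ⟨n, hn⟩ := Ideal.exists_pow_le_of_le_radical_of_fg hrad (IsNoetherian.noetherian J)
  by_cases hJX : J • (⊤ : Submodule B X) = ⊤
  · obtain ⟨r, hr, hr0⟩ := Submodule.exists_sub_one_mem_and_smul_eq_zero_of_fg_of_le_smul J
      (⊤ : Submodule B X) Module.Finite.fg_top (by rw [hJX])
    have h1r : (1 - r) ∈ J := by
      have := J.neg_mem hr
      rwa [neg_sub] at this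
    have hpow : ∀ k : ℕ, (1 - r) ^ k • t = t := by
      intro k
      induction k with
      | zero => rw [pow_zero, one_smul]
      | succ k ih =>
        rw [pow_succ, mul_smul, sub_smul, one_smul, hr0 t Submodule.mem_top, sub_zero, ih]
    have h0 : (1 - r) ^ n • t = 0 := (h𝔞 _).mp (hn (Ideal.pow_mem_pow h1r n))
    rw [← hpow n, h0]
  · obtain ⟨x, hxJ, hreg, -⟩ := (hasSeq_succ_iff (n := 0)).mp
      ((le_idealDepth_iff hJX 1).mp (by exact_mod_cast h1))
    have h0 : x ^ n • t = 0 := (h𝔞 _).mp (hn (Ideal.pow_mem_pow hxJ n))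
    exact (hreg.pow n) (show x ^ n • t = x ^ n • (0 : X) by rw [h0, smul_zero])

omit [IsNoetherianRing A] [IsLocalRing B] [IsLocalHom (algebraMap A B)] in
theorem socleDetects_of_depth
    (hU : ∀ q : PrimeSpectrum B, ¬ J ≤ q.asIdeal → FlatCA.FlatAt A q.asIdeal M)
    (h1 : 1 ≤ LocCoh.idealDepth J (EGA4.FibMod A B M)) : SocleDetects A M := by
  intro N _ _ ε hε hm y hy
  rw [← Groth.Agent.H57.mem_map_smul_top_iff (B := B) M (maximalIdeal A) y]
  suffices h : (Submodule.Quotient.mk y : EGA4.FibMod A B M) = 0 from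
    (Submodule.Quotient.mk_eq_zero _).mp h
  apply torsion_eq_zero J h1
  intro q hq
  haveI : Module.Flat A (LocalizedModule q.asIdeal.primeCompl M) := hU q hq
  let j : (A ⧸ maximalIdeal A) →ₗ[A] N :=
    Submodule.liftQ (maximalIdeal A) (LinearMap.toSpanSingleton A N ε) (fun a ha => by
      rw [LinearMap.mem_ker, LinearMap.toSpanSingleton_apply]; exact hm a ha)
  have hjmk : ∀ a : A, j (Ideal.Quotient.mk (maximalIdeal A) a) = a • ε := fun a => rfl
  have hj1 : j 1 = ε := by
    rw [← map_one (Ideal.Quotient.mk (maximalIdeal A)), hjmk, one_smul]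
  have hj : Injective j := by
    rw [injective_iff_map_eq_zero]
    intro x hx
    obtain ⟨a, rfl⟩ := Ideal.Quotient.mk_surjective x
    rw [hjmk] at hx
    rw [Ideal.Quotient.eq_zero_iff_mem]
    by_contra ha
    have hu : IsUnit a := by
      rwa [IsLocalRing.mem_maximalIdeal, mem_nonunits_iff, not_not] at ha
    exact hε (hu.smul_eq_zero.mp hx)
  have hinj := Module.Flat.rTensor_preserves_injective_linearMap
    (M := LocalizedModule q.asIdeal.primeCompl M) j hj
  let φ : M →ₗ[A] LocalizedModule q.asIdeal.primeCompl M :=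
    (LocalizedModule.mkLinearMap q.asIdeal.primeCompl M).restrictScalars A
  have h2 : rTensor (LocalizedModule q.asIdeal.primeCompl M) j
      ((1 : A ⧸ maximalIdeal A) ⊗ₜ[A] φ y) = 0 := by
    rw [rTensor_tmul, hj1]
    have := congrArg (lTensor N φ) hy
    rwa [lTensor_tmul, map_zero] at this
  have h3 : (1 : A ⧸ maximalIdeal A) ⊗ₜ[A] φ y = 0 := hinj (h2.trans (map_zero _).symm)
  have h4 : φ y ∈ (maximalIdeal A • ⊤ :
      Submodule A (LocalizedModule q.asIdeal.primeCompl M)) := by
    have := congrArg (TensorProduct.quotTensorEquivQuotSMul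
      (LocalizedModule q.asIdeal.primeCompl M) (maximalIdeal A)) h3
    rwa [TensorProduct.quotTensorEquivQuotSMul_mk_one_tmul, map_zero,
      Submodule.Quotient.mk_eq_zero] at this
  obtain ⟨s, hs, hsy⟩ := exists_smul_mem_of_mk_mem q.asIdeal.primeCompl (maximalIdeal A) y h4
  refine ⟨s, hs, ?_⟩
  rw [← Submodule.Quotient.mk_smul, Submodule.Quotient.mk_eq_zero]
  exact hsy

variable (A) in
omit [IsNoetherianRing B] [IsLocalRing B] [Algebra A B] [IsLocalHom (algebraMap A B)] in
theorem isFiniteLength_quot_pow (k : ℕ) : IsFiniteLength A (A ⧸ (maximalIdeal A) ^ k) := by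
  rw [isFiniteLength_iff_isNoetherian_isArtinian]
  refine ⟨inferInstance, ?_⟩
  rcases Nat.eq_zero_or_pos k with rfl | hk
  · haveI : Subsingleton (A ⧸ (maximalIdeal A) ^ 0) := by
      rw [pow_zero, Ideal.one_eq_top]
      exact Ideal.Quotient.subsingleton_iff.mpr rfl
    infer_instance
  · have hne : (maximalIdeal A) ^ k ≠ ⊤ := fun h =>
      (maximalIdeal.isMaximal A).ne_top (top_le_iff.mp (h ▸ Ideal.pow_le_self hk.ne'))
    haveI : Nontrivial (A ⧸ (maximalIdeal A) ^ k) := Ideal.Quotient.nontrivial_iff.mpr hne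
    haveI : IsLocalRing (A ⧸ (maximalIdeal A) ^ k) :=
      IsLocalRing.of_surjective' (Ideal.Quotient.mk _) Ideal.Quotient.mk_surjective
    haveI : IsArtinianRing (A ⧸ (maximalIdeal A) ^ k) := by
      rw [isArtinianRing_iff_isNilpotent_maximalIdeal]
      refine ⟨k, ?_⟩
      rw [← Groth.Agent.H29.FlatCM.map_mk_maximalIdeal _ hne, ← Ideal.map_pow,
        Ideal.map_quotient_self, Ideal.zero_eq_bot]
    exact isArtinian_of_surjective_algebraMap (R := A ⧸ (maximalIdeal A) ^ k) (S := A)
      (M := A ⧸ (maximalIdeal A) ^ k) Ideal.Quotient.mk_surjective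

theorem flat_of_socleDetects {A B : Type u} [CommRing A] [CommRing B] [IsNoetherianRing A]
    [IsNoetherianRing B] [IsLocalRing A] [IsLocalRing B] [Algebra A B]
    [IsLocalHom (algebraMap A B)] {M : Type u} [AddCommGroup M] [Module B M] [Module A M]
    [IsScalarTower A B M] [Module.Finite B M] (h : SocleDetects A M) : Module.Flat A M := by
  refine Groth.Agent.H57.flat_of_forall_rTensor_injective (S := B) (maximalIdeal A) ?_ ?_
  · rw [IsLocalRing.jacobson_eq_maximalIdeal ⊥ bot_ne_top]
    exact IsLocalRing.map_maximalIdeal_le (algebraMap A B)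
  · intro k P
    exact rTensor_injective_of_isFiniteLength h
      ((isFiniteLength_quot_pow A k).of_injective (f := P.subtype) P.injective_subtype) _
      P.subtype P.injective_subtype

/-- **Kollár's flatness criterion**: a finite `B`-module flat over `A` off `V(J)` whose closed fibre
has `J`-depth at least one is flat over `A`. -/
theorem flat_of_flatAt_off
    (hU : ∀ q : PrimeSpectrum B, ¬ J ≤ q.asIdeal → FlatCA.FlatAt A q.asIdeal M)
    (h1 : 1 ≤ LocCoh.idealDepth J (EGA4.FibMod A B M)) : Module.Flat A M :=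
  flat_of_socleDetects (B := B) (socleDetects_of_depth J hU h1)

end Key

section TensorQuot

variable {A B : Type u} [CommRing A] [CommRing B] [Algebra A B] (M : Type u) [AddCommGroup M]
  [Module B M] [Module A M] [IsScalarTower A B M]

/-- `m ↦ m ⊗ 1`, as a `B`-linear map. -/
noncomputable def tmulOne (I : Ideal A) : M →ₗ[B] M ⊗[A] (A ⧸ I) where
  toFun m := m ⊗ₜ[A] (1 : A ⧸ I)
  map_add' a b := add_tmul a b 1
  map_smul' b m := (smul_tmul' b m (1 : A ⧸ I)).symm

theorem tmulOne_apply (I : Ideal A) (m : M) : tmulOne (B := B) M I m = m ⊗ₜ[A] (1 : A ⧸ I) := rfl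

theorem tmulOne_surjective (I : Ideal A) : Surjective (tmulOne (B := B) M I) := by
  intro z
  induction z using TensorProduct.induction_on with
  | zero => exact ⟨0, map_zero _⟩
  | tmul m x =>
    obtain ⟨a, rfl⟩ := Ideal.Quotient.mk_surjective x
    refine ⟨a • m, ?_⟩
    rw [tmulOne_apply, smul_tmul, Algebra.smul_def, mul_one, Ideal.Quotient.algebraMap_eq]
  | add z w hz hw =>
    obtain ⟨m, rfl⟩ := hz
    obtain ⟨m', rfl⟩ := hw
    exact ⟨m + m', map_add _ _ _⟩

theorem ker_tmulOne (I : Ideal A) :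
    LinearMap.ker (tmulOne (B := B) M I) = (I.map (algebraMap A B) • ⊤ : Submodule B M) := by
  ext x
  rw [LinearMap.mem_ker, Groth.Agent.H57.mem_map_smul_top_iff M I x, tmulOne_apply]
  constructor
  · intro h
    have h1 : TensorProduct.tensorQuotEquivQuotSMul M I (x ⊗ₜ[A] (1 : A ⧸ I)) =
        Submodule.Quotient.mk x := by
      rw [← map_one (Ideal.Quotient.mk I), TensorProduct.tensorQuotEquivQuotSMul_tmul_mk, one_smul]
    rw [h, map_zero] at h1
    exact (Submodule.Quotient.mk_eq_zero _).mp h1.symm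
  · intro h
    refine Submodule.smul_induction_on h (fun a ha m _ => ?_)
      (fun m₁ m₂ h₁ h₂ => by rw [add_tmul, h₁, h₂, add_zero])
    rw [smul_tmul, Algebra.smul_def, mul_one, Ideal.Quotient.algebraMap_eq,
      Ideal.Quotient.eq_zero_iff_mem.mpr ha, tmul_zero]

theorem nonempty_quotEquivTensor (I : Ideal A) :
    Nonempty ((M ⧸ (I.map (algebraMap A B) • ⊤ : Submodule B M)) ≃ₗ[B] M ⊗[A] (A ⧸ I)) :=
  ⟨(Submodule.quotEquivOfEq _ _ (ker_tmulOne M I).symm).trans
    ((tmulOne M I).quotKerEquivOfSurjective (tmulOne_surjective M I))⟩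

end TensorQuot

section DepthInd

variable {A B : Type u} [CommRing A] [CommRing B] [IsNoetherianRing B] [Algebra A B] (J : Ideal B)

omit [CommRing A] [Algebra A B] in
theorem le_idealDepth_of_exact {X₁ X₂ X₃ : Type u} [AddCommGroup X₁] [Module B X₁]
    [Module.Finite B X₁] [AddCommGroup X₂] [Module B X₂] [Module.Finite B X₂] [AddCommGroup X₃]
    [Module B X₃] [Module.Finite B X₃] (f : X₁ →ₗ[B] X₂) (g : X₂ →ₗ[B] X₃) (hf : Injective f)
    (hfg : Function.Exact f g) (hg : Surjective g) (n : ℕ)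
    (h₁ : (n : ℕ∞) ≤ LocCoh.idealDepth J X₁) (h₃ : (n : ℕ∞) ≤ LocCoh.idealDepth J X₃) :
    (n : ℕ∞) ≤ LocCoh.idealDepth J X₂ := by
  rw [Groth.Agent.H15.ExtDepth.le_idealDepth_iff_ext'] at h₁ h₃ ⊢
  intro i hi
  have hS : (ModuleCat.shortComplexOfCompEqZero f g hfg.linearMap_comp_eq_zero).ShortExact :=
    ModuleCat.shortComplex_shortExact _ hfg hf hg
  exact Groth.Agent.H15.ExtDepth.subsingleton_ext_X₂ (ModuleCat.of B (B ⧸ J)) hS i
    (h₁ i hi) (h₃ i hi)

variable [IsLocalRing A] [IsNoetherianRing A] (M : Type u) [AddCommGroup M] [Module B M]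
  [Module A M] [IsScalarTower A B M] [Module.Finite B M] [Module.Flat A M]

theorem le_idealDepth_tensor_of_isFiniteLength (n : ℕ)
    (h : (n : ℕ∞) ≤ LocCoh.idealDepth J (M ⊗[A] (A ⧸ maximalIdeal A))) {Q : Type u}
    [AddCommGroup Q] [Module A Q] (hQ : IsFiniteLength A Q) :
    (n : ℕ∞) ≤ LocCoh.idealDepth J (M ⊗[A] Q) := by
  induction hQ with
  | @of_subsingleton Q _ _ _ =>
    haveI : Subsingleton (M ⊗[A] Q) := by
      refine ⟨fun z w => ?_⟩
      have hz : ∀ z : M ⊗[A] Q, z = 0 := by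
        intro z
        induction z using TensorProduct.induction_on with
        | zero => rfl
        | tmul m q => rw [Subsingleton.elim q 0, tmul_zero]
        | add a b ha hb => rw [ha, hb, add_zero]
      rw [hz z, hz w]
    rw [Groth.Agent.H15.Depth.idealDepth_eq_top_of_subsingleton]
    exact le_top
  | @of_simple_quotient Q _ _ S _ hS ih =>
    haveI : IsNoetherian A Q :=
      (isFiniteLength_iff_isNoetherian_isArtinian.mp (IsFiniteLength.of_simple_quotient hS)).1
    haveI : Module.Finite A S := inferInstance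
    haveI : Module.Finite A (Q ⧸ S) := inferInstance
    haveI : Module.Finite B (M ⊗[A] S) := Groth.Agent.H29.FlatDepthMod.finite_tensor M S
    haveI : Module.Finite B (M ⊗[A] Q) := Groth.Agent.H29.FlatDepthMod.finite_tensor M Q
    haveI : Module.Finite B (M ⊗[A] (Q ⧸ S)) :=
      Groth.Agent.H29.FlatDepthMod.finite_tensor M (Q ⧸ S)
    obtain ⟨I, hI, ⟨e⟩⟩ :=
      isSimpleModule_iff_quot_maximal.mp (inferInstance : IsSimpleModule A (Q ⧸ S))
    obtain rfl : I = maximalIdeal A := IsLocalRing.eq_maximalIdeal hI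
    have h3 : (n : ℕ∞) ≤ LocCoh.idealDepth J (M ⊗[A] (Q ⧸ S)) := by
      rw [idealDepth_congr (AlgebraTensorModule.congr (LinearEquiv.refl B M) e)]
      exact h
    refine le_idealDepth_of_exact J (AlgebraTensorModule.lTensor B M S.subtype)
      (AlgebraTensorModule.lTensor B M S.mkQ) ?_ ?_ ?_ n ih h3
    · exact fun a b hab => Module.Flat.lTensor_preserves_injective_linearMap (M := M) S.subtype
        S.injective_subtype hab
    · exact fun y => lTensor_exact M (LinearMap.exact_subtype_mkQ S) (Submodule.mkQ_surjective S) y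
    · exact fun y => LinearMap.lTensor_surjective M (Submodule.mkQ_surjective S) y

/-- For a flat `M`, the `J`-depth of `M/𝔪^{k}M` is at least that of `M/𝔪M`. -/
theorem le_idealDepth_quot_pow (n : ℕ)
    (h : (n : ℕ∞) ≤ LocCoh.idealDepth J (EGA4.FibMod A B M)) (k : ℕ) :
    (n : ℕ∞) ≤ LocCoh.idealDepth J (M ⧸ ((EGA4.mB A B) ^ k • (⊤ : Submodule B M))) := by
  obtain ⟨e₁⟩ := nonempty_quotEquivTensor (B := B) M (maximalIdeal A)
  have hbase : (n : ℕ∞) ≤ LocCoh.idealDepth J (M ⊗[A] (A ⧸ maximalIdeal A)) := by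
    rw [← idealDepth_congr e₁]
    exact h
  have hQ := le_idealDepth_tensor_of_isFiniteLength J M n hbase (isFiniteLength_quot_pow A k)
  obtain ⟨e₂⟩ := nonempty_quotEquivTensor (B := B) M ((maximalIdeal A) ^ k)
  have heq : (EGA4.mB A B) ^ k • (⊤ : Submodule B M) =
      (((maximalIdeal A) ^ k).map (algebraMap A B)) • (⊤ : Submodule B M) := by
    rw [Ideal.map_pow]
  rw [idealDepth_congr (Submodule.quotEquivOfEq _ _ heq), idealDepth_congr e₂]
  exact hQ

end DepthInd

end Groth.Agent.H29.KollarFlat
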