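import Mathlib
import Groth.Agent.H29.KollarFlat
import Groth.Agent.H57.FlatInj

/-!
# Kollár's flatness criterion for four-term sequences

Purity of submodules with flat cokernel, flatness of kernels, localization of flat modules over a
base ring, and the equivalence `depth_J (F/𝔪F) ≥ 2 ↔ G flat` for `0 → F → E⁰ → E¹ → G → 0`.
-/

set_option autoImplicit false
set_option linter.style.haveILetI false
set_option maxHeartbeats 400000

universe u

open IsLocalRing TensorProduct LinearMap Function
open Groth.Agent.H15.Depth Groth.Agent.H15.DepthSpread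

namespace Groth.Agent.H29.KollarFlat

section Pure

variable {A : Type u} [CommRing A] {X Y Z : Type u} [AddCommGroup X] [Module A X]
  [AddCommGroup Y] [Module A Y] [AddCommGroup Z] [Module A Z] (ι : X →ₗ[A] Y) (π : Y →ₗ[A] Z)

/-- Auxiliary: the diagram chase, for a flat cover `p : L → N`. -/
theorem lTensor_injective_of_flat_coker_aux (hex : Function.Exact ι π)
    (hπ : Surjective π) [Module.Flat A Z] {N L : Type u} [AddCommGroup N] [Module A N]
    [AddCommGroup L] [Module A L] (p : L →ₗ[A] N) (hp : Surjective p)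
    (hb : Injective (lTensor L ι)) :
    Injective (lTensor N ι) := by
  rw [injective_iff_map_eq_zero]
  intro ζ hζ
  have hrowY : Function.Exact (rTensor Y (LinearMap.ker p).subtype) (rTensor Y p) :=
    rTensor_exact Y (LinearMap.exact_subtype_ker_map p) hp
  have hcolK : Function.Exact (lTensor (LinearMap.ker p) ι) (lTensor (LinearMap.ker p) π) :=
    lTensor_exact _ hex hπ
  have hZ : Injective (rTensor Z (LinearMap.ker p).subtype) :=
    Module.Flat.rTensor_preserves_injective_linearMap _ (LinearMap.ker p).injective_subtype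
  obtain ⟨lam, rfl⟩ := LinearMap.rTensor_surjective X hp ζ
  have c1 : rTensor Y p ∘ₗ lTensor L ι = lTensor N ι ∘ₗ rTensor X p := by
    rw [rTensor_comp_lTensor, lTensor_comp_rTensor]
  have c2 : rTensor Z (LinearMap.ker p).subtype ∘ₗ lTensor (LinearMap.ker p) π =
      lTensor L π ∘ₗ rTensor Y (LinearMap.ker p).subtype := by
    rw [rTensor_comp_lTensor, lTensor_comp_rTensor]
  have c3 : lTensor L ι ∘ₗ rTensor X (LinearMap.ker p).subtype =
      rTensor Y (LinearMap.ker p).subtype ∘ₗ lTensor (LinearMap.ker p) ι := by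
    rw [rTensor_comp_lTensor, lTensor_comp_rTensor]
  have h1 : rTensor Y p (lTensor L ι lam) = 0 := by
    have := LinearMap.congr_fun c1 lam
    rw [LinearMap.comp_apply, LinearMap.comp_apply, hζ] at this
    exact this
  obtain ⟨κ, hκ⟩ := (hrowY _).mp h1
  have h2 : lTensor (LinearMap.ker p) π κ = 0 := by
    apply hZ
    have := LinearMap.congr_fun c2 κ
    rw [LinearMap.comp_apply, LinearMap.comp_apply, hκ] at this
    rw [this, map_zero, ← LinearMap.comp_apply, ← lTensor_comp, hex.linearMap_comp_eq_zero,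
      lTensor_zero, LinearMap.zero_apply]
  obtain ⟨κ', rfl⟩ := (hcolK _).mp h2
  have h3 : lTensor L ι (rTensor X (LinearMap.ker p).subtype κ') = lTensor L ι lam := by
    have := LinearMap.congr_fun c3 κ'
    rw [LinearMap.comp_apply, LinearMap.comp_apply, hκ] at this
    exact this
  rw [← hb h3, ← LinearMap.comp_apply, ← rTensor_comp,
    (LinearMap.exact_subtype_ker_map p).linearMap_comp_eq_zero, rTensor_zero,
    LinearMap.zero_apply]

/-- A submodule with flat cokernel is pure. -/
theorem lTensor_injective_of_flat_coker (hι : Injective ι) (hex : Function.Exact ι π)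
    (hπ : Surjective π) [Module.Flat A Z] (N : Type u) [AddCommGroup N] [Module A N] :
    Injective (lTensor N ι) := by
  refine lTensor_injective_of_flat_coker_aux ι π hex hπ
    (Finsupp.linearCombination A (id : N → N)) ?_ ?_
  · intro n
    exact ⟨Finsupp.single n 1, by simp⟩
  · exact Module.Flat.lTensor_preserves_injective_linearMap ι hι

/-- The kernel of a surjection of flat modules is flat. -/
theorem flat_of_exact_flat_flat (hι : Injective ι) (hex : Function.Exact ι π)
    (hπ : Surjective π) [Module.Flat A Y] [Module.Flat A Z] : Module.Flat A X := by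
  rw [Module.Flat.iff_rTensor_injective']
  intro I
  rw [injective_iff_map_eq_zero]
  intro ζ hζ
  have h1 : rTensor Y I.subtype (lTensor I ι ζ) = 0 := by
    rw [← LinearMap.comp_apply, rTensor_comp_lTensor, ← lTensor_comp_rTensor,
      LinearMap.comp_apply, hζ, map_zero]
  have h2 : lTensor I ι ζ = 0 :=
    (injective_iff_map_eq_zero _).mp
      (Module.Flat.iff_rTensor_injective'.mp (inferInstance : Module.Flat A Y) I) _ h1
  exact (injective_iff_map_eq_zero _).mp (lTensor_injective_of_flat_coker ι π hι hex hπ I) ζ h2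

/-- If the cokernel is flat then `X ∩ I Y = I X`. -/
theorem mem_smul_top_of_flat_coker (hι : Injective ι) (hex : Function.Exact ι π)
    (hπ : Surjective π) [Module.Flat A Z] (I : Ideal A) (x : X)
    (hx : ι x ∈ (I • ⊤ : Submodule A Y)) : x ∈ (I • ⊤ : Submodule A X) := by
  obtain ⟨ξ, hξ⟩ := (Groth.Agent.H57.mem_smul_top_iff I (ι x)).mp hx
  have h1 : lTensor I π ξ = 0 := by
    apply Groth.Agent.H57.mulMap_injective_of_flat I Z
    rw [Groth.Agent.H57.mulMap_lTensor, hξ, map_zero, hex.apply_apply_eq_zero]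
  obtain ⟨ζ, hζ⟩ := (lTensor_exact I hex hπ ξ).mp h1
  have h2 : ι (Groth.Agent.H57.mulMap I X ζ) = ι x := by
    rw [← Groth.Agent.H57.mulMap_lTensor, hζ, hξ]
  rw [← hι h2]
  exact (Groth.Agent.H57.mem_smul_top_iff I _).mpr ⟨ζ, rfl⟩

/-- If `Y` is flat and `X ∩ I Y = I X` then `I ⊗ Z → Z` is injective. -/
theorem rTensor_subtype_injective_of_mem (hex : Function.Exact ι π) (hπ : Surjective π)
    [Module.Flat A Y] (I : Ideal A)
    (hmem : ∀ x : X, ι x ∈ (I • ⊤ : Submodule A Y) → x ∈ (I • ⊤ : Submodule A X)) :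
    Injective (rTensor Z I.subtype) := by
  have hmul : Injective (Groth.Agent.H57.mulMap I Z) := by
    rw [injective_iff_map_eq_zero]
    intro t ht
    obtain ⟨e, rfl⟩ := LinearMap.lTensor_surjective I hπ t
    rw [Groth.Agent.H57.mulMap_lTensor] at ht
    obtain ⟨x, hx⟩ := (hex _).mp ht
    have hx' : ι x ∈ (I • ⊤ : Submodule A Y) :=
      (Groth.Agent.H57.mem_smul_top_iff I _).mpr ⟨e, hx.symm⟩
    obtain ⟨ζ, hζ⟩ := (Groth.Agent.H57.mem_smul_top_iff I x).mp (hmem x hx')
    have h1 : Groth.Agent.H57.mulMap I Y (lTensor I ι ζ) = Groth.Agent.H57.mulMap I Y e := by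
      rw [Groth.Agent.H57.mulMap_lTensor, hζ, hx]
    rw [← Groth.Agent.H57.mulMap_injective_of_flat I Y h1, ← LinearMap.comp_apply,
      ← lTensor_comp, hex.linearMap_comp_eq_zero, lTensor_zero, LinearMap.zero_apply]
  have hco : ⇑(Groth.Agent.H57.mulMap I Z) =
      ⇑(TensorProduct.lid A Z) ∘ ⇑(rTensor Z I.subtype) := rfl
  rw [hco] at hmul
  exact hmul.of_comp

end Pure

section Loc2

variable {A B : Type u} [CommRing A] [CommRing B] [Algebra A B]

theorem flat_localizedModule (S : Submonoid B) (E : Type u) [AddCommGroup E] [Module B E]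
    [Module A E] [IsScalarTower A B E] [Module.Flat A E] :
    Module.Flat A (LocalizedModule S E) := by
  have H := (Module.Flat.iff_lTensor_injectiveₛ (R := A) (M := E)).mp inferInstance
  rw [Module.Flat.iff_lTensor_injectiveₛ]
  intro P _ _ N
  have h1 := H N
  rw [← AlgebraTensorModule.coe_lTensor (A := B)] at h1 ⊢
  have h2 := IsLocalizedModule.map_injective S
    (AlgebraTensorModule.rTensor A N (LocalizedModule.mkLinearMap S E))
    (AlgebraTensorModule.rTensor A P (LocalizedModule.mkLinearMap S E))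
    (AlgebraTensorModule.lTensor B E N.subtype) h1
  rwa [IsLocalizedModule.map_lTensor] at h2

variable {X Y Z : Type u} [AddCommGroup X] [Module B X] [Module A X] [IsScalarTower A B X]
  [AddCommGroup Y] [Module B Y] [Module A Y] [IsScalarTower A B Y]
  [AddCommGroup Z] [Module B Z] [Module A Z] [IsScalarTower A B Z]
  (ι : X →ₗ[B] Y) (π : Y →ₗ[B] Z)

/-- Localized kernel of a surjection onto a module whose localization is flat. -/
theorem flat_localized_ker (hι : Injective ι) (hex : Function.Exact ι π) (hπ : Surjective π)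
    (S : Submonoid B) [Module.Flat A Y] [Module.Flat A (LocalizedModule S Z)] :
    Module.Flat A (LocalizedModule S X) := by
  haveI : Module.Flat A (LocalizedModule S Y) := flat_localizedModule S Y
  let ιS : LocalizedModule S X →ₗ[A] LocalizedModule S Y :=
    (IsLocalizedModule.map S (LocalizedModule.mkLinearMap S X)
      (LocalizedModule.mkLinearMap S Y) ι).restrictScalars A
  let πS : LocalizedModule S Y →ₗ[A] LocalizedModule S Z :=
    (IsLocalizedModule.map S (LocalizedModule.mkLinearMap S Y)
      (LocalizedModule.mkLinearMap S Z) π).restrictScalars A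
  have hιS : Injective ιS := IsLocalizedModule.map_injective S _ _ ι hι
  have hexS : Function.Exact ιS πS := LocalizedModule.map_exact S ι π hex
  have hπS : Surjective πS := IsLocalizedModule.map_surjective S _ _ π hπ
  exact flat_of_exact_flat_flat ιS πS hιS hexS hπS

theorem exists_smul_mem_of_flat_localized (hι : Injective ι) (hex : Function.Exact ι π)
    (hπ : Surjective π) (S : Submonoid B) [Module.Flat A (LocalizedModule S Z)] (I : Ideal A)
    (x : X) (hx : ι x ∈ (I.map (algebraMap A B) • ⊤ : Submodule B Y)) :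
    ∃ s ∈ S, s • x ∈ (I.map (algebraMap A B) • ⊤ : Submodule B X) := by
  apply exists_smul_mem_of_mk_mem S I x
  let ιS : LocalizedModule S X →ₗ[A] LocalizedModule S Y :=
    (IsLocalizedModule.map S (LocalizedModule.mkLinearMap S X)
      (LocalizedModule.mkLinearMap S Y) ι).restrictScalars A
  let πS : LocalizedModule S Y →ₗ[A] LocalizedModule S Z :=
    (IsLocalizedModule.map S (LocalizedModule.mkLinearMap S Y)
      (LocalizedModule.mkLinearMap S Z) π).restrictScalars A
  have hιS : Injective ιS := IsLocalizedModule.map_injective S _ _ ι hι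
  have hexS : Function.Exact ιS πS := LocalizedModule.map_exact S ι π hex
  have hπS : Surjective πS := IsLocalizedModule.map_surjective S _ _ π hπ
  refine mem_smul_top_of_flat_coker ιS πS hιS hexS hπS I (LocalizedModule.mk x 1) ?_
  have h1 : ιS (LocalizedModule.mk x 1) =
      ((LocalizedModule.mkLinearMap S Y).restrictScalars A) (ι x) :=
    IsLocalizedModule.map_apply S (LocalizedModule.mkLinearMap S X)
      (LocalizedModule.mkLinearMap S Y) ι x
  rw [h1]
  exact Groth.Agent.H57.map_mem_smul_top I _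
    ((Groth.Agent.H57.mem_map_smul_top_iff Y I (ι x)).mp hx)

end Loc2

section Fib

variable (A : Type u) {B : Type u} [CommRing A] [CommRing B] [IsLocalRing A] [Algebra A B]
  {X Y Z : Type u} [AddCommGroup X] [Module B X] [AddCommGroup Y] [Module B Y]
  [AddCommGroup Z] [Module B Z]

/-- The map induced on closed fibres. -/
noncomputable def fibMap (g : X →ₗ[B] Y) : EGA4.FibMod A B X →ₗ[B] EGA4.FibMod A B Y :=
  Submodule.mapQ _ _ g (by
    rw [← Submodule.map_le_iff_le_comap, Submodule.map_smul'']
    exact Submodule.smul_mono (le_refl _) le_top)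

theorem fibMap_mk (g : X →ₗ[B] Y) (x : X) :
    fibMap A g (Submodule.Quotient.mk x) = Submodule.Quotient.mk (g x) := rfl

theorem fibMap_injective_iff (g : X →ₗ[B] Y) :
    Injective (fibMap A g) ↔ ∀ x : X, g x ∈ (EGA4.mB A B • ⊤ : Submodule B Y) →
      x ∈ (EGA4.mB A B • ⊤ : Submodule B X) := by
  rw [injective_iff_map_eq_zero]
  constructor
  · intro h x hx
    have := h (Submodule.Quotient.mk x) (by
      rw [fibMap_mk]; exact (Submodule.Quotient.mk_eq_zero _).mpr hx)
    exact (Submodule.Quotient.mk_eq_zero _).mp this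
  · intro h t ht
    obtain ⟨x, rfl⟩ := Submodule.Quotient.mk_surjective _ t
    rw [fibMap_mk, Submodule.Quotient.mk_eq_zero] at ht
    exact (Submodule.Quotient.mk_eq_zero _).mpr (h x ht)

theorem fibMap_surjective (g : X →ₗ[B] Y) (hg : Surjective g) : Surjective (fibMap A g) := by
  intro t
  obtain ⟨y, rfl⟩ := Submodule.Quotient.mk_surjective _ t
  obtain ⟨x, rfl⟩ := hg y
  exact ⟨Submodule.Quotient.mk x, rfl⟩

theorem fibMap_exact (f : X →ₗ[B] Y) (g : Y →ₗ[B] Z) (hex : Function.Exact f g)
    (hg : Surjective g) : Function.Exact (fibMap A f) (fibMap A g) := by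
  intro t
  obtain ⟨e, rfl⟩ := Submodule.Quotient.mk_surjective _ t
  constructor
  · intro h
    rw [fibMap_mk, Submodule.Quotient.mk_eq_zero] at h
    have hmap : (EGA4.mB A B • ⊤ : Submodule B Z) =
        Submodule.map g (EGA4.mB A B • ⊤ : Submodule B Y) := by
      rw [Submodule.map_smul'', Submodule.map_top, LinearMap.range_eq_top.mpr hg]
    rw [hmap] at h
    obtain ⟨e', he', hee'⟩ := h
    have h0 : g (e - e') = 0 := by rw [map_sub, hee', sub_self]
    obtain ⟨x, hx⟩ := (hex _).mp h0
    refine ⟨Submodule.Quotient.mk x, ?_⟩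
    rw [fibMap_mk, hx, Submodule.Quotient.mk_sub, (Submodule.Quotient.mk_eq_zero _).mpr he',
      sub_zero]
  · rintro ⟨s, hs⟩
    obtain ⟨x, rfl⟩ := Submodule.Quotient.mk_surjective _ s
    rw [← hs, fibMap_mk, fibMap_mk, hex.apply_apply_eq_zero, Submodule.Quotient.mk_zero]

end Fib

section DepthSES

variable {B : Type u} [CommRing B] [IsNoetherianRing B] (J : Ideal B)
  {X₁ X₂ X₃ : Type u} [AddCommGroup X₁] [Module B X₁] [Module.Finite B X₁]
  [AddCommGroup X₂] [Module B X₂] [Module.Finite B X₂]
  [AddCommGroup X₃] [Module B X₃] [Module.Finite B X₃]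
  (f : X₁ →ₗ[B] X₂) (g : X₂ →ₗ[B] X₃)

theorem le_idealDepth_ker (hf : Injective f) (hfg : Function.Exact f g) (hg : Surjective g)
    (n : ℕ) (h₂ : ((n + 1 : ℕ) : ℕ∞) ≤ LocCoh.idealDepth J X₂)
    (h₃ : (n : ℕ∞) ≤ LocCoh.idealDepth J X₃) :
    ((n + 1 : ℕ) : ℕ∞) ≤ LocCoh.idealDepth J X₁ := by
  rw [Groth.Agent.H15.ExtDepth.le_idealDepth_iff_ext'] at h₂ h₃ ⊢
  have hS : (ModuleCat.shortComplexOfCompEqZero f g hfg.linearMap_comp_eq_zero).ShortExact :=
    ModuleCat.shortComplex_shortExact _ hfg hf hg
  intro i hi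
  cases i with
  | zero =>
    exact Groth.Agent.H15.ExtDepth.subsingleton_ext_X₁_zero (ModuleCat.of B (B ⧸ J)) hS
      (h₂ 0 (Nat.succ_pos n))
  | succ k =>
    exact Groth.Agent.H15.ExtDepth.subsingleton_ext_X₁_succ (ModuleCat.of B (B ⧸ J)) hS k
      (h₂ (k + 1) hi) (h₃ k (by omega))

theorem le_idealDepth_coker (hf : Injective f) (hfg : Function.Exact f g) (hg : Surjective g)
    (n : ℕ) (h₂ : (n : ℕ∞) ≤ LocCoh.idealDepth J X₂)
    (h₁ : ((n + 1 : ℕ) : ℕ∞) ≤ LocCoh.idealDepth J X₁) :
    (n : ℕ∞) ≤ LocCoh.idealDepth J X₃ := by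
  rw [Groth.Agent.H15.ExtDepth.le_idealDepth_iff_ext'] at h₂ h₁ ⊢
  have hS : (ModuleCat.shortComplexOfCompEqZero f g hfg.linearMap_comp_eq_zero).ShortExact :=
    ModuleCat.shortComplex_shortExact _ hfg hf hg
  intro i hi
  exact Groth.Agent.H15.ExtDepth.subsingleton_ext_X₃ (ModuleCat.of B (B ⧸ J)) hS i
    (h₂ i hi) (h₁ (i + 1) (by omega))

omit [Module.Finite B X₃] in
theorem one_le_idealDepth_of_injective (hf : Injective f)
    (h₂ : 1 ≤ LocCoh.idealDepth J X₂) : 1 ≤ LocCoh.idealDepth J X₁ := by
  have h := le_idealDepth_ker J f (LinearMap.range f).mkQ hf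
    (LinearMap.exact_map_mkQ_range f) (Submodule.mkQ_surjective _) 0
    (by exact_mod_cast h₂) (by simp)
  exact_mod_cast h

end DepthSES

section Main

variable {A B : Type u} [CommRing A] [CommRing B] [IsNoetherianRing A] [IsNoetherianRing B]
  [IsLocalRing A] [IsLocalRing B] [Algebra A B] [IsLocalHom (algebraMap A B)] (J : Ideal B)
  {X Y Z : Type u} [AddCommGroup X] [Module B X] [Module A X] [IsScalarTower A B X]
  [Module.Finite B X]
  [AddCommGroup Y] [Module B Y] [Module A Y] [IsScalarTower A B Y] [Module.Finite B Y]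
  [AddCommGroup Z] [Module B Z] [Module A Z] [IsScalarTower A B Z] [Module.Finite B Z]
  (ι : X →ₗ[B] Y) (π : Y →ₗ[B] Z)

omit [IsNoetherianRing A] [IsNoetherianRing B] [IsLocalRing B] [IsLocalHom (algebraMap A B)]
  [Module.Finite B X] [Module.Finite B Y] [Module.Finite B Z] in
/-- Flat cokernel: the closed fibre of the kernel injects. -/
theorem fibMap_injective_of_flat (hι : Injective ι) (hex : Function.Exact ι π)
    (hπ : Surjective π) [Module.Flat A Z] : Injective (fibMap A ι) := by
  rw [fibMap_injective_iff]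
  intro x hx
  rw [Groth.Agent.H57.mem_map_smul_top_iff] at hx ⊢
  exact mem_smul_top_of_flat_coker (ι.restrictScalars A) (π.restrictScalars A) hι hex hπ
    (maximalIdeal A) x hx

omit [IsNoetherianRing A] [IsLocalRing B] [IsLocalHom (algebraMap A B)]
  [Module.Finite B Y] [Module.Finite B Z] in
/-- Cokernel flat off `V(J)` and `depth_J (X/𝔪X) ≥ 1`: the closed fibre of the kernel injects. -/
theorem fibMap_injective_of_local (hι : Injective ι) (hex : Function.Exact ι π)
    (hπ : Surjective π) (h1 : 1 ≤ LocCoh.idealDepth J (EGA4.FibMod A B X))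
    (hloc : ∀ q : PrimeSpectrum B, ¬ J ≤ q.asIdeal →
      Module.Flat A (LocalizedModule q.asIdeal.primeCompl Z)) : Injective (fibMap A ι) := by
  rw [injective_iff_map_eq_zero]
  intro t ht
  obtain ⟨x, rfl⟩ := Submodule.Quotient.mk_surjective _ t
  rw [fibMap_mk, Submodule.Quotient.mk_eq_zero] at ht
  apply torsion_eq_zero J h1
  intro q hq
  haveI := hloc q hq
  obtain ⟨s, hs, hsx⟩ := exists_smul_mem_of_flat_localized ι π hι hex hπ q.asIdeal.primeCompl
    (maximalIdeal A) x ht
  refine ⟨s, hs, ?_⟩
  rw [← Submodule.Quotient.mk_smul, Submodule.Quotient.mk_eq_zero]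
  exact hsx

omit [Module.Finite B X] [Module.Finite B Y] in
/-- Local criterion: `Y` flat, closed fibre of the kernel injects, then the cokernel is flat. -/
theorem flat_coker_of_fibMap_injective (hex : Function.Exact ι π)
    (hπ : Surjective π) [Module.Flat A Y] (hinj : Injective (fibMap A ι)) :
    Module.Flat A Z := by
  have hmem : ∀ x : X, (ι.restrictScalars A) x ∈ (maximalIdeal A • ⊤ : Submodule A Y) →
      x ∈ (maximalIdeal A • ⊤ : Submodule A X) := by
    intro x hx
    rw [← Groth.Agent.H57.mem_map_smul_top_iff (B := B)] at hx ⊢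
    exact (fibMap_injective_iff A ι).mp hinj x hx
  have h1 : Injective (rTensor Z (maximalIdeal A).subtype) :=
    rTensor_subtype_injective_of_mem (ι.restrictScalars A) (π.restrictScalars A) hex hπ
      (maximalIdeal A) hmem
  letI : Field (A ⧸ maximalIdeal A) := Ideal.Quotient.field (maximalIdeal A)
  have h2 : Module.Flat (A ⧸ maximalIdeal A) ((A ⧸ maximalIdeal A) ⊗[A] Z) := inferInstance
  refine Groth.Agent.H57.flat_of_localCriterion (S := B) (maximalIdeal A) ?_ h1 h2
  rw [IsLocalRing.jacobson_eq_maximalIdeal ⊥ bot_ne_top]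
  exact IsLocalRing.map_maximalIdeal_le (algebraMap A B)

end Main

end Groth.Agent.H29.KollarFlat
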