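import Mathlib
import Groth.Agent.H29.FinDimDepth
import Groth.Agent.H15.Ischebeck

/-!
# Serre's condition `(S_k)` and embedded primes of quotients by regular sequences (EGA IV 5.7.5-type)
-/

set_option autoImplicit false
set_option linter.style.haveILetI false
set_option maxHeartbeats 400000

universe u v

open RingTheory.Sequence IsLocalRing
open scoped Pointwise
open Groth.Agent.H15.Depth Groth.Agent.H15.DepthSpread

namespace Groth.Agent.H29.SkNoEmb

section TransferDim

/-- The support dimension does not depend on the ring, along a bijective ring map. -/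
theorem supportDim_eq_of_bijective {B C : Type u} [CommRing B] [CommRing C] [Algebra B C]
    (hbij : Function.Bijective (algebraMap B C)) (X : Type v) [AddCommGroup X] [Module C X]
    [Module B X] [IsScalarTower B C X] :
    Module.supportDim C X = Module.supportDim B X := by
  have hmem : ∀ P : PrimeSpectrum C, P ∈ Module.support C X ↔
      PrimeSpectrum.comap (algebraMap B C) P ∈ Module.support B X := by
    intro P
    rw [Module.mem_support_iff', Module.mem_support_iff']
    constructor
    · rintro ⟨m, hm⟩
      refine ⟨m, fun b hb h0 => hm (algebraMap B C b) hb ?_⟩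
      rw [algebraMap_smul]
      exact h0
    · rintro ⟨m, hm⟩
      refine ⟨m, fun c hc h0 => ?_⟩
      obtain ⟨b, rfl⟩ := hbij.2 c
      refine hm b hc ?_
      rw [← algebraMap_smul C b m]
      exact h0
  apply le_antisymm
  · refine Order.krullDim_le_of_strictMono
      (fun P : ↥(Module.support C X) =>
        (⟨PrimeSpectrum.comap (algebraMap B C) P.1, (hmem P.1).mp P.2⟩ :
          ↥(Module.support B X))) ?_
    intro P P' hlt
    have hlt' : P.1.asIdeal < P'.1.asIdeal := hlt
    show P.1.asIdeal.comap (algebraMap B C) < P'.1.asIdeal.comap (algebraMap B C)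
    refine lt_of_le_of_ne (Ideal.comap_mono hlt'.le) fun heq => hlt'.ne ?_
    exact Ideal.comap_injective_of_surjective _ hbij.2 heq
  · let e : B ≃+* C := RingEquiv.ofBijective (algebraMap B C) hbij
    have hcomap : ∀ Q : PrimeSpectrum B,
        PrimeSpectrum.comap (algebraMap B C) (PrimeSpectrum.comap e.symm.toRingHom Q) = Q := by
      intro Q
      apply PrimeSpectrum.ext
      ext b
      show e.symm (algebraMap B C b) ∈ Q.asIdeal ↔ b ∈ Q.asIdeal
      have : e.symm (algebraMap B C b) = b := e.symm_apply_apply b
      rw [this]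
    refine Order.krullDim_le_of_strictMono
      (fun Q : ↥(Module.support B X) =>
        (⟨PrimeSpectrum.comap e.symm.toRingHom Q.1, by
          rw [hmem, hcomap]
          exact Q.2⟩ : ↥(Module.support C X))) ?_
    intro Q Q' hlt
    have hlt' : Q.1.asIdeal < Q'.1.asIdeal := hlt
    show Q.1.asIdeal.comap e.symm.toRingHom < Q'.1.asIdeal.comap e.symm.toRingHom
    refine lt_of_le_of_ne (Ideal.comap_mono hlt'.le) fun heq => hlt'.ne ?_
    exact Ideal.comap_injective_of_surjective _ e.symm.surjective heq

/-- Support dimension of an abstract localization at a prime agrees with the concrete one. -/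
theorem supportDim_eq_of_isLocalizedModule {R : Type u} [CommRing R] (q : Ideal R) [q.IsPrime]
    (R' : Type u) [CommRing R'] [Algebra R R'] [IsLocalization.AtPrime R' q]
    {N : Type u} [AddCommGroup N] [Module R N] (N' : Type u) [AddCommGroup N'] [Module R N']
    [Module R' N'] [IsScalarTower R R' N'] (g : N →ₗ[R] N') [IsLocalizedModule q.primeCompl g] :
    Module.supportDim R' N' =
      Module.supportDim (Localization.AtPrime q) (LocalizedModule q.primeCompl N) := by
  let e : Localization.AtPrime q ≃ₐ[R] R' := IsLocalization.algEquiv q.primeCompl _ _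
  letI : Algebra (Localization.AtPrime q) R' := e.toAlgHom.toRingHom.toAlgebra
  haveI : IsScalarTower R (Localization.AtPrime q) R' :=
    IsScalarTower.of_algebraMap_eq (fun r => (e.commutes r).symm)
  letI : Module (Localization.AtPrime q) N' :=
    Module.compHom N' (algebraMap (Localization.AtPrime q) R')
  haveI : IsScalarTower (Localization.AtPrime q) R' N' :=
    ⟨fun a b n => by
      show (a • b) • n = algebraMap (Localization.AtPrime q) R' a • (b • n)
      rw [Algebra.smul_def, mul_smul]⟩
  haveI : IsScalarTower R (Localization.AtPrime q) N' :=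
    IsScalarTower.of_algebraMap_smul (fun r n => by
      show algebraMap (Localization.AtPrime q) R' (algebraMap R (Localization.AtPrime q) r) • n =
        r • n
      rw [← IsScalarTower.algebraMap_apply R (Localization.AtPrime q) R', algebraMap_smul])
  let l : LocalizedModule q.primeCompl N ≃ₗ[R] N' := IsLocalizedModule.iso q.primeCompl g
  let l' : LocalizedModule q.primeCompl N ≃ₗ[Localization.AtPrime q] N' :=
    l.extendScalarsOfIsLocalization q.primeCompl (Localization.AtPrime q)
  have hbij : Function.Bijective (algebraMap (Localization.AtPrime q) R') := e.bijective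
  rw [supportDim_eq_of_bijective hbij N']
  exact (Module.supportDim_eq_of_equiv l').symm

/-- Localizing a localization: support dimension. -/
theorem supportDim_localization_localization {R : Type u} [CommRing R] (S : Submonoid R)
    (N : Type u) [AddCommGroup N] [Module R N] (q' : Ideal (Localization S)) [q'.IsPrime] :
    Module.supportDim (Localization.AtPrime q')
        (LocalizedModule q'.primeCompl (LocalizedModule S N)) =
      Module.supportDim (Localization.AtPrime (q'.comap (algebraMap R (Localization S))))
        (LocalizedModule (q'.comap (algebraMap R (Localization S))).primeCompl N) := by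
  let R' := Localization S
  let N' := LocalizedModule S N
  let T := Localization.AtPrime q'
  let O := LocalizedModule q'.primeCompl N'
  let q := q'.comap (algebraMap R R')
  let f1 : N →ₗ[R] N' := LocalizedModule.mkLinearMap S N
  let f2 : N' →ₗ[R'] O := LocalizedModule.mkLinearMap q'.primeCompl N'
  have h1 : IsBaseChange R' f1 := IsLocalizedModule.isBaseChange S R' f1
  have h2 : IsBaseChange T f2 := IsLocalizedModule.isBaseChange q'.primeCompl T f2
  have h3 : IsBaseChange T ((f2.restrictScalars R).comp f1) := h1.comp h2
  haveI : IsLocalizedModule q.primeCompl ((f2.restrictScalars R).comp f1) :=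
    (isLocalizedModule_iff_isBaseChange q.primeCompl T _).mpr h3
  exact supportDim_eq_of_isLocalizedModule q T O ((f2.restrictScalars R).comp f1)

end TransferDim

section LocSk

/-- `(S_k)` passes to localizations. -/
theorem hasSk_localization {R : Type u} [CommRing R] (S : Submonoid R) (N : Type u)
    [AddCommGroup N] [Module R N] [Module.Finite R N] (k : ℕ) (h : LocCoh.HasSk k R N) :
    LocCoh.HasSk k (Localization S) (LocalizedModule S N) := by
  intro q' _
  rw [supportDim_localization_localization S N q',
    (FinDimDepth.depth_localization_localization S N q').1]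
  exact h _

end LocSk

section Forward

theorem le_zero_of_add_le {x : WithBot ℕ∞} {r : ℕ} (h : x + (r : WithBot ℕ∞) ≤ ((r : ℕ∞) : WithBot ℕ∞)) :
    x ≤ 0 := by
  induction x using WithBot.recBotCoe with
  | bot => exact bot_le
  | coe y =>
    induction y using ENat.recTopCoe with
    | top =>
      exfalso
      have h1 : ((⊤ : ℕ∞) : WithBot ℕ∞) + (r : WithBot ℕ∞) = ((⊤ : ℕ∞) : WithBot ℕ∞) := by
        have : ((r : ℕ) : WithBot ℕ∞) = (((r : ℕ) : ℕ∞) : WithBot ℕ∞) := rfl
        rw [this, ← WithBot.coe_add, top_add]
      rw [h1, WithBot.coe_le_coe] at h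
      exact absurd h (by simp)
    | coe n =>
      have h1 : (((n : ℕ) : ℕ∞) : WithBot ℕ∞) + (r : WithBot ℕ∞) =
          (((n + r : ℕ) : ℕ∞) : WithBot ℕ∞) := by
        push_cast
        rfl
      rw [h1, WithBot.coe_le_coe] at h
      have h2 : n + r ≤ r := by exact_mod_cast h
      have h3 : n = 0 := by omega
      subst h3
      exact le_rfl

variable {R : Type u} [CommRing R] [IsNoetherianRing R]

/-- If `L` satisfies `(S_k)` and `rs` is an `L`-regular sequence of length `< k`, then `L/(rs)L`
has no embedded associated primes. -/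
theorem noEmbedded_of_hasSk (L : Type u) [AddCommGroup L] [Module R L] [Module.Finite R L]
    (k : ℕ) (h : LocCoh.HasSk k R L) (rs : List R) (hlen : rs.length < k)
    (hreg : IsWeaklyRegular L rs) (p q : Ideal R)
    (hp : p ∈ associatedPrimes R (L ⧸ Ideal.ofList rs • (⊤ : Submodule R L)))
    (hq : q ∈ associatedPrimes R (L ⧸ Ideal.ofList rs • (⊤ : Submodule R L)))
    (hpq : p ≤ q) : p = q := by
  haveI hqprime : q.IsPrime := hq.isPrime
  haveI hpprime : p.IsPrime := hp.isPrime
  let N := L ⧸ Ideal.ofList rs • (⊤ : Submodule R L)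
  let Rq := Localization.AtPrime q
  let Lq := LocalizedModule q.primeCompl L
  let Nq := LocalizedModule q.primeCompl N
  let rs' := rs.map (algebraMap R Rq)
  -- (1) the maximal ideal is associated to `N_q`
  have h1 : maximalIdeal Rq ∈ associatedPrimes Rq Nq :=
    Module.associatedPrimes.mem_associatedPrimes_atPrime_of_mem_associatedPrimes hq
  have hqsupp : (⟨q, hqprime⟩ : PrimeSpectrum R) ∈ Module.support R N :=
    CM.mem_support_of_mem_associatedPrimes hq
  haveI hNq : Nontrivial Nq := Module.mem_support_iff.mp hqsupp
  -- (2) depth zero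
  have hdepthN : LocCoh.depth Rq Nq = 0 :=
    (Groth.Agent.H29.depth_eq_zero_iff Rq Nq).mpr
      ⟨Groth.Agent.H29.maximalIdeal_smul_top_ne_top Rq Nq,
        (Groth.Agent.H29.forall_not_isSMulRegular_iff_mem_associatedPrimes Rq Nq).mpr h1⟩
  -- (3) the quotient
  let e : Nq ≃ₗ[Rq] Lq ⧸ (Ideal.ofList rs' • (⊤ : Submodule Rq Lq)) :=
    LocQuot.locQuotListEquiv q.primeCompl rs L
  haveI hN' : Nontrivial (Lq ⧸ (Ideal.ofList rs' • (⊤ : Submodule Rq Lq))) :=
    e.symm.toEquiv.nontrivial
  have hne : Ideal.ofList rs' • (⊤ : Submodule Rq Lq) ≠ ⊤ := by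
    intro htop
    rw [← Submodule.Quotient.subsingleton_iff] at htop
    exact not_subsingleton _ htop
  haveI hLq : Nontrivial Lq := by
    by_contra hcon
    rw [not_nontrivial_iff_subsingleton] at hcon
    exact hne (Subsingleton.elim _ _)
  -- (4) regularity
  have hreg' : IsWeaklyRegular Lq rs' :=
    hreg.of_isLocalizedModule Rq q.primeCompl (LocalizedModule.mkLinearMap q.primeCompl L)
  have hmem : ∀ x ∈ rs', x ∈ maximalIdeal Rq := by
    intro x hx
    by_contra hnot
    have hu : IsUnit x := by
      by_contra hnu
      exact hnot ((IsLocalRing.mem_maximalIdeal x).mpr hnu)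
    apply hne
    have htop : Ideal.ofList rs' = ⊤ :=
      Ideal.eq_top_of_isUnit_mem _ (Ideal.subset_span hx) hu
    rw [htop, Submodule.top_smul]
  have hregular : IsRegular Lq rs' := ⟨hreg', hne.symm⟩
  -- (5) depth and dimension
  have hdepth := CM.depth_quotient_ofList_add_length rs' Lq hmem hreg'
  have hdim := Module.supportDim_add_length_eq_supportDim_of_isRegular rs' hregular
  have hd1 : LocCoh.depth Rq (Lq ⧸ (Ideal.ofList rs' • (⊤ : Submodule Rq Lq))) = 0 :=
    (CM.idealDepth_congr e).symm.trans hdepthN
  rw [hd1, zero_add] at hdepth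
  have hlen' : rs'.length = rs.length := List.length_map _
  have hSk := h q
  rw [← hdepth, hlen'] at hSk
  have hle : Module.supportDim Rq Lq ≤ ((rs.length : ℕ∞) : WithBot ℕ∞) := by
    rcases min_le_iff.mp hSk with hk | hk
    · exfalso
      have : (k : ℕ∞) ≤ (rs.length : ℕ∞) := by exact_mod_cast hk
      have : k ≤ rs.length := by exact_mod_cast this
      omega
    · exact hk
  rw [← hdim, hlen'] at hle
  have hzero : Module.supportDim Rq (Lq ⧸ (Ideal.ofList rs' • (⊤ : Submodule Rq Lq))) ≤ 0 :=
    le_zero_of_add_le hle
  rw [← Module.supportDim_eq_of_equiv e] at hzero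
  -- (6) `p R_q` is in the support of `N_q`, hence maximal
  have hdisj : Disjoint (q.primeCompl : Set R) (p : Set R) := by
    rw [Set.disjoint_left]
    intro a ha hap
    exact ha (hpq hap)
  have hp'prime : (p.map (algebraMap R Rq)).IsPrime :=
    IsLocalization.isPrime_of_isPrime_disjoint q.primeCompl _ _ hpprime hdisj
  have hpsupp : (⟨p, hpprime⟩ : PrimeSpectrum R) ∈ Module.support R N :=
    CM.mem_support_of_mem_associatedPrimes hp
  have hp'supp := FinDimDepth.map_mem_support_atPrime q ⟨p, hpprime⟩ hpsupp hpq
    ⟨p.map (algebraMap R Rq), hp'prime⟩ rfl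
  have hmax := Groth.Agent.H15.Ischebeck.support_subset_of_supportDim_le_zero Nq hzero hp'supp
  rw [PrimeSpectrum.mem_zeroLocus] at hmax
  have hle2 : maximalIdeal Rq ≤ p.map (algebraMap R Rq) := hmax
  have hcomap1 : (p.map (algebraMap R Rq)).comap (algebraMap R Rq) = p :=
    IsLocalization.under_map_of_isPrime_disjoint q.primeCompl Rq hpprime hdisj
  have hcomap2 : (maximalIdeal Rq).comap (algebraMap R Rq) = q :=
    IsLocalization.AtPrime.under_maximalIdeal Rq q
  apply le_antisymm hpq
  calc q = (maximalIdeal Rq).comap (algebraMap R Rq) := hcomap2.symm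
    _ ≤ (p.map (algebraMap R Rq)).comap (algebraMap R Rq) := Ideal.comap_mono hle2
    _ = p := hcomap1

end Forward

section Spread

variable {A : Type u} [CommRing A] [IsNoetherianRing A]

/-- A regular sequence on `M_p` in `pA_p` is, up to units, the image of a sequence of elements of
`p` which is regular on `M_q` for all `q` in a basic open neighbourhood of `p`. -/
theorem exists_list_forall_isWeaklyRegular (p : Ideal A) [p.IsPrime] (r : ℕ) :
    ∀ (M : Type u) [AddCommGroup M] [Module A M] [Module.Finite A M],
      HasSeq (p.map (algebraMap A (Localization.AtPrime p))) (LocalizedModule p.primeCompl M) r →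
      ∃ as : List A, as.length = r ∧ (∀ a ∈ as, a ∈ p) ∧ ∃ g : A, g ∉ p ∧
        ∀ (q : Ideal A) [q.IsPrime], g ∉ q →
          IsWeaklyRegular (LocalizedModule q.primeCompl M)
            (as.map (algebraMap A (Localization.AtPrime q))) := by
  induction r with
  | zero =>
    intro M _ _ _ _
    exact ⟨[], rfl, by simp, 1, fun h => ‹p.IsPrime›.ne_top ((Ideal.eq_top_iff_one p).mpr h),
      fun q _ _ => by simp⟩
  | succ e ih =>
    intro M _ _ _ hseq
    obtain ⟨y, hyI, hyreg, hyseq⟩ := hasSeq_succ_iff.mp hseq
    obtain ⟨⟨⟨x, hxI⟩, s⟩, hxs⟩ :=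
      (IsLocalization.mem_map_algebraMap_iff p.primeCompl (Localization.AtPrime p)).mp hyI
    have hu : IsUnit (algebraMap A (Localization.AtPrime p) (s : A)) :=
      IsLocalization.map_units (Localization.AtPrime p) s
    have hxs' : y * algebraMap A (Localization.AtPrime p) (s : A) =
        algebraMap A (Localization.AtPrime p) x := hxs
    have hxreg : IsSMulRegular (LocalizedModule p.primeCompl M)
        (algebraMap A (Localization.AtPrime p) x) := by
      rw [← hxs', isSMulRegular_mul_unit_iff _ _ _ hu]
      exact hyreg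
    have htop : algebraMap A (Localization.AtPrime p) x •
        (⊤ : Submodule (Localization.AtPrime p) (LocalizedModule p.primeCompl M)) =
        y • (⊤ : Submodule (Localization.AtPrime p) (LocalizedModule p.primeCompl M)) := by
      rw [← hxs', smul_top_mul_unit _ _ _ hu]
    have hseq' : HasSeq (p.map (algebraMap A (Localization.AtPrime p)))
        (LocalizedModule p.primeCompl (QuotSMulTop x M)) e :=
      (hyseq.congr (Submodule.quotEquivOfEq _ _ htop.symm)).congr
        (locQuotEquiv p.primeCompl M x).symm
    obtain ⟨as', hlen, hmem, f₁, hf₁, h₁⟩ := ih (QuotSMulTop x M) hseq'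
    obtain ⟨f₂, hf₂, h₂⟩ := exists_notMem_forall_isSMulRegular M p x hxreg
    refine ⟨x :: as', by simp [hlen], ?_, f₁ * f₂,
      fun h => (‹p.IsPrime›.mem_or_mem h).elim hf₁ hf₂, ?_⟩
    · intro a ha
      rcases List.mem_cons.mp ha with rfl | ha
      · exact hxI
      · exact hmem a ha
    · intro q _ hq
      have hq₁ : f₁ ∉ q := fun h => hq (q.mul_mem_right _ h)
      have hq₂ : f₂ ∉ q := fun h => hq (q.mul_mem_left _ h)
      rw [List.map_cons, isWeaklyRegular_cons_iff]
      exact ⟨h₂ q hq₂,
        ((locQuotEquiv q.primeCompl M x).isWeaklyRegular_congr _).mp (h₁ q hq₁)⟩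

/-- Regularity on `M_g` may be checked at the primes of `D(g)`. -/
theorem isSMulRegular_away_of_forall (M : Type u) [AddCommGroup M] [Module A M] (g x : A)
    (h : ∀ (q : Ideal A) [q.IsPrime], g ∉ q →
      IsSMulRegular (LocalizedModule q.primeCompl M) (algebraMap A (Localization.AtPrime q) x)) :
    IsSMulRegular (LocalizedModule (Submonoid.powers g) M)
      (algebraMap A (Localization.Away g) x) := by
  rw [isSMulRegular_iff_right_eq_zero_of_smul]
  intro z hz
  induction z using LocalizedModule.induction_on with
  | h m s =>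
    rw [algebraMap_smul_mk] at hz
    obtain ⟨t, ht, htm⟩ := exists_smul_eq_zero_of_mk_eq_zero (Submonoid.powers g) (x • m) s hz
    -- the annihilator of `m`
    let I : Ideal A := (⊥ : Submodule A M).colon {m}
    have hI : ∀ a : A, a ∈ I ↔ a • m = 0 := fun a => by
      rw [Submodule.mem_colon_singleton, Submodule.mem_bot]
    by_cases hdisj : Disjoint (I : Set A) (Submonoid.powers g : Set A)
    · exfalso
      obtain ⟨q, hqprime, hIq, hqdisj⟩ := Ideal.exists_le_prime_disjoint I (Submonoid.powers g) hdisj
      haveI := hqprime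
      have hgq : g ∉ q := fun hg =>
        Set.disjoint_left.mp hqdisj hg (Submonoid.mem_powers g)
      have htq : t ∉ q := fun htq' => Set.disjoint_left.mp hqdisj htq' ht
      have h1 : algebraMap A (Localization.AtPrime q) x •
          LocalizedModule.mk m (1 : q.primeCompl) = 0 := by
        rw [algebraMap_smul_mk]
        exact mk_eq_zero_of_smul_eq_zero q.primeCompl (x • m) 1 t htq htm
      have h2 := (isSMulRegular_iff_right_eq_zero_of_smul.mp (h q hgq)) _ h1
      obtain ⟨u, hu, hum⟩ := exists_smul_eq_zero_of_mk_eq_zero q.primeCompl m 1 h2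
      exact hu (hIq ((hI u).mpr hum))
    · rw [Set.not_disjoint_iff] at hdisj
      obtain ⟨a, haI, hag⟩ := hdisj
      exact mk_eq_zero_of_smul_eq_zero (Submonoid.powers g) m s a hag ((hI a).mp haI)

/-- Weak regularity on `M_g` may be checked at the primes of `D(g)`. -/
theorem isWeaklyRegular_away_of_forall (g : A) (as : List A) :
    ∀ (M : Type u) [AddCommGroup M] [Module A M],
      (∀ (q : Ideal A) [q.IsPrime], g ∉ q →
        IsWeaklyRegular (LocalizedModule q.primeCompl M)
          (as.map (algebraMap A (Localization.AtPrime q)))) →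
      IsWeaklyRegular (LocalizedModule (Submonoid.powers g) M)
        (as.map (algebraMap A (Localization.Away g))) := by
  induction as with
  | nil =>
    intro M _ _ _
    simp
  | cons x as ih =>
    intro M _ _ h
    rw [List.map_cons, isWeaklyRegular_cons_iff]
    refine ⟨isSMulRegular_away_of_forall M g x fun q _ hq => ?_, ?_⟩
    · have := h q hq
      rw [List.map_cons, isWeaklyRegular_cons_iff] at this
      exact this.1
    · refine ((locQuotEquiv (Submonoid.powers g) M x).isWeaklyRegular_congr _).mp
        (ih (QuotSMulTop x M) fun q _ hq => ?_)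
      have := h q hq
      rw [List.map_cons, isWeaklyRegular_cons_iff] at this
      exact ((locQuotEquiv q.primeCompl M x).isWeaklyRegular_congr _).mpr this.2

end Spread

section Backward

variable {A : Type u} [CommRing A] [IsNoetherianRing A]

omit [IsNoetherianRing A] in
theorem congr_prime (M : Type u) [AddCommGroup M] [Module A M] (I J : Ideal A) [I.IsPrime]
    [J.IsPrime] (h : I = J) :
    LocCoh.depth (Localization.AtPrime I) (LocalizedModule I.primeCompl M) =
        LocCoh.depth (Localization.AtPrime J) (LocalizedModule J.primeCompl M) ∧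
      Module.supportDim (Localization.AtPrime I) (LocalizedModule I.primeCompl M) =
        Module.supportDim (Localization.AtPrime J) (LocalizedModule J.primeCompl M) ∧
      (Nontrivial (LocalizedModule I.primeCompl M) ↔
        Nontrivial (LocalizedModule J.primeCompl M)) := by
  subst h
  exact ⟨rfl, rfl, Iff.rfl⟩

theorem not_le_zero_of_lt_add {x : WithBot ℕ∞} {r : ℕ}
    (h : ((r : ℕ∞) : WithBot ℕ∞) < x + (r : WithBot ℕ∞)) : ¬ x ≤ 0 := by
  intro hx
  have h1 : x + (r : WithBot ℕ∞) ≤ 0 + (r : WithBot ℕ∞) := by gcongr
  rw [zero_add] at h1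
  exact absurd (lt_of_lt_of_le h h1) (lt_irrefl _)

/-- If all quotients of the localizations `M_g` by regular sequences of length `< k` have no embedded
associated primes, then `M` satisfies `(S_k)`. -/
theorem hasSk_of_noEmbedded (k : ℕ) (M : Type u) [AddCommGroup M] [Module A M] [Module.Finite A M]
    (NE : ∀ (g : A) (rs : List (Localization.Away g)), rs.length < k →
      IsWeaklyRegular (LocalizedModule (Submonoid.powers g) M) rs →
      ∀ p ∈ associatedPrimes (Localization.Away g)
          (LocalizedModule (Submonoid.powers g) M ⧸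
            (Ideal.ofList rs • (⊤ : Submodule (Localization.Away g)
              (LocalizedModule (Submonoid.powers g) M)))),
        ∀ q ∈ associatedPrimes (Localization.Away g)
          (LocalizedModule (Submonoid.powers g) M ⧸
            (Ideal.ofList rs • (⊤ : Submodule (Localization.Away g)
              (LocalizedModule (Submonoid.powers g) M)))),
          p ≤ q → p = q) :
    LocCoh.HasSk k A M := by
  intro p _
  by_contra hcon
  rw [not_le, lt_min_iff] at hcon
  obtain ⟨hdk, hdd⟩ := hcon
  have hne_top : LocCoh.depth (Localization.AtPrime p) (LocalizedModule p.primeCompl M) ≠ ⊤ := by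
    intro h
    rw [h] at hdk
    have : ((⊤ : ℕ∞) : WithBot ℕ∞) < ((k : ℕ∞) : WithBot ℕ∞) := hdk
    rw [WithBot.coe_lt_coe] at this
    exact absurd this (by simp)
  obtain ⟨r, hr⟩ := ENat.ne_top_iff_exists.mp hne_top
  have hrk : r < k := by
    rw [← hr] at hdk
    have : ((r : ℕ∞) : WithBot ℕ∞) < ((k : ℕ∞) : WithBot ℕ∞) := hdk
    rw [WithBot.coe_lt_coe] at this
    exact_mod_cast this
  haveI hMp : Nontrivial (LocalizedModule p.primeCompl M) := by
    by_contra hcon
    rw [not_nontrivial_iff_subsingleton] at hcon
    haveI := hcon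
    exact hne_top (LocQuot.depth_eq_top_of_subsingleton p M)
  have hmM := Groth.Agent.H29.maximalIdeal_smul_top_ne_top (Localization.AtPrime p)
    (LocalizedModule p.primeCompl M)
  have hseq : HasSeq (maximalIdeal (Localization.AtPrime p)) (LocalizedModule p.primeCompl M) r :=
    (le_idealDepth_iff hmM r).mp (le_of_eq hr)
  rw [← Localization.AtPrime.map_eq_maximalIdeal] at hseq
  obtain ⟨as, hlen, hmem, g, hg, hreg⟩ := exists_list_forall_isWeaklyRegular p r M hseq
  have hregg := isWeaklyRegular_away_of_forall g as M hreg
  -- the localized situation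
  let R := Localization.Away g
  let L := LocalizedModule (Submonoid.powers g) M
  let rs : List R := as.map (algebraMap A R)
  have hrslen : rs.length = r := by rw [List.length_map, hlen]
  let N := L ⧸ (Ideal.ofList rs • (⊤ : Submodule R L))
  have hdisj : Disjoint ((Submonoid.powers g : Submonoid A) : Set A) (p : Set A) := by
    rw [Set.disjoint_left]
    rintro _ ⟨n, rfl⟩ hn
    exact hg (‹p.IsPrime›.mem_of_pow_mem n hn)
  haveI hPprime : (p.map (algebraMap A R)).IsPrime :=
    IsLocalization.isPrime_of_isPrime_disjoint (Submonoid.powers g) _ _ ‹p.IsPrime› hdisj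
  have hPcomap : (p.map (algebraMap A R)).comap (algebraMap A R) = p :=
    IsLocalization.under_map_of_isPrime_disjoint (Submonoid.powers g) R ‹p.IsPrime› hdisj
  let P : Ideal R := p.map (algebraMap A R)
  let RP := Localization.AtPrime P
  let LP := LocalizedModule P.primeCompl L
  let NP := LocalizedModule P.primeCompl N
  obtain ⟨hk1, hk2, hk3⟩ := congr_prime M _ _ hPcomap
  have hdepthL : LocCoh.depth RP LP = (r : ℕ∞) :=
    ((FinDimDepth.depth_localization_localization (Submonoid.powers g) M P).1.trans hk1).trans
      hr.symm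
  have hdimL : Module.supportDim RP LP =
      Module.supportDim (Localization.AtPrime p) (LocalizedModule p.primeCompl M) :=
    (supportDim_localization_localization (Submonoid.powers g) M P).trans hk2
  haveI hLP : Nontrivial LP :=
    (FinDimDepth.depth_localization_localization (Submonoid.powers g) M P).2.mpr (hk3.mpr hMp)
  let rs' : List RP := rs.map (algebraMap R RP)
  have hrs'len : rs'.length = r := by rw [List.length_map, hrslen]
  have hreg' : IsWeaklyRegular LP rs' :=
    hregg.of_isLocalizedModule RP P.primeCompl (LocalizedModule.mkLinearMap P.primeCompl L)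
  have hmem' : ∀ x ∈ rs', x ∈ maximalIdeal RP := by
    intro x hx
    obtain ⟨y, hy, rfl⟩ := List.mem_map.mp hx
    obtain ⟨a, ha, rfl⟩ := List.mem_map.mp hy
    rw [IsLocalization.AtPrime.to_map_mem_maximal_iff RP P]
    exact Ideal.mem_map_of_mem _ (hmem a ha)
  have hne : Ideal.ofList rs' • (⊤ : Submodule RP LP) ≠ ⊤ :=
    CM.smul_top_ne_top_of_le_maximalIdeal (CM.ofList_le_maximalIdeal hmem')
  have hregular : IsRegular LP rs' := ⟨hreg', hne.symm⟩
  have hdepth := CM.depth_quotient_ofList_add_length rs' LP hmem' hreg'
  have hdim := Module.supportDim_add_length_eq_supportDim_of_isRegular rs' hregular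
  let e : NP ≃ₗ[RP] LP ⧸ (Ideal.ofList rs' • (⊤ : Submodule RP LP)) :=
    LocQuot.locQuotListEquiv P.primeCompl rs L
  -- depth zero
  have hd0 : LocCoh.depth RP NP = 0 := by
    refine (CM.idealDepth_congr e).trans ?_
    rw [hdepthL, hrs'len] at hdepth
    have h1 : LocCoh.depth RP (LP ⧸ (Ideal.ofList rs' • (⊤ : Submodule RP LP))) + (r : ℕ∞) =
        0 + (r : ℕ∞) := by rw [zero_add]; exact hdepth
    exact (ENat.add_left_injective_of_ne_top (ENat.natCast_ne_top r)) h1
  -- positive dimension
  have hdpos : ¬ Module.supportDim RP NP ≤ 0 := by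
    rw [Module.supportDim_eq_of_equiv e]
    apply not_le_zero_of_lt_add (r := r)
    rw [hrs'len] at hdim
    rw [hdim, hdimL, hr]
    exact hdd
  -- `P` is associated
  have hass := Module.associatedPrimes.preimage_comap_associatedPrimes_eq_associatedPrimes_of_isLocalizedModule
    P.primeCompl RP (LocalizedModule.mkLinearMap P.primeCompl N)
  have hmaxass : maximalIdeal RP ∈ associatedPrimes RP NP :=
    (Groth.Agent.H29.forall_not_isSMulRegular_iff_mem_associatedPrimes RP NP).mp
      ((Groth.Agent.H29.depth_eq_zero_iff RP NP).mp hd0).2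
  have hPass : P ∈ associatedPrimes R N := by
    have h1 : maximalIdeal RP ∈ (Ideal.comap (algebraMap R RP)) ⁻¹' (associatedPrimes R N) := by
      rw [hass]
      exact hmaxass
    have h2 : (maximalIdeal RP).comap (algebraMap R RP) = P :=
      IsLocalization.AtPrime.under_maximalIdeal RP P
    rw [Set.mem_preimage, h2] at h1
    exact h1
  -- a smaller associated prime
  have hex : ∃ Q' : PrimeSpectrum RP, Q' ∈ Module.support RP NP ∧
      Q'.asIdeal ≠ maximalIdeal RP := by
    by_contra hall
    push Not at hall
    apply hdpos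
    unfold Module.supportDim
    rw [Order.krullDim_nonpos_iff_forall_isMax]
    intro x y _
    show y.1.asIdeal ≤ x.1.asIdeal
    rw [hall x.1 x.2, hall y.1 y.2]
  obtain ⟨Q', hQ'supp, hQ'ne⟩ := hex
  obtain ⟨Q0', hQ0'min, hQ0'le⟩ := Ideal.exists_minimalPrimes_le
    (Module.annihilator_le_of_mem_support hQ'supp)
  have hQ0'ass : Q0' ∈ associatedPrimes RP NP :=
    Module.associatedPrimes.minimalPrimes_annihilator_subset_associatedPrimes RP NP hQ0'min
  have hQ0ass : Q0'.comap (algebraMap R RP) ∈ associatedPrimes R N := by
    have h1 : Q0' ∈ (Ideal.comap (algebraMap R RP)) ⁻¹' (associatedPrimes R N) := by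
      rw [hass]
      exact hQ0'ass
    exact h1
  haveI hQ0'prime : Q0'.IsPrime := hQ0'ass.isPrime
  have hQ0'lemax : Q0' ≤ maximalIdeal RP := IsLocalRing.le_maximalIdeal hQ0'prime.ne_top
  have hQ0le : Q0'.comap (algebraMap R RP) ≤ P := by
    have e3 : (maximalIdeal RP).comap (algebraMap R RP) = P :=
      IsLocalization.AtPrime.under_maximalIdeal RP P
    calc Q0'.comap (algebraMap R RP) ≤ (maximalIdeal RP).comap (algebraMap R RP) :=
          Ideal.comap_mono hQ0'lemax
      _ = P := e3
  have hrslt : rs.length < k := by rw [hrslen]; exact hrk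
  have heq := NE g rs hrslt hregg _ hQ0ass P hPass hQ0le
  apply hQ'ne
  have h3 : Q0' = maximalIdeal RP := by
    have e1 : (Q0'.comap (algebraMap R RP)).map (algebraMap R RP) = Q0' :=
      IsLocalization.map_under P.primeCompl RP Q0'
    have e2 : ((maximalIdeal RP).comap (algebraMap R RP)).map (algebraMap R RP) =
        maximalIdeal RP := IsLocalization.map_under P.primeCompl RP (maximalIdeal RP)
    have e3 : (maximalIdeal RP).comap (algebraMap R RP) = P :=
      IsLocalization.AtPrime.under_maximalIdeal RP P
    calc Q0' = (Q0'.comap (algebraMap R RP)).map (algebraMap R RP) := e1.symm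
      _ = P.map (algebraMap R RP) := by rw [heq]
      _ = ((maximalIdeal RP).comap (algebraMap R RP)).map (algebraMap R RP) := by rw [e3]
      _ = maximalIdeal RP := e2
  apply le_antisymm (IsLocalRing.le_maximalIdeal Q'.isPrime.ne_top)
  rw [← h3]
  exact hQ0'le

end Backward

end Groth.Agent.H29.SkNoEmb
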