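import Mathlib
import Groth.Agent.H29.KollarFlat2
import Groth.Agent.H29.LocQuot
import Groth.Agent.H71.DepthHt
import Groth.Agent.H17.HS.Assoc
import Groth.Agent.H15.Ischebeck
import Groth.Agent.H29.SkNoEmb
import Groth.Agent.S3406

/-!
# Generic depth additivity along an irreducible closed subset (towards S4699)

For a Noetherian ring `A`, a prime `p` and a finite module `M` with `M_p ≠ 0`, there is `f ∉ p` such
that `depth M_q = depth M_p + depth (A/p)_q` for all primes `q ⊇ p` with `f ∉ q`.
-/

set_option autoImplicit false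
set_option linter.style.haveILetI false
set_option maxHeartbeats 400000

universe u

open Function IsLocalRing RingTheory.Sequence

namespace Groth.Agent.H29.GenDepth

section SES

variable {B : Type u} [CommRing B] [IsNoetherianRing B] (J : Ideal B)
  {X₁ X₂ X₃ : Type u} [AddCommGroup X₁] [Module B X₁] [Module.Finite B X₁]
  [AddCommGroup X₂] [Module B X₂] [Module.Finite B X₂]
  [AddCommGroup X₃] [Module B X₃] [Module.Finite B X₃]
  (f : X₁ →ₗ[B] X₂) (g : X₂ →ₗ[B] X₃)

theorem le_idealDepth_mid (hf : Injective f) (hfg : Function.Exact f g) (hg : Surjective g)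
    (n : ℕ) (h₁ : (n : ℕ∞) ≤ LocCoh.idealDepth J X₁)
    (h₃ : (n : ℕ∞) ≤ LocCoh.idealDepth J X₃) :
    (n : ℕ∞) ≤ LocCoh.idealDepth J X₂ := by
  rw [Groth.Agent.H15.ExtDepth.le_idealDepth_iff_ext'] at h₁ h₃ ⊢
  have hS : (ModuleCat.shortComplexOfCompEqZero f g hfg.linearMap_comp_eq_zero).ShortExact :=
    ModuleCat.shortComplex_shortExact _ hfg hf hg
  intro i hi
  exact Groth.Agent.H15.ExtDepth.subsingleton_ext_X₂ (ModuleCat.of B (B ⧸ J)) hS i
    (h₁ i hi) (h₃ i hi)

end SES

variable {A : Type u} [CommRing A] [IsNoetherianRing A]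

/-- depth of the localization at `q`. -/
noncomputable abbrev dep (q : Ideal A) [q.IsPrime] (M : Type u) [AddCommGroup M] [Module A M] : ℕ∞ :=
  LocCoh.depth (Localization.AtPrime q) (LocalizedModule q.primeCompl M)

section SESloc

variable {N₁ N₂ N₃ : Type u} [AddCommGroup N₁] [Module A N₁] [Module.Finite A N₁]
  [AddCommGroup N₂] [Module A N₂] [Module.Finite A N₂]
  [AddCommGroup N₃] [Module A N₃] [Module.Finite A N₃]
  (f : N₁ →ₗ[A] N₂) (g : N₂ →ₗ[A] N₃)

theorem le_dep_mid (hf : Injective f) (hfg : Function.Exact f g) (hg : Surjective g)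
    (q : Ideal A) [q.IsPrime] (n : ℕ) (h₁ : (n : ℕ∞) ≤ dep q N₁) (h₃ : (n : ℕ∞) ≤ dep q N₃) :
    (n : ℕ∞) ≤ dep q N₂ :=
  le_idealDepth_mid (maximalIdeal (Localization.AtPrime q))
    (LocalizedModule.map q.primeCompl f) (LocalizedModule.map q.primeCompl g)
    (LocalizedModule.map_injective _ f hf) (LocalizedModule.map_exact _ f g hfg)
    (LocalizedModule.map_surjective _ g hg) n h₁ h₃

theorem le_dep_ker (hf : Injective f) (hfg : Function.Exact f g) (hg : Surjective g)
    (q : Ideal A) [q.IsPrime] (n : ℕ) (h₂ : ((n + 1 : ℕ) : ℕ∞) ≤ dep q N₂)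
    (h₃ : (n : ℕ∞) ≤ dep q N₃) : ((n + 1 : ℕ) : ℕ∞) ≤ dep q N₁ :=
  Groth.Agent.H29.KollarFlat.le_idealDepth_ker (maximalIdeal (Localization.AtPrime q))
    (LocalizedModule.map q.primeCompl f) (LocalizedModule.map q.primeCompl g)
    (LocalizedModule.map_injective _ f hf) (LocalizedModule.map_exact _ f g hfg)
    (LocalizedModule.map_surjective _ g hg) n h₂ h₃

end SESloc

section Basic

variable (M : Type u) [AddCommGroup M] [Module A M]

theorem dep_congr {N N' : Type u} [AddCommGroup N] [Module A N] [AddCommGroup N'] [Module A N']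
    (e : N ≃ₗ[A] N') (q : Ideal A) [q.IsPrime] : dep q N = dep q N' :=
  Groth.Agent.H29.CM.idealDepth_congr
    (IsLocalizedModule.mapEquiv q.primeCompl (LocalizedModule.mkLinearMap q.primeCompl N)
      (LocalizedModule.mkLinearMap q.primeCompl N') (Localization.AtPrime q) e)

theorem dep_eq_top_of_subsingleton (q : Ideal A) [q.IsPrime]
    (h : Subsingleton (LocalizedModule q.primeCompl M)) : dep q M = ⊤ :=
  Groth.Agent.H29.LocQuot.depth_eq_top_of_subsingleton q M

theorem exists_nat_dep [Module.Finite A M] (q : Ideal A) [q.IsPrime]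
    (h : Nontrivial (LocalizedModule q.primeCompl M)) : ∃ k : ℕ, dep q M = (k : ℕ∞) :=
  Groth.Agent.H29.CM.exists_nat_depth

/-- Generic vanishing: if `M_p = 0` then `M_q = 0` on a basic open neighbourhood of `p`. -/
theorem exists_notMem_forall_subsingleton [Module.Finite A M] (p : Ideal A) [p.IsPrime]
    (h : Subsingleton (LocalizedModule p.primeCompl M)) :
    ∃ f : A, f ∉ p ∧ ∀ (q : Ideal A) [q.IsPrime], f ∉ q →
      Subsingleton (LocalizedModule q.primeCompl M) := by
  have h1 : (⟨p, inferInstance⟩ : PrimeSpectrum A) ∉ Module.support A M :=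
    Module.notMem_support_iff.mpr h
  rw [Module.mem_support_iff_of_finite] at h1
  obtain ⟨f, hfA, hfp⟩ := SetLike.not_le_iff_exists.mp h1
  refine ⟨f, hfp, fun q _ hfq => ?_⟩
  have h2 : (⟨q, inferInstance⟩ : PrimeSpectrum A) ∉ Module.support A M := by
    rw [Module.mem_support_iff_of_finite]
    exact fun hle => hfq (hle hfA)
  exact Module.notMem_support_iff.mp h2

theorem nontrivial_of_le [Module.Finite A M] {p q : Ideal A} [p.IsPrime] [q.IsPrime] (hpq : p ≤ q)
    (h : Nontrivial (LocalizedModule p.primeCompl M)) :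
    Nontrivial (LocalizedModule q.primeCompl M) := by
  by_contra hn
  rw [not_nontrivial_iff_subsingleton] at hn
  have := Groth.Agent.H71.DH.subsingleton_of_le M hpq hn
  exact not_subsingleton _ this

end Basic

section Step

variable (M : Type u) [AddCommGroup M] [Module A M] [Module.Finite A M]

omit [IsNoetherianRing A] in
theorem algebraMap_mem_maximalIdeal {q : Ideal A} [q.IsPrime] {g : A} (hg : g ∈ q) :
    algebraMap A (Localization.AtPrime q) g ∈ maximalIdeal (Localization.AtPrime q) :=
  (IsLocalization.AtPrime.to_map_mem_maximal_iff (Localization.AtPrime q) q g).mpr hg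

/-- On a basic open neighbourhood of `p`, dividing by a `p`-locally regular element `g ∈ p` drops the
depth at every `q ⊇ p` by exactly one. -/
theorem exists_dep_quot_add_one (p : Ideal A) [p.IsPrime] (g : A) (hg : g ∈ p)
    (hreg : IsSMulRegular (LocalizedModule p.primeCompl M)
      (algebraMap A (Localization.AtPrime p) g)) :
    ∃ f : A, f ∉ p ∧ ∀ (q : Ideal A) [q.IsPrime], p ≤ q → f ∉ q →
      dep q (QuotSMulTop g M) + 1 = dep q M := by
  obtain ⟨f, hf, H⟩ :=
    Groth.Agent.H15.DepthSpread.exists_notMem_forall_isSMulRegular M p g hreg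
  refine ⟨f, hf, fun q _ hpq hfq => ?_⟩
  have hregq := H q hfq
  have hgq := algebraMap_mem_maximalIdeal (hpq hg)
  have e := Groth.Agent.H71.DL.locQuotEquiv M q g
  have he : dep q (QuotSMulTop g M) = LocCoh.depth (Localization.AtPrime q)
      (QuotSMulTop (algebraMap A (Localization.AtPrime q) g) (LocalizedModule q.primeCompl M)) :=
    Groth.Agent.H29.CM.idealDepth_congr e
  by_cases hsub : Subsingleton (LocalizedModule q.primeCompl M)
  · haveI := hsub
    haveI : Subsingleton (LocalizedModule q.primeCompl (QuotSMulTop g M)) :=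
      e.toEquiv.subsingleton
    rw [dep_eq_top_of_subsingleton M q hsub,
      dep_eq_top_of_subsingleton (QuotSMulTop g M) q inferInstance]
    rfl
  · haveI : Nontrivial (LocalizedModule q.primeCompl M) := not_subsingleton_iff_nontrivial.mp hsub
    rw [he]
    exact Groth.Agent.H29.CM.depth_quotSMulTop_add_one hgq hregq

/-- A nonzero localization of depth at least one has a regular element coming from `p`. -/
theorem exists_regular_of_one_le_dep (p : Ideal A) [p.IsPrime]
    (hnt : Nontrivial (LocalizedModule p.primeCompl M)) (h1 : 1 ≤ dep p M) :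
    ∃ g ∈ p, IsSMulRegular (LocalizedModule p.primeCompl M)
      (algebraMap A (Localization.AtPrime p) g) := by
  have h1' : ((1 : ℕ) : ℕ∞) ≤ LocCoh.depth (Localization.AtPrime p)
      (LocalizedModule p.primeCompl M) := by exact_mod_cast h1
  rcases (Groth.Agent.H71.DL.le_depth_iff M p 1).mp h1' with hs | hs
  · exact absurd hs (not_subsingleton _)
  · obtain ⟨x, hx, hxreg, -⟩ := Groth.Agent.H15.Depth.hasSeq_succ_iff.mp hs
    rw [← Localization.AtPrime.map_eq_maximalIdeal] at hx
    exact Groth.Agent.H71.DH.exists_regular_numerator M p p hx hxreg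

end Step

section Lower

/-- dimension of the localization at `p`. -/
noncomputable abbrev sdim (p : Ideal A) [p.IsPrime] (M : Type u) [AddCommGroup M] [Module A M] :
    WithBot ℕ∞ :=
  Module.supportDim (Localization.AtPrime p) (LocalizedModule p.primeCompl M)

theorem withBot_le_of_add_one_le {D : WithBot ℕ∞} {d : ℕ}
    (h : D + 1 ≤ ((d + 1 : ℕ) : WithBot ℕ∞)) : D ≤ (d : WithBot ℕ∞) := by
  induction D using WithBot.recBotCoe with
  | bot => exact bot_le
  | coe a =>
    induction a using ENat.recTopCoe with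
    | top =>
      exfalso
      have h1 : ((⊤ : ℕ∞) : WithBot ℕ∞) + 1 = ((⊤ : ℕ∞) : WithBot ℕ∞) := by
        rw [← WithBot.coe_one, ← WithBot.coe_add, top_add]
      rw [h1] at h
      have h2 : (⊤ : ℕ∞) ≤ ((d + 1 : ℕ) : ℕ∞) := by exact_mod_cast h
      exact absurd h2 (by simp)
    | coe m =>
      have h' : m + 1 ≤ d + 1 := by exact_mod_cast h
      exact_mod_cast (by omega : m ≤ d)

theorem sdim_quot_le (M : Type u) [AddCommGroup M] [Module A M] [Module.Finite A M]
    (p : Ideal A) [p.IsPrime] (g : A) (hg : g ∈ p)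
    (hreg : IsSMulRegular (LocalizedModule p.primeCompl M)
      (algebraMap A (Localization.AtPrime p) g)) (d : ℕ)
    (hd : sdim p M ≤ ((d + 1 : ℕ) : WithBot ℕ∞)) :
    sdim p (QuotSMulTop g M) ≤ (d : WithBot ℕ∞) := by
  have e := Groth.Agent.H71.DL.locQuotEquiv M p g
  have h1 := Module.supportDim_quotSMulTop_succ_eq_supportDim hreg (algebraMap_mem_maximalIdeal hg)
  apply withBot_le_of_add_one_le
  rw [sdim, Module.supportDim_eq_of_equiv e, h1]
  exact hd

/-- the lower bound statement -/
def GoodL (p : Ideal A) [p.IsPrime] (M : Type u) [AddCommGroup M] [Module A M] : Prop :=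
  ∃ f : A, f ∉ p ∧ ∀ (q : Ideal A) [q.IsPrime], p ≤ q → f ∉ q →
    dep p M + dep q (A ⧸ p) ≤ dep q M

/-- the weak lower bound statement -/
def Weak (p : Ideal A) [p.IsPrime] (M : Type u) [AddCommGroup M] [Module A M] : Prop :=
  ∃ f : A, f ∉ p ∧ ∀ (q : Ideal A) [q.IsPrime], p ≤ q → f ∉ q → dep q (A ⧸ p) ≤ dep q M

omit [IsNoetherianRing A] in
theorem mul_notMem {p : Ideal A} [hp : p.IsPrime] {f₁ f₂ : A} (h₁ : f₁ ∉ p) (h₂ : f₂ ∉ p) :
    f₁ * f₂ ∉ p := fun h => (hp.mem_or_mem h).elim h₁ h₂

omit [IsNoetherianRing A] in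
theorem notMem_of_mul_notMem {q : Ideal A} {f₁ f₂ : A} (h : f₁ * f₂ ∉ q) : f₁ ∉ q ∧ f₂ ∉ q :=
  ⟨fun h1 => h (Ideal.mul_mem_right _ _ h1), fun h2 => h (Ideal.mul_mem_left _ _ h2)⟩

theorem goodL_of_sdim_le (p : Ideal A) [p.IsPrime] :
    ∀ (d : ℕ) (M : Type u) [AddCommGroup M] [Module A M] [Module.Finite A M],
      sdim p M ≤ (d : WithBot ℕ∞) → GoodL p M := by
  intro d
  induction d using Nat.strong_induction_on with
  | _ d ih =>
    -- step 1: positive depth
    have step1 : ∀ (M : Type u) [AddCommGroup M] [Module A M] [Module.Finite A M],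
        sdim p M ≤ (d : WithBot ℕ∞) → Nontrivial (LocalizedModule p.primeCompl M) →
        1 ≤ dep p M → GoodL p M := by
      intro M _ _ _ hd hnt h1
      obtain ⟨g, hg, hreg⟩ := exists_regular_of_one_le_dep M p hnt h1
      have hdpos : 1 ≤ d := by
        haveI := hnt
        have h2 := Groth.Agent.H29.CM.depth_le_supportDim (A := Localization.AtPrime p)
          (M := LocalizedModule p.primeCompl M)
        have h3 : ((1 : ℕ∞) : WithBot ℕ∞) ≤ (d : WithBot ℕ∞) :=
          (WithBot.coe_le_coe.mpr h1).trans (h2.trans hd)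
        exact_mod_cast h3
      obtain ⟨d', rfl⟩ : ∃ d', d = d' + 1 := ⟨d - 1, by omega⟩
      have hd' := sdim_quot_le M p g hg hreg d' hd
      obtain ⟨f₁, hf₁, H₁⟩ := ih d' (Nat.lt_succ_self d') (QuotSMulTop g M) hd'
      obtain ⟨f₂, hf₂, H₂⟩ := exists_dep_quot_add_one M p g hg hreg
      refine ⟨f₁ * f₂, mul_notMem hf₁ hf₂, fun q _ hpq hfq => ?_⟩
      obtain ⟨hq1, hq2⟩ := notMem_of_mul_notMem hfq
      have h3q := H₂ q hpq hq2
      have h3p := H₂ p le_rfl hf₂
      have h4 := H₁ q hpq hq1
      rw [← h3p, ← h3q, add_right_comm]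
      exact add_le_add_left h4 1
    -- step 2: weak bound via prime filtration
    have step2 : ∀ (N : Type u) [AddCommGroup N] [Module A N] [Module.Finite A N],
        sdim p N ≤ (d : WithBot ℕ∞) → Weak p N := by
      intro N _ _ hN
      induction hN using IsNoetherianRing.induction_on_isQuotientEquivQuotientPrime A with
      | subsingleton N =>
        intro _
        refine ⟨1, fun h => ‹p.IsPrime›.ne_top ((Ideal.eq_top_iff_one p).mpr h),
          fun q _ _ _ => ?_⟩
        rw [dep_eq_top_of_subsingleton N q inferInstance]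
        exact le_top
      | quotient N P e =>
        intro hd
        by_cases hPp : P.asIdeal ≤ p
        · by_cases hPeq : P.asIdeal = p
          · refine ⟨1, fun h => ‹p.IsPrime›.ne_top ((Ideal.eq_top_iff_one p).mpr h),
              fun q _ _ _ => ?_⟩
            rw [dep_congr (e.trans (Submodule.quotEquivOfEq _ _ hPeq)) q]
          · -- `P < p`: positive depth
            have hnt : Nontrivial (LocalizedModule p.primeCompl (A ⧸ P.asIdeal)) := by
              have : (⟨p, inferInstance⟩ : PrimeSpectrum A) ∈ Module.support A (A ⧸ P.asIdeal) := by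
                rw [Module.mem_support_iff_of_finite, Ideal.annihilator_quotient]
                exact hPp
              exact Module.mem_support_iff.mp this
            obtain ⟨x, hxp, hxP⟩ := SetLike.exists_of_lt (lt_of_le_of_ne hPp hPeq)
            have hreg := Groth.Agent.H71.DL.isSMulRegular_localized (A ⧸ P.asIdeal) p
              (Groth.Agent.H15.Ischebeck.isSMulRegular_quotient_prime P.asIdeal hxP)
            have h1 : 1 ≤ dep p (A ⧸ P.asIdeal) := by
              have : ((1 : ℕ) : ℕ∞) ≤ dep p (A ⧸ P.asIdeal) := by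
                rw [Groth.Agent.H71.DL.le_depth_iff]
                right
                refine ⟨[algebraMap A (Localization.AtPrime p) x], ?_, ?_, rfl⟩
                · rw [RingTheory.Sequence.isWeaklyRegular_cons_iff]
                  exact ⟨hreg, RingTheory.Sequence.IsWeaklyRegular.nil _ _⟩
                · intro r hr
                  rw [List.mem_singleton] at hr
                  rw [hr]
                  exact algebraMap_mem_maximalIdeal hxp
              exact_mod_cast this
            have hntN : Nontrivial (LocalizedModule p.primeCompl N) :=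
              (IsLocalizedModule.mapEquiv p.primeCompl (LocalizedModule.mkLinearMap p.primeCompl N)
                (LocalizedModule.mkLinearMap p.primeCompl (A ⧸ P.asIdeal))
                (Localization.AtPrime p) e).toEquiv.nontrivial
            obtain ⟨f, hf, H⟩ := step1 N hd hntN (by rw [dep_congr e p]; exact h1)
            exact ⟨f, hf, fun q _ hpq hfq => le_trans le_add_self (H q hpq hfq)⟩
        · -- `P ⊄ p`: vanishes near `p`
          have hsub : Subsingleton (LocalizedModule p.primeCompl N) := by
            have : (⟨p, inferInstance⟩ : PrimeSpectrum A) ∉ Module.support A N := by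
              rw [Module.mem_support_iff_of_finite, e.annihilator_eq, Ideal.annihilator_quotient]
              exact hPp
            exact Module.notMem_support_iff.mp this
          obtain ⟨f, hf, H⟩ := exists_notMem_forall_subsingleton N p hsub
          refine ⟨f, hf, fun q _ _ hfq => ?_⟩
          rw [dep_eq_top_of_subsingleton N q (H q hfq)]
          exact le_top
      | exact N₁ N₂ N₃ f g hf hg hfg h₁ h₃ =>
        intro hd
        have hd₁ : sdim p N₁ ≤ (d : WithBot ℕ∞) :=
          (Module.supportDim_le_of_injective (LocalizedModule.map p.primeCompl f)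
            (LocalizedModule.map_injective _ f hf)).trans hd
        have hd₃ : sdim p N₃ ≤ (d : WithBot ℕ∞) :=
          (Module.supportDim_le_of_surjective (LocalizedModule.map p.primeCompl g)
            (LocalizedModule.map_surjective _ g hg)).trans hd
        obtain ⟨f₁, hf₁, H₁⟩ := h₁ hd₁
        obtain ⟨f₃, hf₃, H₃⟩ := h₃ hd₃
        refine ⟨f₁ * f₃, mul_notMem hf₁ hf₃, fun q _ hpq hfq => ?_⟩
        obtain ⟨hq1, hq3⟩ := notMem_of_mul_notMem hfq
        rw [← ENat.forall_natCast_le_iff_le]
        intro n hn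
        exact le_dep_mid f g hf hfg hg q n (hn.trans (H₁ q hpq hq1)) (hn.trans (H₃ q hpq hq3))
    -- conclusion
    intro M _ _ _ hd
    by_cases hsub : Subsingleton (LocalizedModule p.primeCompl M)
    · obtain ⟨f, hf, H⟩ := exists_notMem_forall_subsingleton M p hsub
      refine ⟨f, hf, fun q _ _ hfq => ?_⟩
      rw [dep_eq_top_of_subsingleton M q (H q hfq)]
      exact le_top
    · have hnt : Nontrivial (LocalizedModule p.primeCompl M) :=
        not_subsingleton_iff_nontrivial.mp hsub
      by_cases h1 : 1 ≤ dep p M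
      · exact step1 M hd hnt h1
      · have h0 : dep p M = 0 := by
          rw [Order.one_le_iff_ne_zero, not_not] at h1
          exact h1
        obtain ⟨f, hf, H⟩ := step2 M hd
        refine ⟨f, hf, fun q _ hpq hfq => ?_⟩
        rw [h0, zero_add]
        exact H q hpq hfq

theorem goodL (p : Ideal A) [p.IsPrime] (M : Type u) [AddCommGroup M] [Module A M]
    [Module.Finite A M] : GoodL p M := by
  by_cases hsub : Subsingleton (LocalizedModule p.primeCompl M)
  · apply goodL_of_sdim_le p 0 M
    rw [sdim, Module.supportDim_eq_bot_of_subsingleton]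
    exact bot_le
  · haveI : Nontrivial (LocalizedModule p.primeCompl M) := not_subsingleton_iff_nontrivial.mp hsub
    obtain ⟨d, hd⟩ := Groth.Agent.H29.CM.exists_nat_supportDim (A := Localization.AtPrime p)
      (M := LocalizedModule p.primeCompl M)
    apply goodL_of_sdim_le p d M
    rw [sdim, hd]
    exact le_rfl

theorem weak (p : Ideal A) [p.IsPrime] (M : Type u) [AddCommGroup M] [Module A M]
    [Module.Finite A M] : Weak p M := by
  obtain ⟨f, hf, H⟩ := goodL p M
  exact ⟨f, hf, fun q _ hpq hfq => le_trans le_add_self (H q hpq hfq)⟩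

end Lower

section Upper

/-- the upper bound -/
theorem upper (p : Ideal A) [p.IsPrime] :
    ∀ (e : ℕ) (M : Type u) [AddCommGroup M] [Module A M] [Module.Finite A M],
      dep p M = (e : ℕ∞) →
      ∃ f : A, f ∉ p ∧ ∀ (q : Ideal A) [q.IsPrime], p ≤ q → f ∉ q →
        dep q M ≤ (e : ℕ∞) + dep q (A ⧸ p) := by
  intro e
  induction e with
  | zero =>
    intro M _ _ _ h0
    have hass : p ∈ associatedPrimes A M :=
      Groth.Agent.H15.DepthSpread.mem_associatedPrimes_of_depth_eq_zero p M (by exact_mod_cast h0)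
    obtain ⟨-, φ, hφ⟩ := (isAssociatedPrime_iff_exists_injective_linearMap p M).mp hass
    -- the submodule `A m ≅ A/p`
    let N : Submodule A M := LinearMap.range φ
    have eN : (A ⧸ p) ≃ₗ[A] N := LinearEquiv.ofInjective φ hφ
    obtain ⟨f, hf, H⟩ := weak p (M ⧸ N)
    refine ⟨f, hf, fun q _ hpq hfq => ?_⟩
    rw [Nat.cast_zero, zero_add]
    have hntq : Nontrivial (LocalizedModule q.primeCompl (A ⧸ p)) := by
      have : (⟨q, inferInstance⟩ : PrimeSpectrum A) ∈ Module.support A (A ⧸ p) := by
        rw [Module.mem_support_iff_of_finite, Ideal.annihilator_quotient]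
        exact hpq
      exact Module.mem_support_iff.mp this
    obtain ⟨n, hn⟩ := exists_nat_dep (A ⧸ p) q hntq
    rw [hn]
    by_contra hlt
    rw [not_le] at hlt
    have h2 : ((n + 1 : ℕ) : ℕ∞) ≤ dep q M := by
      have := Order.add_one_le_of_lt hlt
      exact_mod_cast this
    have h3 : (n : ℕ∞) ≤ dep q (M ⧸ N) := by
      rw [← hn]; exact H q hpq hfq
    have h4 := le_dep_ker N.subtype N.mkQ N.injective_subtype
      (LinearMap.exact_subtype_mkQ N) (Submodule.mkQ_surjective N) q n h2 h3
    rw [← dep_congr eN q, hn] at h4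
    have : n + 1 ≤ n := by exact_mod_cast h4
    omega
  | succ e ih =>
    intro M _ _ _ he
    have hnt : Nontrivial (LocalizedModule p.primeCompl M) := by
      by_contra hn
      rw [not_nontrivial_iff_subsingleton] at hn
      rw [dep_eq_top_of_subsingleton M p hn] at he
      exact ENat.top_ne_natCast _ he
    have h1 : 1 ≤ dep p M := by
      rw [he]
      exact_mod_cast Nat.succ_pos e
    obtain ⟨g, hg, hreg⟩ := exists_regular_of_one_le_dep M p hnt h1
    obtain ⟨f₂, hf₂, H₂⟩ := exists_dep_quot_add_one M p g hg hreg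
    have h3p := H₂ p le_rfl hf₂
    have he' : dep p (QuotSMulTop g M) = (e : ℕ∞) := by
      rw [he] at h3p
      exact Groth.Agent.H15.DepthSpread.enat_add_one_cancel h3p
    obtain ⟨f₁, hf₁, H₁⟩ := ih (QuotSMulTop g M) he'
    refine ⟨f₁ * f₂, mul_notMem hf₁ hf₂, fun q _ hpq hfq => ?_⟩
    obtain ⟨hq1, hq2⟩ := notMem_of_mul_notMem hfq
    rw [← H₂ q hpq hq2]
    have h4 := H₁ q hpq hq1
    calc dep q (QuotSMulTop g M) + 1 ≤ ((e : ℕ∞) + dep q (A ⧸ p)) + 1 := add_le_add_left h4 1
      _ = ((e + 1 : ℕ) : ℕ∞) + dep q (A ⧸ p) := by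
        rw [Nat.cast_add, Nat.cast_one, add_right_comm]

end Upper

section Main

/-- **Generic depth additivity along `V(p)`.** -/
theorem exists_dep_eq (p : Ideal A) [p.IsPrime] (M : Type u) [AddCommGroup M] [Module A M]
    [Module.Finite A M] (hnt : Nontrivial (LocalizedModule p.primeCompl M)) :
    ∃ f : A, f ∉ p ∧ ∀ (q : Ideal A) [q.IsPrime], p ≤ q → f ∉ q →
      dep q M = dep p M + dep q (A ⧸ p) := by
  obtain ⟨e, he⟩ := exists_nat_dep M p hnt
  obtain ⟨f₁, hf₁, H₁⟩ := goodL p M
  obtain ⟨f₂, hf₂, H₂⟩ := upper p e M he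
  refine ⟨f₁ * f₂, mul_notMem hf₁ hf₂, fun q _ hpq hfq => ?_⟩
  obtain ⟨hq1, hq2⟩ := notMem_of_mul_notMem hfq
  apply le_antisymm
  · rw [he]; exact H₂ q hpq hq2
  · exact H₁ q hpq hq1

end Main

section Dim

variable (M : Type u) [AddCommGroup M] [Module A M] [Module.Finite A M]

/-- A system of parameters of `M_p` with numerators in `p`. -/
theorem exists_sop (p : Ideal A) [p.IsPrime] (d : ℕ)
    (hd : sdim p M ≤ (d : WithBot ℕ∞)) :
    ∃ a : Fin d → A, (∀ i, a i ∈ p) ∧ ∀ P : PrimeSpectrum A, P.asIdeal ≤ p →
      P ∈ Module.support A M → (∀ i, a i ∈ P.asIdeal) → P.asIdeal = p := by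
  haveI := Groth.Agent.H17.HS.finite_maximalSpectrum_of_isLocalRing (A := Localization.AtPrime p)
  obtain ⟨x, hx, hK⟩ := Groth.Agent.S3406.exists_of_supportDim_le (Localization.AtPrime p) d
    (LocalizedModule p.primeCompl M) hd
  have hx' : ∀ i, ∃ a : A, ∃ s : p.primeCompl,
      x i = IsLocalization.mk' (Localization.AtPrime p) a s := fun i => by
    obtain ⟨a, s, h⟩ := IsLocalization.exists_mk'_eq p.primeCompl (x i)
    exact ⟨a, s, h.symm⟩
  choose a s has using hx'
  have hap : ∀ i, a i ∈ p := fun i => by
    have h1 : x i ∈ maximalIdeal (Localization.AtPrime p) := by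
      rw [← IsLocalRing.ringJacobson_eq_maximalIdeal]; exact hx i
    rw [has i, IsLocalization.AtPrime.mk'_mem_maximal_iff (Localization.AtPrime p) p] at h1
    exact h1
  refine ⟨a, hap, fun P hPp hPM haP => ?_⟩
  have hdisj : Disjoint (p.primeCompl : Set A) (P.asIdeal : Set A) := by
    rw [Set.disjoint_left]
    intro y hy hyP
    exact hy (hPp hyP)
  have hprime : (P.asIdeal.map (algebraMap A (Localization.AtPrime p))).IsPrime :=
    IsLocalization.isPrime_of_isPrime_disjoint p.primeCompl _ _ P.isPrime hdisj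
  let P' : PrimeSpectrum (Localization.AtPrime p) := ⟨_, hprime⟩
  have hP'S : P' ∈ Module.support (Localization.AtPrime p) (LocalizedModule p.primeCompl M) :=
    Groth.Agent.H29.FinDimDepth.map_mem_support_atPrime p P hPM hPp P' rfl
  have hP'V : P' ∈ PrimeSpectrum.zeroLocus (Set.range x) := by
    rw [PrimeSpectrum.mem_zeroLocus]
    rintro _ ⟨i, rfl⟩
    change x i ∈ P.asIdeal.map (algebraMap A (Localization.AtPrime p))
    rw [has i, IsLocalization.mk'_mem_iff]
    exact Ideal.mem_map_of_mem _ (haP i)
  by_cases hne : Nontrivial (LocalizedModule p.primeCompl M)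
  · haveI := hne
    let m' : PrimeSpectrum (Localization.AtPrime p) := IsLocalRing.closedPoint _
    have hm'S : m' ∈ Module.support (Localization.AtPrime p) (LocalizedModule p.primeCompl M) :=
      IsLocalRing.closedPoint_mem_support _ _
    have hm'V : m' ∈ PrimeSpectrum.zeroLocus (Set.range x) := by
      rw [PrimeSpectrum.mem_zeroLocus]
      rintro _ ⟨i, rfl⟩
      change x i ∈ maximalIdeal (Localization.AtPrime p)
      rw [← IsLocalRing.ringJacobson_eq_maximalIdeal]; exact hx i
    rw [Order.krullDim_nonpos_iff_forall_isMax] at hK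
    have hmax := hK ⟨P', hP'S, hP'V⟩
    have hle : (⟨P', hP'S, hP'V⟩ : ↥(Module.support (Localization.AtPrime p)
        (LocalizedModule p.primeCompl M) ∩ PrimeSpectrum.zeroLocus (Set.range x))) ≤
        ⟨m', hm'S, hm'V⟩ := by
      change P'.asIdeal ≤ m'.asIdeal
      exact IsLocalRing.le_maximalIdeal hprime.ne_top
    have hge := hmax hle
    have heq : P'.asIdeal = maximalIdeal (Localization.AtPrime p) :=
      le_antisymm hle hge
    have h1 := IsLocalization.comap_map_of_isPrime_disjoint p.primeCompl
      (Localization.AtPrime p) P.isPrime hdisj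
    rw [← h1]
    change Ideal.comap _ P'.asIdeal = p
    rw [heq]
    exact IsLocalization.AtPrime.comap_maximalIdeal (Localization.AtPrime p) p
  · exfalso
    rw [not_nontrivial_iff_subsingleton] at hne
    have : P' ∉ Module.support (Localization.AtPrime p) (LocalizedModule p.primeCompl M) := by
      rw [Module.support_eq_empty]
      exact Set.notMem_empty _
    exact this hP'S

/-- Shrinking: away from the other components of `Supp M ∩ V(a)`, every prime of `Supp M ∩ V(a)`
below `q` contains `p`. -/
theorem exists_notMem_forall_le (p : Ideal A) [p.IsPrime] {d : ℕ} (a : Fin d → A)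
    (hap : ∀ i, a i ∈ p) (hpM : (⟨p, inferInstance⟩ : PrimeSpectrum A) ∈ Module.support A M)
    (H : ∀ P : PrimeSpectrum A, P.asIdeal ≤ p →
      P ∈ Module.support A M → (∀ i, a i ∈ P.asIdeal) → P.asIdeal = p) :
    ∃ f : A, f ∉ p ∧ ∀ (q : Ideal A) [q.IsPrime], p ≤ q → f ∉ q →
      ∀ P : PrimeSpectrum A, P.asIdeal ≤ q → P ∈ Module.support A M →
        (∀ i, a i ∈ P.asIdeal) → p ≤ P.asIdeal := by
  classical
  set J : Ideal A := Module.annihilator A M ⊔ Ideal.span (Set.range a) with hJ
  have hJle : ∀ P : PrimeSpectrum A, P ∈ Module.support A M → (∀ i, a i ∈ P.asIdeal) →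
      J ≤ P.asIdeal := by
    intro P hP haP
    rw [Module.mem_support_iff_of_finite] at hP
    refine sup_le hP (Ideal.span_le.mpr ?_)
    rintro _ ⟨i, rfl⟩
    exact haP i
  have hsupp : ∀ P : PrimeSpectrum A, J ≤ P.asIdeal →
      P ∈ Module.support A M ∧ ∀ i, a i ∈ P.asIdeal := by
    intro P hP
    refine ⟨?_, fun i => hP (Ideal.mem_sup_right (Ideal.subset_span ⟨i, rfl⟩))⟩
    rw [Module.mem_support_iff_of_finite]
    exact le_sup_left.trans hP
  have hpJ : J ≤ p := hJle ⟨p, inferInstance⟩ hpM hap
  have hpmin : p ∈ J.minimalPrimes := by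
    refine ⟨⟨inferInstance, hpJ⟩, ?_⟩
    rintro P ⟨hPprime, hJP⟩ hPp
    obtain ⟨h1, h2⟩ := hsupp ⟨P, hPprime⟩ hJP
    exact (H ⟨P, hPprime⟩ hPp h1 h2).ge
  have hfin : J.minimalPrimes.Finite := Ideal.finite_minimalPrimes_of_isNoetherianRing A J
  set T : Finset (Ideal A) := hfin.toFinset.erase p with hT
  have hK : ¬ T.inf id ≤ p := by
    intro hle
    obtain ⟨P, hPT, hPp⟩ := (Ideal.IsPrime.inf_le' inferInstance).mp hle
    rw [hT, Finset.mem_erase, Set.Finite.mem_toFinset] at hPT
    obtain ⟨hne, hPmin⟩ := hPT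
    exact hne (le_antisymm hPp (hpmin.2 hPmin.1 hPp))
  obtain ⟨f, hfK, hfp⟩ := SetLike.not_le_iff_exists.mp hK
  refine ⟨f, hfp, fun q _ hpq hfq P hPq hPM haP => ?_⟩
  obtain ⟨P', hP'min, hP'P⟩ := Ideal.exists_minimalPrimes_le (hJle P hPM haP)
  by_cases hP'p : P' = p
  · rw [← hP'p]; exact hP'P
  · exfalso
    have hP'T : P' ∈ T := by
      rw [hT, Finset.mem_erase, Set.Finite.mem_toFinset]
      exact ⟨hP'p, hP'min⟩
    have : T.inf id ≤ P' := Finset.inf_le hP'T
    exact hfq (hPq (hP'P (this hfK)))

omit [Module.Finite A M] in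
theorem comap_mem_support_of_localized (q : Ideal A) [q.IsPrime]
    (Q : PrimeSpectrum (Localization.AtPrime q))
    (hQ : Q ∈ Module.support (Localization.AtPrime q) (LocalizedModule q.primeCompl M)) :
    PrimeSpectrum.comap (algebraMap A (Localization.AtPrime q)) Q ∈ Module.support A M := by
  rw [Module.mem_support_iff'] at hQ ⊢
  obtain ⟨n, hn⟩ := hQ
  induction n using LocalizedModule.induction_on with
  | h m s =>
    refine ⟨m, fun r hr h0 => ?_⟩
    apply hn (algebraMap A (Localization.AtPrime q) r) hr
    rw [Groth.Agent.H15.DepthSpread.algebraMap_smul_mk, h0, LocalizedModule.zero_mk]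

omit [Module.Finite A M] in
theorem sdim_congr (I J : Ideal A) [I.IsPrime] [J.IsPrime] (h : I = J) : sdim I M = sdim J M := by
  subst h; rfl

/-- **Generic dimension additivity along `V(p)`.** -/
theorem exists_sdim_eq (p : Ideal A) [p.IsPrime]
    (hpM : (⟨p, inferInstance⟩ : PrimeSpectrum A) ∈ Module.support A M) :
    ∃ f : A, f ∉ p ∧ ∀ (q : Ideal A) [q.IsPrime], p ≤ q → f ∉ q →
      sdim q M = sdim p M +
        ringKrullDim (Localization.AtPrime q ⧸ p.map (algebraMap A (Localization.AtPrime q))) := by
  haveI nt : Nontrivial (LocalizedModule p.primeCompl M) := Module.mem_support_iff.mp hpM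
  obtain ⟨d, hd⟩ := Groth.Agent.H29.CM.exists_nat_supportDim (A := Localization.AtPrime p)
    (M := LocalizedModule p.primeCompl M)
  have hd' : sdim p M = (d : WithBot ℕ∞) := hd
  obtain ⟨a, hap, Ha⟩ := exists_sop M p d hd'.le
  obtain ⟨f, hfp, Hf⟩ := exists_notMem_forall_le M p a hap hpM Ha
  refine ⟨f, hfp, fun q _ hpq hfq => ?_⟩
  rw [hd']
  apply le_antisymm
  · -- upper bound via the system of parameters
    have hx' : ∀ i, algebraMap A (Localization.AtPrime q) (a i) ∈
        Ring.jacobson (Localization.AtPrime q) := fun i => by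
      rw [IsLocalRing.ringJacobson_eq_maximalIdeal]
      exact algebraMap_mem_maximalIdeal (hpq (hap i))
    have h1 := Groth.Agent.S3406.supportDim_le_add (Localization.AtPrime q) d
      (LocalizedModule q.primeCompl M) (fun i => algebraMap A (Localization.AtPrime q) (a i)) hx'
    have h2 : Order.krullDim ↥(Module.support (Localization.AtPrime q)
        (LocalizedModule q.primeCompl M) ∩ PrimeSpectrum.zeroLocus
          (Set.range (fun i => algebraMap A (Localization.AtPrime q) (a i)))) ≤
        ringKrullDim (Localization.AtPrime q ⧸ p.map (algebraMap A (Localization.AtPrime q))) := by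
      rw [ringKrullDim_quotient]
      refine Order.krullDim_le_of_strictMono (fun Q => ⟨Q.1, ?_⟩) (fun _ _ h => h)
      obtain ⟨Q, hQS, hQV⟩ := Q
      rw [PrimeSpectrum.mem_zeroLocus, SetLike.coe_subset_coe, Ideal.map_le_iff_le_comap]
      refine Hf q hpq hfq (PrimeSpectrum.comap (algebraMap A (Localization.AtPrime q)) Q) ?_
        (comap_mem_support_of_localized M q Q hQS) ?_
      · change Ideal.comap _ Q.asIdeal ≤ q
        have h3 : Q.asIdeal ≤ maximalIdeal (Localization.AtPrime q) :=
          IsLocalRing.le_maximalIdeal Q.isPrime.ne_top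
        calc Ideal.comap _ Q.asIdeal ≤ Ideal.comap (algebraMap A (Localization.AtPrime q))
              (maximalIdeal (Localization.AtPrime q)) := Ideal.comap_mono h3
          _ = q := IsLocalization.AtPrime.comap_maximalIdeal (Localization.AtPrime q) q
      · intro i
        exact (PrimeSpectrum.mem_zeroLocus _ _).mp hQV ⟨i, rfl⟩
    calc sdim q M ≤ _ + (d : ℕ) := h1
      _ ≤ ringKrullDim (Localization.AtPrime q ⧸ p.map (algebraMap A (Localization.AtPrime q))) +
          (d : ℕ) := by gcongr
      _ = (d : WithBot ℕ∞) + ringKrullDim (Localization.AtPrime q ⧸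
          p.map (algebraMap A (Localization.AtPrime q))) := add_comm _ _
  · -- lower bound via chains through `p`
    have hdisj : Disjoint (q.primeCompl : Set A) (p : Set A) := by
      rw [Set.disjoint_left]
      intro y hy hyp
      exact hy (hpq hyp)
    haveI hprime : (p.map (algebraMap A (Localization.AtPrime q))).IsPrime :=
      IsLocalization.isPrime_of_isPrime_disjoint q.primeCompl _ _ inferInstance hdisj
    let 𝔭 : PrimeSpectrum (Localization.AtPrime q) := ⟨_, hprime⟩
    have h𝔭 : 𝔭 ∈ Module.support (Localization.AtPrime q) (LocalizedModule q.primeCompl M) :=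
      Groth.Agent.H29.FinDimDepth.map_mem_support_atPrime q ⟨p, inferInstance⟩ hpM hpq 𝔭 rfl
    have h3 := Groth.Agent.H29.CM.supportDim_atPrime_add_ringKrullDim_quotient_le
      (R := Localization.AtPrime q) (M := LocalizedModule q.primeCompl M) 𝔭 h𝔭
    have h4 := Groth.Agent.H29.SkNoEmb.supportDim_localization_localization q.primeCompl M
      (p.map (algebraMap A (Localization.AtPrime q)))
    have h5 : Ideal.comap (algebraMap A (Localization.AtPrime q))
        (p.map (algebraMap A (Localization.AtPrime q))) = p :=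
      IsLocalization.comap_map_of_isPrime_disjoint q.primeCompl _ inferInstance hdisj
    haveI : (Ideal.comap (algebraMap A (Localization.AtPrime q))
        (p.map (algebraMap A (Localization.AtPrime q)))).IsPrime := Ideal.comap_isPrime _ _
    have h6 := sdim_congr M _ p h5
    change Module.supportDim (Localization.AtPrime (p.map (algebraMap A (Localization.AtPrime q))))
      (LocalizedModule (p.map (algebraMap A (Localization.AtPrime q))).primeCompl
        (LocalizedModule q.primeCompl M)) + ringKrullDim (Localization.AtPrime q ⧸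
          p.map (algebraMap A (Localization.AtPrime q))) ≤ sdim q M at h3
    rw [h4] at h3
    change sdim _ M + _ ≤ _ at h3
    rw [h6, hd'] at h3
    exact h3

end Dim

section Quot

omit [IsNoetherianRing A] in
/-- `(A/I)_q ≃ A_q / I A_q` as `A_q`-modules. -/
theorem nonempty_locQuotRingEquiv (I q : Ideal A) [q.IsPrime] :
    Nonempty (LocalizedModule q.primeCompl (A ⧸ I) ≃ₗ[Localization.AtPrime q]
      (Localization.AtPrime q ⧸ I.map (algebraMap A (Localization.AtPrime q)))) := by
  let f₀ := Submodule.toLocalizedQuotient' (Localization.AtPrime q) q.primeCompl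
    (Algebra.linearMap A (Localization.AtPrime q)) I
  let e₁ : LocalizedModule q.primeCompl (A ⧸ I) ≃ₗ[A]
      (Localization.AtPrime q ⧸ Submodule.localized' (Localization.AtPrime q) q.primeCompl
        (Algebra.linearMap A (Localization.AtPrime q)) I) :=
    IsLocalizedModule.linearEquiv q.primeCompl (LocalizedModule.mkLinearMap q.primeCompl (A ⧸ I)) f₀
  let e₂ := e₁.extendScalarsOfIsLocalization q.primeCompl (Localization.AtPrime q)
  exact ⟨e₂.trans (Submodule.quotEquivOfEq _ _
    (Ideal.localized'_eq_map (Localization.AtPrime q) q.primeCompl I))⟩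

end Quot

section Final

variable (M : Type u) [AddCommGroup M] [Module A M] [Module.Finite A M]

theorem dep_quotient_eq_zero (I : Ideal A) [hI : I.radical.IsPrime] :
    dep I.radical (A ⧸ I) = 0 := by
  have hsupp : (⟨I.radical, hI⟩ : PrimeSpectrum A) ∈ Module.support A (A ⧸ I) := by
    rw [Module.mem_support_iff_of_finite, Ideal.annihilator_quotient]
    exact Ideal.le_radical
  haveI : Nontrivial (LocalizedModule I.radical.primeCompl (A ⧸ I)) :=
    Module.mem_support_iff.mp hsupp
  have h1 := Groth.Agent.H29.CM.depth_le_supportDim (A := Localization.AtPrime I.radical)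
    (M := LocalizedModule I.radical.primeCompl (A ⧸ I))
  have h2 := Groth.Agent.H29.FinDimDepth.supportDim_atPrime_eq_height (M := A ⧸ I)
    ⟨I.radical, hI⟩ hsupp
  have h3 : Order.height (⟨⟨I.radical, hI⟩, hsupp⟩ : ↥(Module.support A (A ⧸ I))) = 0 := by
    rw [Order.height_eq_zero]
    intro b hb
    have hbI : I ≤ b.1.asIdeal := by
      have := b.2
      rw [Module.mem_support_iff_of_finite, Ideal.annihilator_quotient] at this
      exact this
    change I.radical ≤ b.1.asIdeal
    exact (Ideal.IsPrime.radical_le_iff b.1.isPrime).mpr hbI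
  rw [h2, h3] at h1
  have h4 : dep I.radical (A ⧸ I) ≤ 0 := by exact_mod_cast h1
  exact le_antisymm h4 zero_le

omit [IsNoetherianRing A] in
theorem ringKrullDim_quotient_map_radical (I q : Ideal A) [q.IsPrime] :
    ringKrullDim (Localization.AtPrime q ⧸ I.radical.map (algebraMap A (Localization.AtPrime q))) =
      ringKrullDim (Localization.AtPrime q ⧸ I.map (algebraMap A (Localization.AtPrime q))) := by
  rw [ringKrullDim_quotient, ringKrullDim_quotient]
  have : PrimeSpectrum.zeroLocus
      (↑(I.radical.map (algebraMap A (Localization.AtPrime q))) : Set (Localization.AtPrime q)) =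
      PrimeSpectrum.zeroLocus
        (↑(I.map (algebraMap A (Localization.AtPrime q))) : Set (Localization.AtPrime q)) := by
    apply le_antisymm
    · exact PrimeSpectrum.zeroLocus_anti_mono_ideal (Ideal.map_mono Ideal.le_radical)
    · rw [← PrimeSpectrum.zeroLocus_radical
        (I := I.map (algebraMap A (Localization.AtPrime q)))]
      exact PrimeSpectrum.zeroLocus_anti_mono_ideal (Ideal.map_radical_le _)
  rw [this]

/-- **S4699**: generic additivity of dimension and depth along an irreducible closed subset. -/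
theorem main (I : Ideal A) [hI : I.radical.IsPrime]
    (hp : (⟨I.radical, inferInstance⟩ : PrimeSpectrum A) ∈ Module.support A M) :
    ∃ f : A, f ∉ I.radical ∧ ∀ (q : Ideal A) [q.IsPrime], I ≤ q → f ∉ q →
      Module.supportDim (Localization.AtPrime q) (LocalizedModule q.primeCompl M) =
          Module.supportDim (Localization.AtPrime I.radical) (LocalizedModule I.radical.primeCompl M) +
            Module.supportDim (Localization.AtPrime q)
              (Localization.AtPrime q ⧸ I.map (algebraMap A (Localization.AtPrime q))) ∧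
        LocCoh.depth (Localization.AtPrime q) (LocalizedModule q.primeCompl M) =
          LocCoh.depth (Localization.AtPrime I.radical) (LocalizedModule I.radical.primeCompl M) +
            LocCoh.depth (Localization.AtPrime q)
              (Localization.AtPrime q ⧸ I.map (algebraMap A (Localization.AtPrime q))) := by
  have hnt : Nontrivial (LocalizedModule I.radical.primeCompl M) := Module.mem_support_iff.mp hp
  have hsuppI : (⟨I.radical, hI⟩ : PrimeSpectrum A) ∈ Module.support A (A ⧸ I) := by
    rw [Module.mem_support_iff_of_finite, Ideal.annihilator_quotient]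
    exact Ideal.le_radical
  have hntI : Nontrivial (LocalizedModule I.radical.primeCompl (A ⧸ I)) :=
    Module.mem_support_iff.mp hsuppI
  obtain ⟨f₁, hf₁, H₁⟩ := exists_sdim_eq M I.radical hp
  obtain ⟨f₂, hf₂, H₂⟩ := exists_dep_eq I.radical M hnt
  obtain ⟨f₃, hf₃, H₃⟩ := exists_dep_eq I.radical (A ⧸ I) hntI
  refine ⟨f₁ * f₂ * f₃, mul_notMem (mul_notMem hf₁ hf₂) hf₃, fun q _ hIq hfq => ?_⟩
  obtain ⟨hq12, hq3⟩ := notMem_of_mul_notMem hfq
  obtain ⟨hq1, hq2⟩ := notMem_of_mul_notMem hq12
  have hpq : I.radical ≤ q := (Ideal.IsPrime.radical_le_iff inferInstance).mpr hIq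
  obtain ⟨e⟩ := nonempty_locQuotRingEquiv I q
  constructor
  · have h1 := H₁ q hpq hq1
    rw [ringKrullDim_quotient_map_radical, ← Module.supportDim_quotient_eq_ringKrullDim] at h1
    exact h1
  · have h2 := H₂ q hpq hq2
    have h3 := H₃ q hpq hq3
    rw [dep_quotient_eq_zero, zero_add] at h3
    have h4 : dep q (A ⧸ I) = LocCoh.depth (Localization.AtPrime q)
        (Localization.AtPrime q ⧸ I.map (algebraMap A (Localization.AtPrime q))) :=
      Groth.Agent.H29.CM.idealDepth_congr e
    rw [← h4, h3]
    exact h2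

end Final

end Groth.Agent.H29.GenDepth
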