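import Mathlib
import Groth.Agent.H29.GenDepth
import Groth.Agent.H29.CM4
import Groth.Agent.H29.SkNoEmb
import Groth.Agent.H29.FinDimDepth
import Groth.Agent.H17.NoethConstr
import Groth.Agent.H79.CIOpen

/-!
# Openness of the loci `codepth ≤ n` and `(S_n)` (EGA IV 6.11.5, 6.11.8)
-/

set_option autoImplicit false
set_option linter.style.haveILetI false
set_option maxHeartbeats 400000

universe u

open IsLocalRing

namespace Groth.Agent.H29.CodepthOpen

open Groth.Agent.H29.GenDepth

variable {A : Type u} [CommRing A] [IsNoetherianRing A]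
  (M : Type u) [AddCommGroup M] [Module A M] [Module.Finite A M]

omit [IsNoetherianRing A] [Module.Finite A M] in
theorem dep_congr_ideal (I J : Ideal A) [I.IsPrime] [J.IsPrime] (h : I = J) :
    dep I M = dep J M := by
  subst h; rfl

/-- Transfer along the double localization `(M_q)_{pA_q} = M_p`. -/
theorem exists_locLoc (p q : Ideal A) [p.IsPrime] [q.IsPrime] (hpq : p ≤ q) :
    ∃ (P : Ideal (Localization.AtPrime q)) (_ : P.IsPrime),
      Module.supportDim (Localization.AtPrime P)
        (LocalizedModule P.primeCompl (LocalizedModule q.primeCompl M)) = sdim p M ∧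
      LocCoh.depth (Localization.AtPrime P)
        (LocalizedModule P.primeCompl (LocalizedModule q.primeCompl M)) = dep p M ∧
      ((⟨p, inferInstance⟩ : PrimeSpectrum A) ∈ Module.support A M →
        ∀ hP : P.IsPrime, (⟨P, hP⟩ : PrimeSpectrum (Localization.AtPrime q)) ∈
          Module.support (Localization.AtPrime q) (LocalizedModule q.primeCompl M)) := by
  have hdisj : Disjoint (q.primeCompl : Set A) (p : Set A) := by
    rw [Set.disjoint_left]
    intro y hy hyp
    exact hy (hpq hyp)
  haveI hprime : (p.map (algebraMap A (Localization.AtPrime q))).IsPrime :=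
    IsLocalization.isPrime_of_isPrime_disjoint q.primeCompl _ _ inferInstance hdisj
  have h5 : Ideal.comap (algebraMap A (Localization.AtPrime q))
      (p.map (algebraMap A (Localization.AtPrime q))) = p :=
    IsLocalization.comap_map_of_isPrime_disjoint q.primeCompl _ inferInstance hdisj
  haveI : (Ideal.comap (algebraMap A (Localization.AtPrime q))
      (p.map (algebraMap A (Localization.AtPrime q)))).IsPrime := Ideal.comap_isPrime _ _
  refine ⟨p.map (algebraMap A (Localization.AtPrime q)), hprime, ?_, ?_, ?_⟩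
  · rw [Groth.Agent.H29.SkNoEmb.supportDim_localization_localization q.primeCompl M
      (p.map (algebraMap A (Localization.AtPrime q)))]
    exact sdim_congr M _ p h5
  · rw [(Groth.Agent.H29.FinDimDepth.depth_localization_localization q.primeCompl M
      (p.map (algebraMap A (Localization.AtPrime q)))).1]
    exact dep_congr_ideal M _ p h5
  · intro hpM hP
    exact Groth.Agent.H29.FinDimDepth.map_mem_support_atPrime q ⟨p, inferInstance⟩ hpM hpq _ rfl

/-- `dim M_p ≤ dim M_q` for `p ⊆ q`, `p ∈ Supp M`. -/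
theorem sdim_mono (p q : Ideal A) [p.IsPrime] [q.IsPrime] (hpq : p ≤ q)
    (hpM : (⟨p, inferInstance⟩ : PrimeSpectrum A) ∈ Module.support A M) :
    sdim p M ≤ sdim q M := by
  obtain ⟨P, hP, hs, -, hsupp⟩ := exists_locLoc M p q hpq
  have h3 := Groth.Agent.H29.CM.supportDim_atPrime_add_ringKrullDim_quotient_le
    (R := Localization.AtPrime q) (M := LocalizedModule q.primeCompl M) ⟨P, hP⟩ (hsupp hpM hP)
  haveI := hP
  change Module.supportDim (Localization.AtPrime P)
    (LocalizedModule P.primeCompl (LocalizedModule q.primeCompl M)) +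
      ringKrullDim (Localization.AtPrime q ⧸ P) ≤ sdim q M at h3
  rw [hs] at h3
  haveI : Nontrivial (Localization.AtPrime q ⧸ P) :=
    Ideal.Quotient.nontrivial_iff.mpr hP.ne_top
  exact le_trans (le_add_of_nonneg_right ringKrullDim_nonneg_of_nontrivial) h3

/-- EGA IV 6.11.5: the codepth does not increase under generization. -/
theorem codepth_generization (p q : Ideal A) [p.IsPrime] [q.IsPrime] (hpq : p ≤ q)
    (hpM : (⟨p, inferInstance⟩ : PrimeSpectrum A) ∈ Module.support A M) :
    sdim p M + ((dep q M : ℕ∞) : WithBot ℕ∞) ≤ sdim q M + ((dep p M : ℕ∞) : WithBot ℕ∞) := by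
  obtain ⟨P, hP, hs, hd, hsupp⟩ := exists_locLoc M p q hpq
  haveI := hP
  haveI : Nontrivial (LocalizedModule P.primeCompl (LocalizedModule q.primeCompl M)) :=
    Module.mem_support_iff.mp (hsupp hpM hP)
  have h := Groth.Agent.H29.CM.codepth_atPrime_le (A := Localization.AtPrime q)
    (M := LocalizedModule q.primeCompl M) P
  rw [hs, hd] at h
  exact h

/-- For a Cohen–Macaulay point of `A/P`: `dim (A_q/PA_q) = depth (A/P)_q`. -/
theorem dim_eq_dep_of_CM (P : Ideal A) [P.IsPrime] (qb : Ideal (A ⧸ P)) [qb.IsPrime]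
    (hCM : LocCoh.IsCohenMacaulayLocalRing (Localization.AtPrime qb)) :
    ringKrullDim (Localization.AtPrime (qb.comap (Ideal.Quotient.mk P)) ⧸
        P.map (algebraMap A (Localization.AtPrime (qb.comap (Ideal.Quotient.mk P))))) =
      ((dep (qb.comap (Ideal.Quotient.mk P)) (A ⧸ P) : ℕ∞) : WithBot ℕ∞) := by
  obtain ⟨e⟩ := Groth.Agent.H79.CIOpen.nonempty_atPrime_quotient_equiv P qb
  obtain ⟨l⟩ := nonempty_locQuotRingEquiv P (qb.comap (Ideal.Quotient.mk P))
  haveI : IsLocalRing (Localization.AtPrime (qb.comap (Ideal.Quotient.mk P)) ⧸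
      P.map (algebraMap A (Localization.AtPrime (qb.comap (Ideal.Quotient.mk P))))) :=
    e.isLocalRing
  have h1 := ringKrullDim_eq_of_ringEquiv e
  have h2 := hCM.supportDim_eq_depth
  rw [Module.supportDim_self_eq_ringKrullDim] at h2
  have h3 := Groth.Agent.H29.FlatCM.depth_ringEquiv e
  have hsurj : Function.Surjective (algebraMap (Localization.AtPrime (qb.comap (Ideal.Quotient.mk P)))
      (Localization.AtPrime (qb.comap (Ideal.Quotient.mk P)) ⧸
        P.map (algebraMap A (Localization.AtPrime (qb.comap (Ideal.Quotient.mk P)))))) :=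
    Ideal.Quotient.mk_surjective
  have h4 := Groth.Agent.H29.FlatCM.depth_eq_of_surjective hsurj
    (Localization.AtPrime (qb.comap (Ideal.Quotient.mk P)) ⧸
      P.map (algebraMap A (Localization.AtPrime (qb.comap (Ideal.Quotient.mk P)))))
  have h5 : dep (qb.comap (Ideal.Quotient.mk P)) (A ⧸ P) =
      LocCoh.depth (Localization.AtPrime (qb.comap (Ideal.Quotient.mk P)))
        (Localization.AtPrime (qb.comap (Ideal.Quotient.mk P)) ⧸
          P.map (algebraMap A (Localization.AtPrime (qb.comap (Ideal.Quotient.mk P))))) :=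
    Groth.Agent.H29.CM.idealDepth_congr l
  rw [← h1, h2, h3, h4, ← h5]

/-- The hypothesis: the Cohen–Macaulay locus of every `A/p` contains a nonempty open set. -/
def CMU (A : Type u) [CommRing A] : Prop :=
  ∀ (p : Ideal A) [p.IsPrime], ∃ U : Set (PrimeSpectrum (A ⧸ p)), IsOpen U ∧ U.Nonempty ∧
    ∀ q ∈ U, LocCoh.IsCohenMacaulayLocalRing (Localization.AtPrime q.asIdeal)

/-- The locus `codepth ≤ n`. -/
def codepthLE (n : ℕ) : Set (PrimeSpectrum A) :=
  {p | sdim p.asIdeal M ≤ ((dep p.asIdeal M : ℕ∞) : WithBot ℕ∞) + n}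

theorem mem_codepthLE_of_notMem_support (n : ℕ) (p : PrimeSpectrum A)
    (hp : p ∉ Module.support A M) : p ∈ codepthLE M n := by
  rw [Module.mem_support_iff, not_nontrivial_iff_subsingleton] at hp
  haveI := hp
  show sdim p.asIdeal M ≤ _
  rw [sdim, Module.supportDim_eq_bot_of_subsingleton]
  exact bot_le

/-- EGA IV 6.11.8 (i): the locus `codepth ≤ n` is open. -/
theorem isOpen_codepthLE (hCMU : CMU A) (n : ℕ) : IsOpen (codepthLE (A := A) M n) := by
  apply Groth.Agent.H17.NoethConstr.isOpen_of_forall_irreducible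
  intro Y hY hirr hne
  obtain ⟨z, hzE, hzY⟩ := hne
  haveI hP : (PrimeSpectrum.vanishingIdeal Y).IsPrime :=
    PrimeSpectrum.isIrreducible_iff_vanishingIdeal_isPrime.mp hirr
  set P := PrimeSpectrum.vanishingIdeal Y with hPdef
  have hYeq : PrimeSpectrum.zeroLocus (P : Set A) = Y := by
    rw [hPdef, PrimeSpectrum.zeroLocus_vanishingIdeal_eq_closure, hY.closure_eq]
  have hPz : P ≤ z.asIdeal := by
    have h1 : z ∈ PrimeSpectrum.zeroLocus (P : Set A) := by rw [hYeq]; exact hzY
    exact (PrimeSpectrum.mem_zeroLocus _ _).mp h1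
  have hPY : (⟨P, hP⟩ : PrimeSpectrum A) ∈ Y := by
    rw [← hYeq, PrimeSpectrum.mem_zeroLocus]
  by_cases hPM : (⟨P, hP⟩ : PrimeSpectrum A) ∈ Module.support A M
  swap
  · refine ⟨(Module.support A M)ᶜ, (Module.isClosed_support (R := A) (M := M)).isOpen_compl, ⟨⟨P, hP⟩, hPM, hPY⟩,
      fun q hq => mem_codepthLE_of_notMem_support M n q hq.1⟩
  -- the generic point is in the locus
  have hzM : z ∈ Module.support A M := by
    rw [Module.mem_support_iff] at hPM ⊢
    exact nontrivial_of_le M hPz hPM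
  have hPE : sdim P M ≤ ((dep P M : ℕ∞) : WithBot ℕ∞) + n := by
    have hg := codepth_generization M P z.asIdeal hPz hPM
    have hz : sdim z.asIdeal M ≤ ((dep z.asIdeal M : ℕ∞) : WithBot ℕ∞) + n := hzE
    haveI : Nontrivial (LocalizedModule z.asIdeal.primeCompl M) := Module.mem_support_iff.mp hzM
    haveI : Nontrivial (LocalizedModule P.primeCompl M) := Module.mem_support_iff.mp hPM
    obtain ⟨d, hd⟩ := Groth.Agent.H29.CM.exists_nat_supportDim (A := Localization.AtPrime P)
      (M := LocalizedModule P.primeCompl M)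
    obtain ⟨e, he⟩ := Groth.Agent.H29.CM.exists_nat_depth (A := Localization.AtPrime P)
      (M := LocalizedModule P.primeCompl M)
    obtain ⟨d', hd'⟩ := Groth.Agent.H29.CM.exists_nat_supportDim
      (A := Localization.AtPrime z.asIdeal) (M := LocalizedModule z.asIdeal.primeCompl M)
    obtain ⟨e', he'⟩ := Groth.Agent.H29.CM.exists_nat_depth (A := Localization.AtPrime z.asIdeal)
      (M := LocalizedModule z.asIdeal.primeCompl M)
    change sdim P M = _ at hd
    change dep P M = _ at he
    change sdim z.asIdeal M = _ at hd'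
    change dep z.asIdeal M = _ at he'
    rw [hd, he, hd', he'] at hg
    rw [hd', he'] at hz
    rw [hd, he]
    have h1 : d + e' ≤ d' + e := by exact_mod_cast hg
    have h2 : d' ≤ e' + n := by exact_mod_cast hz
    exact_mod_cast (by omega : d ≤ e + n)
  -- generic additivity
  obtain ⟨f₁, hf₁, H₁⟩ := exists_sdim_eq M P hPM
  obtain ⟨f₂, hf₂, H₂⟩ := exists_dep_eq P M (Module.mem_support_iff.mp hPM)
  obtain ⟨U₀, hU₀, hU₀ne, hU₀CM⟩ := hCMU P
  obtain ⟨W, hW, hWU⟩ := (PrimeSpectrum.isClosedEmbedding_comap_of_surjective (A ⧸ P)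
    (Ideal.Quotient.mk P) Ideal.Quotient.mk_surjective).isInducing.isOpen_iff.mp hU₀
  haveI : IsDomain (A ⧸ P) := Ideal.Quotient.isDomain P
  -- the generic point of `A/P` lies in `U₀`
  have hbot : (⟨⊥, Ideal.isPrime_bot⟩ : PrimeSpectrum (A ⧸ P)) ∈ U₀ := by
    obtain ⟨y, hy⟩ := hU₀ne
    have hle : (⟨⊥, Ideal.isPrime_bot⟩ : PrimeSpectrum (A ⧸ P)) ≤ y := bot_le (a := y.asIdeal)
    exact ((PrimeSpectrum.le_iff_specializes _ _).mp hle).mem_open hU₀ hy
  have hcbot : PrimeSpectrum.comap (Ideal.Quotient.mk P) ⟨⊥, Ideal.isPrime_bot⟩ = ⟨P, hP⟩ := by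
    apply PrimeSpectrum.ext
    show Ideal.comap (Ideal.Quotient.mk P) ⊥ = P
    rw [← RingHom.ker_eq_comap_bot, Ideal.mk_ker]
  refine ⟨W ∩ (PrimeSpectrum.basicOpen (f₁ * f₂) : Set (PrimeSpectrum A)),
    hW.inter (PrimeSpectrum.basicOpen (f₁ * f₂)).isOpen, ⟨⟨P, hP⟩, ⟨?_, ?_⟩, hPY⟩, ?_⟩
  · have : (⟨⊥, Ideal.isPrime_bot⟩ : PrimeSpectrum (A ⧸ P)) ∈
        PrimeSpectrum.comap (Ideal.Quotient.mk P) ⁻¹' W := by rw [hWU]; exact hbot
    rw [Set.mem_preimage, hcbot] at this
    exact this
  · exact mul_notMem hf₁ hf₂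
  · rintro q ⟨⟨hqW, hqf⟩, hqY⟩
    have hqV : q ∈ PrimeSpectrum.zeroLocus (P : Set A) := by rw [hYeq]; exact hqY
    have hrange : q ∈ Set.range (PrimeSpectrum.comap (Ideal.Quotient.mk P)) := by
      rw [range_comap_of_surjective (A ⧸ P) (Ideal.Quotient.mk P) Ideal.Quotient.mk_surjective, Ideal.mk_ker]
      exact hqV
    obtain ⟨qb, rfl⟩ := hrange
    have hqbU : qb ∈ U₀ := by rw [← hWU]; exact hqW
    have hCM := hU₀CM qb hqbU
    have hPq : P ≤ qb.asIdeal.comap (Ideal.Quotient.mk P) :=
      (PrimeSpectrum.mem_zeroLocus _ _).mp hqV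
    obtain ⟨hq1, hq2⟩ := notMem_of_mul_notMem (show f₁ * f₂ ∉ qb.asIdeal.comap (Ideal.Quotient.mk P)
      from hqf)
    have h1 := H₁ (qb.asIdeal.comap (Ideal.Quotient.mk P)) hPq hq1
    have h2 := H₂ (qb.asIdeal.comap (Ideal.Quotient.mk P)) hPq hq2
    have h3 := dim_eq_dep_of_CM P qb.asIdeal hCM
    show sdim (qb.asIdeal.comap (Ideal.Quotient.mk P)) M ≤
      ((dep (qb.asIdeal.comap (Ideal.Quotient.mk P)) M : ℕ∞) : WithBot ℕ∞) + n
    rw [h1, h2, h3, WithBot.coe_add]
    calc sdim P M + ((dep (qb.asIdeal.comap (Ideal.Quotient.mk P)) (A ⧸ P) : ℕ∞) : WithBot ℕ∞)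
        ≤ (((dep P M : ℕ∞) : WithBot ℕ∞) + n) +
          ((dep (qb.asIdeal.comap (Ideal.Quotient.mk P)) (A ⧸ P) : ℕ∞) : WithBot ℕ∞) :=
          add_le_add_left hPE _
      _ = _ := by abel

/-- `(S_k)` at a prime, in terms of the generizations of the prime. -/
theorem hasSkAt_iff (k : ℕ) (p : Ideal A) [p.IsPrime] :
    EGA4.HasSkAt k A M p ↔ ∀ (p' : Ideal A) [p'.IsPrime], p' ≤ p →
      min (k : WithBot ℕ∞) (sdim p' M) ≤ ((dep p' M : ℕ∞) : WithBot ℕ∞) := by
  unfold EGA4.HasSkAt LocCoh.HasSk
  constructor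
  · intro h p' _ hle
    obtain ⟨P, hP, hs, hd, -⟩ := exists_locLoc M p' p hle
    haveI := hP
    have := h P
    rw [hs, hd] at this
    exact this
  · intro h P _
    have hle : P.comap (algebraMap A (Localization.AtPrime p)) ≤ p := by
      intro x hx
      have h1 : algebraMap A (Localization.AtPrime p) x ∈ maximalIdeal (Localization.AtPrime p) :=
        IsLocalRing.le_maximalIdeal (Ideal.IsPrime.ne_top inferInstance) (Ideal.mem_comap.mp hx)
      exact (IsLocalization.AtPrime.to_map_mem_maximal_iff (Localization.AtPrime p) p x).mp h1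
    rw [Groth.Agent.H29.SkNoEmb.supportDim_localization_localization p.primeCompl M P,
      (Groth.Agent.H29.FinDimDepth.depth_localization_localization p.primeCompl M P).1]
    exact h _ hle

omit [IsNoetherianRing A] [Module.Finite A M] in
theorem codepthLE_mono {k l : ℕ} (h : k ≤ l) : codepthLE (A := A) M k ⊆ codepthLE M l := by
  intro p hp
  have hp' : sdim p.asIdeal M ≤ ((dep p.asIdeal M : ℕ∞) : WithBot ℕ∞) + k := hp
  show sdim p.asIdeal M ≤ ((dep p.asIdeal M : ℕ∞) : WithBot ℕ∞) + l
  refine le_trans hp' ?_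
  have : ((k : ℕ) : WithBot ℕ∞) ≤ ((l : ℕ) : WithBot ℕ∞) := by exact_mod_cast h
  gcongr

/-- EGA IV 6.11.8 (ii): the `(S_n)` locus is open. -/
theorem isOpen_skLocus (hCMU : CMU A) (n : ℕ) :
    IsOpen {p : PrimeSpectrum A | EGA4.HasSkAt n A M p.asIdeal} := by
  let O : ℕ →o TopologicalSpace.Opens (PrimeSpectrum A) :=
    ⟨fun k => ⟨codepthLE M k, isOpen_codepthLE M hCMU k⟩, fun k l h => codepthLE_mono M h⟩
  obtain ⟨N, hN⟩ := WellFoundedGT.monotone_chain_condition O
  have hall : ∀ p : PrimeSpectrum A, p ∈ codepthLE M N := by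
    intro p
    by_cases hp : p ∈ Module.support A M
    swap
    · exact mem_codepthLE_of_notMem_support M N p hp
    haveI : Nontrivial (LocalizedModule p.asIdeal.primeCompl M) := Module.mem_support_iff.mp hp
    obtain ⟨d, hd⟩ := Groth.Agent.H29.CM.exists_nat_supportDim
      (A := Localization.AtPrime p.asIdeal) (M := LocalizedModule p.asIdeal.primeCompl M)
    change sdim p.asIdeal M = _ at hd
    have h1 : p ∈ codepthLE M (max N d) := by
      show sdim p.asIdeal M ≤ _
      rw [hd]
      calc ((d : ℕ) : WithBot ℕ∞) ≤ ((max N d : ℕ) : WithBot ℕ∞) := by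
            exact_mod_cast le_max_right N d
        _ ≤ _ := le_add_of_nonneg_left (by exact_mod_cast (zero_le : (0 : ℕ∞) ≤ dep p.asIdeal M))
    have h2 : O N = O (max N d) := hN _ (le_max_left N d)
    have h3 : p ∈ (O (max N d) : Set (PrimeSpectrum A)) := h1
    rw [← h2] at h3
    exact h3
  let G : ℕ → Set (PrimeSpectrum A) := fun k =>
    {z | z.asIdeal ∈ (PrimeSpectrum.vanishingIdeal (codepthLE M k)ᶜ).minimalPrimes ∧
      ¬ (min (n : WithBot ℕ∞) (sdim z.asIdeal M) ≤ ((dep z.asIdeal M : ℕ∞) : WithBot ℕ∞))}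
  have hGfin : ∀ k, (G k).Finite := by
    intro k
    have hfin := Ideal.finite_minimalPrimes_of_isNoetherianRing A
      (PrimeSpectrum.vanishingIdeal (codepthLE M k)ᶜ)
    exact (hfin.preimage (f := PrimeSpectrum.asIdeal)
      (fun a _ b _ h => PrimeSpectrum.ext h)).subset (fun z hz => hz.1)
  have hcompl : {p : PrimeSpectrum A | EGA4.HasSkAt n A M p.asIdeal}ᶜ =
      ⋃ k ∈ Finset.range N, ⋃ z ∈ G k, PrimeSpectrum.zeroLocus (z.asIdeal : Set A) := by
    ext p
    simp only [Set.mem_compl_iff, Set.mem_setOf_eq, Set.mem_iUnion, Finset.mem_range,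
      PrimeSpectrum.mem_zeroLocus, SetLike.coe_subset_coe, exists_prop]
    rw [hasSkAt_iff]
    constructor
    · intro h
      push Not at h
      obtain ⟨t, ht, htp, hbad⟩ := h
      haveI := ht
      have htM : (⟨t, ht⟩ : PrimeSpectrum A) ∈ Module.support A M := by
        by_contra hcon
        rw [Module.mem_support_iff, not_nontrivial_iff_subsingleton] at hcon
        haveI : Subsingleton (LocalizedModule t.primeCompl M) := hcon
        apply hbad.not_ge
        rw [sdim, Module.supportDim_eq_bot_of_subsingleton, min_eq_right bot_le]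
        exact bot_le
      haveI : Nontrivial (LocalizedModule t.primeCompl M) := Module.mem_support_iff.mp htM
      obtain ⟨d, hd⟩ := Groth.Agent.H29.CM.exists_nat_supportDim (A := Localization.AtPrime t)
        (M := LocalizedModule t.primeCompl M)
      obtain ⟨e, he⟩ := Groth.Agent.H29.CM.exists_nat_depth (A := Localization.AtPrime t)
        (M := LocalizedModule t.primeCompl M)
      change sdim t M = _ at hd
      change dep t M = _ at he
      rw [hd, he, lt_min_iff] at hbad
      have hen : e < n := by exact_mod_cast hbad.1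
      have hed : e < d := by exact_mod_cast hbad.2
      obtain ⟨k, hk⟩ : ∃ k : ℕ, d = e + k + 1 := ⟨d - e - 1, by omega⟩
      have htZ : (⟨t, ht⟩ : PrimeSpectrum A) ∈ (codepthLE M k)ᶜ := by
        intro hmem
        have hmem' : sdim t M ≤ ((dep t M : ℕ∞) : WithBot ℕ∞) + k := hmem
        rw [hd, he] at hmem'
        have : d ≤ e + k := by exact_mod_cast hmem'
        omega
      have hkN : k < N := by
        by_contra hcon
        rw [not_lt] at hcon
        exact htZ (codepthLE_mono M hcon (hall _))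
      have hIt : PrimeSpectrum.vanishingIdeal (codepthLE M k)ᶜ ≤ t := by
        intro f hf
        exact (PrimeSpectrum.mem_vanishingIdeal _ _).mp hf ⟨t, ht⟩ htZ
      obtain ⟨z, hzmin, hzt⟩ := Ideal.exists_minimalPrimes_le hIt
      haveI hzp : z.IsPrime := hzmin.1.1
      have hclosed : IsClosed (codepthLE M k)ᶜ := (isOpen_codepthLE M hCMU k).isClosed_compl
      have hzZ : (⟨z, hzp⟩ : PrimeSpectrum A) ∈ (codepthLE M k)ᶜ := by
        have h1 : (⟨z, hzp⟩ : PrimeSpectrum A) ∈ PrimeSpectrum.zeroLocus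
            ((PrimeSpectrum.vanishingIdeal (codepthLE (A := A) M k)ᶜ : Ideal A) : Set A) := by
          rw [PrimeSpectrum.mem_zeroLocus]
          exact hzmin.1.2
        rwa [PrimeSpectrum.zeroLocus_vanishingIdeal_eq_closure, hclosed.closure_eq] at h1
      have hzM : (⟨z, hzp⟩ : PrimeSpectrum A) ∈ Module.support A M := by
        by_contra hcon
        exact hzZ (mem_codepthLE_of_notMem_support M k _ hcon)
      haveI : Nontrivial (LocalizedModule z.primeCompl M) := Module.mem_support_iff.mp hzM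
      obtain ⟨dz, hdz⟩ := Groth.Agent.H29.CM.exists_nat_supportDim (A := Localization.AtPrime z)
        (M := LocalizedModule z.primeCompl M)
      obtain ⟨ez, hez⟩ := Groth.Agent.H29.CM.exists_nat_depth (A := Localization.AtPrime z)
        (M := LocalizedModule z.primeCompl M)
      change sdim z M = _ at hdz
      change dep z M = _ at hez
      have h1 : ¬ (dz ≤ ez + k) := by
        intro hle
        apply hzZ
        show sdim z M ≤ ((dep z M : ℕ∞) : WithBot ℕ∞) + k
        rw [hdz, hez]
        exact_mod_cast hle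
      have h2 : dz ≤ d := by
        have := sdim_mono M z t hzt hzM
        rw [hdz, hd] at this
        exact_mod_cast this
      refine ⟨k, hkN, ⟨z, hzp⟩, ⟨hzmin, ?_⟩, hzt.trans htp⟩
      show ¬ (min (n : WithBot ℕ∞) (sdim z M) ≤ ((dep z M : ℕ∞) : WithBot ℕ∞))
      rw [hdz, hez, not_le, lt_min_iff]
      constructor
      · exact_mod_cast (by omega : ez < n)
      · exact_mod_cast (by omega : ez < dz)
    · rintro ⟨k, -, z, ⟨-, hzbad⟩, hzp⟩ h
      exact hzbad (h z.asIdeal hzp)
  rw [← isClosed_compl_iff, hcompl]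
  exact Set.Finite.isClosed_biUnion (Finset.finite_toSet _) fun k _ =>
    Set.Finite.isClosed_biUnion (hGfin k) fun z _ => PrimeSpectrum.isClosed_zeroLocus _

end Groth.Agent.H29.CodepthOpen
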