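import Mathlib
import Groth.Agent.H73.PtFunCore

/-!
# (PB) for the S13109 squad (helper29): pulling a pointwise relation back along `A → B`
and applying the normal case `H73.PtFunCore.exists_section_of_rel` on `B`.
-/

set_option autoImplicit false
set_option maxHeartbeats 400000
set_option linter.style.haveILetI false
universe u

namespace Groth.Agent.H29.SN_PB

/-- (PB) -/
theorem exists_section_of_algebra {A B : Type u} [CommRing A] [CommRing B] [Algebra A B]
    [IsReduced B] [IsNoetherianRing B] [IsIntegrallyClosed B]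
    (Rel : PrimeSpectrum A → A → A → Prop)
    (R1 : ∀ p, ∃ b s, s ∉ p.asIdeal ∧ Rel p b s)
    (R2 : ∀ p b s b' s', Rel p b s → Rel p b' s' → s ∉ p.asIdeal → s' ∉ p.asIdeal →
      b * s' - b' * s ∈ p.asIdeal)
    (R3 : ∀ (R : Type u) [CommRing R] [IsDomain R] [IsDiscreteValuationRing R] (ψ : A →+* R),
      ∃ r : R, ∀ (x : PrimeSpectrum R) (b s : A), Rel (PrimeSpectrum.comap ψ x) b s →
        s ∉ (PrimeSpectrum.comap ψ x).asIdeal → r * ψ s - ψ b ∈ x.asIdeal) :
    ∃ β : B, ∀ (q : PrimeSpectrum B) (b s : A),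
      Rel (PrimeSpectrum.comap (algebraMap A B) q) b s →
      s ∉ (PrimeSpectrum.comap (algebraMap A B) q).asIdeal →
      β * algebraMap A B s - algebraMap A B b ∈ q.asIdeal := by
  classical
  set φ : A →+* B := algebraMap A B with hφ
  let RelB : PrimeSpectrum B → B → B → Prop := fun q b' s' =>
    ∃ b s : A, Rel (PrimeSpectrum.comap φ q) b s ∧ s ∉ (PrimeSpectrum.comap φ q).asIdeal ∧
      b' * φ s - φ b * s' ∈ q.asIdeal
  have hmem : ∀ (q : PrimeSpectrum B) (s : A),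
      s ∈ (PrimeSpectrum.comap φ q).asIdeal ↔ φ s ∈ q.asIdeal := fun q s => Iff.rfl
  have RB1 : ∀ q, ∃ b' s', s' ∉ q.asIdeal ∧ RelB q b' s' := by
    intro q
    obtain ⟨b, s, hs, hrel⟩ := R1 (PrimeSpectrum.comap φ q)
    refine ⟨φ b, φ s, ?_, b, s, hrel, hs, ?_⟩
    · exact fun h => hs ((hmem q s).2 h)
    · rw [sub_self]; exact q.asIdeal.zero_mem
  have RB2 : ∀ q b1' s1' b2' s2', RelB q b1' s1' → RelB q b2' s2' → s1' ∉ q.asIdeal →
      s2' ∉ q.asIdeal → b1' * s2' - b2' * s1' ∈ q.asIdeal := by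
    rintro q b1' s1' b2' s2' ⟨b1, s1, hr1, hs1, h1⟩ ⟨b2, s2, hr2, hs2, h2⟩ _ _
    have h12 := R2 _ b1 s1 b2 s2 hr1 hr2 hs1 hs2
    have h12' : φ b1 * φ s2 - φ b2 * φ s1 ∈ q.asIdeal := by
      have := (hmem q _).1 h12
      simpa [map_sub, map_mul] using this
    have hs1' : φ s1 ∉ q.asIdeal := fun h => hs1 ((hmem q s1).2 h)
    have hs2' : φ s2 ∉ q.asIdeal := fun h => hs2 ((hmem q s2).2 h)
    have key : (b1' * s2' - b2' * s1') * (φ s1 * φ s2) ∈ q.asIdeal := by
      have e : (b1' * s2' - b2' * s1') * (φ s1 * φ s2) =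
          (b1' * φ s1 - φ b1 * s1') * (s2' * φ s2) - (b2' * φ s2 - φ b2 * s2') * (s1' * φ s1)
            + (s1' * s2') * (φ b1 * φ s2 - φ b2 * φ s1) := by ring
      rw [e]
      exact q.asIdeal.add_mem
        (q.asIdeal.sub_mem (q.asIdeal.mul_mem_right _ h1) (q.asIdeal.mul_mem_right _ h2))
        (q.asIdeal.mul_mem_left _ h12')
    rcases q.2.mem_or_mem key with h | h
    · exact h
    · rcases q.2.mem_or_mem h with h | h
      · exact absurd h hs1'
      · exact absurd h hs2'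
  have RB3 : ∀ (R : Type u) [CommRing R] [IsDomain R] [IsDiscreteValuationRing R] (ψ : B →+* R),
      ∃ r : R, ∀ (x : PrimeSpectrum R) (b' s' : B), RelB (PrimeSpectrum.comap ψ x) b' s' →
        s' ∉ (PrimeSpectrum.comap ψ x).asIdeal → r * ψ s' - ψ b' ∈ x.asIdeal := by
    intro R _ _ _ ψ
    obtain ⟨r, hr⟩ := R3 R (ψ.comp φ)
    refine ⟨r, ?_⟩
    rintro x b' s' ⟨b, s, hrel, hs, hbs⟩ _
    have hcomp : PrimeSpectrum.comap (ψ.comp φ) x
        = PrimeSpectrum.comap φ (PrimeSpectrum.comap ψ x) := rfl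
    have h1 : r * ψ (φ s) - ψ (φ b) ∈ x.asIdeal := by
      have := hr x b s (by rw [hcomp]; exact hrel) (by rw [hcomp]; exact hs)
      simpa using this
    have h2 : ψ (b' * φ s - φ b * s') ∈ x.asIdeal := hbs
    have hs' : ψ (φ s) ∉ x.asIdeal := fun h => hs h
    have key : (r * ψ s' - ψ b') * ψ (φ s) ∈ x.asIdeal := by
      have e : (r * ψ s' - ψ b') * ψ (φ s) =
          ψ s' * (r * ψ (φ s) - ψ (φ b)) - ψ (b' * φ s - φ b * s') := by
        simp only [map_sub, map_mul]; ring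
      rw [e]
      exact x.asIdeal.sub_mem (x.asIdeal.mul_mem_left _ h1) h2
    rcases x.2.mem_or_mem key with h | h
    · exact h
    · exact absurd h hs'
  obtain ⟨β, hβ⟩ := Groth.Agent.H73.PtFunCore.exists_section_of_rel RelB RB1 RB2 RB3
  refine ⟨β, fun q b s hrel hs => ?_⟩
  have hs' : φ s ∉ q.asIdeal := fun h => hs ((hmem q s).2 h)
  refine hβ q (φ b) (φ s) ⟨b, s, hrel, hs, ?_⟩ hs'
  rw [sub_self]; exact q.asIdeal.zero_mem

end Groth.Agent.H29.SN_PB
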