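import Mathlib
import Groth.Agent.S0389
import Groth.Agent.H57.RelAssGen.Defs
import Groth.Agent.H51.RA_B1

/-!
# (C2) for helper57's S5872/S5873 squad: fibrewise torsion-freeness near the generic point.
-/

set_option autoImplicit false
set_option linter.style.haveILetI false
set_option maxHeartbeats 400000

universe u

open TensorProduct
open Groth.Agent.H57.RelAssGen

namespace Groth.Agent.H29.SU_C2

/-- membership in `Q • ⊤` for a free module, in coordinates. -/
theorem mem_smul_top_iff_repr {L F ι : Type*} [CommRing L] [AddCommGroup F] [Module L F]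
    (b : Module.Basis ι L F) (Q : Ideal L) (x : F) :
    x ∈ Q • (⊤ : Submodule L F) ↔ ∀ i, b.repr x i ∈ Q := by
  rw [← b.span_eq, Submodule.mem_ideal_smul_span_iff_exists_sum]
  constructor
  · rintro ⟨a, ha, rfl⟩ i
    have h1 : (a.sum fun i c => c • b i) = Finsupp.linearCombination L b a := rfl
    rw [h1, b.repr_linearCombination]
    exact ha i
  · intro h
    exact ⟨b.repr x, h, b.linearCombination_repr x⟩

/-- `p[t]` is prime in `A[t]`. -/
theorem isPrime_map_C {σ A : Type*} [CommRing A] (p : Ideal A) [p.IsPrime] :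
    (p.map (MvPolynomial.C : A →+* MvPolynomial σ A)).IsPrime := by
  rw [← Ideal.Quotient.isDomain_iff_prime]
  exact MulEquiv.isDomain (MvPolynomial σ (A ⧸ p))
    (MvPolynomial.quotientEquivQuotientMvPolynomial (σ := σ) p).symm.toMulEquiv

/-- the generic statement over a domain `C`. -/
theorem generic_torsionFree {C B M : Type u} [CommRing C] [IsDomain C] [CommRing B] [Algebra C B]
    [Algebra.FiniteType C B] [AddCommGroup M] [Module B M] [Module C M] [IsScalarTower C B M]
    [Module.Finite B M] :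
    ∃ c₀ : C, c₀ ≠ 0 ∧ ∀ P : Ideal C, P.IsPrime → c₀ ∉ P → ∀ c : C, c ∉ P → ∀ n : M,
      c • n ∈ P • (⊤ : Submodule C M) → ∃ j : ℕ, c₀ ^ j • n ∈ P • (⊤ : Submodule C M) := by
  obtain ⟨c₀, hc₀, hfree, -, -, -⟩ := Groth.Agent.S0389.result (R := C) (S := B) (M := M)
  refine ⟨c₀, hc₀, fun P hP hc₀P c hc n hn => ?_⟩
  let f : M →ₗ[C] Localization.Away c₀ ⊗[C] M := TensorProduct.mk C (Localization.Away c₀) M 1
  haveI : IsLocalizedModule (Submonoid.powers c₀) f :=
    (isLocalizedModule_iff_isBaseChange (Submonoid.powers c₀) (Localization.Away c₀) f).mpr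
      (TensorProduct.isBaseChange C M (Localization.Away c₀))
  have hdisj : Disjoint (Submonoid.powers c₀ : Set C) (P : Set C) := by
    rw [Set.disjoint_left]
    rintro _ ⟨k, rfl⟩ hk
    exact hc₀P (hP.mem_of_pow_mem k hk)
  haveI hQ : (P.map (algebraMap C (Localization.Away c₀))).IsPrime :=
    IsLocalization.isPrime_of_isPrime_disjoint (Submonoid.powers c₀) (Localization.Away c₀) P hP
      hdisj
  have hcQ : algebraMap C (Localization.Away c₀) c ∉ P.map (algebraMap C (Localization.Away c₀)) := by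
    intro h
    have h1 := IsLocalization.under_map_of_isPrime_disjoint (Submonoid.powers c₀)
      (Localization.Away c₀) hP hdisj
    apply hc
    rw [← h1]
    exact h
  have h1 : c • f n ∈ P • (⊤ : Submodule C (Localization.Away c₀ ⊗[C] M)) := by
    rw [← map_smul]
    have h2 : f (c • n) ∈ (P • (⊤ : Submodule C M)).map f := Submodule.mem_map_of_mem hn
    rw [Submodule.map_smul''] at h2
    exact Submodule.smul_mono le_rfl le_top h2
  have h2 : f n ∈ (P.map (algebraMap C (Localization.Away c₀))) •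
      (⊤ : Submodule (Localization.Away c₀) (Localization.Away c₀ ⊗[C] M)) := by
    have b := Module.Free.chooseBasis (Localization.Away c₀) (Localization.Away c₀ ⊗[C] M)
    rw [mem_smul_top_iff_repr b]
    intro i
    have h3 : c • f n ∈ (P.map (algebraMap C (Localization.Away c₀))) •
        (⊤ : Submodule (Localization.Away c₀) (Localization.Away c₀ ⊗[C] M)) :=
      (Groth.Agent.H51.RA_B1.mem_map_smul_top_iff P _).mpr h1
    rw [mem_smul_top_iff_repr b] at h3
    have h4 := h3 i
    rw [← algebraMap_smul (Localization.Away c₀) c (f n), map_smul, Finsupp.smul_apply,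
      smul_eq_mul] at h4
    exact (hQ.mem_or_mem h4).resolve_left hcQ
  have h5 : f n ∈ P • (⊤ : Submodule C (Localization.Away c₀ ⊗[C] M)) :=
    (Groth.Agent.H51.RA_B1.mem_map_smul_top_iff P _).mp h2
  obtain ⟨s, ⟨j, rfl⟩, hs⟩ :=
    Groth.Agent.H51.RA_B1.exists_smul_mem_of_map_mem (Submonoid.powers c₀) f P n h5
  exact ⟨j, hs⟩

section Domain

variable {A B M : Type u} [CommRing A] [IsDomain A] [CommRing B] [Algebra A B]
  [Algebra.FiniteType A B] [AddCommGroup M] [Module B M] [Module A M] [IsScalarTower A B M]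
  [Module.Finite B M]

/-- (C2) if every nonzero polynomial acts injectively on `M`, then near the generic point every
polynomial which is nonzero modulo `p` acts injectively on the fibre `M / p M`. -/
theorem fibre_torsionFree {d : ℕ} (φ : MvPolynomial (Fin d) A →ₐ[A] B)
    (hreg : ∀ c : MvPolynomial (Fin d) A, c ≠ 0 → ∀ n : M, φ c • n = 0 → n = 0) :
    ∃ a : A, a ≠ 0 ∧ ∀ p : Ideal A, p.IsPrime → a ∉ p → ∀ c : MvPolynomial (Fin d) A,
      c ∉ p.map (MvPolynomial.C : A →+* MvPolynomial (Fin d) A) → ∀ n : M,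
      φ c • n ∈ p • (⊤ : Submodule A M) → ∃ k : ℕ, a ^ k • n ∈ p • (⊤ : Submodule A M) := by
  classical
  letI : Algebra (MvPolynomial (Fin d) A) B := φ.toRingHom.toAlgebra
  letI : Module (MvPolynomial (Fin d) A) M := Module.compHom M φ.toRingHom
  haveI : IsScalarTower (MvPolynomial (Fin d) A) B M := ⟨fun c b m => by
    show (φ c * b) • m = φ c • (b • m)
    rw [mul_smul]⟩
  haveI : IsScalarTower A (MvPolynomial (Fin d) A) B := IsScalarTower.of_algebraMap_eq fun a => by
    show algebraMap A B a = φ (algebraMap A (MvPolynomial (Fin d) A) a)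
    rw [φ.commutes]
  haveI : IsScalarTower A (MvPolynomial (Fin d) A) M := ⟨fun a c m => by
    show φ (a • c) • m = a • (φ c • m)
    rw [map_smul, smul_assoc]⟩
  haveI : Algebra.FiniteType (MvPolynomial (Fin d) A) B :=
    Algebra.FiniteType.of_restrictScalars_finiteType A _ B
  obtain ⟨c₀, hc₀, hG⟩ := generic_torsionFree (C := MvPolynomial (Fin d) A) (B := B) (M := M)
  obtain ⟨a', ha', hcore⟩ := Groth.Agent.H51.RA_B1.core_claim (A := A) (B := B) (M := M) (φ c₀)
    (fun m hm => ⟨1, one_ne_zero, by rw [one_smul]; exact hreg c₀ hc₀ m hm⟩)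
  obtain ⟨μ, hμ⟩ : ∃ μ, MvPolynomial.coeff μ c₀ ≠ 0 := MvPolynomial.ne_zero_iff.mp hc₀
  have hiter : ∀ (𝔭 : Ideal A) (j : ℕ) (y : M), φ c₀ ^ j • y ∈ 𝔭 • (⊤ : Submodule A M) →
      ∃ k : ℕ, a' ^ k • y ∈ 𝔭 • (⊤ : Submodule A M) := by
    intro 𝔭 j
    induction j with
    | zero =>
      intro y hy
      exact ⟨0, by simpa using hy⟩
    | succ j ih =>
      intro y hy
      rw [pow_succ', mul_smul] at hy
      obtain ⟨n₁, hn₁⟩ := hcore 𝔭 _ hy
      rw [smul_comm] at hn₁
      obtain ⟨k, hk⟩ := ih _ hn₁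
      exact ⟨k + n₁, by rw [pow_add, mul_smul]; exact hk⟩
  refine ⟨a' * MvPolynomial.coeff μ c₀, mul_ne_zero ha' hμ, fun p hp hap c hc n hn => ?_⟩
  have hα : MvPolynomial.coeff μ c₀ ∉ p := fun h => hap (Ideal.mul_mem_left _ _ h)
  haveI := hp
  have hP : (p.map (MvPolynomial.C : A →+* MvPolynomial (Fin d) A)).IsPrime := isPrime_map_C p
  have hc₀P : c₀ ∉ p.map (MvPolynomial.C : A →+* MvPolynomial (Fin d) A) :=
    fun h => hα (MvPolynomial.mem_map_C_iff.mp h μ)
  have hn' : c • n ∈ (p.map (MvPolynomial.C : A →+* MvPolynomial (Fin d) A)) •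
      (⊤ : Submodule (MvPolynomial (Fin d) A) M) :=
    (Groth.Agent.H51.RA_B1.mem_map_smul_top_iff (A := A) (B := MvPolynomial (Fin d) A) (M := M)
      p _).mpr hn
  obtain ⟨j, hj⟩ := hG _ hP hc₀P c hc n hn'
  have hj' : φ c₀ ^ j • n ∈ p • (⊤ : Submodule A M) := by
    have h1 := (Groth.Agent.H51.RA_B1.mem_map_smul_top_iff (A := A)
      (B := MvPolynomial (Fin d) A) (M := M) p _).mp hj
    have h2 : c₀ ^ j • n = φ c₀ ^ j • n := by
      rw [← map_pow]
      rfl
    rwa [h2] at h1
  obtain ⟨k, hk⟩ := hiter p j n hj'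
  refine ⟨k, ?_⟩
  rw [mul_pow, mul_comm, mul_smul]
  exact Submodule.smul_mem _ _ hk

end Domain

end Groth.Agent.H29.SU_C2
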