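import Mathlib
import Groth.Agent.H33.Bidual

/-!
# (LES1)+(LES3) for the S1819 squad (helper29)

Five-lemma-type statements for morphisms of short exact sequences of complexes when one of
the outer terms is exact in the relevant degrees.
-/

set_option autoImplicit false
set_option maxHeartbeats 400000
set_option linter.style.haveILetI false
universe u
open CategoryTheory CategoryTheory.Limits HomologicalComplex CochainComplex

namespace Groth.Agent.H29.BD_LES

variable {A : Type u} [CommRing A]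

section General

variable {C : Type*} [Category C] [Abelian C]

/-- If `S.X₃` is exact at `n - 1` and `n`, then `H^n(S.f)` is an isomorphism. -/
theorem isIso_homologyMap_f {S : ShortComplex (CochainComplex C ℤ)} (hS : S.ShortExact) (n : ℤ)
    (h1 : S.X₃.ExactAt (n - 1)) (h1' : S.X₃.ExactAt n) :
    IsIso (HomologicalComplex.homologyMap S.f n) := by
  have hrel : (ComplexShape.up ℤ).Rel (n - 1) n := by simp
  have z1 : IsZero (S.X₃.homology (n - 1)) := (exactAt_iff_isZero_homology _ _).1 h1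
  have z2 : IsZero (S.X₃.homology n) := (exactAt_iff_isZero_homology _ _).1 h1'
  have hmono : Mono (HomologicalComplex.homologyMap S.f n) :=
    (hS.homology_exact₁ (n - 1) n hrel).mono_g (z1.eq_of_src _ _)
  have hepi : Epi (HomologicalComplex.homologyMap S.f n) :=
    (hS.homology_exact₂ n).epi_f (z2.eq_of_tgt _ _)
  exact isIso_of_mono_of_epi _

/-- If `S.X₁` is exact at `n` and `n + 1`, then `H^n(S.g)` is an isomorphism. -/
theorem isIso_homologyMap_g {S : ShortComplex (CochainComplex C ℤ)} (hS : S.ShortExact) (n : ℤ)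
    (h1 : S.X₁.ExactAt n) (h1' : S.X₁.ExactAt (n + 1)) :
    IsIso (HomologicalComplex.homologyMap S.g n) := by
  have hrel : (ComplexShape.up ℤ).Rel n (n + 1) := by simp
  have z1 : IsZero (S.X₁.homology n) := (exactAt_iff_isZero_homology _ _).1 h1
  have z2 : IsZero (S.X₁.homology (n + 1)) := (exactAt_iff_isZero_homology _ _).1 h1'
  have hmono : Mono (HomologicalComplex.homologyMap S.g n) :=
    (hS.homology_exact₂ n).mono_g (z1.eq_of_src _ _)
  have hepi : Epi (HomologicalComplex.homologyMap S.g n) :=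
    (hS.homology_exact₃ n (n + 1) hrel).epi_f (z2.eq_of_tgt _ _)
  exact isIso_of_mono_of_epi _

theorem quasiIsoAt_τ₁_iff_τ₂_gen {S₁ S₂ : ShortComplex (CochainComplex C ℤ)} (φ : S₁ ⟶ S₂)
    (hS₁ : S₁.ShortExact) (hS₂ : S₂.ShortExact) (n : ℤ)
    (h1 : S₁.X₃.ExactAt (n - 1)) (h1' : S₁.X₃.ExactAt n)
    (h2 : S₂.X₃.ExactAt (n - 1)) (h2' : S₂.X₃.ExactAt n) :
    QuasiIsoAt φ.τ₁ n ↔ QuasiIsoAt φ.τ₂ n := by
  haveI i1 := isIso_homologyMap_f hS₁ n h1 h1'
  haveI i2 := isIso_homologyMap_f hS₂ n h2 h2'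
  have nat : HomologicalComplex.homologyMap φ.τ₁ n ≫ HomologicalComplex.homologyMap S₂.f n =
      HomologicalComplex.homologyMap S₁.f n ≫ HomologicalComplex.homologyMap φ.τ₂ n := by
    rw [← HomologicalComplex.homologyMap_comp, ← HomologicalComplex.homologyMap_comp, φ.comm₁₂]
  rw [quasiIsoAt_iff_isIso_homologyMap, quasiIsoAt_iff_isIso_homologyMap]
  constructor
  · intro h
    have : IsIso (HomologicalComplex.homologyMap S₁.f n ≫
        HomologicalComplex.homologyMap φ.τ₂ n) := by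
      rw [← nat]; infer_instance
    exact IsIso.of_isIso_comp_left (HomologicalComplex.homologyMap S₁.f n) _
  · intro h
    have : IsIso (HomologicalComplex.homologyMap φ.τ₁ n ≫
        HomologicalComplex.homologyMap S₂.f n) := by
      rw [nat]; infer_instance
    exact IsIso.of_isIso_comp_right _ (HomologicalComplex.homologyMap S₂.f n)

theorem quasiIsoAt_τ₂_iff_τ₃_gen {S₁ S₂ : ShortComplex (CochainComplex C ℤ)} (φ : S₁ ⟶ S₂)
    (hS₁ : S₁.ShortExact) (hS₂ : S₂.ShortExact) (n : ℤ)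
    (h1 : S₁.X₁.ExactAt n) (h1' : S₁.X₁.ExactAt (n + 1))
    (h2 : S₂.X₁.ExactAt n) (h2' : S₂.X₁.ExactAt (n + 1)) :
    QuasiIsoAt φ.τ₂ n ↔ QuasiIsoAt φ.τ₃ n := by
  haveI i1 := isIso_homologyMap_g hS₁ n h1 h1'
  haveI i2 := isIso_homologyMap_g hS₂ n h2 h2'
  have nat : HomologicalComplex.homologyMap φ.τ₂ n ≫ HomologicalComplex.homologyMap S₂.g n =
      HomologicalComplex.homologyMap S₁.g n ≫ HomologicalComplex.homologyMap φ.τ₃ n := by
    rw [← HomologicalComplex.homologyMap_comp, ← HomologicalComplex.homologyMap_comp, φ.comm₂₃]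
  rw [quasiIsoAt_iff_isIso_homologyMap, quasiIsoAt_iff_isIso_homologyMap]
  constructor
  · intro h
    have : IsIso (HomologicalComplex.homologyMap S₁.g n ≫
        HomologicalComplex.homologyMap φ.τ₃ n) := by
      rw [← nat]; infer_instance
    exact IsIso.of_isIso_comp_left (HomologicalComplex.homologyMap S₁.g n) _
  · intro h
    have : IsIso (HomologicalComplex.homologyMap φ.τ₂ n ≫
        HomologicalComplex.homologyMap S₂.g n) := by
      rw [nat]; infer_instance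
    exact IsIso.of_isIso_comp_right _ (HomologicalComplex.homologyMap S₂.g n)

end General

/-- (LES1) -/
theorem quasiIsoAt_τ₁_iff_τ₂ {S₁ S₂ : ShortComplex (DRing.Cx A)} (φ : S₁ ⟶ S₂)
    (hS₁ : S₁.ShortExact) (hS₂ : S₂.ShortExact) (n : ℤ) (h1 : S₁.X₃.ExactAt (n - 1))
    (h1' : S₁.X₃.ExactAt n) (h2 : S₂.X₃.ExactAt (n - 1)) (h2' : S₂.X₃.ExactAt n) :
    QuasiIsoAt φ.τ₁ n ↔ QuasiIsoAt φ.τ₂ n :=
  quasiIsoAt_τ₁_iff_τ₂_gen φ hS₁ hS₂ n h1 h1' h2 h2'

/-- (LES3) -/
theorem quasiIsoAt_τ₂_iff_τ₃ {S₁ S₂ : ShortComplex (DRing.Cx A)} (φ : S₁ ⟶ S₂)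
    (hS₁ : S₁.ShortExact) (hS₂ : S₂.ShortExact) (n : ℤ) (h1 : S₁.X₁.ExactAt n)
    (h1' : S₁.X₁.ExactAt (n + 1)) (h2 : S₂.X₁.ExactAt n) (h2' : S₂.X₁.ExactAt (n + 1)) :
    QuasiIsoAt φ.τ₂ n ↔ QuasiIsoAt φ.τ₃ n :=
  quasiIsoAt_τ₂_iff_τ₃_gen φ hS₁ hS₂ n h1 h1' h2 h2'

end Groth.Agent.H29.BD_LES
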