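import Mathlib
import Groth.Agent.H46.BD0
import Groth.Agent.H73.BD_PRES

/-!
# (MODE) and (MODM) for the S1819 squad (helper29)

Surjectivity / injectivity on homology of the biduality map for a finite module placed in a
single degree, by (descending) induction from the free case, using the five-lemma variants of
`Mathlib/Algebra/Homology/HomologySequenceLemmas.lean`.
-/

set_option autoImplicit false
set_option maxHeartbeats 400000
set_option linter.style.haveILetI false
universe u
open CategoryTheory CategoryTheory.Limits HomologicalComplex CochainComplex
open CochainComplex.HomComplex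
attribute [local instance] HasDerivedCategory.standard
open Groth.Agent.H33.TensorHom Groth.Agent.H33.Bidual Groth.Agent.H46.BD

namespace Groth.Agent.H29.BD_MODE

variable {A : Type u} [CommRing A]

/-- the biduality morphism of short complexes `S ⟶ Hom•(Hom•(S, J), J)`. -/
noncomputable def bidualSC (S : ShortComplex (DRing.Cx A)) (J : DRing.Cx A) :
    S ⟶ homSC (homSC S J) J where
  τ₁ := bidual S.X₁ J
  τ₂ := bidual S.X₂ J
  τ₃ := bidual S.X₃ J
  comm₁₂ := (bidual_naturality S.f J).symm
  comm₂₃ := (bidual_naturality S.g J).symm

theorem shortExact_bidual_target (S : ShortComplex (DRing.Cx A)) (hS : S.ShortExact)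
    (J : DRing.Cx A) (hJ : ∀ q, Injective (J.X q)) : (homSC (homSC S J) J).ShortExact :=
  shortExact_homSC_of_injective _ (shortExact_homSC_of_injective S hS J hJ) J hJ

/-- terms of the single complex away from the degree are zero -/
theorem isZero_single_X (M : ModuleCat.{u} A) (t p : ℤ) (h : p ≠ t) :
    IsZero (((HomologicalComplex.single (ModuleCat.{u} A) (ComplexShape.up ℤ) t).obj M).X p) :=
  HomologicalComplex.isZero_single_obj_X (ComplexShape.up ℤ) t M p h

/-- (MODE) -/
theorem epi_homologyMap_bidual_single [IsNoetherianRing A] (J : DRing.Cx A)
    (hJ : ∀ q, Injective (J.X q)) (a b : ℤ) (hab : ∀ q : ℤ, q < a ∨ b < q → IsZero (J.X q))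
    (hF : ∀ (r : ℕ) (t : ℤ), QuasiIso (bidual
      ((HomologicalComplex.single (ModuleCat.{u} A) (ComplexShape.up ℤ) t).obj
        (ModuleCat.of A (Fin r → A))) J)) :
    ∀ (k : ℤ) (N : Type u) [AddCommGroup N] [Module A N] [Module.Finite A N] (t : ℤ),
      Epi (HomologicalComplex.homologyMap (bidual
        ((HomologicalComplex.single (ModuleCat.{u} A) (ComplexShape.up ℤ) t).obj
          (ModuleCat.of A N)) J) (t + k)) := by
  -- descending induction
  have key : ∀ (d : ℕ) (k : ℤ), b - a < k + d →
      ∀ (N : Type u) [AddCommGroup N] [Module A N] [Module.Finite A N] (t : ℤ),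
      Epi (HomologicalComplex.homologyMap (bidual
        ((HomologicalComplex.single (ModuleCat.{u} A) (ComplexShape.up ℤ) t).obj
          (ModuleCat.of A N)) J) (t + k)) := by
    intro d
    induction d with
    | zero =>
      intro k hk N _ _ _ t
      have hk' : b - a < k := by simpa using hk
      -- the target homology vanishes
      set L := (HomologicalComplex.single (ModuleCat.{u} A) (ComplexShape.up ℤ) t).obj
        (ModuleCat.of A N) with hL
      have hF1 : ∀ q : ℤ, q < a - t → IsZero ((DRing.homCx L J).X q) := by
        intro q hq
        refine isZero_homCx_X L J q (fun p => ?_)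
        by_cases hp : p = t
        · right
          exact hab _ (Or.inl (by omega))
        · left
          exact isZero_single_X _ t p hp
      have hG : IsZero ((DRing.homCx (DRing.homCx L J) J).X (t + k)) := by
        refine isZero_homCx_X _ J (t + k) (fun p => ?_)
        by_cases hp : p < a - t
        · left; exact hF1 p hp
        · right; exact hab _ (Or.inr (by omega))
      have hz : IsZero ((DRing.homCx (DRing.homCx L J) J).homology (t + k)) :=
        (exactAt_iff_isZero_homology _ _).1 (HomologicalComplex.ExactAt.of_isZero hG)
      exact hz.epi _
    | succ d ih =>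
      intro k hk N _ _ _ t
      have ih' := ih (k + 1) (by push_cast at hk; omega)
      obtain ⟨r, N', _, _, _, i, p, w, hS⟩ :=
        Groth.Agent.H73.BD_PRES.exists_presentation_ses (A := A) N t
      set S : ShortComplex (DRing.Cx A) := ShortComplex.mk
        ((HomologicalComplex.single (ModuleCat.{u} A) (ComplexShape.up ℤ) t).map i)
        ((HomologicalComplex.single (ModuleCat.{u} A) (ComplexShape.up ℤ) t).map p)
        (by rw [← Functor.map_comp, w, Functor.map_zero]) with hSdef
      have hS' := shortExact_bidual_target S hS J hJ
      have hq2 : QuasiIso (bidualSC S J).τ₂ := hF r t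
      have := HomologicalComplex.HomologySequence.epi_homologyMap_τ₃ (bidualSC S J) hS hS'
        (t + k) inferInstance
        (fun j hj => by
          have hj' : t + k + 1 = j := hj
          subst hj'
          have := ih' N' t
          rw [show t + k + 1 = t + (k + 1) by ring]
          exact this)
        (fun j _ => inferInstance)
      exact this
  intro k N _ _ _ t
  exact key (b - a + 1 - k).toNat k (by omega) N t

end Groth.Agent.H29.BD_MODE
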