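import Mathlib
import Groth.Agent.H29.BD_MODE

/-!
# (MODM) for the S1819 squad (helper29)
-/

set_option autoImplicit false
set_option maxHeartbeats 400000
set_option linter.style.haveILetI false
universe u
open CategoryTheory CategoryTheory.Limits HomologicalComplex CochainComplex
open CochainComplex.HomComplex
attribute [local instance] HasDerivedCategory.standard
open Groth.Agent.H33.TensorHom Groth.Agent.H33.Bidual Groth.Agent.H46.BD
open Groth.Agent.H29.BD_MODE

namespace Groth.Agent.H29.BD_MODM

variable {A : Type u} [CommRing A]

/-- homology of a single complex away from the degree is zero -/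
theorem isZero_single_homology (M : ModuleCat.{u} A) (t p : ℤ) (h : p ≠ t) :
    IsZero (((HomologicalComplex.single (ModuleCat.{u} A) (ComplexShape.up ℤ) t).obj
      M).homology p) :=
  (exactAt_iff_isZero_homology _ _).1
    (HomologicalComplex.ExactAt.of_isZero (isZero_single_X M t p h))

/-- (MODM) -/
theorem mono_homologyMap_bidual_single [IsNoetherianRing A] (J : DRing.Cx A)
    (hJ : ∀ q, Injective (J.X q))
    (hF : ∀ (r : ℕ) (t : ℤ), QuasiIso (bidual
      ((HomologicalComplex.single (ModuleCat.{u} A) (ComplexShape.up ℤ) t).obj
        (ModuleCat.of A (Fin r → A))) J))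
    (hE : ∀ (k : ℤ) (N : Type u) [AddCommGroup N] [Module A N] [Module.Finite A N] (t : ℤ),
      Epi (HomologicalComplex.homologyMap (bidual
        ((HomologicalComplex.single (ModuleCat.{u} A) (ComplexShape.up ℤ) t).obj
          (ModuleCat.of A N)) J) (t + k))) :
    ∀ (k : ℤ) (N : Type u) [AddCommGroup N] [Module A N] [Module.Finite A N] (t : ℤ),
      Mono (HomologicalComplex.homologyMap (bidual
        ((HomologicalComplex.single (ModuleCat.{u} A) (ComplexShape.up ℤ) t).obj
          (ModuleCat.of A N)) J) (t + k)) := by
  intro k N _ _ _ t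
  by_cases hk : k = 0
  · subst hk
    obtain ⟨r, N', _, _, _, i, p, w, hS⟩ :=
      Groth.Agent.H73.BD_PRES.exists_presentation_ses (A := A) N t
    set S : ShortComplex (DRing.Cx A) := ShortComplex.mk
      ((HomologicalComplex.single (ModuleCat.{u} A) (ComplexShape.up ℤ) t).map i)
      ((HomologicalComplex.single (ModuleCat.{u} A) (ComplexShape.up ℤ) t).map p)
      (by rw [← Functor.map_comp, w, Functor.map_zero]) with hSdef
    have hS' := shortExact_bidual_target S hS J hJ
    have hq2 : QuasiIso (bidualSC S J).τ₂ := hF r t
    have h1 : Epi (HomologicalComplex.homologyMap (bidualSC S J).τ₁ (t + 0)) := hE 0 N' t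
    have := HomologicalComplex.HomologySequence.mono_homologyMap_τ₃ (bidualSC S J) hS hS'
      (t + 0) h1 inferInstance
      (fun j hj => by
        have hj' : t + 0 + 1 = j := hj
        subst hj'
        exact (isZero_single_homology (ModuleCat.of A N') t (t + 0 + 1) (by omega)).mono _)
    exact this
  · exact (isZero_single_homology (ModuleCat.of A N) t (t + k) (by omega)).mono _

end Groth.Agent.H29.BD_MODM
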