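import Groth.Agent.H29.ExalSplit
import Groth.Prelude.Def_Exal3
import Mathlib.RingTheory.Kaehler.Basic
import Mathlib.RingTheory.TensorProduct.Basic
import Mathlib.Tactic.LinearCombination
import Mathlib.Tactic.Ring

set_option autoImplicit false
universe u v

namespace Groth.Agent.H29.CharHomLib

open Exal TensorProduct Groth.Agent.H29.ExalAPI

attribute [local instance] Exal.opModule Exal.isCentralScalar_opModule

section Basic

variable (A : Type u) {B C L : Type v} [CommRing A] [CommRing B] [CommRing C] [Algebra A B]
  [Algebra B C] [Algebra A C] [IsScalarTower A B C] [AddCommGroup L] [Module C L] (X : Ext B C L)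

theorem algebraMap_carrier_C (e : X.CharCarrier A) :
    algebraMap (X.CharCarrier A) C e = X.proj e := rfl

theorem deltaL_apply (z : L) :
    X.deltaL A z =
      (1 : C) ⊗ₜ[X.CharCarrier A] KaehlerDifferential.D A (X.CharCarrier A) (X.incl z) := rfl

theorem baseChangeToMiddle_tmul (c : C) (ω : Ω[B⁄A]) :
    X.baseChangeToMiddle A (c ⊗ₜ ω) =
      c ⊗ₜ[X.CharCarrier A] KaehlerDifferential.map A A B (X.CharCarrier A) ω := rfl

/-- Induction principle: the tensor product `C ⊗ Ω` is generated by the `c ⊗ d b`. -/
theorem tensor_kaehler_induction {P : C ⊗[B] Ω[B⁄A] → Prop} (h0 : P 0)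
    (hadd : ∀ x y, P x → P y → P (x + y))
    (hgen : ∀ (c : C) (b : B), P (c ⊗ₜ KaehlerDifferential.D A B b)) (t : C ⊗[B] Ω[B⁄A]) : P t := by
  induction t using TensorProduct.induction_on with
  | zero => exact h0
  | add x y hx hy => exact hadd x y hx hy
  | tmul c ω =>
    have hω : ω ∈ Submodule.span B (Set.range (KaehlerDifferential.D A B)) := by
      rw [KaehlerDifferential.span_range_derivation]; trivial
    revert c
    refine Submodule.span_induction (p := fun ω _ => ∀ c : C, P (c ⊗ₜ ω)) ?_ ?_ ?_ ?_ hω
    · rintro _ ⟨b, rfl⟩ c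
      exact hgen c b
    · intro c
      rw [tmul_zero]
      exact h0
    · intro x y _ _ hx hy c
      rw [tmul_add]
      exact hadd _ _ (hx c) (hy c)
    · intro b x _ hx c
      rw [← smul_tmul]
      exact hx (b • c)

theorem exists_deltaL_eq (t : C ⊗[X.CharCarrier A] Ω[X.CharCarrier A⁄A])
    (ht : KaehlerDifferential.mapBaseChange A (X.CharCarrier A) C t = 0) :
    ∃ z : L, X.deltaL A z = t := by
  have hsurj : Function.Surjective (algebraMap (X.CharCarrier A) C) :=
    X.isExtension.proj_surjective
  obtain ⟨c, rfl⟩ :=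
    (KaehlerDifferential.exact_kerCotangentToTensor_mapBaseChange A (X.CharCarrier A) C hsurj t).1 ht
  obtain ⟨x, rfl⟩ := Ideal.toCotangent_surjective _ c
  have hx : X.proj x.1 = 0 := RingHom.mem_ker.1 x.2
  obtain ⟨z, hz⟩ := (X.isExtension.exact _).1 hx
  refine ⟨z, ?_⟩
  rw [KaehlerDifferential.kerCotangentToTensor_toCotangent, deltaL_apply, hz]

theorem mapBaseChange_baseChangeToMiddle (t : C ⊗[B] Ω[B⁄A]) :
    KaehlerDifferential.mapBaseChange A (X.CharCarrier A) C (X.baseChangeToMiddle A t) =
      KaehlerDifferential.mapBaseChange A B C t := by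
  refine tensor_kaehler_induction A
    (P := fun t => KaehlerDifferential.mapBaseChange A (X.CharCarrier A) C
      (X.baseChangeToMiddle A t) = KaehlerDifferential.mapBaseChange A B C t) ?_ ?_ ?_ t
  · rw [map_zero, map_zero, map_zero]
  · intro x y hx hy
    rw [map_add, map_add, map_add, hx, hy]
  · intro c b
    rw [baseChangeToMiddle_tmul, KaehlerDifferential.mapBaseChange_tmul,
      KaehlerDifferential.mapBaseChange_tmul, KaehlerDifferential.map_D, KaehlerDifferential.map_D,
      KaehlerDifferential.map_D, ← IsScalarTower.algebraMap_apply B (X.CharCarrier A) C]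

/-- Section data: a ring section of the projection compatible with the base ring `A`. -/
structure SecData where
  r : C →+* X.E
  hr : ∀ c, X.proj (r c) = c
  hrA : ∀ a : A, r (algebraMap A C a) = algebraMap B X.E (algebraMap A B a)

theorem isTrivialOver_iff : X.IsTrivialOver A ↔ Nonempty (SecData A X) := by
  constructor
  · rintro ⟨s, hs⟩
    exact ⟨⟨s.toRingHom, hs, fun a => s.commutes a⟩⟩
  · rintro ⟨S⟩
    let r' : C →+* X.RestrictCarrier A := S.r
    exact ⟨{ toRingHom := r', commutes' := fun a => S.hrA a }, S.hr⟩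

variable {A X}

theorem exists_retraction (S : SecData A X) :
    ∃ ρ : C ⊗[X.CharCarrier A] Ω[X.CharCarrier A⁄A] →ₗ[C] L,
      ∀ (c : C) (e : X.CharCarrier A),
        ρ (c ⊗ₜ[X.CharCarrier A] KaehlerDifferential.D A (X.CharCarrier A) e) =
          c • sigma X S.r S.hr e := by
  letI mE : Module (X.CharCarrier A) L := Module.compHom L (algebraMap (X.CharCarrier A) C)
  letI mA : Module A L := Module.compHom L (algebraMap A C)
  haveI t1 : IsScalarTower (X.CharCarrier A) C L :=
    IsScalarTower.of_algebraMap_smul (fun _ _ => rfl)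
  have hsm : ∀ (e : X.CharCarrier A) (l : L), e • l = X.proj e • l := fun _ _ => rfl
  have hsmA : ∀ (a : A) (l : L), a • l = algebraMap A C a • l := fun _ _ => rfl
  haveI t2 : IsScalarTower A (X.CharCarrier A) L := ⟨fun a e l => by
    rw [hsm, hsmA, hsm, ← algebraMap_carrier_C, ← algebraMap_carrier_C, Algebra.smul_def, map_mul,
      mul_smul, ← IsScalarTower.algebraMap_apply A (X.CharCarrier A) C]⟩
  let lin : X.CharCarrier A →ₗ[A] L :=
    { toFun := fun e => sigma X S.r S.hr e
      map_add' := fun e e' => sigma_add X S.r S.hr e e'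
      map_smul' := fun a e => by
        have h1 : sigma X S.r S.hr (a • e) =
            X.proj (algebraMap A (X.CharCarrier A) a) • sigma X S.r S.hr e +
              X.proj e • sigma X S.r S.hr (algebraMap A (X.CharCarrier A) a) := by
          rw [Algebra.smul_def]
          exact sigma_mul X S.r S.hr _ _
        have h2 : sigma X S.r S.hr (algebraMap A (X.CharCarrier A) a) = 0 := by
          have h3 : (algebraMap A (X.CharCarrier A) a : X.E) = S.r (algebraMap A C a) :=
            (S.hrA a).symm
          rw [h3, sigma_section]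
        have h4 : X.proj (algebraMap A (X.CharCarrier A) a) = algebraMap A C a := by
          rw [← algebraMap_carrier_C, ← IsScalarTower.algebraMap_apply A (X.CharCarrier A) C]
        rw [RingHom.id_apply, h1, h2, smul_zero, add_zero, h4, hsmA] }
  let d' : Derivation A (X.CharCarrier A) L := Derivation.mk' lin (fun x y => by
    change sigma X S.r S.hr (x * y) = x • sigma X S.r S.hr y + y • sigma X S.r S.hr x
    rw [hsm, hsm]
    exact sigma_mul X S.r S.hr x y)
  refine ⟨LinearMap.liftBaseChange C d'.liftKaehlerDifferential, fun c e => ?_⟩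
  rw [LinearMap.liftBaseChange_tmul, Derivation.liftKaehlerDifferential_comp_D]
  rfl

theorem deltaL_injective (S : SecData A X) : Function.Injective (X.deltaL A) := by
  obtain ⟨ρ, hρ⟩ := exists_retraction S
  intro z z' h
  have h1 := congrArg ρ h
  rw [deltaL_apply, deltaL_apply, hρ, hρ, one_smul, one_smul, sigma_incl, sigma_incl] at h1
  exact h1

end Basic

section Der

variable (A : Type u) {B C L : Type v} [CommRing A] [CommRing B] [CommRing C] [Algebra A B]
  [Algebra B C] [Algebra A C] [IsScalarTower A B C] [AddCommGroup L] [Module C L]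
  [Module B L] [IsScalarTower B C L] [Module A L] [IsScalarTower A B L] [IsScalarTower A C L]

variable {A} {X : Ext B C L}

theorem sigma_algebraMap_A (S : SecData A X) (a : A) :
    sigma X S.r S.hr (algebraMap B X.E (algebraMap A B a)) = 0 := by
  rw [← S.hrA, sigma_section]

theorem sigma_algebraMap_mul (S : SecData A X) (b b' : B) :
    sigma X S.r S.hr (algebraMap B X.E (b * b')) =
      b • sigma X S.r S.hr (algebraMap B X.E b') + b' • sigma X S.r S.hr (algebraMap B X.E b) := by
  rw [map_mul, sigma_mul, AlgHom.commutes, AlgHom.commutes, algebraMap_smul, algebraMap_smul]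

/-- The derivation attached to section data. -/
noncomputable def derOf (S : SecData A X) : Derivation A B L :=
  Derivation.mk'
    { toFun := fun b => sigma X S.r S.hr (algebraMap B X.E b)
      map_add' := fun b b' => by rw [map_add, sigma_add]
      map_smul' := fun a b => by
        rw [Algebra.smul_def, sigma_algebraMap_mul, sigma_algebraMap_A, smul_zero, add_zero,
          RingHom.id_apply, algebraMap_smul] }
    (sigma_algebraMap_mul S)

theorem derOf_apply (S : SecData A X) (b : B) :
    derOf S b = sigma X S.r S.hr (algebraMap B X.E b) := rfl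

theorem equiv_ofDerivation (S : SecData A X) :
    Nonempty (X.Equiv (Ext.ofDerivation (C := C) (derOf S))) := by
  let e : X.E ≃+* (Ext.ofDerivation (C := C) (derOf S)).E := splitEquiv X S.r S.hr
  have he : ∀ x, e x = splitHom X S.r S.hr x := fun x => rfl
  refine ⟨⟨AlgEquiv.ofRingEquiv (f := e) (fun b => ?_), fun x => ?_, fun z => ?_⟩⟩
  · rw [he, splitHom_apply, AlgHom.commutes, ← derOf_apply]
    rfl
  · change TrivSqZeroExt.fst (splitHom X S.r S.hr x) = X.proj x
    rw [fst_splitHom]
  · change splitHom X S.r S.hr (X.incl z) = TrivSqZeroExt.inr z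
    rw [splitHom_incl]

theorem nonempty_equiv_of_derOf_eq {Y : Ext B C L} (S : SecData A X) (T : SecData A Y)
    (h : derOf S = derOf T) : Nonempty (X.Equiv Y) := by
  obtain ⟨e⟩ := equiv_ofDerivation S
  obtain ⟨f⟩ := equiv_ofDerivation T
  rw [h] at e
  exact ⟨e.trans f.symm⟩

/-- Change of the section by a derivation of the quotient. -/
noncomputable def SecData.twist (S : SecData A X) (D' : Derivation A C L) : SecData A X where
  r :=
    { toFun := fun c => S.r c + X.incl (D' c)
      map_one' := by rw [map_one, Derivation.map_one_eq_zero, map_zero, add_zero]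
      map_mul' := fun c c' => by
        rw [map_mul, Derivation.leibniz, map_add]
        have h1 : X.incl (c • D' c') = S.r c * X.incl (D' c') := by
          rw [X.isExtension.mul_incl, S.hr]
        have h2 : X.incl (c' • D' c) = S.r c' * X.incl (D' c) := by
          rw [X.isExtension.mul_incl, S.hr]
        have h3 := incl_mul_incl X (D' c) (D' c')
        rw [h1, h2]
        linear_combination (-1 : X.E) * h3
      map_zero' := by rw [map_zero, map_zero, map_zero, add_zero]
      map_add' := fun c c' => by
        rw [map_add, map_add, map_add]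
        ring }
  hr := fun c => by
    change X.proj (S.r c + X.incl (D' c)) = c
    rw [map_add, S.hr, proj_incl, add_zero]
  hrA := fun a => by
    change S.r (algebraMap A C a) + X.incl (D' (algebraMap A C a)) = _
    rw [Derivation.map_algebraMap, map_zero, add_zero, S.hrA]

theorem SecData.twist_r (S : SecData A X) (D' : Derivation A C L) (c : C) :
    (S.twist D').r c = S.r c + X.incl (D' c) := rfl

theorem derOf_twist (S : SecData A X) (D' : Derivation A C L) (b : B) :
    derOf (S.twist D') b = derOf S b - D' (algebraMap B C b) := by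
  apply X.isExtension.incl_injective
  rw [derOf_apply, derOf_apply, incl_sigma, map_sub, incl_sigma, SecData.twist_r, AlgHom.commutes]
  ring

/-- The linear map on `C ⊗ Ω` induced by a derivation. -/
noncomputable def phiOf (D : Derivation A B L) : C ⊗[B] Ω[B⁄A] →ₗ[C] L :=
  LinearMap.liftBaseChange C D.liftKaehlerDifferential

theorem phiOf_tmul_D (D : Derivation A B L) (c : C) (b : B) :
    phiOf (C := C) D (c ⊗ₜ KaehlerDifferential.D A B b) = c • D b := by
  rw [phiOf, LinearMap.liftBaseChange_tmul, Derivation.liftKaehlerDifferential_comp_D]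

theorem linearMap_ext_tensor_kaehler {f g : C ⊗[B] Ω[B⁄A] →ₗ[C] L}
    (h : ∀ b : B, f (1 ⊗ₜ KaehlerDifferential.D A B b) = g (1 ⊗ₜ KaehlerDifferential.D A B b)) :
    f = g := by
  apply LinearMap.ext
  intro t
  refine tensor_kaehler_induction A (P := fun t => f t = g t) ?_ ?_ ?_ t
  · rw [map_zero, map_zero]
  · intro x y hx hy
    rw [map_add, map_add, hx, hy]
  · intro c b
    have h1 : c ⊗ₜ[B] KaehlerDifferential.D A B b = c • ((1 : C) ⊗ₜ[B] KaehlerDifferential.D A B b) := by
      rw [smul_tmul', smul_eq_mul, mul_one]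
    rw [h1, map_smul, map_smul, h]

theorem rho_baseChangeToMiddle (S : SecData A X)
    (ρ : C ⊗[X.CharCarrier A] Ω[X.CharCarrier A⁄A] →ₗ[C] L)
    (hρ : ∀ (c : C) (e : X.CharCarrier A),
        ρ (c ⊗ₜ[X.CharCarrier A] KaehlerDifferential.D A (X.CharCarrier A) e) =
          c • sigma X S.r S.hr e) (t : C ⊗[B] Ω[B⁄A]) :
    ρ (X.baseChangeToMiddle A t) = phiOf (C := C) (derOf S) t := by
  refine tensor_kaehler_induction A
    (P := fun t => ρ (X.baseChangeToMiddle A t) = phiOf (C := C) (derOf S) t) ?_ ?_ ?_ t
  · rw [map_zero, map_zero, map_zero]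
  · intro x y hx hy
    rw [map_add, map_add, map_add, hx, hy]
  · intro c b
    rw [baseChangeToMiddle_tmul, KaehlerDifferential.map_D, hρ, phiOf_tmul_D, derOf_apply]
    rfl

theorem isCharHom_iff (S : SecData A X) (χ : ↥(EGA41.imperfection A B C) →ₗ[C] L) :
    X.IsCharHom A χ ↔ ∀ z : ↥(EGA41.imperfection A B C),
      χ z = phiOf (C := C) (derOf S) (z : C ⊗[B] Ω[B⁄A]) := by
  obtain ⟨ρ, hρ⟩ := exists_retraction S
  have hρδ : ∀ l : L, ρ (X.deltaL A l) = l := by
    intro l
    rw [deltaL_apply, hρ, one_smul, sigma_incl]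
  constructor
  · intro h z
    have h1 := congrArg ρ (h z)
    rw [hρδ, rho_baseChangeToMiddle S ρ hρ] at h1
    exact h1
  · intro h z
    have hz : KaehlerDifferential.mapBaseChange A B C (z : C ⊗[B] Ω[B⁄A]) = 0 := z.2
    obtain ⟨l, hl⟩ := exists_deltaL_eq A X (X.baseChangeToMiddle A (z : C ⊗[B] Ω[B⁄A]))
      (by rw [mapBaseChange_baseChangeToMiddle, hz])
    have h2 : χ z = l := by
      rw [h z, ← rho_baseChangeToMiddle S ρ hρ, ← hl, hρδ]
    rw [h2, hl]

/-- Section data of the extension attached to a derivation. -/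
noncomputable def secDataOfDerivation (D : Derivation A B L) :
    SecData A (Ext.ofDerivation (C := C) D) where
  r := TrivSqZeroExt.inlHom C L
  hr := fun _ => rfl
  hrA := fun a => by
    change TrivSqZeroExt.inl (algebraMap A C a) =
      TrivSqZeroExt.inl (algebraMap B C (algebraMap A B a)) +
        TrivSqZeroExt.inr (D (algebraMap A B a))
    rw [Derivation.map_algebraMap, TrivSqZeroExt.inr_zero, add_zero,
      ← IsScalarTower.algebraMap_apply A B C]

theorem derOf_secDataOfDerivation (D : Derivation A B L) :
    derOf (secDataOfDerivation (C := C) D) = D := by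
  ext b
  apply (Ext.ofDerivation (C := C) D).isExtension.incl_injective
  rw [derOf_apply, incl_sigma, AlgHom.commutes]
  change (TrivSqZeroExt.inl (algebraMap B C b) + TrivSqZeroExt.inr (D b)) -
    TrivSqZeroExt.inl (algebraMap B C b) = TrivSqZeroExt.inr (D b)
  abel

theorem isCharHom_ofDerivation_iff (D : Derivation A B L)
    (χ : ↥(EGA41.imperfection A B C) →ₗ[C] L) :
    (Ext.ofDerivation (C := C) D).IsCharHom A χ ↔ ∀ z : ↥(EGA41.imperfection A B C),
      χ z = phiOf (C := C) D (z : C ⊗[B] Ω[B⁄A]) := by
  rw [isCharHom_iff (secDataOfDerivation (C := C) D), derOf_secDataOfDerivation]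

theorem isTrivialOver_ofDerivation (D : Derivation A B L) :
    (Ext.ofDerivation (C := C) D).IsTrivialOver A :=
  (isTrivialOver_iff A _).2 ⟨secDataOfDerivation (C := C) D⟩

end Der

end Groth.Agent.H29.CharHomLib
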