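import Groth.Agent.H29.CharHom
import Mathlib.Algebra.Module.Injective
import Mathlib.LinearAlgebra.Isomorphisms

set_option autoImplicit false
universe u v

namespace Groth.Agent.H29.CharHomLib

section Factor

variable {R : Type u} [CommRing R] {P Q L : Type v} [AddCommGroup P] [AddCommGroup Q]
  [AddCommGroup L] [Module R P] [Module R Q] [Module R L]

theorem exists_factor_range (v : P →ₗ[R] Q) (φ : P →ₗ[R] L)
    (h : LinearMap.ker v ≤ LinearMap.ker φ) :
    ∃ φ' : LinearMap.range v →ₗ[R] L, ∀ t, φ' ⟨v t, LinearMap.mem_range_self v t⟩ = φ t := by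
  refine ⟨(Submodule.liftQ (LinearMap.ker v) φ h).comp
    (v.quotKerEquivRange.symm : LinearMap.range v →ₗ[R] P ⧸ LinearMap.ker v), fun t => ?_⟩
  rw [LinearMap.comp_apply, LinearEquiv.coe_coe, LinearMap.quotKerEquivRange_symm_apply_image]
  rfl

theorem exists_factor_of_injective [Module.Injective R L] (v : P →ₗ[R] Q) (φ : P →ₗ[R] L)
    (h : LinearMap.ker v ≤ LinearMap.ker φ) : ∃ ψ : Q →ₗ[R] L, ∀ t, ψ (v t) = φ t := by
  obtain ⟨φ', hφ'⟩ := exists_factor_range v φ h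
  obtain ⟨ψ, hψ⟩ := Module.Injective.out (LinearMap.range v).subtype Subtype.val_injective φ'
  refine ⟨ψ, fun t => ?_⟩
  rw [← hφ' t, ← hψ]
  rfl

theorem exists_factor_of_proj (v : P →ₗ[R] Q) (φ : P →ₗ[R] L)
    (h : LinearMap.ker v ≤ LinearMap.ker φ) (pr : Q →ₗ[R] Q)
    (hpr1 : ∀ q, pr q ∈ LinearMap.range v) (hpr2 : ∀ t, pr (v t) = v t) :
    ∃ ψ : Q →ₗ[R] L, ∀ t, ψ (v t) = φ t := by
  obtain ⟨φ', hφ'⟩ := exists_factor_range v φ h
  refine ⟨φ'.comp (pr.codRestrict (LinearMap.range v) hpr1), fun t => ?_⟩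
  rw [LinearMap.comp_apply, ← hφ' t]
  congr 1
  exact Subtype.ext (hpr2 t)

end Factor

end Groth.Agent.H29.CharHomLib
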