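import Groth.Agent.H29.DepthFinLoc
import Groth.Agent.H9.DimFormulaLoc
import Groth.Prelude.Def_DualLC

/-!
# The cutoff invariant `s_{A,I}(M)` is insensitive to finite ring maps (helper29)
-/

set_option autoImplicit false
set_option linter.style.haveILetI false
set_option linter.unusedSectionVars false
set_option maxHeartbeats 400000

universe u

open Groth.Agent.H9.DimFormulaRing

namespace Groth.Agent.H29.CutoffFinite

section Height

variable {C : Type u} [CommRing C]

/-- The height of `Q` in the poset of primes above `P` is the height of `Q/P` in `C/P`. -/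
theorem height_Ici_eq (P Q : PrimeSpectrum C) (h : P ≤ Q) :
    Order.height (⟨Q, h⟩ : Set.Ici P) = (Q.asIdeal.map (Ideal.Quotient.mk P.asIdeal)).height := by
  have hPQ : P.asIdeal ≤ Q.asIdeal := (PrimeSpectrum.asIdeal_le_asIdeal P Q).mpr h
  haveI hpr : (Q.asIdeal.map (Ideal.Quotient.mk P.asIdeal)).IsPrime :=
    map_mk_isPrime P.asIdeal Q.asIdeal hPQ
  have hset : PrimeSpectrum.zeroLocus (P.asIdeal : Set C) = Set.Ici P := by
    ext x
    rw [PrimeSpectrum.mem_zeroLocus, Set.mem_Ici, SetLike.coe_subset_coe,
      PrimeSpectrum.asIdeal_le_asIdeal]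
  let e := (Ideal.primeSpectrumQuotientOrderIsoZeroLocus P.asIdeal).trans
    (OrderIso.setCongr _ _ hset)
  let x : PrimeSpectrum (C ⧸ P.asIdeal) := ⟨Q.asIdeal.map (Ideal.Quotient.mk P.asIdeal), hpr⟩
  have hx : e x = ⟨Q, h⟩ := by
    apply Subtype.ext
    apply PrimeSpectrum.ext
    exact comap_map_mk P.asIdeal Q.asIdeal hPQ
  rw [← hx, Order.height_orderIso e x, ← PrimeSpectrum.height_eq_orderHeight]

end Height

section KL2

theorem comap_le_comap {A B : Type u} [CommRing A] [CommRing B] (f : A →+* B)
    {P Q : PrimeSpectrum B} (h : P ≤ Q) : PrimeSpectrum.comap f P ≤ PrimeSpectrum.comap f Q :=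
  (PrimeSpectrum.asIdeal_le_asIdeal _ _).mp
    (Ideal.comap_mono ((PrimeSpectrum.asIdeal_le_asIdeal P Q).mpr h))

variable {A B : Type u} [CommRing A] [CommRing B] [Algebra A B] [IsNoetherianRing A]
  [Module.Finite A B]

theorem td_eq_zero (Q : Ideal B) [Q.IsPrime] : td A Q = 0 := by
  haveI : Algebra.IsIntegral A B := Algebra.IsIntegral.of_finite A B
  haveI : Algebra.IsIntegral (A ⧸ Q.under A) (B ⧸ Q) :=
    Ideal.Quotient.algebra_isIntegral_of_liesOver Q (Q.under A)
  haveI : Algebra.IsAlgebraic (A ⧸ Q.under A) (B ⧸ Q) := Algebra.IsIntegral.isAlgebraic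
  unfold td
  rw [trdeg_eq_zero]
  simp

/-- Relative heights are preserved by contraction along a finite map out of a universally catenary
ring. -/
theorem height_Ici_comap_eq (hA : CAlg.IsUniversallyCatenary A) (P Q : PrimeSpectrum B)
    (h : P ≤ Q) :
    Order.height (⟨PrimeSpectrum.comap (algebraMap A B) Q,
        comap_le_comap (algebraMap A B) h⟩ :
        Set.Ici (PrimeSpectrum.comap (algebraMap A B) P)) =
      Order.height (⟨Q, h⟩ : Set.Ici P) := by
  rw [height_Ici_eq, height_Ici_eq]
  have hPQ : P.asIdeal ≤ Q.asIdeal := (PrimeSpectrum.asIdeal_le_asIdeal P Q).mpr h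
  haveI : Algebra.FiniteType A B := inferInstance
  have key := quot_eq (A := A) P.asIdeal Q.asIdeal hPQ
    (Groth.Agent.H9.DimFormulaLoc.isUniversallyCatenary_quotient hA _)
  rw [td_eq_zero, td_eq_zero] at key
  simp only [Nat.cast_zero, add_zero] at key
  exact key.symm

end KL2

section Main

variable (A B : Type u) [CommRing A] [CommRing B] [Algebra A B] [IsNoetherianRing A]
  [IsNoetherianRing B] [Module.Finite A B]

open Groth.Agent.H29.DepthFinLoc

theorem cutoff_eq (hA : CAlg.IsUniversallyCatenary A) (I : Ideal A) (M : Type u)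
    [AddCommGroup M] [Module B M] [Module A M] [IsScalarTower A B M] [Module.Finite B M] :
    Dual2.cutoff B (I.map (algebraMap A B)) M = Dual2.cutoff A I M := by
  haveI : Algebra.IsIntegral A B := Algebra.IsIntegral.of_finite A B
  unfold Dual2.cutoff
  apply le_antisymm
  · -- every `A`-term dominates some `B`-term
    refine le_iInf fun p => le_iInf fun q => le_iInf fun hpq => le_iInf fun hp => le_iInf fun hq => ?_
    by_cases htop : LocCoh.depth (Localization.AtPrime p.asIdeal)
        (LocalizedModule p.asIdeal.primeCompl M) = ⊤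
    · rw [htop, top_add]
      exact le_top
    · obtain ⟨P, hPprime, hP, hdle⟩ := exists_prime_depth_le (B := B) p.asIdeal M htop
      haveI := hPprime
      have hle : P.comap (algebraMap A B) ≤ q.asIdeal := by
        rw [hP]
        exact (PrimeSpectrum.asIdeal_le_asIdeal p q).mpr hpq
      obtain ⟨Q, hPQ, hQprime, hQ⟩ :=
        Ideal.exists_ideal_over_prime_of_isIntegral_of_isPrime q.asIdeal P hle
      let P' : PrimeSpectrum B := ⟨P, hPprime⟩
      let Q' : PrimeSpectrum B := ⟨Q, hQprime⟩
      have hP'Q' : P' ≤ Q' := (PrimeSpectrum.asIdeal_le_asIdeal P' Q').mp hPQ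
      have hcp : PrimeSpectrum.comap (algebraMap A B) P' = p := PrimeSpectrum.ext hP
      have hcq : PrimeSpectrum.comap (algebraMap A B) Q' = q := PrimeSpectrum.ext hQ
      have hh := height_Ici_comap_eq hA P' Q' hP'Q'
      have hh' : Order.height (⟨q, hpq⟩ : Set.Ici p) = Order.height (⟨Q', hP'Q'⟩ : Set.Ici P') := by
        rw [← hh]
        subst hcp
        subst hcq
        rfl
      refine iInf_le_of_le P' (iInf_le_of_le Q' (iInf_le_of_le hP'Q' (iInf_le_of_le ?_
        (iInf_le_of_le ?_ ?_))))
      · intro hI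
        apply hp
        rw [← hP]
        exact Ideal.map_le_iff_le_comap.mp hI
      · rw [Ideal.map_le_iff_le_comap]
        show I ≤ Q.comap (algebraMap A B)
        rw [hQ]
        exact hq
      · rw [hh']
        exact add_le_add_left hdle _
  · -- every `B`-term dominates the corresponding `A`-term
    refine le_iInf fun P => le_iInf fun Q => le_iInf fun hPQ => le_iInf fun hP => le_iInf fun hQ => ?_
    refine iInf_le_of_le (PrimeSpectrum.comap (algebraMap A B) P)
      (iInf_le_of_le (PrimeSpectrum.comap (algebraMap A B) Q)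
        (iInf_le_of_le (comap_le_comap (algebraMap A B) hPQ)
          (iInf_le_of_le ?_ (iInf_le_of_le ?_ ?_))))
    · intro hI
      apply hP
      rw [Ideal.map_le_iff_le_comap]
      exact hI
    · show I ≤ Q.asIdeal.comap (algebraMap A B)
      rw [← Ideal.map_le_iff_le_comap]
      exact hQ
    · rw [height_Ici_comap_eq hA P Q hPQ]
      exact add_le_add_left
        (depth_le_depth_of_comap_eq (PrimeSpectrum.comap (algebraMap A B) P).asIdeal M P.asIdeal rfl) _

end Main

end Groth.Agent.H29.CutoffFinite
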