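import Mathlib
import Groth.Prelude.Def_Wider
import Groth.Prelude.Def_CAlg
import Groth.Prelude.Def_EGA4b
import Groth.Agent.H56.DerCat

/-!
# (DEV) for S18719: dévissage for morphisms out of a bounded object (backup copy)
-/

set_option autoImplicit false
set_option maxHeartbeats 400000
universe u
open CategoryTheory CategoryTheory.Limits DerivedCategory Pretriangulated

attribute [local instance] HasDerivedCategory.standard

namespace Groth.Agent.H29.DKS_DEV

open DerivedCategory.TStructure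


theorem hom_eq_zero_of_pieces (A : Type u) [CommRing A] (V : Dual.D A) :
    ∀ (n : ℕ) (X : Dual.D A) (a c : ℤ), c - a < n → X.IsGE a → X.IsLE c →
      (∀ j : ℤ, a ≤ j → j ≤ c → ∀ Z : Dual.D A, Z.IsGE j → Z.IsLE j →
        Nonempty ((homologyFunctor (ModuleCat.{u} A) j).obj Z ≅
          (homologyFunctor (ModuleCat.{u} A) j).obj X) →
        ∀ g : Z ⟶ V, g = 0) →
      ∀ f : X ⟶ V, f = 0 := by
  intro n
  induction n with
  | zero =>
    intro X a c hn hGE hLE _ f
    have : IsZero X := t.isZero X c a (by omega)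
    exact this.eq_of_src _ _
  | succ n ih =>
    intro X a c hn hGE hLE hyp f
    by_cases hca : c < a
    · have : IsZero X := t.isZero X c a hca
      exact this.eq_of_src _ _
    · have hT := t.triangleLTGE_distinguished c X
      have h1 : (t.truncLTι c).app X ≫ f = 0 := by
        apply ih ((t.truncLT c).obj X) a (c - 1) (by omega) inferInstance inferInstance
        intro j haj hjc Z hZGE hZLE ⟨e⟩ g'
        haveI := Groth.Agent.H56.isIso_homologyMap_truncLTι X c j (by omega)
        exact hyp j haj (by omega) Z hZGE hZLE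
          ⟨e ≪≫ asIso ((homologyFunctor (ModuleCat.{u} A) j).map ((t.truncLTι c).app X))⟩ g'
      obtain ⟨u, hu⟩ := Triangle.yoneda_exact₂ _ hT f h1
      have hu0 : u = 0 := by
        apply hyp c (by omega) le_rfl ((t.truncGE c).obj X) inferInstance inferInstance
        haveI := Groth.Agent.H56.isIso_homologyMap_truncGEπ X c c le_rfl
        exact ⟨(asIso ((homologyFunctor (ModuleCat.{u} A) c).map ((t.truncGEπ c).app X))).symm⟩
      rw [hu, hu0]
      exact comp_zero

theorem subsingleton_hom_of_cohomology (A : Type u) [CommRing A] (X W : Dual.D A) (a b : ℤ)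
    [X.IsGE a] [X.IsLE b] (j : ℤ)
    (h : ∀ i : ℤ, a ≤ i → i ≤ b → Subsingleton (Dual.inD A (Dual.HD A X i) ⟶ W⟦j + i⟧)) :
    Subsingleton (X ⟶ W⟦j⟧) := by
  refine ⟨fun f f' => ?_⟩
  have key : ∀ f : X ⟶ W⟦j⟧, f = 0 := by
    refine hom_eq_zero_of_pieces A (W⟦j⟧) (b - a + 1).toNat X a b (by omega) inferInstance
      inferInstance ?_
    intro i hai hib Z hZGE hZLE ⟨e⟩ g
    haveI := hZGE
    haveI := hZLE
    obtain ⟨e1⟩ := Groth.Agent.H56.nonempty_iso_single Z i
    -- `Z ≅ (single i)(H^i Z) ≅ (single i)(H^i X) ≅ (inD (H^i X))⟦-i⟧`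
    let e2 : (singleFunctor (ModuleCat.{u} A) i).obj
        ((homologyFunctor (ModuleCat.{u} A) i).obj Z) ≅
        (singleFunctor (ModuleCat.{u} A) i).obj ((homologyFunctor (ModuleCat.{u} A) i).obj X) :=
      (singleFunctor (ModuleCat.{u} A) i).mapIso e
    let e3 : ((singleFunctor (ModuleCat.{u} A) i).obj
        ((homologyFunctor (ModuleCat.{u} A) i).obj X))⟦i⟧ ≅
        (singleFunctor (ModuleCat.{u} A) 0).obj ((homologyFunctor (ModuleCat.{u} A) i).obj X) :=
      ((singleFunctors (ModuleCat.{u} A)).shiftIso i 0 i (by simp)).app _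
    let e4 : (W⟦j⟧)⟦i⟧ ≅ W⟦j + i⟧ :=
      ((shiftFunctorAdd' (Dual.D A) j i (j + i) rfl).app W).symm
    -- the morphism `(e1 ≪≫ e2).inv ≫ g`, shifted by `i`
    have hz := (h i hai hib).elim (e3.inv ≫ ((e1 ≪≫ e2).inv ≫ g)⟦i⟧' ≫ e4.hom) 0
    have h0 : ((e1 ≪≫ e2).inv ≫ g)⟦i⟧' = 0 := by
      rw [← cancel_epi e3.inv, ← cancel_mono e4.hom, Category.assoc, hz, comp_zero, zero_comp]
    have h00 : (e1 ≪≫ e2).inv ≫ g = 0 :=
      (shiftFunctor (Dual.D A) i).map_injective (by rw [h0, Functor.map_zero])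
    exact (cancel_epi (e1 ≪≫ e2).inv).1 (h00.trans comp_zero.symm)
  rw [key f, key f']

end Groth.Agent.H29.DKS_DEV
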