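import Mathlib
import Groth.Prelude.Def_Wider
import Groth.Prelude.Def_CAlg
import Groth.Prelude.Def_EGA4b
import Groth.Agent.H13.DKS_EQ1
import Groth.Agent.H13.DKS_EQ2
import Groth.Agent.H46.DimFun

set_option autoImplicit false
universe u
open CategoryTheory CategoryTheory.Limits DerivedCategory Pretriangulated
attribute [local instance] HasDerivedCategory.standard

namespace Groth.Agent.H29.DKS_EQ

/-- (EQ) an `S₂` Noetherian local ring with a dualizing complex is equidimensional. -/
theorem isEquidim_of_hasSk_two (A : Type u) [CommRing A] [IsNoetherianRing A] [IsLocalRing A]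
    (ω : Dual.D A) (hω : Dual.IsDualizing A ω) (hS2 : LocCoh.HasSk 2 A A) :
    EGA4.IsEquidim A := by
  obtain ⟨δ, -, hcov⟩ := Groth.Agent.H46.DimFun.exists_dimFun ω hω
  exact Groth.Agent.H13.DKS.isEquidim_of_dimFun A δ hcov
    (Groth.Agent.H13.DKS.dimFun_const_on_minimalPrimes A hS2 δ hcov)

end Groth.Agent.H29.DKS_EQ
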