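import Mathlib
import Groth.Prelude.Def_Wider
import Groth.Prelude.Def_CAlg
import Groth.Prelude.Def_EGA4b
import Groth.Agent.S18717
import Groth.Agent.H12.HomSingleRing
import Groth.Agent.H12.DualDepthMain

set_option autoImplicit false
set_option maxHeartbeats 400000
set_option linter.style.haveILetI false
universe u
open CategoryTheory CategoryTheory.Limits DerivedCategory Pretriangulated
attribute [local instance] HasDerivedCategory.standard

namespace Groth.Agent.H29.DKS_VAN

open Groth.Agent.H12.DualDepth

theorem subsingleton_hom_inD_of_subsingleton (A : Type u) [CommRing A] (M : Type u)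
    [AddCommGroup M] [Module A M] [Subsingleton M] (W : Dual.D A) :
    Subsingleton (Dual.inD A M ⟶ W) := by
  have h0 : IsZero (ModuleCat.of A M) := ModuleCat.isZero_of_subsingleton _
  have h1 : IsZero (Dual.inD A M) := (singleFunctor (ModuleCat.{u} A) 0).map_isZero h0
  exact ⟨fun a b => h1.eq_of_src a b⟩

theorem van_lower (A : Type u) [CommRing A] [IsNoetherianRing A] [IsLocalRing A]
    (ω : Dual.D A) (hω : Dual.IsDualizing A ω) (hn : Dual.IsNormalized A ω)
    (n : ℕ) (hd : ringKrullDim A = n) (hEq : EGA4.IsEquidim A)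
    (k : ℕ) (hk : 1 ≤ k) (hS : LocCoh.HasSk k A A) :
    (∀ i : ℤ, (i < -(n : ℤ) ∨ 0 < i) → Subsingleton (Dual.HD A ω i)) ∧
    (∀ i : ℤ, -(n : ℤ) < i → ∀ j : ℤ, j < k →
      Subsingleton (Dual.inD A (Dual.HD A ω i) ⟶ ω⟦j + i⟧)) := by
  have hδ : Module.supportDim A A = (n : WithBot ℕ∞) := by
    rw [Module.supportDim_self_eq_ringKrullDim, hd]
  have hann : Module.annihilator A A = ⊥ := by
    rw [eq_bot_iff]
    intro a ha
    have := Module.mem_annihilator.1 ha (1 : A)
    simpa using this
  have hEqM : EGA4.IsEquidimModule A A := by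
    intro p hp
    rw [hann] at hp
    rw [hEq p hp, Module.supportDim_self_eq_ringKrullDim]
  have h17 := (Groth.Agent.S18717.result A ω hω hn A hEqM n hδ k hk).1 hS
  have hfin : ∀ i : ℤ, Module.Finite A (Dual.HD A ω i) := hω.finite_cohomology
  have part1 : ∀ i : ℤ, (i < -(n : ℤ) ∨ 0 < i) → Subsingleton (Dual.HD A ω i) := by
    intro i hi
    rcases hi with hi | hi
    · have h1 : Module.supportDim A A < (((-i).toNat : ℕ) : WithBot ℕ∞) := by
        rw [hδ]
        exact_mod_cast (by omega : n < (-i).toNat)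
      have h2 := van_of_supportDim_lt ω hω hn A (-i).toNat h1
      have h3 : (-(((-i).toNat : ℕ) : ℤ)) = i := by omega
      rw [h3] at h2
      exact (van_self_iff ω i).1 h2
    · exact (van_self_iff ω i).1 (dualizing_hpos ω hω hn A i hi)
  refine ⟨part1, fun i hi j hj => ?_⟩
  by_cases hpos : 0 < i
  · haveI := part1 i (Or.inr hpos)
    exact subsingleton_hom_inD_of_subsingleton A _ _
  · push_neg at hpos
    obtain ⟨e⟩ := Groth.Agent.H12.HomSingleRing.nonempty_linearEquiv_Hi (A := A) ω i
    have hne : i ≠ -(n : ℤ) := by omega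
    obtain ⟨ha, hb⟩ := h17 i hne
    by_cases hc : -i - (k : ℤ) < 0
    · haveI := ha hc
      haveI : Subsingleton (Dual.HD A ω i) := e.symm.injective.subsingleton
      exact subsingleton_hom_inD_of_subsingleton A _ _
    · push_neg at hc
      have hdim := hb hc
      rw [Module.supportDim_eq_of_equiv e] at hdim
      haveI := hfin i
      have h1 : Module.supportDim A (Dual.HD A ω i) < (((-(j + i)).toNat : ℕ) : WithBot ℕ∞) := by
        refine lt_of_le_of_lt hdim ?_
        exact_mod_cast (by omega : (-i - (k : ℤ)).toNat < (-(j + i)).toNat)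
      have h2 := van_of_supportDim_lt ω hω hn (Dual.HD A ω i) (-(j + i)).toNat h1
      have h3 : (-(((-(j + i)).toNat : ℕ) : ℤ)) = j + i := by omega
      rw [h3] at h2
      exact (van_iff_subsingleton ω (j + i) _).1 h2

end Groth.Agent.H29.DKS_VAN
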