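import Groth.Agent.H29.DepthFinite
import Groth.Agent.H29.Depth
import Groth.Agent.H15.DepthSpread

/-!
# Depth at a prime and finite ring maps (helper29)

For a finite map `A → B` of Noetherian rings, a finite `B`-module `M` and a prime `p` of `A`:
`depth_{A_p} M_p = inf_{P ∩ A = p} depth_{B_P} M_P`.
-/

set_option autoImplicit false
set_option linter.style.haveILetI false
set_option linter.unusedSectionVars false
set_option maxHeartbeats 400000

universe u

open RingTheory.Sequence IsLocalRing
open Groth.Agent.H15.Depth Groth.Agent.H15.DepthSpread Groth.Agent.H29.DepthFinite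
open scoped Pointwise

namespace Groth.Agent.H29.DepthFinLoc

variable {A B : Type u} [CommRing A] [CommRing B] [Algebra A B] [IsNoetherianRing A]
  [IsNoetherianRing B]

section Basic

variable (p : Ideal A) [p.IsPrime] (P : Ideal B) [P.IsPrime]
  (hP : P.comap (algebraMap A B) = p)
variable (M : Type u) [AddCommGroup M] [Module B M] [Module A M] [IsScalarTower A B M]

include hP in
theorem algebraMap_mem_primeCompl {s : A} (hs : s ∈ p.primeCompl) :
    algebraMap A B s ∈ P.primeCompl := by
  intro h
  apply hs
  rw [← hP]
  exact h

include hP in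
theorem algebraMap_mem_of_mem {x : A} (hx : x ∈ p) : algebraMap A B x ∈ P := by
  rw [← hP] at hx
  exact hx

include hP in
/-- If `M_p = 0` then `M_P = 0` for every `P` over `p`. -/
theorem subsingleton_of_subsingleton (h : Subsingleton (LocalizedModule p.primeCompl M)) :
    Subsingleton (LocalizedModule P.primeCompl M) := by
  rw [LocalizedModule.subsingleton_iff] at h ⊢
  intro m
  obtain ⟨r, hr, hrm⟩ := h m
  refine ⟨algebraMap A B r, algebraMap_mem_primeCompl p P hP hr, ?_⟩
  rw [algebraMap_smul]
  exact hrm

include hP in
/-- An element of `A` regular on `M_p` is regular on `M_P` for `P` over `p`. -/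
theorem isSMulRegular_of_isSMulRegular (x : A)
    (h : IsSMulRegular (LocalizedModule p.primeCompl M)
      (algebraMap A (Localization.AtPrime p) x)) :
    IsSMulRegular (LocalizedModule P.primeCompl M)
      (algebraMap B (Localization.AtPrime P) (algebraMap A B x)) := by
  rw [isSMulRegular_iff_right_eq_zero_of_smul]
  intro μ hμ
  induction μ using LocalizedModule.induction_on with
  | h m t =>
    rw [algebraMap_smul_mk] at hμ
    obtain ⟨u, hu, hum⟩ := exists_smul_eq_zero_of_mk_eq_zero _ _ _ hμ
    have h1 : x • (u • m) = 0 := by
      rw [← algebraMap_smul B x (u • m), smul_comm]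
      exact hum
    have h2 : algebraMap A (Localization.AtPrime p) x •
        LocalizedModule.mk (u • m) (1 : p.primeCompl) = 0 := by
      rw [algebraMap_smul_mk, h1, LocalizedModule.zero_mk]
    have h3 := h.right_eq_zero_of_smul h2
    obtain ⟨s, hs, hsm⟩ := exists_smul_eq_zero_of_mk_eq_zero _ _ _ h3
    refine mk_eq_zero_of_smul_eq_zero _ m t (algebraMap A B s * u)
      (P.primeCompl.mul_mem (algebraMap_mem_primeCompl p P hP hs) hu) ?_
    rw [mul_smul, algebraMap_smul]
    exact hsm

end Basic

section Drop

variable (p : Ideal A) [p.IsPrime] (P : Ideal B) [P.IsPrime]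
  (hP : P.comap (algebraMap A B) = p)
variable (M : Type u) [AddCommGroup M] [Module B M] [Module A M] [IsScalarTower A B M]
  [Module.Finite B M] [Module.Finite A M]

/-- Depth drop at `p` (over `A`), for the quotient formed over `B`. -/
theorem depthA_quot_add_one (x : A) (hx : x ∈ p)
    [Nontrivial (LocalizedModule p.primeCompl M)]
    (hreg : IsSMulRegular (LocalizedModule p.primeCompl M)
      (algebraMap A (Localization.AtPrime p) x)) :
    LocCoh.depth (Localization.AtPrime p)
        (LocalizedModule p.primeCompl (QuotSMulTop (algebraMap A B x) M)) + 1 =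
      LocCoh.depth (Localization.AtPrime p) (LocalizedModule p.primeCompl M) := by
  have hIM := Groth.Agent.H29.maximalIdeal_smul_top_ne_top (Localization.AtPrime p)
    (LocalizedModule p.primeCompl M)
  have hxm : algebraMap A (Localization.AtPrime p) x ∈ maximalIdeal (Localization.AtPrime p) :=
    (IsLocalization.AtPrime.to_map_mem_maximal_iff (Localization.AtPrime p) p x).mpr hx
  have h1 := idealDepth_quotSMulTop_add_one hIM hxm hreg
  have e1 := locQuotEquiv p.primeCompl M x
  have e2 : LocalizedModule p.primeCompl (QuotSMulTop x M) ≃ₗ[Localization p.primeCompl]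
      LocalizedModule p.primeCompl (QuotSMulTop (algebraMap A B x) M) :=
    IsLocalizedModule.mapEquiv p.primeCompl
      (LocalizedModule.mkLinearMap p.primeCompl (QuotSMulTop x M))
      (LocalizedModule.mkLinearMap p.primeCompl (QuotSMulTop (algebraMap A B x) M))
      (Localization p.primeCompl) (quotEquiv (B := B) (M := M) x)
  unfold LocCoh.depth
  rw [← h1]
  congr 1
  exact idealDepth_congr (e2.symm.trans e1)

include hP in
/-- Depth drop at `P` (over `B`). -/
theorem depthB_quot_add_one (x : A) (hx : x ∈ p)
    [Nontrivial (LocalizedModule P.primeCompl M)]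
    (hreg : IsSMulRegular (LocalizedModule p.primeCompl M)
      (algebraMap A (Localization.AtPrime p) x)) :
    LocCoh.depth (Localization.AtPrime P)
        (LocalizedModule P.primeCompl (QuotSMulTop (algebraMap A B x) M)) + 1 =
      LocCoh.depth (Localization.AtPrime P) (LocalizedModule P.primeCompl M) := by
  have hIM := Groth.Agent.H29.maximalIdeal_smul_top_ne_top (Localization.AtPrime P)
    (LocalizedModule P.primeCompl M)
  have hxm : algebraMap B (Localization.AtPrime P) (algebraMap A B x) ∈
      maximalIdeal (Localization.AtPrime P) :=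
    (IsLocalization.AtPrime.to_map_mem_maximal_iff (Localization.AtPrime P) P _).mpr
      (algebraMap_mem_of_mem p P hP hx)
  have hreg' := isSMulRegular_of_isSMulRegular p P hP M x hreg
  have h1 := idealDepth_quotSMulTop_add_one hIM hxm hreg'
  have e1 := locQuotEquiv P.primeCompl M (algebraMap A B x)
  unfold LocCoh.depth
  rw [← h1]
  congr 1
  exact idealDepth_congr e1

end Drop

section Socle

variable (p : Ideal A) [p.IsPrime]
variable (M : Type u) [AddCommGroup M] [Module B M] [Module A M] [IsScalarTower A B M]

/-- The `B`-submodule of elements killed by some element of `A ∖ p`. -/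
def tors : Submodule B M where
  carrier := {m | ∃ s ∈ p.primeCompl, s • m = 0}
  add_mem' := by
    rintro m₁ m₂ ⟨s₁, hs₁, h₁⟩ ⟨s₂, hs₂, h₂⟩
    refine ⟨s₁ * s₂, p.primeCompl.mul_mem hs₁ hs₂, ?_⟩
    rw [smul_add, mul_smul s₁ s₂ m₂, h₂, smul_zero, add_zero, mul_comm, mul_smul, h₁, smul_zero]
  zero_mem' := ⟨1, p.primeCompl.one_mem, smul_zero _⟩
  smul_mem' := by
    rintro b m ⟨s, hs, h⟩
    exact ⟨s, hs, by rw [smul_comm, h, smul_zero]⟩

theorem mem_tors {m : M} : m ∈ tors (B := B) p M ↔ ∃ s ∈ p.primeCompl, s • m = 0 := Iff.rfl

/-- If `M_p` has a socle element, some `M_P` with `P` over `p` has a socle element. -/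
theorem exists_prime_hasSocle
    (h : HasSocle (maximalIdeal (Localization.AtPrime p)) (LocalizedModule p.primeCompl M)) :
    ∃ (P : Ideal B) (_ : P.IsPrime), P.comap (algebraMap A B) = p ∧
      HasSocle (maximalIdeal (Localization.AtPrime P)) (LocalizedModule P.primeCompl M) := by
  obtain ⟨μ, hμ0, hμ⟩ := h
  induction μ using LocalizedModule.induction_on with
  | h m s =>
    -- the class of `m` modulo torsion is nonzero
    have hm0 : (tors (B := B) p M).mkQ m ≠ 0 := by
      intro h0
      rw [Submodule.mkQ_apply, Submodule.Quotient.mk_eq_zero] at h0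
      obtain ⟨t, ht, htm⟩ := h0
      exact hμ0 (mk_eq_zero_of_smul_eq_zero _ m s t ht htm)
    -- `p` kills it
    have hpm : ∀ a ∈ p, algebraMap A B a • (tors (B := B) p M).mkQ m = 0 := by
      intro a ha
      have h1 : algebraMap A (Localization.AtPrime p) a ∈ maximalIdeal (Localization.AtPrime p) :=
        (IsLocalization.AtPrime.to_map_mem_maximal_iff (Localization.AtPrime p) p a).mpr ha
      have h2 := hμ _ h1
      rw [algebraMap_smul_mk] at h2
      obtain ⟨t, ht, htm⟩ := exists_smul_eq_zero_of_mk_eq_zero _ _ _ h2
      rw [← map_smul, Submodule.mkQ_apply, Submodule.Quotient.mk_eq_zero, algebraMap_smul]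
      exact ⟨t, ht, htm⟩
    obtain ⟨P, hPass, hle⟩ := exists_le_isAssociatedPrime_of_isNoetherianRing B _ hm0
    obtain ⟨hPprime, nb, hnb⟩ := isAssociatedPrime_iff.mp hPass
    obtain ⟨n, rfl⟩ := Submodule.mkQ_surjective _ nb
    have hmemP : ∀ b : B, b ∈ P ↔ b • n ∈ tors (B := B) p M := by
      intro b
      rw [hnb, Submodule.mem_colon_singleton, Submodule.mem_bot, ← map_smul, Submodule.mkQ_apply,
        Submodule.Quotient.mk_eq_zero]
    have hcomap : P.comap (algebraMap A B) = p := by
      apply le_antisymm
      · intro s hs
        by_contra hsp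
        rw [Ideal.mem_comap, hmemP] at hs
        obtain ⟨t, ht, htn⟩ := hs
        have h1 : (1 : B) ∈ P := by
          rw [hmemP, one_smul]
          refine ⟨t * s, p.primeCompl.mul_mem ht hsp, ?_⟩
          rw [mul_smul, ← algebraMap_smul B s n]
          exact htn
        exact hPprime.ne_top ((Ideal.eq_top_iff_one P).mpr h1)
      · intro a ha
        rw [Ideal.mem_comap]
        apply hle
        rw [Submodule.mem_colon_singleton, Submodule.mem_bot]
        exact hpm a ha
    refine ⟨P, hPprime, hcomap, LocalizedModule.mk n (1 : P.primeCompl), ?_, ?_⟩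
    · intro h0
      obtain ⟨w, hw, hwn⟩ := exists_smul_eq_zero_of_mk_eq_zero _ _ _ h0
      apply hw
      show w ∈ P
      rw [hmemP, hwn]
      exact Submodule.zero_mem _
    · intro t ht
      obtain ⟨b, w, rfl⟩ := IsLocalization.exists_mk'_eq P.primeCompl t
      have hb : b ∈ P :=
        (IsLocalization.AtPrime.mk'_mem_maximal_iff (Localization.AtPrime P) P b w).mp ht
      obtain ⟨u, hu, hun⟩ := (hmemP b).mp hb
      rw [← Localization.mk_eq_mk', LocalizedModule.mk_smul_mk]
      refine mk_eq_zero_of_smul_eq_zero _ _ _ (algebraMap A B u)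
        (algebraMap_mem_primeCompl p P hcomap hu) ?_
      rw [algebraMap_smul]
      exact hun

end Socle

section Main

variable [Module.Finite A B] (p : Ideal A) [p.IsPrime]

theorem subsingleton_quot_of_subsingleton {R : Type u} [CommRing R] (S : Submonoid R)
    (N : Type u) [AddCommGroup N] [Module R N] (W : Submodule R N)
    (h : Subsingleton (LocalizedModule S N)) : Subsingleton (LocalizedModule S (N ⧸ W)) := by
  rw [LocalizedModule.subsingleton_iff] at h ⊢
  intro m
  obtain ⟨m, rfl⟩ := W.mkQ_surjective m
  obtain ⟨r, hr, hrm⟩ := h m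
  exact ⟨r, hr, by rw [← map_smul, hrm, map_zero]⟩

theorem natCast_le_depth_iff (n : ℕ) :
    ∀ (M : Type u) [AddCommGroup M] [Module B M] [Module A M] [IsScalarTower A B M]
      [Module.Finite B M],
      (n : ℕ∞) ≤ LocCoh.depth (Localization.AtPrime p) (LocalizedModule p.primeCompl M) ↔
        ∀ (P : Ideal B) [P.IsPrime], P.comap (algebraMap A B) = p →
          (n : ℕ∞) ≤ LocCoh.depth (Localization.AtPrime P) (LocalizedModule P.primeCompl M) := by
  induction n with
  | zero =>
    intro M _ _ _ _ _
    simp
  | succ n ih =>
    intro M _ _ _ _ _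
    haveI : Module.Finite A M := Module.Finite.trans B M
    by_cases hM : Subsingleton (LocalizedModule p.primeCompl M)
    · constructor
      · intro _ P _ hP
        haveI := subsingleton_of_subsingleton p P hP M hM
        rw [show LocCoh.depth (Localization.AtPrime P) (LocalizedModule P.primeCompl M) = ⊤ from
          idealDepth_eq_top_of_subsingleton]
        exact le_top
      · intro _
        rw [show LocCoh.depth (Localization.AtPrime p) (LocalizedModule p.primeCompl M) = ⊤ from
          idealDepth_eq_top_of_subsingleton]
        exact le_top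
    · rw [not_subsingleton_iff_nontrivial] at hM
      haveI := hM
      have hA := Groth.Agent.H29.maximalIdeal_smul_top_ne_top (Localization.AtPrime p)
        (LocalizedModule p.primeCompl M)
      rcases exists_regular_or_hasSocle (I := maximalIdeal (Localization.AtPrime p))
        (LocalizedModule p.primeCompl M) with ⟨y, hy, hyreg⟩ | hsoc
      · obtain ⟨x, s, rfl⟩ := IsLocalization.exists_mk'_eq p.primeCompl y
        have hx : x ∈ p :=
          (IsLocalization.AtPrime.mk'_mem_maximal_iff (Localization.AtPrime p) p x s).mp hy
        have hreg : IsSMulRegular (LocalizedModule p.primeCompl M)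
            (algebraMap A (Localization.AtPrime p) x) := by
          have e : algebraMap A (Localization.AtPrime p) x =
              IsLocalization.mk' (Localization.AtPrime p) x s *
                algebraMap A (Localization.AtPrime p) (s : A) :=
            (IsLocalization.mk'_spec _ x s).symm
          rw [e]
          exact (isSMulRegular_mul_unit_iff _ _ _ (IsLocalization.map_units _ s)).mpr hyreg
        have h1 := depthA_quot_add_one (B := B) p M x hx hreg
        have h4 := ih (QuotSMulTop (algebraMap A B x) M)
        rw [← h1, succ_le_add_one_iff, h4]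
        constructor
        · intro h P _ hP
          by_cases hMP : Subsingleton (LocalizedModule P.primeCompl M)
          · rw [show LocCoh.depth (Localization.AtPrime P) (LocalizedModule P.primeCompl M) = ⊤
              from idealDepth_eq_top_of_subsingleton]
            exact le_top
          · rw [not_subsingleton_iff_nontrivial] at hMP
            haveI := hMP
            have h2 := depthB_quot_add_one p P hP M x hx hreg
            rw [← h2, succ_le_add_one_iff]
            exact h P hP
        · intro h P _ hP
          by_cases hMP : Subsingleton (LocalizedModule P.primeCompl M)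
          · haveI := subsingleton_quot_of_subsingleton P.primeCompl M
              (algebraMap A B x • (⊤ : Submodule B M)) hMP
            rw [show LocCoh.depth (Localization.AtPrime P)
              (LocalizedModule P.primeCompl (QuotSMulTop (algebraMap A B x) M)) = ⊤
              from idealDepth_eq_top_of_subsingleton]
            exact le_top
          · rw [not_subsingleton_iff_nontrivial] at hMP
            haveI := hMP
            have h2 := depthB_quot_add_one p P hP M x hx hreg
            have h3 := h P hP
            rw [← h2, succ_le_add_one_iff] at h3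
            exact h3
      · constructor
        · intro h
          exfalso
          obtain ⟨y, hy, hyreg, -⟩ := hasSeq_succ_iff.mp ((le_idealDepth_iff hA (n + 1)).mp h)
          exact hsoc.not_regular hy hyreg
        · intro h
          exfalso
          obtain ⟨P, hPprime, hP, hsocP⟩ := exists_prime_hasSocle (B := B) p M hsoc
          haveI := hPprime
          haveI hntP : Nontrivial (LocalizedModule P.primeCompl M) := by
            obtain ⟨μ, hμ, -⟩ := hsocP
            exact ⟨⟨μ, 0, hμ⟩⟩
          have hB := Groth.Agent.H29.maximalIdeal_smul_top_ne_top (Localization.AtPrime P)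
            (LocalizedModule P.primeCompl M)
          obtain ⟨y, hy, hyreg, -⟩ :=
            hasSeq_succ_iff.mp ((le_idealDepth_iff hB (n + 1)).mp (h P hP))
          exact hsocP.not_regular hy hyreg

variable (M : Type u) [AddCommGroup M] [Module B M] [Module A M] [IsScalarTower A B M]
  [Module.Finite B M]

/-- `depth M_p ≤ depth M_P` for `P` over `p`. -/
theorem depth_le_depth_of_comap_eq (P : Ideal B) [P.IsPrime]
    (hP : P.comap (algebraMap A B) = p) :
    LocCoh.depth (Localization.AtPrime p) (LocalizedModule p.primeCompl M) ≤
      LocCoh.depth (Localization.AtPrime P) (LocalizedModule P.primeCompl M) := by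
  rw [← ENat.forall_natCast_le_iff_le]
  intro n hn
  exact (natCast_le_depth_iff p n M).mp hn P hP

/-- Some `P` over `p` has `depth M_P ≤ depth M_p` (when the latter is finite). -/
theorem exists_prime_depth_le
    (hne : LocCoh.depth (Localization.AtPrime p) (LocalizedModule p.primeCompl M) ≠ ⊤) :
    ∃ (P : Ideal B) (_ : P.IsPrime), P.comap (algebraMap A B) = p ∧
      LocCoh.depth (Localization.AtPrime P) (LocalizedModule P.primeCompl M) ≤
        LocCoh.depth (Localization.AtPrime p) (LocalizedModule p.primeCompl M) := by
  obtain ⟨d, hd⟩ := ENat.ne_top_iff_exists.mp hne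
  have h1 : ¬ ((d + 1 : ℕ) : ℕ∞) ≤
      LocCoh.depth (Localization.AtPrime p) (LocalizedModule p.primeCompl M) := by
    rw [← hd]
    intro h
    have : d + 1 ≤ d := by exact_mod_cast h
    omega
  rw [natCast_le_depth_iff (B := B) p (d + 1) M] at h1
  push Not at h1
  obtain ⟨P, hPprime, hP, hlt⟩ := h1
  refine ⟨P, hPprime, hP, ?_⟩
  rw [← hd]
  have h2 : LocCoh.depth (Localization.AtPrime P) (LocalizedModule P.primeCompl M) <
      (d : ℕ∞) + 1 := by exact_mod_cast hlt
  exact (ENat.lt_add_one_iff (ENat.natCast_ne_top d)).mp h2

end Main

end Groth.Agent.H29.DepthFinLoc
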