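import Groth.Prelude.Def_Exal
import Groth.Prelude.Def_Exal2
import Mathlib.RingTheory.Ideal.Quotient.Operations

set_option autoImplicit false
universe u v

namespace Groth.Agent.H29.ExalAPI

open Exal

/-- The opposite action on a module over a commutative ring (any universes). -/
abbrev opMod (C : Type u) (L' : Type v) [CommRing C] [AddCommGroup L'] [Module C L'] : Module Cᵐᵒᵖ L' :=
  Module.compHom L' (RingEquiv.toOpposite C).symm.toRingHom

theorem isCentralScalar_opMod (C : Type u) (L' : Type v) [CommRing C] [AddCommGroup L'] [Module C L'] :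
    @IsCentralScalar C L' _ (opMod C L').toSMul := by
  letI := opMod C L'
  exact ⟨fun _ _ => rfl⟩

attribute [local instance] opMod isCentralScalar_opMod

variable {A : Type u} {B L : Type v} [CommRing A] [CommRing B] [Algebra A B] [AddCommGroup L]
  [Module B L]

theorem proj_incl (X : Ext A B L) (z : L) : X.proj (X.incl z) = 0 :=
  (X.isExtension.exact _).2 ⟨z, rfl⟩

theorem incl_mul_incl (X : Ext A B L) (z z' : L) : X.incl z * X.incl z' = 0 := by
  rw [X.isExtension.mul_incl, proj_incl, zero_smul, map_zero]

theorem algebraMap_mul_incl (X : Ext A B L) (a : A) (z : L) :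
    algebraMap A X.E a * X.incl z = X.incl (algebraMap A B a • z) := by
  rw [X.isExtension.mul_incl, AlgHom.commutes]

variable [Module A L] [IsScalarTower A B L]

/-- The inclusion as a linear map over the base ring. -/
noncomputable def inclL (X : Ext A B L) : L →ₗ[A] X.E where
  toFun := X.incl
  map_add' := map_add X.incl
  map_smul' a z := by
    rw [RingHom.id_apply, Algebra.smul_def, algebraMap_mul_incl, algebraMap_smul]

@[simp] theorem inclL_apply (X : Ext A B L) (z : L) : inclL X z = X.incl z := rfl

/-- The canonical map from the trivial square zero extension of the base ring onto the middle ring. -/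
noncomputable def cover (X : Ext A B L) : TrivSqZeroExt A L →ₐ[A] X.E :=
  TrivSqZeroExt.lift (Algebra.ofId A X.E) (inclL X)
    (fun x y => incl_mul_incl X x y)
    (fun r x => by
      rw [map_smul, Algebra.smul_def]; rfl)
    (fun r x => by
      rw [op_smul_eq_smul, map_smul, Algebra.smul_def, mul_comm]; rfl)

theorem cover_apply (X : Ext A B L) (t : TrivSqZeroExt A L) :
    cover X t = algebraMap A X.E t.fst + X.incl t.snd := rfl

theorem proj_cover (X : Ext A B L) (t : TrivSqZeroExt A L) :
    X.proj (cover X t) = algebraMap A B t.fst := by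
  rw [cover_apply, map_add, proj_incl, add_zero, AlgHom.commutes]

theorem cover_inr (X : Ext A B L) (z : L) : cover X (TrivSqZeroExt.inr z) = X.incl z := by
  rw [cover_apply]; simp

theorem cover_surjective (X : Ext A B L) (h : Function.Surjective (algebraMap A B)) :
    Function.Surjective (cover X) := by
  intro x
  obtain ⟨a, ha⟩ := h (X.proj x)
  have h0 : X.proj (x - algebraMap A X.E a) = 0 := by
    rw [map_sub, AlgHom.commutes, ha, sub_self]
  obtain ⟨z, hz⟩ := (X.isExtension.exact _).1 h0
  refine ⟨TrivSqZeroExt.inl a + TrivSqZeroExt.inr z, ?_⟩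
  rw [cover_apply]
  simp only [TrivSqZeroExt.fst_add, TrivSqZeroExt.fst_inl, TrivSqZeroExt.fst_inr, add_zero,
    TrivSqZeroExt.snd_add, TrivSqZeroExt.snd_inl, TrivSqZeroExt.snd_inr, zero_add]
  rw [hz]; ring

/-- Two extensions of a quotient of the base ring whose covers have the same kernel are equivalent. -/
theorem nonempty_equiv_of_ker_cover_eq (X Y : Ext A B L) (h : Function.Surjective (algebraMap A B))
    (hker : RingHom.ker (cover X).toRingHom = RingHom.ker (cover Y).toRingHom) :
    Nonempty (X.Equiv Y) := by
  let e : X.E →ₐ[A] Y.E :=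
    AlgHom.liftOfSurjective (cover X) (cover_surjective X h) (cover Y) (le_of_eq hker)
  let e' : Y.E →ₐ[A] X.E :=
    AlgHom.liftOfSurjective (cover Y) (cover_surjective Y h) (cover X) (le_of_eq hker.symm)
  have he : ∀ t, e (cover X t) = cover Y t := fun t => AlgHom.liftOfSurjective_apply _ _ _ _ t
  have he' : ∀ t, e' (cover Y t) = cover X t := fun t => AlgHom.liftOfSurjective_apply _ _ _ _ t
  refine ⟨⟨AlgEquiv.ofAlgHom e e' ?_ ?_, ?_, ?_⟩⟩
  · ext y
    obtain ⟨t, rfl⟩ := cover_surjective Y h y
    simp [he, he']
  · ext x
    obtain ⟨t, rfl⟩ := cover_surjective X h x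
    simp [he, he']
  · intro x
    obtain ⟨t, rfl⟩ := cover_surjective X h x
    change Y.proj (e (cover X t)) = _
    rw [he, proj_cover, proj_cover]
  · intro z
    change e (X.incl z) = _
    rw [← cover_inr, he, cover_inr]

end Groth.Agent.H29.ExalAPI
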