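import Groth.Agent.H29.ExalConormal

set_option autoImplicit false
universe u

namespace Groth.Agent.H29.ExalAPI

open Exal

attribute [local instance] opMod isCentralScalar_opMod

variable {B : Type u} [CommRing B] (J : Ideal B) {M : Type u} [AddCommGroup M] [Module (B ⧸ J) M]
  [Module B M] [IsScalarTower B (B ⧸ J) M]

theorem smul_eq_zero_of_mem (b : B) (hb : b ∈ J) (y : M) : b • y = 0 := by
  rw [← IsScalarTower.algebraMap_smul (B ⧸ J) b y, Ideal.Quotient.algebraMap_eq,
    Ideal.Quotient.eq_zero_iff_mem.2 hb, zero_smul]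

/-- The ideal of the trivial square zero extension cut out by a linear map `J → M`. -/
def graphIdeal (w : J →ₗ[B] M) : Ideal (TrivSqZeroExt B M) where
  carrier := {t | ∃ h : t.fst ∈ J, w ⟨t.fst, h⟩ + t.snd = 0}
  add_mem' := by
    rintro s t ⟨hs, hs'⟩ ⟨ht, ht'⟩
    refine ⟨by simpa using J.add_mem hs ht, ?_⟩
    have : (⟨(s + t).fst, by simpa using J.add_mem hs ht⟩ : J) = ⟨s.fst, hs⟩ + ⟨t.fst, ht⟩ := by
      ext; simp
    rw [this, map_add, TrivSqZeroExt.snd_add]
    calc w ⟨s.fst, hs⟩ + w ⟨t.fst, ht⟩ + (s.snd + t.snd)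
        = (w ⟨s.fst, hs⟩ + s.snd) + (w ⟨t.fst, ht⟩ + t.snd) := by abel
      _ = 0 := by rw [hs', ht', add_zero]
  zero_mem' := ⟨by simp, by
    have : (⟨(0 : TrivSqZeroExt B M).fst, by simp⟩ : J) = 0 := by ext; simp
    rw [this, map_zero, TrivSqZeroExt.snd_zero, add_zero]⟩
  smul_mem' := by
    rintro s t ⟨ht, ht'⟩
    have hmem : (s • t).fst ∈ J := by
      rw [smul_eq_mul, TrivSqZeroExt.fst_mul]
      exact J.mul_mem_left _ ht
    refine ⟨hmem, ?_⟩
    have : (⟨(s • t).fst, hmem⟩ : J) = s.fst • ⟨t.fst, ht⟩ := by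
      ext; simp
    rw [this, map_smul, smul_eq_mul, TrivSqZeroExt.snd_mul, op_smul_eq_smul,
      smul_eq_zero_of_mem J t.fst ht, add_zero, ← smul_add, ht', smul_zero]

theorem mem_graphIdeal (w : J →ₗ[B] M) (t : TrivSqZeroExt B M) :
    t ∈ graphIdeal J w ↔ ∃ h : t.fst ∈ J, w ⟨t.fst, h⟩ + t.snd = 0 := Iff.rfl

/-- The projection from the quotient by the graph ideal to `B ⧸ J`. -/
noncomputable def graphProj (w : J →ₗ[B] M) : (TrivSqZeroExt B M ⧸ graphIdeal J w) →ₐ[B] B ⧸ J :=
  Ideal.Quotient.liftₐ (graphIdeal J w)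
    ((Ideal.Quotient.mkₐ B J).comp (TrivSqZeroExt.fstHom B B M)) (by
      rintro t ⟨ht, -⟩
      change Ideal.Quotient.mk J t.fst = 0
      exact Ideal.Quotient.eq_zero_iff_mem.2 ht)

theorem graphProj_mk (w : J →ₗ[B] M) (t : TrivSqZeroExt B M) :
    graphProj J w (Ideal.Quotient.mk _ t) = Ideal.Quotient.mk J t.fst := rfl

/-- The inclusion of `M` into the quotient by the graph ideal. -/
noncomputable def graphIncl (w : J →ₗ[B] M) : M →+ (TrivSqZeroExt B M ⧸ graphIdeal J w) :=
  ((Ideal.Quotient.mk (graphIdeal J w)) : TrivSqZeroExt B M →+* _).toAddMonoidHom.comp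
    (TrivSqZeroExt.inrHom B M).toAddMonoidHom

theorem graphIncl_apply (w : J →ₗ[B] M) (z : M) :
    graphIncl J w z = Ideal.Quotient.mk _ (TrivSqZeroExt.inr z) := rfl

/-- The extension of `B ⧸ J` by `M` attached to a linear map `J → M`. -/
noncomputable def ofLinear (w : J →ₗ[B] M) : Ext B (B ⧸ J) M where
  E := TrivSqZeroExt B M ⧸ graphIdeal J w
  proj := graphProj J w
  incl := graphIncl J w
  isExtension :=
    { proj_surjective := fun c => by
        obtain ⟨b, rfl⟩ := Ideal.Quotient.mk_surjective c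
        exact ⟨Ideal.Quotient.mk _ (TrivSqZeroExt.inl b), by rw [graphProj_mk]; simp⟩
      incl_injective := fun z z' h => by
        rw [graphIncl_apply, graphIncl_apply, Ideal.Quotient.eq, mem_graphIdeal] at h
        obtain ⟨h1, h2⟩ := h
        have h3 : (⟨(TrivSqZeroExt.inr z - TrivSqZeroExt.inr z' : TrivSqZeroExt B M).fst, h1⟩ : J) = 0 := by
          ext; simp
        rw [h3, map_zero, zero_add] at h2
        simpa [sub_eq_zero] using h2
      exact := fun x => by
        obtain ⟨t, rfl⟩ := Ideal.Quotient.mk_surjective x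
        rw [graphProj_mk, Ideal.Quotient.eq_zero_iff_mem]
        constructor
        · intro ht
          refine ⟨w ⟨t.fst, ht⟩ + t.snd, ?_⟩
          rw [graphIncl_apply, Ideal.Quotient.eq, mem_graphIdeal]
          have hm : (TrivSqZeroExt.inr (w ⟨t.fst, ht⟩ + t.snd) - t : TrivSqZeroExt B M).fst ∈ J := by
            simpa using ht
          refine ⟨hm, ?_⟩
          have h3 : (⟨(TrivSqZeroExt.inr (w ⟨t.fst, ht⟩ + t.snd) - t : TrivSqZeroExt B M).fst, hm⟩ : J) =
              - ⟨t.fst, ht⟩ := by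
            ext; simp
          rw [h3, map_neg]
          simp
        · rintro ⟨z, hz⟩
          rw [graphIncl_apply, Ideal.Quotient.eq, mem_graphIdeal] at hz
          obtain ⟨h1, -⟩ := hz
          simpa using h1
      mul_incl := fun x z => by
        obtain ⟨t, rfl⟩ := Ideal.Quotient.mk_surjective x
        rw [graphIncl_apply, graphIncl_apply, graphProj_mk, ← map_mul]
        congr 1
        rw [← Ideal.Quotient.algebraMap_eq, algebraMap_smul]
        ext <;> simp }

theorem ofLinear_idealToKer (w : J →ₗ[B] M) : (ofLinear J w).idealToKer J = w := by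
  ext z
  apply (ofLinear J w).isExtension.incl_injective
  rw [incl_idealToKer]
  change _ = graphIncl J w (w z)
  rw [graphIncl_apply]
  change Ideal.Quotient.mk (graphIdeal J w) (algebraMap B (TrivSqZeroExt B M) z) = _
  rw [Ideal.Quotient.eq, mem_graphIdeal]
  have hm : (algebraMap B (TrivSqZeroExt B M) z - TrivSqZeroExt.inr (w z)).fst ∈ J := by
    simp [TrivSqZeroExt.algebraMap_eq_inl]
  refine ⟨hm, ?_⟩
  have h3 : (⟨(algebraMap B (TrivSqZeroExt B M) z - TrivSqZeroExt.inr (w z)).fst, hm⟩ : J) = z := by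
    ext; simp [TrivSqZeroExt.algebraMap_eq_inl]
  rw [h3]
  simp [TrivSqZeroExt.algebraMap_eq_inl]

theorem exists_ext_conormalMap_eq (w : J.Cotangent →ₗ[B] M) :
    ∃ X : Ext B (B ⧸ J) M, X.conormalMap J = w := by
  refine ⟨ofLinear J (w.comp J.toCotangent), ?_⟩
  ext c
  obtain ⟨z, rfl⟩ := J.toCotangent_surjective c
  have h1 : ((ofLinear J (w.comp J.toCotangent)).conormalMap J) (J.toCotangent z) =
      (ofLinear J (w.comp J.toCotangent)).idealToKer J z := rfl
  rw [h1, ofLinear_idealToKer]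
  rfl

end Groth.Agent.H29.ExalAPI
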