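import Groth.Agent.H29.ExalAPI

set_option autoImplicit false
universe u

namespace Groth.Agent.H29.ExalAPI

open Exal

attribute [local instance] opMod isCentralScalar_opMod

variable {B : Type u} [CommRing B] (J : Ideal B) {M : Type u} [AddCommGroup M] [Module (B ⧸ J) M]
  [Module B M] [IsScalarTower B (B ⧸ J) M]

theorem incl_idealToKer (X : Ext B (B ⧸ J) M) (z : J) :
    X.incl (X.idealToKer J z) = algebraMap B X.E z :=
  X.incl_kerLift _ (X.proj_algebraMap_eq_zero J z)

theorem idealToKer_eq_of_conormalMap_eq (X Y : Ext B (B ⧸ J) M)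
    (h : X.conormalMap J = Y.conormalMap J) : X.idealToKer J = Y.idealToKer J := by
  have hX : (X.conormalMap J).comp (Submodule.mkQ _) = X.idealToKer J := Submodule.liftQ_mkQ _ _ _
  have hY : (Y.conormalMap J).comp (Submodule.mkQ _) = Y.idealToKer J := Submodule.liftQ_mkQ _ _ _
  rw [← hX, ← hY, h]

theorem cover_eq_zero_iff (X : Ext B (B ⧸ J) M) (t : TrivSqZeroExt B M) :
    cover X t = 0 ↔ ∃ h : t.fst ∈ J, X.idealToKer J ⟨t.fst, h⟩ + t.snd = 0 := by
  constructor
  · intro h0
    have h1 : t.fst ∈ J := by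
      have := congrArg X.proj h0
      rw [proj_cover, map_zero, Ideal.Quotient.algebraMap_eq, Ideal.Quotient.eq_zero_iff_mem] at this
      exact this
    refine ⟨h1, ?_⟩
    apply X.isExtension.incl_injective
    rw [map_add, incl_idealToKer, map_zero]
    exact h0
  · rintro ⟨h1, h2⟩
    rw [cover_apply]
    have := congrArg X.incl h2
    rw [map_add, incl_idealToKer, map_zero] at this
    exact this

theorem nonempty_equiv_of_conormalMap_eq (X Y : Ext B (B ⧸ J) M)
    (h : X.conormalMap J = Y.conormalMap J) : Nonempty (X.Equiv Y) := by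
  apply nonempty_equiv_of_ker_cover_eq X Y Ideal.Quotient.mk_surjective
  ext t
  rw [RingHom.mem_ker, RingHom.mem_ker]
  change cover X t = 0 ↔ cover Y t = 0
  rw [cover_eq_zero_iff, cover_eq_zero_iff, idealToKer_eq_of_conormalMap_eq J X Y h]

end Groth.Agent.H29.ExalAPI
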