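import Groth.Agent.H29.ExalAPI

set_option autoImplicit false
universe u v

namespace Groth.Agent.H29.ExalAPI

open Exal

section OfSurj

variable {A : Type u} {B E : Type v} [CommRing A] [CommRing B] [Algebra A B] [CommRing E] [Algebra A E]

/-- The kernel of a surjection with square zero kernel, as a type of its own. -/
@[nolint unusedArguments]
def KerMod (p : E →ₐ[A] B) (_hp : Function.Surjective p)
    (_hsq : ∀ x y : E, p x = 0 → p y = 0 → x * y = 0) : Type v :=
  RingHom.ker (p : E →+* B)

variable (p : E →ₐ[A] B) (hp : Function.Surjective p)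
  (hsq : ∀ x y : E, p x = 0 → p y = 0 → x * y = 0)

instance : AddCommGroup (KerMod p hp hsq) :=
  inferInstanceAs (AddCommGroup (RingHom.ker (p : E →+* B)))

/-- The underlying element of the middle ring. -/
def KerMod.val (z : KerMod p hp hsq) : E := Subtype.val z

theorem KerMod.proj_val (z : KerMod p hp hsq) : p z.val = 0 := z.2

theorem KerMod.val_injective : Function.Injective (KerMod.val p hp hsq) := Subtype.val_injective

/-- Build an element of the kernel. -/
def KerMod.mk (x : E) (hx : p x = 0) : KerMod p hp hsq := ⟨x, hx⟩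

@[simp] theorem KerMod.val_mk (x : E) (hx : p x = 0) : (KerMod.mk p hp hsq x hx).val = x := rfl

@[simp] theorem KerMod.val_add (z z' : KerMod p hp hsq) : (z + z').val = z.val + z'.val := rfl

@[simp] theorem KerMod.val_zero : (0 : KerMod p hp hsq).val = 0 := rfl

theorem KerMod.mul_val_eq (e e' : E) (h : p e = p e') (z : KerMod p hp hsq) :
    e * z.val = e' * z.val := by
  have h1 : p (e - e') = 0 := by rw [map_sub, h, sub_self]
  have := hsq _ _ h1 z.proj_val
  rw [sub_mul, sub_eq_zero] at this
  exact this

noncomputable instance : SMul B (KerMod p hp hsq) where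
  smul b z := KerMod.mk p hp hsq (Function.surjInv hp b * z.val) (by
    rw [map_mul, z.proj_val, mul_zero])

theorem KerMod.val_smul (b : B) (z : KerMod p hp hsq) (e : E) (he : p e = b) :
    (b • z).val = e * z.val := by
  change Function.surjInv hp b * z.val = e * z.val
  apply KerMod.mul_val_eq
  rw [Function.surjInv_eq hp, he]

noncomputable instance : Module B (KerMod p hp hsq) where
  one_smul z := by
    apply KerMod.val_injective
    rw [KerMod.val_smul p hp hsq 1 z 1 (map_one p), one_mul]
  mul_smul b b' z := by
    apply KerMod.val_injective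
    obtain ⟨e, rfl⟩ := hp b
    obtain ⟨e', rfl⟩ := hp b'
    rw [KerMod.val_smul p hp hsq _ z (e * e') (map_mul p e e'),
      KerMod.val_smul p hp hsq _ _ e rfl, KerMod.val_smul p hp hsq _ _ e' rfl, mul_assoc]
  smul_zero b := by
    apply KerMod.val_injective
    obtain ⟨e, rfl⟩ := hp b
    rw [KerMod.val_smul p hp hsq _ _ e rfl, KerMod.val_zero, mul_zero]
  smul_add b z z' := by
    apply KerMod.val_injective
    obtain ⟨e, rfl⟩ := hp b
    rw [KerMod.val_smul p hp hsq _ _ e rfl, KerMod.val_add, KerMod.val_add,
      KerMod.val_smul p hp hsq _ _ e rfl, KerMod.val_smul p hp hsq _ _ e rfl, mul_add]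
  add_smul b b' z := by
    apply KerMod.val_injective
    obtain ⟨e, rfl⟩ := hp b
    obtain ⟨e', rfl⟩ := hp b'
    rw [KerMod.val_smul p hp hsq _ z (e + e') (map_add p e e'), KerMod.val_add,
      KerMod.val_smul p hp hsq _ _ e rfl, KerMod.val_smul p hp hsq _ _ e' rfl, add_mul]
  zero_smul z := by
    apply KerMod.val_injective
    rw [KerMod.val_smul p hp hsq 0 z 0 (map_zero p), zero_mul, KerMod.val_zero]

/-- The extension attached to a surjection with square zero kernel. -/
noncomputable def ofSurj : Ext A B (KerMod p hp hsq) where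
  E := E
  proj := p
  incl :=
    { toFun := KerMod.val p hp hsq
      map_zero' := rfl
      map_add' := fun _ _ => rfl }
  isExtension :=
    { proj_surjective := hp
      incl_injective := KerMod.val_injective p hp hsq
      exact := fun x => by
        constructor
        · intro hx
          exact ⟨KerMod.mk p hp hsq x hx, rfl⟩
        · rintro ⟨z, rfl⟩
          exact z.proj_val
      mul_incl := fun x z => by
        change x * z.val = (p x • z).val
        rw [KerMod.val_smul p hp hsq _ _ x rfl] }

@[simp] theorem ofSurj_proj : (ofSurj p hp hsq).proj = p := rfl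

end OfSurj

/-- The kernel of the projection of an extension has square zero. -/
theorem mul_eq_zero_of_proj_eq_zero {A : Type u} {B L : Type v} [CommRing A] [CommRing B] [Algebra A B]
    [AddCommGroup L] [Module B L] (X : Ext A B L) (x y : X.E) (hx : X.proj x = 0) (hy : X.proj y = 0) :
    x * y = 0 := by
  obtain ⟨z, rfl⟩ := (X.isExtension.exact x).1 hx
  obtain ⟨z', rfl⟩ := (X.isExtension.exact y).1 hy
  exact incl_mul_incl X z z'

theorem isNilpotent_ker_proj {A : Type u} {B L : Type v} [CommRing A] [CommRing B] [Algebra A B]
    [AddCommGroup L] [Module B L] (X : Ext A B L) :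
    IsNilpotent (RingHom.ker (X.proj : X.E →+* B)) := by
  refine ⟨2, ?_⟩
  rw [Ideal.zero_eq_bot, eq_bot_iff, pow_two, Ideal.mul_le]
  intro x hx y hy
  rw [Ideal.mem_bot]
  exact mul_eq_zero_of_proj_eq_zero X x y hx hy

end Groth.Agent.H29.ExalAPI
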