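import Groth.Agent.H29.ExalOfSurj

set_option autoImplicit false
universe u v

namespace Groth.Agent.H29.ExalAPI

open Exal

attribute [local instance] opMod isCentralScalar_opMod

section Split

variable {A : Type u} {B L : Type v} [CommRing A] [CommRing B] [Algebra A B] [AddCommGroup L]
  [Module B L]
variable (X : Ext A B L) (s : B →+* X.E) (hs : ∀ b, X.proj (s b) = b)

/-- The component in the kernel module of an element of the middle ring, relative to a
section of the projection. -/
noncomputable def sigma (x : X.E) : L :=
  X.kerLift (x - s (X.proj x)) (by rw [map_sub, hs, sub_self])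

theorem incl_sigma (x : X.E) : X.incl (sigma X s hs x) = x - s (X.proj x) :=
  X.incl_kerLift _ _

theorem eq_section_add_incl (x : X.E) : x = s (X.proj x) + X.incl (sigma X s hs x) := by
  rw [incl_sigma]; ring

theorem sigma_add (x y : X.E) : sigma X s hs (x + y) = sigma X s hs x + sigma X s hs y := by
  apply X.isExtension.incl_injective
  rw [map_add, incl_sigma, incl_sigma, incl_sigma, map_add, map_add]
  ring

theorem sigma_section (b : B) : sigma X s hs (s b) = 0 := by
  apply X.isExtension.incl_injective
  rw [incl_sigma, hs, sub_self, map_zero]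

theorem sigma_incl (l : L) : sigma X s hs (X.incl l) = l := by
  apply X.isExtension.incl_injective
  rw [incl_sigma, proj_incl, map_zero, sub_zero]

theorem sigma_zero : sigma X s hs 0 = 0 := by
  have := sigma_section X s hs 0
  rwa [map_zero] at this

theorem sigma_one : sigma X s hs 1 = 0 := by
  have := sigma_section X s hs 1
  rwa [map_one] at this

theorem sigma_mul (x y : X.E) :
    sigma X s hs (x * y) = X.proj x • sigma X s hs y + X.proj y • sigma X s hs x := by
  apply X.isExtension.incl_injective
  rw [map_add, ← X.isExtension.mul_incl, incl_sigma, incl_sigma]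
  have h : X.proj y • sigma X s hs x = X.proj (s (X.proj y)) • sigma X s hs x := by rw [hs]
  rw [h, ← X.isExtension.mul_incl, incl_sigma, map_mul, map_mul]
  ring

/-- The ring homomorphism from the middle ring of a split extension to the trivial extension. -/
noncomputable def splitHom : X.E →+* TrivSqZeroExt B L where
  toFun x := TrivSqZeroExt.inl (X.proj x) + TrivSqZeroExt.inr (sigma X s hs x)
  map_one' := by
    rw [map_one, sigma_one, TrivSqZeroExt.inr_zero, add_zero, TrivSqZeroExt.inl_one]
  map_mul' x y := by
    apply TrivSqZeroExt.ext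
    · simp
    · simp only [TrivSqZeroExt.snd_add, TrivSqZeroExt.snd_inl, TrivSqZeroExt.snd_inr, zero_add,
        TrivSqZeroExt.snd_mul, TrivSqZeroExt.fst_add, TrivSqZeroExt.fst_inl, TrivSqZeroExt.fst_inr,
        add_zero, op_smul_eq_smul]
      exact sigma_mul X s hs x y
  map_zero' := by
    rw [map_zero, sigma_zero, TrivSqZeroExt.inr_zero, add_zero, TrivSqZeroExt.inl_zero]
  map_add' x y := by
    rw [map_add, sigma_add, TrivSqZeroExt.inl_add, TrivSqZeroExt.inr_add]
    abel

theorem splitHom_apply (x : X.E) :
    splitHom X s hs x = TrivSqZeroExt.inl (X.proj x) + TrivSqZeroExt.inr (sigma X s hs x) := rfl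

@[simp] theorem fst_splitHom (x : X.E) : (splitHom X s hs x).fst = X.proj x := by
  rw [splitHom_apply]; simp

@[simp] theorem snd_splitHom (x : X.E) : (splitHom X s hs x).snd = sigma X s hs x := by
  rw [splitHom_apply]; simp

theorem splitHom_section (b : B) : splitHom X s hs (s b) = TrivSqZeroExt.inl b := by
  rw [splitHom_apply, hs, sigma_section, TrivSqZeroExt.inr_zero, add_zero]

theorem splitHom_incl (l : L) : splitHom X s hs (X.incl l) = TrivSqZeroExt.inr l := by
  rw [splitHom_apply, proj_incl, sigma_incl, TrivSqZeroExt.inl_zero, zero_add]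

theorem splitHom_injective : Function.Injective (splitHom X s hs) := by
  rw [injective_iff_map_eq_zero]
  intro x hx
  have h1 : X.proj x = 0 := by
    have := congrArg TrivSqZeroExt.fst hx
    simpa using this
  have h2 : sigma X s hs x = 0 := by
    have := congrArg TrivSqZeroExt.snd hx
    simpa using this
  rw [eq_section_add_incl X s hs x, h1, h2, map_zero, map_zero, add_zero]

theorem splitHom_surjective : Function.Surjective (splitHom X s hs) := by
  intro t
  refine ⟨s t.fst + X.incl t.snd, ?_⟩
  rw [map_add, splitHom_section, splitHom_incl]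
  exact TrivSqZeroExt.inl_fst_add_inr_snd_eq t

/-- A split extension has middle ring isomorphic to the trivial square zero extension. -/
noncomputable def splitEquiv : X.E ≃+* TrivSqZeroExt B L :=
  RingEquiv.ofBijective (splitHom X s hs) ⟨splitHom_injective X s hs, splitHom_surjective X s hs⟩

theorem splitEquiv_apply (x : X.E) : splitEquiv X s hs x = splitHom X s hs x := rfl

end Split

section MapFst

variable {B C L : Type v} [CommRing B] [CommRing C] [Algebra B C] [AddCommGroup L] [Module C L]
  [Module B L] [IsScalarTower B C L]

/-- Change of the ring in the trivial square zero extension. -/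
noncomputable def mapFst : TrivSqZeroExt B L →+* TrivSqZeroExt C L where
  toFun t := TrivSqZeroExt.inl (algebraMap B C t.fst) + TrivSqZeroExt.inr t.snd
  map_one' := by
    simp
  map_mul' x y := by
    apply TrivSqZeroExt.ext
    · simp
    · simp only [TrivSqZeroExt.snd_add, TrivSqZeroExt.snd_inl, TrivSqZeroExt.snd_inr, zero_add,
        TrivSqZeroExt.snd_mul, TrivSqZeroExt.fst_add, TrivSqZeroExt.fst_inl, TrivSqZeroExt.fst_inr,
        add_zero, op_smul_eq_smul]
      rw [IsScalarTower.algebraMap_smul, IsScalarTower.algebraMap_smul]
  map_zero' := by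
    simp
  map_add' x y := by
    apply TrivSqZeroExt.ext <;> simp

theorem mapFst_apply (t : TrivSqZeroExt B L) :
    mapFst (C := C) t = TrivSqZeroExt.inl (algebraMap B C t.fst) + TrivSqZeroExt.inr t.snd := rfl

@[simp] theorem fst_mapFst (t : TrivSqZeroExt B L) :
    (mapFst (C := C) t).fst = algebraMap B C t.fst := by
  rw [mapFst_apply]; simp

@[simp] theorem snd_mapFst (t : TrivSqZeroExt B L) : (mapFst (C := C) t).snd = t.snd := by
  rw [mapFst_apply]; simp

end MapFst

end Groth.Agent.H29.ExalAPI
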