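import Mathlib
import Groth.Agent.H15.FPA.Defs
import Groth.Agent.H3.Desing1
import Groth.Agent.H45.FPA_SML
import Groth.Agent.H96.FPA_MVH

/-!
# (P1) for helper15's S8826 squad: the principal Newton/Hensel step.
-/

set_option autoImplicit false
set_option linter.style.haveILetI false
set_option maxHeartbeats 800000

universe u

open MvPolynomial
open Groth.Agent.H15.FPA

namespace Groth.Agent.H29.FPA_P1

/-- The principal step, with the four auxiliary facts (TOR), (DIFF), (INV), (MVH) as hypotheses. -/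
theorem principal_step_aux {R S : Type u} [CommRing R] [CommRing S]
    (ρ : R →+* S) (t : R)
    (ht : ρ t ∈ Ideal.jacobson (⊥ : Ideal S))
    (hpure : ∀ (M : ℕ) (x : R), ρ x ∈ Ideal.span {ρ t ^ M} → x ∈ Ideal.span {t ^ M})
    {n m : ℕ} (f : Fin m → MvPolynomial (Fin n) R) (hf : UnramAt f t)
    (â : Fin n → S) (hâ : ∀ j, eval₂ ρ â (f j) = 0)
    (happ : ∀ N : ℕ, ∃ a : Fin n → R, ∀ k, â k - ρ (a k) ∈ Ideal.span {ρ t ^ N})
    (hTOR : ∃ K : ℕ, ∀ (M : ℕ) (s : S), ρ t ^ M * s = 0 → ρ t ^ K * s = 0)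
    (hDIFF : ∀ (P : MvPolynomial (Fin n) R) (u v : Fin n → S),
      ∃ L : Fin n → S, eval₂ ρ u P - eval₂ ρ v P = ∑ k, L k * (u k - v k))
    (hINV : ∀ (τ c : S), τ ∈ Ideal.jacobson (⊥ : Ideal S) → ∀ (L : Fin n → Fin n → S)
      (d θ : Fin n → S), (∀ p, d p + τ * ∑ k, L p k * d k = θ p) → (∀ p, c * θ p = 0) →
      ∀ p, c * d p = 0)
    (hMVH : ∀ (Φ : Fin n → MvPolynomial (Fin n) R) (w₀ : Fin n → R),
      (∀ p, eval w₀ (Φ p) ∈ Ideal.span {t}) →
      IsUnit (Ideal.Quotient.mk (Ideal.span {t})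
        (Matrix.of (fun p k => eval w₀ (pderiv k (Φ p)))).det) →
      ∃ w : Fin n → R, (∀ p, eval w (Φ p) = 0) ∧ ∀ k, w k - w₀ k ∈ Ideal.span {t}) :
    ∃ a : Fin n → R, ∀ k, ρ (a k) = â k := by
  classical
  obtain ⟨K, hK⟩ := hTOR
  obtain ⟨e, g, hg⟩ := hf
  have hu : ∀ p k, ∃ u : Fin m → MvPolynomial (Fin n) R,
      (∑ j, g p j * pderiv k (f j)) - C (t ^ e) * (if p = k then 1 else 0) =
        ∑ j, u j * f j := fun p k => by
    have := hg p k
    rw [Ideal.mem_span_range_iff_exists_fun] at this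
    obtain ⟨c, hc⟩ := this
    exact ⟨c, hc.symm⟩
  choose u hu using hu
  obtain ⟨N, hNe, hNK⟩ : ∃ N, e + 1 ≤ N ∧ K ≤ N := ⟨max (e + 1) K, le_max_left _ _, le_max_right _ _⟩
  obtain ⟨a₀, ha₀⟩ := happ N
  have hw : ∀ k, ∃ w : S, â k = ρ (a₀ k) + ρ t ^ N * w := fun k => by
    obtain ⟨w, hw⟩ := Ideal.mem_span_singleton'.mp (ha₀ k)
    exact ⟨w, by rw [mul_comm, hw]; ring⟩
  choose ŵ hŵ using hw
  -- (1) `f_j(a₀) ∈ (t^N)`
  have h1 : ∀ j, ∃ ε : R, eval a₀ (f j) = t ^ N * ε := fun j => by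
    have hmem : ρ (eval a₀ (f j)) ∈ Ideal.span {ρ t ^ N} := by
      obtain ⟨L, hL⟩ := hDIFF (f j) â (fun k => ρ (a₀ k))
      rw [hâ j, zero_sub] at hL
      have h2 : ρ (eval a₀ (f j)) = eval₂ ρ (fun k => ρ (a₀ k)) (f j) := eval₂_comp ρ a₀ (f j)
      rw [h2, ← neg_neg (eval₂ ρ (fun k => ρ (a₀ k)) (f j)), hL]
      exact neg_mem (Ideal.sum_mem _ fun k _ => Ideal.mul_mem_left _ _ (ha₀ k))
    obtain ⟨ε, hε⟩ := Ideal.mem_span_singleton'.mp (hpure N _ hmem)
    exact ⟨ε, by rw [← hε, mul_comm]⟩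
  choose ε hε using h1
  -- (2) Taylor expansion
  have hT : ∀ j, ∃ E : MvPolynomial (Fin n) R,
      aeval (fun i => (C (a₀ i) : MvPolynomial (Fin n) R) + C (t ^ N) * X i) (f j) =
        C (eval a₀ (f j)) + C (t ^ N) * ∑ i, C (eval a₀ (pderiv i (f j))) * X i +
          C (t ^ N) ^ 2 * E := fun j =>
    Groth.Agent.H3.Desing.taylor2 (R := R) (T := MvPolynomial (Fin n) R) a₀ (C (t ^ N)) X (f j)
  choose E hE using hT
  -- apply `eval₂Hom ρ ŵ`
  have hS : ∀ j, ρ (eval a₀ (f j)) + ρ t ^ N * ∑ i, ρ (eval a₀ (pderiv i (f j))) * ŵ i +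
      (ρ t ^ N) ^ 2 * eval₂ ρ ŵ (E j) = 0 := fun j => by
    have h2 := congrArg (eval₂Hom ρ ŵ) (hE j)
    rw [map_aeval] at h2
    have h3 : (eval₂Hom ((eval₂Hom ρ ŵ).comp (algebraMap R (MvPolynomial (Fin n) R)))
        (fun i => eval₂Hom ρ ŵ ((C (a₀ i) : MvPolynomial (Fin n) R) + C (t ^ N) * X i))) (f j) =
        eval₂ ρ â (f j) := by
      rw [coe_eval₂Hom]
      congr 1
      · ext r
        simp
      · funext i
        simp [hŵ i]
    rw [h3, hâ j] at h2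
    rw [h2]
    simp
  -- (3) the Jacobian identity at `a₀`
  have hJac : ∀ p k, ∑ j, eval a₀ (g p j) * eval a₀ (pderiv k (f j)) =
      t ^ e * (if p = k then 1 else 0) + t ^ N * ∑ j, eval a₀ (u p k j) * ε j := fun p k => by
    have h2 := congrArg (eval a₀) (hu p k)
    simp only [map_sub, map_sum, map_mul, eval_C] at h2
    have h3 : ∑ j, eval a₀ (u p k j) * eval a₀ (f j) =
        t ^ N * ∑ j, eval a₀ (u p k j) * ε j := by
      rw [Finset.mul_sum]
      exact Finset.sum_congr rfl fun j _ => by rw [hε j]; ring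
    rw [h3] at h2
    have h4 : eval a₀ (if p = k then (1 : MvPolynomial (Fin n) R) else 0) =
        if p = k then 1 else 0 := by
      split_ifs <;> simp
    rw [h4] at h2
    linear_combination h2
  -- (5) the key identity in `S`
  have key : ∀ p, ρ (∑ j, eval a₀ (g p j) * eval a₀ (f j)) +
      ρ t ^ (N + e) * (ŵ p + ρ t ^ (N - e) *
        (∑ i, ρ (∑ j, eval a₀ (u p i j) * ε j) * ŵ i +
          ∑ j, ρ (eval a₀ (g p j)) * eval₂ ρ ŵ (E j))) = 0 := fun p => by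
    have h0 : ∑ j, ρ (eval a₀ (g p j)) * (ρ (eval a₀ (f j)) +
        ρ t ^ N * ∑ i, ρ (eval a₀ (pderiv i (f j))) * ŵ i +
        (ρ t ^ N) ^ 2 * eval₂ ρ ŵ (E j)) = 0 :=
      Finset.sum_eq_zero fun j _ => by rw [hS j, mul_zero]
    have hA2 : ∑ j, ρ (eval a₀ (g p j)) * ∑ i, ρ (eval a₀ (pderiv i (f j))) * ŵ i =
        ρ t ^ e * ŵ p + ρ t ^ N * ∑ i, ρ (∑ j, eval a₀ (u p i j) * ε j) * ŵ i := by
      calc ∑ j, ρ (eval a₀ (g p j)) * ∑ i, ρ (eval a₀ (pderiv i (f j))) * ŵ i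
          = ∑ j, ∑ i, ρ (eval a₀ (g p j)) * ρ (eval a₀ (pderiv i (f j))) * ŵ i := by
            refine Finset.sum_congr rfl fun j _ => ?_
            rw [Finset.mul_sum]
            exact Finset.sum_congr rfl fun i _ => by ring
        _ = ∑ i, ∑ j, ρ (eval a₀ (g p j)) * ρ (eval a₀ (pderiv i (f j))) * ŵ i :=
            Finset.sum_comm
        _ = ∑ i, ρ (∑ j, eval a₀ (g p j) * eval a₀ (pderiv i (f j))) * ŵ i := by
            refine Finset.sum_congr rfl fun i _ => ?_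
            rw [map_sum, Finset.sum_mul]
            exact Finset.sum_congr rfl fun j _ => by rw [map_mul]
        _ = ∑ i, ((if p = i then ρ t ^ e * ŵ i else 0) +
              ρ t ^ N * (ρ (∑ j, eval a₀ (u p i j) * ε j) * ŵ i)) := by
            refine Finset.sum_congr rfl fun i _ => ?_
            rw [hJac p i]
            split_ifs <;> simp <;> ring
        _ = ρ t ^ e * ŵ p + ρ t ^ N * ∑ i, ρ (∑ j, eval a₀ (u p i j) * ε j) * ŵ i := by
            rw [Finset.sum_add_distrib, Finset.sum_ite_eq, if_pos (Finset.mem_univ _),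
              Finset.mul_sum]
    have hexp : ∑ j, ρ (eval a₀ (g p j)) * (ρ (eval a₀ (f j)) +
        ρ t ^ N * ∑ i, ρ (eval a₀ (pderiv i (f j))) * ŵ i +
        (ρ t ^ N) ^ 2 * eval₂ ρ ŵ (E j)) =
        ρ (∑ j, eval a₀ (g p j) * eval a₀ (f j)) +
        ρ t ^ N * (∑ j, ρ (eval a₀ (g p j)) * ∑ i, ρ (eval a₀ (pderiv i (f j))) * ŵ i) +
        (ρ t ^ N) ^ 2 * ∑ j, ρ (eval a₀ (g p j)) * eval₂ ρ ŵ (E j) := by
      rw [map_sum, Finset.mul_sum, Finset.mul_sum, ← Finset.sum_add_distrib,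
        ← Finset.sum_add_distrib]
      exact Finset.sum_congr rfl fun j _ => by rw [map_mul]; ring
    rw [hexp, hA2] at h0
    have hp3 : ρ t ^ N = ρ t ^ e * ρ t ^ (N - e) := by
      rw [← pow_add]
      congr 1
      omega
    have hp1 : ρ t ^ (N + e) = ρ t ^ e * ρ t ^ (N - e) * ρ t ^ e := by rw [pow_add, hp3]
    rw [hp1]
    rw [hp3] at h0
    linear_combination h0
  -- `b p = t^(N+e) * c p`
  have hc : ∀ p, ∃ c : R, ∑ j, eval a₀ (g p j) * eval a₀ (f j) = t ^ (N + e) * c := fun p => by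
    have hmem : ρ (∑ j, eval a₀ (g p j) * eval a₀ (f j)) ∈ Ideal.span {ρ t ^ (N + e)} := by
      rw [eq_neg_of_add_eq_zero_left (key p)]
      exact neg_mem (Ideal.mul_mem_right _ _ (Ideal.mem_span_singleton_self _))
    obtain ⟨c, hc⟩ := Ideal.mem_span_singleton'.mp (hpure (N + e) _ hmem)
    exact ⟨c, by rw [← hc, mul_comm]⟩
  choose c hc using hc
  -- the polynomial system `Φ`
  let Ψ : Fin n → MvPolynomial (Fin n) R := fun p =>
    ∑ i, C (∑ j, eval a₀ (u p i j) * ε j) * X i + ∑ j, C (eval a₀ (g p j)) * E j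
  let Φ : Fin n → MvPolynomial (Fin n) R := fun p => C (c p) + X p + C (t ^ (N - e)) * Ψ p
  have hΦeval₂ : ∀ (v : Fin n → S) (p : Fin n), eval₂ ρ v (Φ p) =
      ρ (c p) + v p + ρ t ^ (N - e) * eval₂ ρ v (Ψ p) := fun v p => by
    simp only [Φ, eval₂_add, eval₂_mul, eval₂_C, eval₂_X]
    rw [map_pow]
  have hΨŵ : ∀ p, eval₂ ρ ŵ (Ψ p) = ∑ i, ρ (∑ j, eval a₀ (u p i j) * ε j) * ŵ i +
      ∑ j, ρ (eval a₀ (g p j)) * eval₂ ρ ŵ (E j) := fun p => by
    simp only [Ψ, eval₂_add, eval₂_sum, eval₂_mul, eval₂_C, eval₂_X]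
  -- `τ^K θ = 0`
  have hθ : ∀ p, ρ t ^ K * eval₂ ρ ŵ (Φ p) = 0 := fun p => by
    apply hK (N + e)
    rw [hΦeval₂, hΨŵ]
    have h2 := key p
    rw [hc p, map_mul, map_pow] at h2
    linear_combination h2
  -- (7) multivariate Hensel
  have hNe' : N - e = (N - e - 1) + 1 := by omega
  have hΦeval : ∀ (v : Fin n → R) (p : Fin n), eval v (Φ p) =
      c p + v p + t ^ (N - e) * eval v (Ψ p) := fun v p => by
    simp only [Φ, map_add, map_mul, eval_C, eval_X]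
  have hΦpd : ∀ (v : Fin n → R) (p k : Fin n), eval v (pderiv k (Φ p)) =
      (if p = k then 1 else 0) + t ^ (N - e) * eval v (pderiv k (Ψ p)) := fun v p k => by
    simp only [Φ, map_add, pderiv_C, pderiv_X, pderiv_C_mul, map_mul, eval_C, zero_add]
    congr 1
    rw [Pi.single_apply]
    by_cases h1 : p = k
    · subst h1; simp
    · have h2 : ¬ k = p := fun h => h1 h.symm
      simp [h1, h2]
  obtain ⟨w, hw0, -⟩ := hMVH Φ (fun p => - c p)
    (fun p => by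
      rw [hΦeval, hNe', pow_succ']
      refine Ideal.mem_span_singleton'.mpr ⟨t ^ (N - e - 1) * eval (fun p => - c p) (Ψ p), ?_⟩
      ring)
    (by
      rw [RingHom.map_det]
      have h1 : (Ideal.Quotient.mk (Ideal.span {t})).mapMatrix
          (Matrix.of fun p k => eval (fun p => - c p) (pderiv k (Φ p))) = 1 := by
        ext p k
        rw [RingHom.mapMatrix_apply, Matrix.map_apply, Matrix.of_apply, hΦpd, Matrix.one_apply,
          map_add, hNe', pow_succ']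
        have h2 : Ideal.Quotient.mk (Ideal.span {t})
            (t * t ^ (N - e - 1) * eval (fun p => - c p) (pderiv k (Ψ p))) = 0 := by
          rw [Ideal.Quotient.eq_zero_iff_mem]
          refine Ideal.mem_span_singleton'.mpr
            ⟨t ^ (N - e - 1) * eval (fun p => - c p) (pderiv k (Ψ p)), ?_⟩
          ring
        rw [h2, add_zero]
        split_ifs <;> simp
      rw [h1, Matrix.det_one]
      exact isUnit_one)
  -- (8) conclusion
  have hd : ∀ p, ∃ L : Fin n → S, eval₂ ρ ŵ (Ψ p) - eval₂ ρ (fun k => ρ (w k)) (Ψ p) =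
      ∑ k, L k * (ŵ k - ρ (w k)) := fun p => hDIFF (Ψ p) ŵ (fun k => ρ (w k))
  choose L hL using hd
  have hτ' : ρ t ^ (N - e) ∈ Ideal.jacobson (⊥ : Ideal S) := by
    rw [hNe', pow_succ']
    exact Ideal.mul_mem_right _ _ ht
  have hfin : ∀ p, ρ t ^ K * (ŵ p - ρ (w p)) = 0 := by
    refine hINV (ρ t ^ (N - e)) (ρ t ^ K) hτ' L (fun p => ŵ p - ρ (w p))
      (fun p => eval₂ ρ ŵ (Φ p)) (fun p => ?_) hθ
    have h1 : eval₂ ρ (fun k => ρ (w k)) (Φ p) = 0 := by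
      have := eval₂_comp ρ w (Φ p)
      rw [hw0 p, map_zero] at this
      exact this.symm
    have h2 := hΦeval₂ ŵ p
    have h3 := hΦeval₂ (fun k => ρ (w k)) p
    rw [h1] at h3
    have h4 := hL p
    linear_combination (ρ t ^ (N - e)) * (-h4) - h2 + h3
  refine ⟨fun p => a₀ p + t ^ N * w p, fun p => ?_⟩
  have h5 : ρ t ^ N * (ŵ p - ρ (w p)) = 0 := by
    have hNK' : N = (N - K) + K := by omega
    rw [hNK', pow_add, mul_assoc, hfin p, mul_zero]
  rw [hŵ p, map_add, map_mul, map_pow]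
  linear_combination -h5

/-- (P1) -/
theorem principal_step {R S : Type u} [CommRing R] [CommRing S] [IsNoetherianRing S]
    (ρ : R →+* S) (t : R) [HenselianRing R (Ideal.span {t})]
    (ht : ρ t ∈ Ideal.jacobson (⊥ : Ideal S))
    (hpure : ∀ (M : ℕ) (x : R), ρ x ∈ Ideal.span {ρ t ^ M} → x ∈ Ideal.span {t ^ M})
    {n m : ℕ} (f : Fin m → MvPolynomial (Fin n) R) (hf : UnramAt f t)
    (â : Fin n → S) (hâ : ∀ j, eval₂ ρ â (f j) = 0)
    (happ : ∀ N : ℕ, ∃ a : Fin n → R, ∀ k, â k - ρ (a k) ∈ Ideal.span {ρ t ^ N}) :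
    ∃ a : Fin n → R, ∀ k, ρ (a k) = â k :=
  principal_step_aux ρ t ht hpure f hf â hâ happ
    (Groth.Agent.H45.FPA_SML.exists_bound_torsion (ρ t))
    (fun P u v => Groth.Agent.H45.FPA_SML.exists_eval₂_sub ρ P u v)
    (fun τ c hτ L d θ h hθ => Groth.Agent.H45.FPA_SML.eq_zero_of_perturbed τ c hτ L d θ h hθ)
    (fun Φ w₀ h₀ hJ => Groth.Agent.H96.FPA_MVH.mvHensel (Ideal.span {t}) Φ w₀ h₀ hJ)

end Groth.Agent.H29.FPA_P1
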