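import Mathlib
import Groth.Agent.H48.PtFlat10
import Groth.Agent.H49.FibreCritRing
import Groth.Agent.H29.DepthFinite
import Groth.Agent.H29.KollarFlat2

/-!
# Fibrewise regular elements on flat finitely presented modules (towards S19195)
-/

set_option autoImplicit false
set_option linter.style.haveILetI false
set_option maxHeartbeats 400000

universe u

open TensorProduct

namespace Groth.Agent.H29.FibReg

/-- Over a Noetherian ring, if every associated prime of `F` is minimal over the annihilator and `c`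
avoids all those minimal primes, then `c` is `F`-regular. -/
theorem isSMulRegular_of_notMem_minimalPrimes {C F : Type*} [CommRing C] [IsNoetherianRing C]
    [AddCommGroup F] [Module C F]
    (h : associatedPrimes C F ⊆ (Module.annihilator C F).minimalPrimes) (c : C)
    (hc : ∀ P ∈ (Module.annihilator C F).minimalPrimes, c ∉ P) : IsSMulRegular F c := by
  by_contra hreg
  have hmem : c ∈ {r : C | IsSMulRegular F r}ᶜ := hreg
  rw [← biUnion_associatedPrimes_eq_compl_regular C F] at hmem
  obtain ⟨P, hP, hcP⟩ := Set.mem_iUnion₂.mp hmem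
  exact hc P (h hP) hcP

/-- `1 ⊗ y = 0` in `κ(p) ⊗ M` forces `c y ∈ p M` for some `c ∉ p`. -/
theorem exists_smul_mem_of_one_tmul_eq_zero {A : Type u} [CommRing A] (p : Ideal A) [p.IsPrime]
    {M : Type u} [AddCommGroup M] [Module A M] (y : M)
    (h : (1 : p.ResidueField) ⊗ₜ[A] y = 0) :
    ∃ c : A, c ∉ p ∧ c • y ∈ p • (⊤ : Submodule A M) := by
  let N' := (A ⧸ p) ⊗[A] M
  let e : p.ResidueField ⊗[A ⧸ p] N' ≃ₗ[p.ResidueField] p.ResidueField ⊗[A] M :=
    TensorProduct.AlgebraTensorModule.cancelBaseChange A (A ⧸ p) p.ResidueField p.ResidueField M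
  have h1 : (1 : p.ResidueField) ⊗ₜ[A ⧸ p] ((1 : A ⧸ p) ⊗ₜ[A] y : N') = 0 := by
    apply e.injective
    rw [map_zero]
    change e ((1 : p.ResidueField) ⊗ₜ[A ⧸ p] ((1 : A ⧸ p) ⊗ₜ[A] y)) = 0
    rw [TensorProduct.AlgebraTensorModule.cancelBaseChange_tmul, one_smul]
    exact h
  have hbc : IsBaseChange p.ResidueField (TensorProduct.mk (A ⧸ p) p.ResidueField N' 1) :=
    TensorProduct.isBaseChange (A ⧸ p) N' p.ResidueField
  haveI : IsLocalizedModule (nonZeroDivisors (A ⧸ p))
      (TensorProduct.mk (A ⧸ p) p.ResidueField N' 1) :=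
    (isLocalizedModule_iff_isBaseChange (nonZeroDivisors (A ⧸ p)) p.ResidueField _).mpr hbc
  obtain ⟨c, hc⟩ := (IsLocalizedModule.eq_zero_iff (nonZeroDivisors (A ⧸ p))
    (TensorProduct.mk (A ⧸ p) p.ResidueField N' 1)).mp h1
  obtain ⟨c0, hc0⟩ := Ideal.Quotient.mk_surjective (c : A ⧸ p)
  refine ⟨c0, fun hmem => ?_, ?_⟩
  · have : (c : A ⧸ p) = 0 := by rw [← hc0]; exact Ideal.Quotient.eq_zero_iff_mem.mpr hmem
    exact nonZeroDivisors.coe_ne_zero c this
  · apply Groth.Agent.H48.FlatLimit.mem_smul_top_of_one_tmul_eq_zero p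
    have h2 : (c : A ⧸ p) • ((1 : A ⧸ p) ⊗ₜ[A] y : N') = 0 := hc
    rw [TensorProduct.smul_tmul', smul_eq_mul, mul_one, ← hc0] at h2
    rw [TensorProduct.tmul_smul, TensorProduct.smul_tmul', Algebra.smul_def, mul_one,
      Ideal.Quotient.algebraMap_eq]
    exact h2

section Fibre

variable {A B : Type u} [CommRing A] [CommRing B] [Algebra A B] (p : Ideal A) [p.IsPrime]
  {M : Type u} [AddCommGroup M] [Module B M] [Module A M] [IsScalarTower A B M]

omit [Module A M] [IsScalarTower A B M] in
theorem tau_smul (a : B) (y : M) :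
    (a ⊗ₜ[A] (1 : p.ResidueField) : B ⊗[A] p.ResidueField) •
      ((1 : B ⊗[A] p.ResidueField) ⊗ₜ[B] y) = (1 : B ⊗[A] p.ResidueField) ⊗ₜ[B] (a • y) := by
  rw [TensorProduct.smul_tmul', smul_eq_mul, mul_one, TensorProduct.tmul_smul,
    TensorProduct.smul_tmul', Algebra.smul_def, mul_one]
  rfl

theorem tau_eq_zero_of_mem (y : M) (hy : y ∈ p • (⊤ : Submodule A M)) :
    ((1 : B ⊗[A] p.ResidueField) ⊗ₜ[B] y) = 0 := by
  refine Submodule.smul_induction_on hy (fun r hr n _ => ?_) (fun a b ha hb => ?_)
  · rw [← algebraMap_smul B r n, TensorProduct.tmul_smul, TensorProduct.smul_tmul',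
      Algebra.smul_def, mul_one]
    have : algebraMap B (B ⊗[A] p.ResidueField) (algebraMap A B r) = 0 := by
      change (algebraMap A B r) ⊗ₜ[A] (1 : p.ResidueField) = 0
      rw [Algebra.algebraMap_eq_smul_one, TensorProduct.smul_tmul, Algebra.smul_def, mul_one,
        Ideal.algebraMap_residueField_eq_zero.mpr hr, TensorProduct.tmul_zero]
    rw [this, TensorProduct.zero_tmul]
  · rw [TensorProduct.tmul_add, ha, hb, add_zero]

theorem exists_of_tau_eq_zero (y : M) (h : ((1 : B ⊗[A] p.ResidueField) ⊗ₜ[B] y) = 0) :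
    ∃ c : A, c ∉ p ∧ c • y ∈ p • (⊤ : Submodule A M) := by
  apply exists_smul_mem_of_one_tmul_eq_zero p y
  let e₁ : (B ⊗[A] p.ResidueField) ⊗[B] M ≃ₗ[B] M ⊗[B] (B ⊗[A] p.ResidueField) :=
    TensorProduct.comm B _ _
  let e₂ : M ⊗[B] (B ⊗[A] p.ResidueField) ≃ₗ[B] M ⊗[A] p.ResidueField :=
    TensorProduct.AlgebraTensorModule.cancelBaseChange A B B M p.ResidueField
  let e₃ : M ⊗[A] p.ResidueField ≃ₗ[A] p.ResidueField ⊗[A] M := TensorProduct.comm A _ _
  have h1 := congrArg e₁ h
  rw [map_zero] at h1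
  change y ⊗ₜ[B] ((1 : B) ⊗ₜ[A] (1 : p.ResidueField)) = 0 at h1
  have h2 := congrArg e₂ h1
  rw [map_zero] at h2
  change e₂ (y ⊗ₜ[B] ((1 : B) ⊗ₜ[A] (1 : p.ResidueField))) = 0 at h2
  rw [TensorProduct.AlgebraTensorModule.cancelBaseChange_tmul, one_smul] at h2
  have h3 := congrArg e₃ h2
  rw [map_zero] at h3
  exact h3

/-- If `a ⊗ 1` is regular on the fibre module over `p`, then `a y ∈ p M` implies `c y ∈ p M` for some
`c ∉ p`. -/
theorem exists_smul_mem_of_smul_mem (a : B)
    (hreg : IsSMulRegular ((B ⊗[A] p.ResidueField) ⊗[B] M)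
      (a ⊗ₜ[A] (1 : p.ResidueField) : B ⊗[A] p.ResidueField))
    (y : M) (hy : a • y ∈ p • (⊤ : Submodule A M)) :
    ∃ c : A, c ∉ p ∧ c • y ∈ p • (⊤ : Submodule A M) := by
  apply exists_of_tau_eq_zero (B := B) p y
  apply hreg
  change (a ⊗ₜ[A] (1 : p.ResidueField) : B ⊗[A] p.ResidueField) •
      ((1 : B ⊗[A] p.ResidueField) ⊗ₜ[B] y) = (a ⊗ₜ[A] (1 : p.ResidueField) : B ⊗[A] p.ResidueField) • 0
  rw [smul_zero, tau_smul]
  exact tau_eq_zero_of_mem p _ hy

end Fibre

section Loc

variable {A B : Type u} [CommRing A] [CommRing B] [Algebra A B]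
  {M : Type u} [AddCommGroup M] [Module B M] [Module A M] [IsScalarTower A B M]

/-- Membership in the localization of `pM` is tested by the criterion `H`. -/
theorem mem_localized_of_smul_mem (a : B) (q : Ideal B) [q.IsPrime]
    (H : ∀ y : M, a • y ∈ (q.comap (algebraMap A B)) • (⊤ : Submodule A M) →
      ∃ c : A, c ∉ q.comap (algebraMap A B) ∧ c • y ∈ (q.comap (algebraMap A B)) • (⊤ : Submodule A M))
    (x : LocalizedModule q.primeCompl M)
    (hx : algebraMap B (Localization.AtPrime q) a • x ∈
      (((q.comap (algebraMap A B)).map (algebraMap A B)) • (⊤ : Submodule B M)).localized'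
        (Localization.AtPrime q) q.primeCompl (LocalizedModule.mkLinearMap q.primeCompl M)) :
    x ∈ (((q.comap (algebraMap A B)).map (algebraMap A B)) • (⊤ : Submodule B M)).localized'
        (Localization.AtPrime q) q.primeCompl (LocalizedModule.mkLinearMap q.primeCompl M) := by
  set f := LocalizedModule.mkLinearMap q.primeCompl M with hf
  obtain ⟨⟨m, s⟩, rfl⟩ := IsLocalizedModule.mk'_surjective q.primeCompl f x
  rw [Submodule.mem_localized'] at hx ⊢
  obtain ⟨m', hm', s', hms⟩ := hx
  simp only [Function.uncurry_apply_pair] at hms ⊢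
  rw [algebraMap_smul, ← IsLocalizedModule.mk'_smul, IsLocalizedModule.mk'_eq_mk'_iff] at hms
  obtain ⟨w, hw⟩ := hms
  -- a • (w s' m) = w s m' ∈ P
  have h1 : a • ((w : B) • (s' : B) • m) ∈
      (q.comap (algebraMap A B)) • (⊤ : Submodule A M) := by
    rw [← Groth.Agent.H29.DepthFinite.smul_top_iff (B := B)]
    have : a • ((w : B) • (s' : B) • m) = (w : B) • (s : B) • m' := by
      have hw' : (w : B) • (s : B) • m' = (w : B) • (s' : B) • a • m := hw.symm
      rw [hw', smul_comm a (w : B), smul_comm a (s' : B)]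
    rw [this]
    exact Submodule.smul_mem _ _ (Submodule.smul_mem _ _ hm')
  obtain ⟨c, hc, hcy⟩ := H _ h1
  rw [← Groth.Agent.H29.DepthFinite.smul_top_iff (B := B)] at hcy
  have hcq : algebraMap A B c ∈ q.primeCompl := fun h => hc h
  refine ⟨c • ((w : B) • (s' : B) • m), hcy, ⟨algebraMap A B c, hcq⟩ * w * s' * s, ?_⟩
  rw [IsLocalizedModule.mk'_eq_mk'_iff]
  refine ⟨1, ?_⟩
  simp only [one_smul, Submonoid.smul_def, Submonoid.coe_mul]
  rw [← algebraMap_smul B c ((w : B) • (s' : B) • m)]
  simp only [smul_smul]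
  congr 1
  ring

/-- Regularity of `a` on `M_q` from the fibrewise criterion `H` at `p = q ∩ A`. -/
theorem isSMulRegular_localizedModule [Algebra.FinitePresentation A B]
    [Module.FinitePresentation B M] [Module.Flat A M] (a : B) (q : Ideal B) [q.IsPrime]
    (H : ∀ y : M, a • y ∈ (q.comap (algebraMap A B)) • (⊤ : Submodule A M) →
      ∃ c : A, c ∉ q.comap (algebraMap A B) ∧ c • y ∈ (q.comap (algebraMap A B)) • (⊤ : Submodule A M)) :
    IsSMulRegular (LocalizedModule q.primeCompl M) (algebraMap B (Localization.AtPrime q) a) := by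
  set p : Ideal A := q.comap (algebraMap A B) with hp
  haveI : p.IsPrime := Ideal.comap_isPrime _ _
  let R := Localization.AtPrime p
  let S := Localization.AtPrime q
  let N := LocalizedModule q.primeCompl M
  letI algRS : Algebra R S := (Localization.localRingHom p q (algebraMap A B) rfl).toAlgebra
  haveI : IsLocalHom (algebraMap R S) :=
    Localization.isLocalHom_localRingHom p q (algebraMap A B) rfl
  haveI tARS : IsScalarTower A R S := IsScalarTower.of_algebraMap_eq (fun x => by
    change algebraMap A S x = Localization.localRingHom p q (algebraMap A B) rfl (algebraMap A R x)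
    rw [Localization.localRingHom_to_map, ← IsScalarTower.algebraMap_apply])
  letI modRN : Module R N := Module.compHom N (algebraMap R S)
  haveI tRSN : IsScalarTower R S N := ⟨fun r s n => by
    change (algebraMap R S r * s) • n = algebraMap R S r • (s • n)
    rw [mul_smul]⟩
  haveI tARN : IsScalarTower A R N := ⟨fun x r n => by
    change algebraMap R S (x • r) • n = x • (algebraMap R S r • n)
    rw [Algebra.smul_def, map_mul, ← IsScalarTower.algebraMap_apply A R S, mul_smul,
      algebraMap_smul]⟩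
  obtain ⟨alg, tower, T, hT⟩ :=
    Groth.Agent.H49.FibreCrit.exists_tensor_localization A B R S p q rfl
  haveI : Module.Flat A N := Groth.Agent.H29.KollarFlat.flat_localizedModule q.primeCompl M
  haveI : Module.Flat R N := (Module.flat_iff_of_isLocalization R p.primeCompl N).mpr inferInstance
  haveI : Module.FinitePresentation S N := inferInstance
  -- the ideal identity
  have hideal : (IsLocalRing.maximalIdeal R).map (algebraMap R S) =
      (p.map (algebraMap A B)).map (algebraMap B S) := by
    rw [← Localization.AtPrime.map_eq_maximalIdeal, Ideal.map_map, Ideal.map_map,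
      ← IsScalarTower.algebraMap_eq, ← IsScalarTower.algebraMap_eq]
  have hsub : (IsLocalRing.maximalIdeal R).map (algebraMap R S) • (⊤ : Submodule S N) =
      ((p.map (algebraMap A B)) • (⊤ : Submodule B M)).localized' S q.primeCompl
        (LocalizedModule.mkLinearMap q.primeCompl M) := by
    rw [Submodule.localized'_smul, Ideal.localized'_eq_map, Submodule.localized'_top, hideal]
  have hu : ∀ x : N, (LinearMap.lsmul S N (algebraMap B S a)) x ∈
      (IsLocalRing.maximalIdeal R).map (algebraMap R S) • (⊤ : Submodule S N) →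
      x ∈ (IsLocalRing.maximalIdeal R).map (algebraMap R S) • (⊤ : Submodule S N) := by
    intro x hx
    rw [hsub] at hx ⊢
    exact mem_localized_of_smul_mem a q H x hx
  have hinj := Groth.Agent.H48.PtFlat.lTensor_injective_of_local (R := R) (S := S) (M := N)
    (N := N) (R ⊗[A] B) T (LinearMap.lsmul S N (algebraMap B S a)) hu R
  intro x y hxy
  have h1 : ((LinearMap.lsmul S N (algebraMap B S a)).restrictScalars R).lTensor R
      ((1 : R) ⊗ₜ[R] x) = ((LinearMap.lsmul S N (algebraMap B S a)).restrictScalars R).lTensor R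
      ((1 : R) ⊗ₜ[R] y) := by
    rw [LinearMap.lTensor_tmul, LinearMap.lTensor_tmul]
    congr 1
  have h2 := hinj h1
  have h3 := congrArg (TensorProduct.lid R N) h2
  simpa using h3

end Loc

end Groth.Agent.H29.FibReg
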