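import Mathlib

/-!
# Gluing algebras at finitely many maximal ideals

`A` Noetherian, `m₁, …, m_r` distinct maximal ideals, `B_i` an `A`-algebra on which the elements
outside `m_i` act invertibly, such that kernel and cokernel of `A → B_i` are (locally) killed by
a power of `m_i`.  We construct an `A`-algebra `C` with `C_{m_i} = B_i` and `C_p = A_p` elsewhere,
as the `J`-saturation (`J = ⋂ m_i`) of the image of `A` inside
`∏ B_i × ∏_{n other maximal} A_n`.
-/

set_option autoImplicit false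
set_option maxHeartbeats 400000
set_option linter.style.haveILetI false
universe u

namespace Groth.Agent.H29.GlueMax

section Sat

variable {A : Type u} [CommRing A] {E : Type u} [CommRing E] [Algebra A E]

/-- the colon ideal `(image of A : e)`. -/
def col (e : E) : Ideal A where
  carrier := {a | a • e ∈ Set.range (algebraMap A E)}
  add_mem' := by
    rintro a b ⟨x, hx⟩ ⟨y, hy⟩
    exact ⟨x + y, by rw [map_add, hx, hy, add_smul]⟩
  zero_mem' := ⟨0, by simp⟩
  smul_mem' := by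
    rintro c a ⟨x, hx⟩
    exact ⟨c * x, by rw [map_mul, hx, smul_eq_mul, mul_smul, Algebra.smul_def c (a • e)]⟩

theorem mem_col {e : E} {a : A} : a ∈ col (A := A) e ↔ ∃ x : A, algebraMap A E x = a • e :=
  Iff.rfl

theorem col_mul_le (e e' : E) : col (A := A) e * col e' ≤ col (e * e') := by
  rw [Ideal.mul_le]
  rintro a ⟨x, hx⟩ b ⟨y, hy⟩
  exact ⟨x * y, by rw [map_mul, hx, hy, smul_mul_smul_comm]⟩

theorem col_inf_le_add (e e' : E) : col (A := A) e ⊓ col e' ≤ col (e + e') := by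
  rintro a ⟨⟨x, hx⟩, ⟨y, hy⟩⟩
  exact ⟨x + y, by rw [map_add, hx, hy, smul_add]⟩

theorem col_algebraMap (a : A) : col (A := A) (algebraMap A E a) = ⊤ := by
  rw [Ideal.eq_top_iff_one]
  exact ⟨a, by rw [one_smul]⟩

theorem col_le_col_smul (a : A) (e : E) : col (A := A) e ≤ col (a • e) := by
  rintro b ⟨x, hx⟩
  exact ⟨a * x, by rw [map_mul, hx, smul_comm, Algebra.smul_def a (b • e)]⟩

end Sat

section Sat2

variable {A : Type u} [CommRing A] (J : Ideal A) (E : Type u) [CommRing E] [Algebra A E]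

/-- the `J`-saturation of the image of `A` in `E`. -/
def sat : Subalgebra A E where
  carrier := {e | ∃ N : ℕ, J ^ N ≤ col e}
  mul_mem' := by
    rintro e e' ⟨N, hN⟩ ⟨M, hM⟩
    exact ⟨N + M, by rw [pow_add]; exact (Ideal.mul_mono hN hM).trans (col_mul_le e e')⟩
  add_mem' := by
    rintro e e' ⟨N, hN⟩ ⟨M, hM⟩
    exact ⟨max N M, le_trans (le_inf ((Ideal.pow_le_pow_right (le_max_left N M)).trans hN)
      ((Ideal.pow_le_pow_right (le_max_right N M)).trans hM)) (col_inf_le_add e e')⟩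
  algebraMap_mem' := fun a => ⟨0, by rw [col_algebraMap]; exact le_top⟩

variable {J E}

theorem mem_sat {e : E} : e ∈ sat J E ↔ ∃ N : ℕ, J ^ N ≤ col e := Iff.rfl

end Sat2

section Max

variable {A : Type u} [CommRing A] {r : ℕ} (m : Fin r → Ideal A)

/-- the maximal ideals other than the `m i`. -/
def Idx : Type u := {n : MaximalSpectrum A // n.asIdeal ∉ Set.range m}

variable {m}
variable (hm : ∀ i, (m i).IsMaximal) (hinj : Function.Injective m)

include hm in
theorem exists_mem_notMem_idx (n : Idx m) (i : Fin r) : ∃ z ∈ m i, z ∉ n.1.asIdeal := by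
  by_contra hcon
  have hle : m i ≤ n.1.asIdeal := fun z hz => by
    by_contra hzn
    exact hcon ⟨z, hz, hzn⟩
  exact n.2 ⟨i, (hm i).eq_of_le n.1.isMaximal.ne_top hle⟩

theorem eq_top_of_not_le (𝔞 : Ideal A) (h1 : ∀ i, ¬ 𝔞 ≤ m i)
    (h2 : ∀ n : Idx m, ¬ 𝔞 ≤ n.1.asIdeal) : 𝔞 = ⊤ := by
  by_contra hne
  obtain ⟨M, hM, hle⟩ := Ideal.exists_le_maximal 𝔞 hne
  by_cases hMr : M ∈ Set.range m
  · obtain ⟨i, rfl⟩ := hMr
    exact h1 i hle
  · exact h2 ⟨⟨M, hM⟩, hMr⟩ hle

include hm in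
theorem pow_iInf_not_le_idx (n : Idx m) (N : ℕ) : ¬ (⨅ i, m i) ^ N ≤ n.1.asIdeal := by
  intro hle
  have hprime : n.1.asIdeal.IsPrime := n.1.isMaximal.isPrime
  have h1 : (⨅ i, m i) ≤ n.1.asIdeal := hprime.le_of_pow_le hle
  have h2 : (Finset.univ.inf m) ≤ n.1.asIdeal := by rwa [Finset.inf_univ_eq_iInf]
  obtain ⟨i, _, hi⟩ := (Ideal.IsPrime.inf_le' hprime).mp h2
  exact n.2 ⟨i, (hm i).eq_of_le n.1.isMaximal.ne_top hi⟩

include hm hinj in
/-- an element outside `m i` lying in all the other `m i'`. -/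
theorem exists_sep (i : Fin r) : ∃ z : A, z ∉ m i ∧ ∀ i', i' ≠ i → z ∈ m i' := by
  classical
  have h : ∀ i' : Fin r, ∃ z : A, z ∉ m i ∧ (i' ≠ i → z ∈ m i') := by
    intro i'
    by_cases hi : i' = i
    · exact ⟨1, fun h1 => (hm i).ne_top ((Ideal.eq_top_iff_one _).mpr h1), fun h => absurd hi h⟩
    · have : ¬ m i' ≤ m i := fun hle => hi (hinj ((hm i').eq_of_le (hm i).ne_top hle))
      obtain ⟨z, hz, hz'⟩ := Set.not_subset.mp this
      exact ⟨z, hz', fun _ => hz⟩
  choose g hg1 hg2 using h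
  haveI : (m i).IsPrime := (hm i).isPrime
  refine ⟨∏ i', g i', ?_, ?_⟩
  · intro hmem
    obtain ⟨i', _, hi'⟩ := Ideal.IsPrime.prod_mem_iff.mp hmem
    exact hg1 i' hi'
  · intro i' hi'
    rw [← Finset.mul_prod_erase Finset.univ g (Finset.mem_univ i')]
    exact Ideal.mul_mem_right _ _ (hg2 i' hi')

theorem sep_pow_mul_mem {i : Fin r} {z : A} (hz : ∀ i', i' ≠ i → z ∈ m i') (M : ℕ) {w : A}
    (hw : w ∈ m i ^ M) : z ^ M * w ∈ (⨅ i, m i) ^ M := by
  have h1 : Ideal.span {z} * m i ≤ ⨅ i, m i := by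
    rw [Ideal.mul_le]
    intro a ha b hb
    rw [Ideal.mem_span_singleton'] at ha
    obtain ⟨c, rfl⟩ := ha
    rw [Ideal.mem_iInf]
    intro i'
    by_cases hi : i' = i
    · subst hi
      exact Ideal.mul_mem_left _ _ hb
    · exact Ideal.mul_mem_right _ _ (Ideal.mul_mem_left _ _ (hz i' hi))
  have h2 := Ideal.pow_right_mono h1 M
  rw [mul_pow, Ideal.span_singleton_pow] at h2
  exact h2 (Ideal.mul_mem_mul (Ideal.mem_span_singleton_self _) hw)

end Max

section Glue

variable {A : Type u} [CommRing A] [IsNoetherianRing A] {r : ℕ} {m : Fin r → Ideal A}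
  (hm : ∀ i, (m i).IsMaximal) (hinj : Function.Injective m)
  (B : Fin r → Type u) [∀ i, CommRing (B i)] [∀ i, Algebra A (B i)]
  (hunit : ∀ i (s : A), s ∉ m i → IsUnit (algebraMap A (B i) s))

variable (m) in
/-- the ambient ring `∏ B_i × ∏_{n other maximal} A_n`. -/
abbrev Amb : Type u := (∀ i, B i) × (∀ n : Idx m, Localization.AtPrime n.1.asIdeal)

omit [IsNoetherianRing A] in
include hm in
theorem tor_snd (e : Amb m B) (M : ℕ) (h : ∀ y ∈ (⨅ i, m i) ^ M, y • e = 0) (n : Idx m) :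
    e.2 n = 0 := by
  obtain ⟨y, hy, hyn⟩ := Set.not_subset.mp (pow_iInf_not_le_idx hm n M)
  have h1 := congrArg (fun e => e.2 n) (h y hy)
  simp only [Prod.smul_snd, Pi.smul_apply, Prod.snd_zero, Pi.zero_apply] at h1
  have hu : IsUnit (algebraMap A (Localization.AtPrime n.1.asIdeal) y) :=
    IsLocalization.map_units _ (⟨y, hyn⟩ : n.1.asIdeal.primeCompl)
  rw [Algebra.smul_def] at h1
  exact (hu.mul_right_eq_zero).mp h1

omit [IsNoetherianRing A] in
include hm hinj hunit in
theorem tor_fst (e : Amb m B) (M : ℕ) (h : ∀ y ∈ (⨅ i, m i) ^ M, y • e = 0) (i : Fin r) :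
    ∀ w ∈ m i ^ M, w • e.1 i = 0 := by
  intro w hw
  obtain ⟨z, hz, hz'⟩ := exists_sep hm hinj i
  have h1 := h _ (sep_pow_mul_mem hz' M hw)
  have h2 := congrArg (fun e => e.1 i) h1
  simp only [Prod.smul_fst, Pi.smul_apply, Prod.fst_zero, Pi.zero_apply] at h2
  rw [mul_smul, Algebra.smul_def] at h2
  haveI := (hm i).isPrime
  have hu : IsUnit (algebraMap A (B i) (z ^ M)) :=
    hunit i _ (fun hmem => hz (Ideal.IsPrime.mem_of_pow_mem inferInstance M hmem))
  exact (hu.mul_right_eq_zero).mp h2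

include hm hinj hunit in
/-- an element of the saturation vanishing in `B i` is killed by some `s ∉ m i`. -/
theorem exists_smul_eq_zero
    (hker : ∀ i, ∃ n : ℕ, ∀ a : A, algebraMap A (B i) a = 0 → ∀ y ∈ m i ^ n,
      ∃ s, s ∉ m i ∧ s * y * a = 0)
    (i : Fin r) (e : Amb m B) (he : e ∈ sat (⨅ i, m i) (Amb m B)) (hei : e.1 i = 0) :
    ∃ s, s ∉ m i ∧ s • e = 0 := by
  classical
  obtain ⟨N, hN⟩ := he
  obtain ⟨n, hn⟩ := hker i
  haveI := (hm i).isPrime
  obtain ⟨T, hT⟩ := (isNoetherianRing_iff_ideal_fg A).mp inferInstance ((⨅ i, m i) ^ N)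
  obtain ⟨T', hT'⟩ := (isNoetherianRing_iff_ideal_fg A).mp inferInstance (m i ^ n)
  have h1 : ∀ y ∈ T, ∃ a : A, algebraMap A (Amb m B) a = y • e :=
    fun y hy => hN (hT ▸ Ideal.subset_span hy)
  have h2 : ∀ y ∈ T, ∀ w ∈ T', ∃ s, s ∉ m i ∧ (s * w * y) • e = 0 := by
    intro y hy w hw
    obtain ⟨a, ha⟩ := h1 y hy
    have hai : algebraMap A (B i) a = 0 := by
      have := congrArg (fun e => e.1 i) ha
      simpa [hei] using this
    obtain ⟨s, hs, hsa⟩ := hn a hai w (hT' ▸ Ideal.subset_span hw)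
    refine ⟨s, hs, ?_⟩
    rw [mul_smul, ← ha, Algebra.smul_def, ← map_mul, hsa, map_zero]
  choose! s hs hs0 using h2
  set s₁ : A := ∏ y ∈ T, ∏ w ∈ T', s y w with hs₁
  have hs₁m : s₁ ∉ m i := by
    intro hmem
    obtain ⟨y, hy, hmem'⟩ := Ideal.IsPrime.prod_mem_iff.mp hmem
    obtain ⟨w, hw, hmem''⟩ := Ideal.IsPrime.prod_mem_iff.mp hmem'
    exact hs y hy w hw hmem''
  have h3 : ∀ y ∈ T, ∀ w ∈ T', (w * y) • (s₁ • e) = 0 := by
    intro y hy w hw
    have hd : s y w ∣ s₁ :=
      (Finset.dvd_prod_of_mem _ hw).trans (Finset.dvd_prod_of_mem (fun y => ∏ w ∈ T', s y w) hy)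
    obtain ⟨c, hc⟩ := hd
    have : (w * y) • (s₁ • e) = c • ((s y w * w * y) • e) := by
      rw [smul_smul, smul_smul, hc]
      congr 1
      ring
    rw [this, hs0 y hy w hw, smul_zero]
  have h4 : m i ^ n * (⨅ i, m i) ^ N ≤ (Submodule.span A ({s₁ • e} : Set (Amb m B))).annihilator := by
    rw [← hT, ← hT', Ideal.span_mul_span', Ideal.span_le]
    rintro _ ⟨w, hw, y, hy, rfl⟩
    rw [SetLike.mem_coe, Submodule.mem_annihilator_span_singleton]
    exact h3 y hy w hw
  have h5 : ∀ y ∈ (⨅ i, m i) ^ (n + N), y • (s₁ • e) = 0 := by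
    intro y hy
    rw [pow_add] at hy
    have := h4 (Ideal.mul_mono_left (Ideal.pow_right_mono (iInf_le m i) n) hy)
    rwa [Submodule.mem_annihilator_span_singleton] at this
  have h6 := tor_snd hm B (s₁ • e) (n + N) h5
  have h7 := tor_fst hm hinj B hunit (s₁ • e) (n + N) h5
  obtain ⟨z, hz, hz'⟩ := exists_sep hm hinj i
  refine ⟨z ^ (n + N) * s₁, ?_, ?_⟩
  · intro hmem
    rcases Ideal.IsPrime.mem_or_mem inferInstance hmem with h | h
    · exact hz (Ideal.IsPrime.mem_of_pow_mem inferInstance _ h)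
    · exact hs₁m h
  · rw [mul_smul]
    refine Prod.ext ?_ ?_
    · funext i'
      by_cases hi : i' = i
      · subst hi
        simp [hei]
      · have := h7 i' _ (Ideal.pow_mem_pow (hz' i' hi) (n + N))
        simpa using this
    · funext n'
      have := h6 n'
      simp only [Prod.smul_snd, Pi.smul_apply, Prod.snd_zero, Pi.zero_apply] at this ⊢
      rw [this, smul_zero]

omit [IsNoetherianRing A] in
theorem coord_spec {R : Type u} [CommRing R] [Algebra A R] (u h hl a a' : A) (n nk : ℕ)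
    (hu : IsUnit (algebraMap A R h))
    (hδ : u * h ^ nk * (h ^ n * a - hl ^ n * a') = 0) :
    hl ^ n • (algebraMap A R (u * a') * Ring.inverse (algebraMap A R h) ^ n) =
      algebraMap A R (u * a) := by
  have hxv : algebraMap A R h * Ring.inverse (algebraMap A R h) = 1 :=
    Ring.mul_inverse_cancel _ hu
  have hxvn : algebraMap A R h ^ n * Ring.inverse (algebraMap A R h) ^ n = 1 := by
    rw [← mul_pow, hxv, one_pow]
  have e1 : algebraMap A R u * (algebraMap A R h ^ n * algebraMap A R a -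
      algebraMap A R hl ^ n * algebraMap A R a') = 0 := by
    have h0 := congrArg (algebraMap A R) hδ
    simp only [map_mul, map_sub, map_pow, map_zero] at h0
    have hunk : IsUnit (algebraMap A R h ^ nk) := hu.pow nk
    have h1 : algebraMap A R h ^ nk * (algebraMap A R u * (algebraMap A R h ^ n * algebraMap A R a -
        algebraMap A R hl ^ n * algebraMap A R a')) = 0 := by
      rw [← h0]; ring
    exact (hunk.mul_right_eq_zero).mp h1
  rw [Algebra.smul_def, map_pow, map_mul, map_mul]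
  linear_combination (-(Ring.inverse (algebraMap A R h) ^ n)) * e1 +
    (algebraMap A R u * algebraMap A R a) * hxvn

include hm hinj hunit in
/-- every element of `B i` is, up to some `s ∉ m i`, the `i`-th coordinate of an element of the
saturation. -/
theorem exists_mem_sat_fst
    (hker : ∀ i, ∃ n : ℕ, ∀ a : A, algebraMap A (B i) a = 0 → ∀ y ∈ m i ^ n,
      ∃ s, s ∉ m i ∧ s * y * a = 0)
    (hcoker : ∀ i, ∃ n : ℕ, ∀ b : B i, ∀ y ∈ m i ^ n,
      ∃ s, s ∉ m i ∧ ∃ a : A, s • (y • b) = algebraMap A (B i) a)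
    (i : Fin r) (b : B i) :
    ∃ s, s ∉ m i ∧ ∃ c ∈ sat (⨅ i, m i) (Amb m B), c.1 i = s • b := by
  classical
  obtain ⟨n, hn⟩ := hcoker i
  obtain ⟨nk, hnk⟩ := hker i
  haveI := (hm i).isPrime
  obtain ⟨T, hT⟩ := (isNoetherianRing_iff_ideal_fg A).mp inferInstance (m i)
  have hTm : ∀ h ∈ T, h ∈ m i := fun h hh => hT ▸ Ideal.subset_span hh
  have h1 : ∀ h ∈ T, ∃ s, s ∉ m i ∧ ∃ a : A, s • (h ^ n • b) = algebraMap A (B i) a :=
    fun h hh => hn b (h ^ n) (Ideal.pow_mem_pow (hTm h hh) n)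
  choose! s hs a ha using h1
  obtain ⟨t, ht_def⟩ : ∃ t : A, t = ∏ h ∈ T, s h := ⟨_, rfl⟩
  have ht : t ∉ m i := by
    intro hmem
    rw [ht_def] at hmem
    obtain ⟨h, hh, hmem'⟩ := Ideal.IsPrime.prod_mem_iff.mp hmem
    exact hs h hh hmem'
  obtain ⟨a', ha'_def⟩ : ∃ a' : A → A, ∀ h, a' h = a h * ∏ h' ∈ T.erase h, s h' :=
    ⟨_, fun _ => rfl⟩
  have ha' : ∀ h ∈ T, h ^ n • (t • b) = algebraMap A (B i) (a' h) := by
    intro h hh
    have h0 : t = s h * ∏ h' ∈ T.erase h, s h' := by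
      rw [ht_def]; exact (Finset.mul_prod_erase T s hh).symm
    rw [ha'_def]
    rw [map_mul, ← ha h hh, h0]
    simp only [Algebra.smul_def, map_mul, map_pow]
    ring
  have hδ0 : ∀ h ∈ T, ∀ h' ∈ T,
      algebraMap A (B i) (h' ^ n * a' h - h ^ n * a' h') = 0 := by
    intro h hh h' hh'
    rw [map_sub, map_mul, map_mul, ← ha' h hh, ← ha' h' hh']
    simp only [Algebra.smul_def, map_pow]
    ring
  have h2 : ∀ h ∈ T, ∀ h' ∈ T, ∃ u, u ∉ m i ∧
      u * h' ^ nk * (h' ^ n * a' h - h ^ n * a' h') = 0 :=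
    fun h hh h' hh' => hnk _ (hδ0 h hh h' hh') (h' ^ nk) (Ideal.pow_mem_pow (hTm h' hh') nk)
  choose! u hu hu0 using h2
  obtain ⟨U, hU_def⟩ : ∃ U : A, U = ∏ h ∈ T, ∏ h' ∈ T, u h h' := ⟨_, rfl⟩
  have hU : U ∉ m i := by
    intro hmem
    rw [hU_def] at hmem
    obtain ⟨h, hh, hmem'⟩ := Ideal.IsPrime.prod_mem_iff.mp hmem
    obtain ⟨h', hh', hmem''⟩ := Ideal.IsPrime.prod_mem_iff.mp hmem'
    exact hu h hh h' hh' hmem''
  have hU0 : ∀ h ∈ T, ∀ h' ∈ T, U * h' ^ nk * (h' ^ n * a' h - h ^ n * a' h') = 0 := by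
    intro h hh h' hh'
    have hd : u h h' ∣ U := by
      rw [hU_def]
      exact (Finset.dvd_prod_of_mem _ hh').trans
        (Finset.dvd_prod_of_mem (fun h => ∏ h' ∈ T, u h h') hh)
    obtain ⟨c, hc⟩ := hd
    rw [hc]
    linear_combination c * hu0 h hh h' hh'
  have hsel1 : ∀ i', i' ≠ i → ∃ h ∈ T, h ∉ m i' := by
    intro i' hi'
    by_contra hcon
    have hle : m i ≤ m i' := by
      rw [← hT, Ideal.span_le]
      intro h hh
      by_contra hh'
      exact hcon ⟨h, hh, hh'⟩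
    exact hi' (hinj ((hm i).eq_of_le (hm i').ne_top hle)).symm
  have hsel2 : ∀ n' : Idx m, ∃ h ∈ T, h ∉ n'.1.asIdeal := by
    intro n'
    by_contra hcon
    have hle : m i ≤ n'.1.asIdeal := by
      rw [← hT, Ideal.span_le]
      intro h hh
      by_contra hh'
      exact hcon ⟨h, hh, hh'⟩
    exact n'.2 ⟨i, (hm i).eq_of_le n'.1.isMaximal.ne_top hle⟩
  choose! l1 hl1T hl1 using hsel1
  choose l2 hl2T hl2 using hsel2
  obtain ⟨c, hc1, hc2⟩ : ∃ c : Amb m B,
      c.1 = Function.update (fun i' => algebraMap A (B i') (U * a' (l1 i')) *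
        Ring.inverse (algebraMap A (B i') (l1 i')) ^ n) i ((U * t) • b) ∧
      c.2 = fun n' => algebraMap A (Localization.AtPrime n'.1.asIdeal) (U * a' (l2 n')) *
        Ring.inverse (algebraMap A (Localization.AtPrime n'.1.asIdeal) (l2 n')) ^ n :=
    ⟨(_, _), rfl, rfl⟩
  have hci : c.1 i = (U * t) • b := by rw [hc1, Function.update_self]
  have hcol : ∀ h ∈ T, h ^ n ∈ col (A := A) c := by
    intro h hh
    refine ⟨U * a' h, ?_⟩
    refine Prod.ext ?_ ?_
    · funext i'
      by_cases hi : i' = i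
      · subst hi
        show algebraMap A (B i') (U * a' h) = h ^ n • c.1 i'
        rw [hci, map_mul, ← ha' h hh]
        simp only [Algebra.smul_def, map_mul, map_pow]
        ring
      · show algebraMap A (B i') (U * a' h) = h ^ n • c.1 i'
        have hc' : c.1 i' = algebraMap A (B i') (U * a' (l1 i')) *
            Ring.inverse (algebraMap A (B i') (l1 i')) ^ n := by
          rw [hc1, Function.update_of_ne hi]
        rw [hc']
        exact (coord_spec U (l1 i') h (a' h) (a' (l1 i')) n nk (hunit i' _ (hl1 i' hi))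
          (hU0 h hh (l1 i') (hl1T i' hi))).symm
    · funext n'
      show algebraMap A (Localization.AtPrime n'.1.asIdeal) (U * a' h) = h ^ n • c.2 n'
      rw [hc2]
      exact (coord_spec U (l2 n') h (a' h) (a' (l2 n')) n nk
        (IsLocalization.map_units _ (⟨l2 n', hl2 n'⟩ : n'.1.asIdeal.primeCompl))
        (hU0 h hh (l2 n') (hl2T n'))).symm
  have hrad : m i ≤ (col (A := A) c).radical := by
    rw [← hT, Ideal.span_le]
    intro h hh
    exact ⟨n, hcol h hh⟩
  obtain ⟨N, hN⟩ := Ideal.exists_pow_le_of_le_radical_of_fg hrad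
    ((isNoetherianRing_iff_ideal_fg A).mp inferInstance (m i))
  refine ⟨U * t, ?_, c, ⟨N, (Ideal.pow_right_mono (iInf_le m i) N).trans hN⟩, hci⟩
  intro hmem
  rcases Ideal.IsPrime.mem_or_mem inferInstance hmem with h | h
  · exact hU h
  · exact ht h

include hm hinj hunit in
/-- an element of the saturation which is locally in the image at every `m i` is in the image. -/
theorem col_eq_top
    (hker : ∀ i, ∃ n : ℕ, ∀ a : A, algebraMap A (B i) a = 0 → ∀ y ∈ m i ^ n,
      ∃ s, s ∉ m i ∧ s * y * a = 0)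
    (e : Amb m B) (he : e ∈ sat (⨅ i, m i) (Amb m B))
    (h : ∀ i, ∃ s, s ∉ m i ∧ ∃ a : A, s • e.1 i = algebraMap A (B i) a) :
    col (A := A) e = ⊤ := by
  apply eq_top_of_not_le (m := m)
  · intro i hle
    obtain ⟨s₀, hs₀, a, ha⟩ := h i
    haveI := (hm i).isPrime
    have he' : s₀ • e - algebraMap A (Amb m B) a ∈ sat (⨅ i, m i) (Amb m B) :=
      Subalgebra.sub_mem _ (Subalgebra.smul_mem _ he s₀) (Subalgebra.algebraMap_mem _ a)
    have hei : (s₀ • e - algebraMap A (Amb m B) a).1 i = 0 := by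
      show s₀ • e.1 i - algebraMap A (B i) a = 0
      rw [ha, sub_self]
    obtain ⟨s₁, hs₁, h0⟩ := exists_smul_eq_zero hm hinj B hunit hker i _ he' hei
    have hmem : s₁ * s₀ ∈ col (A := A) e := by
      refine ⟨s₁ * a, ?_⟩
      rw [smul_sub, sub_eq_zero] at h0
      rw [mul_smul, h0, Algebra.smul_def s₁, map_mul]
    rcases Ideal.IsPrime.mem_or_mem inferInstance (hle hmem) with h' | h'
    · exact hs₁ h'
    · exact hs₀ h'
  · intro n' hle
    obtain ⟨N, hN⟩ := he
    exact pow_iInf_not_le_idx hm n' N (hN.trans hle)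

variable (m) in
/-- the glued algebra. -/
abbrev Glued : Type u := ↥(sat (⨅ i, m i) (Amb m B))

variable (m) in
/-- the projection of the glued algebra to `B i`. -/
def proj (i : Fin r) : Glued m B →ₐ[A] B i :=
  ((Pi.evalAlgHom A B i).comp (AlgHom.fst A (∀ i, B i) _)).comp (sat (⨅ i, m i) (Amb m B)).val

omit [IsNoetherianRing A] in
theorem proj_apply (i : Fin r) (c : Glued m B) : proj m B i c = c.1.1 i := rfl

theorem isUnit_end_of_isUnit {R M : Type u} [CommRing R] [CommRing M] [Algebra R M] (s : R)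
    (h : IsUnit (algebraMap R M s)) : IsUnit (algebraMap R (Module.End R M) s) := by
  rw [Module.End.isUnit_iff]
  obtain ⟨v, hv⟩ := h
  constructor
  · intro x y hxy
    simp only [Module.algebraMap_end_apply, Algebra.smul_def, ← hv] at hxy
    exact v.isUnit.mul_right_injective hxy
  · intro x
    refine ⟨↑v⁻¹ * x, ?_⟩
    simp only [Module.algebraMap_end_apply, Algebra.smul_def, ← hv]
    rw [← mul_assoc, Units.mul_inv, one_mul]

include hm hinj hunit in
theorem isLocalizedModule_proj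
    (hker : ∀ i, ∃ n : ℕ, ∀ a : A, algebraMap A (B i) a = 0 → ∀ y ∈ m i ^ n,
      ∃ s, s ∉ m i ∧ s * y * a = 0)
    (hcoker : ∀ i, ∃ n : ℕ, ∀ b : B i, ∀ y ∈ m i ^ n,
      ∃ s, s ∉ m i ∧ ∃ a : A, s • (y • b) = algebraMap A (B i) a)
    (i : Fin r) :
    haveI := (hm i).isPrime
    IsLocalizedModule (m i).primeCompl (proj m B i).toLinearMap := by
  haveI := (hm i).isPrime
  refine ⟨?_, ?_, ?_⟩
  · intro s
    exact isUnit_end_of_isUnit _ (hunit i s.1 s.2)
  · intro b
    obtain ⟨s, hs, c, hc, hci⟩ := exists_mem_sat_fst hm hinj B hunit hker hcoker i b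
    exact ⟨⟨⟨c, hc⟩, ⟨s, hs⟩⟩, hci.symm⟩
  · intro c c' hcc
    have hmem : (c - c').1 ∈ sat (⨅ i, m i) (Amb m B) := (c - c').2
    have hei : (c - c').1.1 i = 0 := by
      have : proj m B i c = proj m B i c' := hcc
      rw [proj_apply, proj_apply] at this
      show c.1.1 i - c'.1.1 i = 0
      rw [this, sub_self]
    obtain ⟨s, hs, h0⟩ := exists_smul_eq_zero hm hinj B hunit hker i _ hmem hei
    refine ⟨⟨s, hs⟩, ?_⟩
    have h1 : s • (c - c') = 0 := Subtype.ext h0
    rw [smul_sub, sub_eq_zero] at h1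
    exact h1

omit [IsNoetherianRing A] in
theorem pow_iInf_le_pow (i : Fin r) {n k : ℕ} (h : k ≤ n) : (⨅ i, m i) ^ n ≤ m i ^ k :=
  (Ideal.pow_right_mono (iInf_le m i) n).trans (Ideal.pow_le_pow_right h)

omit [IsNoetherianRing A] in
theorem ker_bound
    (hker : ∀ i, ∃ n : ℕ, ∀ a : A, algebraMap A (B i) a = 0 → ∀ y ∈ m i ^ n,
      ∃ s, s ∉ m i ∧ s * y * a = 0) :
    ∃ n : ℕ, ∀ x : A, algebraMap A (Glued m B) x = 0 → ∀ y ∈ (⨅ i, m i) ^ n, y * x = 0 := by
  choose nk hnk using hker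
  refine ⟨∑ i, nk i, ?_⟩
  intro x hx y hy
  have hΦ : algebraMap A (Amb m B) x = 0 := congrArg Subtype.val hx
  have htop : LinearMap.ker (LinearMap.toSpanSingleton A A (y * x)) = ⊤ := by
    apply eq_top_of_not_le (m := m)
    · intro i hle
      have hφ : algebraMap A (B i) x = 0 := congrArg (fun e => e.1 i) hΦ
      obtain ⟨s, hs, hs0⟩ := hnk i x hφ y
        (pow_iInf_le_pow i (Finset.single_le_sum (fun _ _ => Nat.zero_le _) (Finset.mem_univ i)) hy)
      apply hs
      apply hle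
      rw [LinearMap.mem_ker, LinearMap.toSpanSingleton_apply, smul_eq_mul, ← mul_assoc, hs0]
    · intro n' hle
      have hn' : algebraMap A (Localization.AtPrime n'.1.asIdeal) x = 0 :=
        congrArg (fun e => e.2 n') hΦ
      obtain ⟨s, hs⟩ := (IsLocalization.map_eq_zero_iff n'.1.asIdeal.primeCompl _ x).mp hn'
      apply s.2
      apply hle
      rw [LinearMap.mem_ker, LinearMap.toSpanSingleton_apply, smul_eq_mul]
      rw [mul_left_comm, hs, mul_zero]
  have h1 : (1 : A) ∈ LinearMap.ker (LinearMap.toSpanSingleton A A (y * x)) := by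
    rw [htop]; trivial
  rw [LinearMap.mem_ker, LinearMap.toSpanSingleton_apply, one_smul] at h1
  exact h1

include hm hinj hunit in
theorem coker_bound
    (hker : ∀ i, ∃ n : ℕ, ∀ a : A, algebraMap A (B i) a = 0 → ∀ y ∈ m i ^ n,
      ∃ s, s ∉ m i ∧ s * y * a = 0)
    (hcoker : ∀ i, ∃ n : ℕ, ∀ b : B i, ∀ y ∈ m i ^ n,
      ∃ s, s ∉ m i ∧ ∃ a : A, s • (y • b) = algebraMap A (B i) a) :
    ∃ n : ℕ, ∀ y ∈ (⨅ i, m i) ^ n, ∀ c : Glued m B,
      y • c ∈ (algebraMap A (Glued m B)).range := by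
  choose nc hnc using hcoker
  refine ⟨∑ i, nc i, ?_⟩
  intro y hy c
  have htop := col_eq_top hm hinj B hunit hker (y • c.1) (Subalgebra.smul_mem _ c.2 y)
    (fun i => hnc i (c.1.1 i) y
      (pow_iInf_le_pow i (Finset.single_le_sum (fun _ _ => Nat.zero_le _) (Finset.mem_univ i)) hy))
  have h1 : (1 : A) ∈ col (A := A) (y • c.1) := by rw [htop]; trivial
  obtain ⟨x, hx⟩ := h1
  rw [one_smul] at hx
  exact ⟨x, Subtype.ext hx⟩

omit [IsNoetherianRing A] in
theorem injective_algebraMap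
    (hinjB : ∀ i (a : A), algebraMap A (B i) a = 0 → ∃ s, s ∉ m i ∧ s * a = 0) :
    Function.Injective (algebraMap A (Glued m B)) := by
  rw [injective_iff_map_eq_zero]
  intro x hx
  have hΦ : algebraMap A (Amb m B) x = 0 := congrArg Subtype.val hx
  have htop : LinearMap.ker (LinearMap.toSpanSingleton A A x) = ⊤ := by
    apply eq_top_of_not_le (m := m)
    · intro i hle
      have hφ : algebraMap A (B i) x = 0 := congrArg (fun e => e.1 i) hΦ
      obtain ⟨s, hs, hs0⟩ := hinjB i x hφ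
      apply hs
      apply hle
      rw [LinearMap.mem_ker, LinearMap.toSpanSingleton_apply, smul_eq_mul, hs0]
    · intro n' hle
      have hn' : algebraMap A (Localization.AtPrime n'.1.asIdeal) x = 0 :=
        congrArg (fun e => e.2 n') hΦ
      obtain ⟨s, hs⟩ := (IsLocalization.map_eq_zero_iff n'.1.asIdeal.primeCompl _ x).mp hn'
      apply s.2
      apply hle
      rw [LinearMap.mem_ker, LinearMap.toSpanSingleton_apply, smul_eq_mul, hs]
  have h1 : (1 : A) ∈ LinearMap.ker (LinearMap.toSpanSingleton A A x) := by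
    rw [htop]; trivial
  rw [LinearMap.mem_ker, LinearMap.toSpanSingleton_apply, one_smul] at h1
  exact h1

include hm hinj hunit in
theorem surjective_algebraMap
    (hker : ∀ i, ∃ n : ℕ, ∀ a : A, algebraMap A (B i) a = 0 → ∀ y ∈ m i ^ n,
      ∃ s, s ∉ m i ∧ s * y * a = 0)
    (hsurjB : ∀ i (b : B i), ∃ s, s ∉ m i ∧ ∃ a : A, s • b = algebraMap A (B i) a) :
    Function.Surjective (algebraMap A (Glued m B)) := by
  intro c
  have htop := col_eq_top hm hinj B hunit hker c.1 c.2 (fun i => hsurjB i (c.1.1 i))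
  have h1 : (1 : A) ∈ col (A := A) c.1 := by rw [htop]; trivial
  obtain ⟨x, hx⟩ := h1
  rw [one_smul] at hx
  exact ⟨x, Subtype.ext hx⟩

include hm hinj hunit in
theorem finite_glued
    (hker : ∀ i, ∃ n : ℕ, ∀ a : A, algebraMap A (B i) a = 0 → ∀ y ∈ m i ^ n,
      ∃ s, s ∉ m i ∧ s * y * a = 0)
    (hcoker : ∀ i, ∃ n : ℕ, ∀ b : B i, ∀ y ∈ m i ^ n,
      ∃ s, s ∉ m i ∧ ∃ a : A, s • (y • b) = algebraMap A (B i) a)
    (hfin : ∀ i, ∃ T : Finset (B i), ∀ b : B i, ∃ s, s ∉ m i ∧
      s • b ∈ Submodule.span A (T : Set (B i))) :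
    Module.Finite A (Glued m B) := by
  classical
  choose T hT using hfin
  have h := fun i (b : B i) => exists_mem_sat_fst hm hinj B hunit hker hcoker i b
  choose sS hsS cS hcS hcS' using h
  let G : Finset (Glued m B) :=
    insert 1 (Finset.univ.biUnion fun i => (T i).image fun τ => (⟨cS i τ, hcS i τ⟩ : Glued m B))
  refine ⟨⟨G, ?_⟩⟩
  rw [eq_top_iff]
  intro c _
  have htop : Submodule.comap (LinearMap.toSpanSingleton A (Glued m B) c)
      (Submodule.span A (G : Set (Glued m B))) = ⊤ := by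
    apply eq_top_of_not_le (m := m)
    · intro i hle
      haveI := (hm i).isPrime
      obtain ⟨s, hs, hsb⟩ := hT i (c.1.1 i)
      obtain ⟨f, -, hf⟩ := Submodule.mem_span_finset.mp hsb
      -- the common multiplier
      obtain ⟨P, hP_def⟩ : ∃ P : A, P = ∏ τ ∈ T i, sS i τ := ⟨_, rfl⟩
      have hP : P ∉ m i := by
        intro hmem
        rw [hP_def] at hmem
        obtain ⟨τ, _, hmem'⟩ := Ideal.IsPrime.prod_mem_iff.mp hmem
        exact hsS i τ hmem'
      obtain ⟨c'', hc''_def⟩ : ∃ c'' : Glued m B, c'' = ∑ τ ∈ T i,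
          (f τ * ∏ τ' ∈ (T i).erase τ, sS i τ') • (⟨cS i τ, hcS i τ⟩ : Glued m B) := ⟨_, rfl⟩
      have hc''G : c'' ∈ Submodule.span A (G : Set (Glued m B)) := by
        rw [hc''_def]
        refine Submodule.sum_mem _ fun τ hτ => Submodule.smul_mem _ _ (Submodule.subset_span ?_)
        rw [Finset.mem_coe, Finset.mem_insert]
        right
        rw [Finset.mem_biUnion]
        exact ⟨i, Finset.mem_univ i, Finset.mem_image_of_mem _ hτ⟩
      have hc''i : c''.1.1 i = (P * s) • c.1.1 i := by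
        rw [hc''_def, mul_smul, ← hf, Finset.smul_sum]
        have : ((∑ τ ∈ T i, (f τ * ∏ τ' ∈ (T i).erase τ, sS i τ') •
            (⟨cS i τ, hcS i τ⟩ : Glued m B) : Glued m B)).1.1 i =
            ∑ τ ∈ T i, (f τ * ∏ τ' ∈ (T i).erase τ, sS i τ') • (cS i τ).1 i := by
          rw [← proj_apply, map_sum]
          rfl
        rw [this]
        refine Finset.sum_congr rfl fun τ hτ => ?_
        rw [hcS' i τ, hP_def, ← Finset.mul_prod_erase (T i) (sS i) hτ]
        simp only [smul_smul]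
        congr 1
        ring
      have hmem : ((P * s) • c - c'').1 ∈ sat (⨅ i, m i) (Amb m B) := ((P * s) • c - c'').2
      have hei : ((P * s) • c - c'').1.1 i = 0 := by
        show (P * s) • c.1.1 i - c''.1.1 i = 0
        rw [hc''i, sub_self]
      obtain ⟨s₁, hs₁, h0⟩ := exists_smul_eq_zero hm hinj B hunit hker i _ hmem hei
      have h1 : s₁ • ((P * s) • c - c'') = 0 := Subtype.ext h0
      rw [smul_sub, sub_eq_zero] at h1
      have hin : s₁ * (P * s) ∈ Submodule.comap (LinearMap.toSpanSingleton A (Glued m B) c)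
          (Submodule.span A (G : Set (Glued m B))) := by
        rw [Submodule.mem_comap, LinearMap.toSpanSingleton_apply, mul_smul, h1]
        exact Submodule.smul_mem _ _ hc''G
      rcases Ideal.IsPrime.mem_or_mem inferInstance (hle hin) with h' | h'
      · exact hs₁ h'
      · rcases Ideal.IsPrime.mem_or_mem inferInstance h' with h'' | h''
        · exact hP h''
        · exact hs h''
    · intro n' hle
      obtain ⟨N, hN⟩ := c.2
      apply pow_iInf_not_le_idx hm n' N
      refine hN.trans (le_trans ?_ hle)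
      rintro a ⟨x, hx⟩
      rw [Submodule.mem_comap, LinearMap.toSpanSingleton_apply]
      have : a • c = x • (1 : Glued m B) := by
        apply Subtype.ext
        show a • c.1 = x • (1 : Amb m B)
        rw [← hx, Algebra.smul_def x, mul_one]
      rw [this]
      refine Submodule.smul_mem _ _ (Submodule.subset_span ?_)
      rw [Finset.mem_coe, Finset.mem_insert]
      left; rfl
  have h1 : (1 : A) ∈ Submodule.comap (LinearMap.toSpanSingleton A (Glued m B) c)
      (Submodule.span A (G : Set (Glued m B))) := by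
    rw [htop]; trivial
  rw [Submodule.mem_comap, LinearMap.toSpanSingleton_apply, one_smul] at h1
  exact h1

end Glue

end Groth.Agent.H29.GlueMax
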