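import Mathlib.RingTheory.Smooth.Basic
import Mathlib.Tactic.LinearCombination
import Mathlib.Tactic.Module

set_option autoImplicit false
universe u v w

namespace Groth.Agent.H29.Hoch

variable (A : Type u) (B : Type v) (L : Type w) [CommRing A] [CommRing B] [Algebra A B]
  [AddCommGroup L] [Module B L] [Module A L]

/-- A symmetric bilinear Hochschild 2-cocycle. -/
structure SymCocycle where
  f : B →ₗ[A] B →ₗ[A] L
  symm : ∀ x y : B, f x y = f y x
  coc : ∀ x y z : B, f (x * y) z + z • f x y = x • f y z + f x (y * z)

variable {A B L}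

/-- The carrier of the extension attached to a symmetric cocycle. -/
@[nolint unusedArguments]
def HExt (_c : SymCocycle A B L) : Type (max v w) := B × L

namespace HExt

variable (c : SymCocycle A B L)

instance : AddCommGroup (HExt c) := inferInstanceAs (AddCommGroup (B × L))

instance : Module A (HExt c) := inferInstanceAs (Module A (B × L))

variable {c}

/-- First component. -/
def fst (x : HExt c) : B := Prod.fst x

/-- Second component. -/
def snd (x : HExt c) : L := Prod.snd x

variable (c) in
/-- Constructor. -/
def mk (b : B) (l : L) : HExt c := (b, l)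

@[ext] theorem ext {x y : HExt c} (h1 : x.fst = y.fst) (h2 : x.snd = y.snd) : x = y :=
  Prod.ext h1 h2

@[simp] theorem fst_mk (b : B) (l : L) : (mk c b l).fst = b := rfl
@[simp] theorem snd_mk (b : B) (l : L) : (mk c b l).snd = l := rfl
@[simp] theorem fst_add (x y : HExt c) : (x + y).fst = x.fst + y.fst := rfl
@[simp] theorem snd_add (x y : HExt c) : (x + y).snd = x.snd + y.snd := rfl
@[simp] theorem fst_zero : (0 : HExt c).fst = 0 := rfl
@[simp] theorem snd_zero : (0 : HExt c).snd = 0 := rfl
@[simp] theorem fst_smul (a : A) (x : HExt c) : (a • x).fst = a • x.fst := rfl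
@[simp] theorem snd_smul (a : A) (x : HExt c) : (a • x).snd = a • x.snd := rfl

instance : Mul (HExt c) :=
  ⟨fun x y => mk c (x.fst * y.fst) (x.fst • y.snd + y.fst • x.snd + c.f x.fst y.fst)⟩

instance : One (HExt c) := ⟨mk c 1 (- c.f 1 1)⟩

@[simp] theorem fst_mul (x y : HExt c) : (x * y).fst = x.fst * y.fst := rfl
@[simp] theorem snd_mul (x y : HExt c) :
    (x * y).snd = x.fst • y.snd + y.fst • x.snd + c.f x.fst y.fst := rfl
@[simp] theorem fst_one : (1 : HExt c).fst = 1 := rfl
@[simp] theorem snd_one : (1 : HExt c).snd = - c.f 1 1 := rfl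

theorem f_one_left (c : SymCocycle A B L) (b : B) : c.f 1 b = b • c.f 1 1 := by
  have h := c.coc 1 1 b
  rw [one_mul, one_mul, one_smul] at h
  have h2 : b • c.f 1 1 = c.f 1 b := add_left_cancel h
  exact h2.symm

protected theorem mul_comm (x y : HExt c) : x * y = y * x := by
  ext
  · rw [fst_mul, fst_mul, mul_comm]
  · rw [snd_mul, snd_mul, c.symm x.fst y.fst, add_comm (x.fst • y.snd)]

protected theorem mul_assoc (x y z : HExt c) : x * y * z = x * (y * z) := by
  ext
  · simp only [fst_mul, mul_assoc]
  · simp only [fst_mul, snd_mul]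
    have h := c.coc x.fst y.fst z.fst
    linear_combination (norm := module) h

protected theorem one_mul (x : HExt c) : 1 * x = x := by
  ext
  · rw [fst_mul, fst_one, one_mul]
  · rw [snd_mul, fst_one, snd_one, one_smul, f_one_left c x.fst, smul_neg]
    abel

protected theorem left_distrib (x y z : HExt c) : x * (y + z) = x * y + x * z := by
  ext
  · simp only [fst_mul, fst_add, mul_add]
  · simp only [snd_mul, fst_add, snd_add, map_add, smul_add, add_smul]
    abel

protected theorem zero_mul (x : HExt c) : 0 * x = 0 := by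
  ext
  · rw [fst_mul, fst_zero, zero_mul]
  · rw [snd_mul, fst_zero, snd_zero, zero_smul, smul_zero, map_zero, LinearMap.zero_apply, add_zero,
      add_zero]

noncomputable instance : CommRing (HExt c) :=
  { (inferInstance : AddCommGroup (HExt c)) with
    mul := (· * ·)
    one := 1
    mul_assoc := HExt.mul_assoc
    mul_comm := HExt.mul_comm
    one_mul := HExt.one_mul
    mul_one := fun x => by rw [HExt.mul_comm, HExt.one_mul]
    left_distrib := HExt.left_distrib
    right_distrib := fun x y z => by
      rw [HExt.mul_comm, HExt.left_distrib, HExt.mul_comm x z, HExt.mul_comm y z]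
    zero_mul := HExt.zero_mul
    mul_zero := fun x => by rw [HExt.mul_comm, HExt.zero_mul] }

variable [IsScalarTower A B L]

noncomputable instance : Algebra A (HExt c) :=
  Algebra.ofModule
    (fun r x y => by
      ext
      · rw [fst_mul, fst_smul, fst_smul, fst_mul, smul_mul_assoc]
      · rw [snd_mul, fst_smul, snd_smul, snd_smul, snd_mul, map_smul, LinearMap.smul_apply,
          smul_assoc, smul_comm y.fst r x.snd, smul_add, smul_add])
    (fun r x y => by
      ext
      · rw [fst_mul, fst_smul, fst_smul, fst_mul, mul_smul_comm]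
      · rw [snd_mul, fst_smul, snd_smul, snd_smul, snd_mul, map_smul,
          smul_assoc, smul_comm x.fst r y.snd, smul_add, smul_add])

theorem algebraMap_eq (r : A) : algebraMap A (HExt c) r = r • (1 : HExt c) :=
  Algebra.algebraMap_eq_smul_one r

/-- The projection onto the base algebra. -/
noncomputable def proj (c : SymCocycle A B L) : HExt c →ₐ[A] B where
  toFun := fst
  map_one' := rfl
  map_mul' _ _ := rfl
  map_zero' := rfl
  map_add' _ _ := rfl
  commutes' r := by
    rw [algebraMap_eq, fst_smul, fst_one, Algebra.algebraMap_eq_smul_one]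

@[simp] theorem proj_apply (x : HExt c) : proj c x = x.fst := rfl

theorem proj_surjective : Function.Surjective (proj c) := fun b => ⟨mk c b 0, rfl⟩

theorem mul_eq_zero_of_fst (x y : HExt c) (hx : x.fst = 0) (hy : y.fst = 0) : x * y = 0 := by
  ext
  · rw [fst_mul, hx, zero_mul, fst_zero]
  · rw [snd_mul, hx, hy, zero_smul, zero_smul, map_zero]
    simp

theorem isNilpotent_ker : IsNilpotent (RingHom.ker (proj c : HExt c →+* B)) := by
  refine ⟨2, ?_⟩
  rw [Ideal.zero_eq_bot, eq_bot_iff, pow_two, Ideal.mul_le]
  intro x hx y hy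
  rw [Ideal.mem_bot]
  exact mul_eq_zero_of_fst x y (RingHom.mem_ker.1 hx) (RingHom.mem_ker.1 hy)

/-- The second component as a linear map. -/
def sndL (c : SymCocycle A B L) : HExt c →ₗ[A] L where
  toFun := snd
  map_add' _ _ := rfl
  map_smul' _ _ := rfl

end HExt

/-- Over a formally smooth algebra every symmetric Hochschild 2-cocycle is a coboundary. -/
theorem exists_cobound [IsScalarTower A B L] [Algebra.FormallySmooth A B] (c : SymCocycle A B L) :
    ∃ g : B →ₗ[A] L, ∀ x y : B, c.f x y = x • g y - g (x * y) + y • g x := by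
  let s : B →ₐ[A] HExt c :=
    Algebra.FormallySmooth.liftOfSurjective (AlgHom.id A B) (HExt.proj c) HExt.proj_surjective
      HExt.isNilpotent_ker
  have hs : ∀ b, (s b).fst = b := fun b =>
    Algebra.FormallySmooth.liftOfSurjective_apply (AlgHom.id A B) (HExt.proj c)
      HExt.proj_surjective HExt.isNilpotent_ker b
  refine ⟨- ((HExt.sndL c).comp s.toLinearMap), fun x y => ?_⟩
  have h := congrArg HExt.snd (map_mul s x y)
  rw [HExt.snd_mul, hs, hs] at h
  change c.f x y = x • (- (s y).snd) - (- (s (x * y)).snd) + y • (- (s x).snd)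
  rw [h, smul_neg, smul_neg]
  abel

end Groth.Agent.H29.Hoch
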