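import Mathlib
import Groth.Prelude.Def_EGA41

set_option autoImplicit false
universe u u' u'' v w

open scoped TensorProduct
open TensorProduct

namespace Groth.Agent.H29.Imperf

section Induction

variable (a : Type u) {K : Type v} {L : Type w} [CommRing a] [CommRing K] [CommRing L]
  [Algebra a K] [Algebra K L]

/-- Induction principle: `L ⊗[K] Ω[K⁄a]` is generated by the `l ⊗ d x`. -/
theorem tk_induction {P : L ⊗[K] Ω[K⁄a] → Prop} (h0 : P 0)
    (hadd : ∀ x y, P x → P y → P (x + y))
    (hgen : ∀ (l : L) (x : K), P (l ⊗ₜ KaehlerDifferential.D a K x)) (t : L ⊗[K] Ω[K⁄a]) :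
    P t := by
  induction t using TensorProduct.induction_on with
  | zero => exact h0
  | add x y hx hy => exact hadd x y hx hy
  | tmul c ω =>
    have hω : ω ∈ Submodule.span K (Set.range (KaehlerDifferential.D a K)) := by
      rw [KaehlerDifferential.span_range_derivation]; trivial
    revert c
    refine Submodule.span_induction (p := fun ω _ => ∀ c : L, P (c ⊗ₜ ω)) ?_ ?_ ?_ ?_ hω
    · rintro _ ⟨b, rfl⟩ c
      exact hgen c b
    · intro c
      rw [tmul_zero]
      exact h0
    · intro x y _ _ hx hy c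
      rw [tmul_add]
      exact hadd _ _ (hx c) (hy c)
    · intro b x _ hx c
      rw [← smul_tmul]
      exact hx (b • c)

end Induction

section TowerL

variable (a : Type u) (b : Type u') (L : Type w) [CommRing a] [CommRing b] [CommRing L]
  [Algebra a b] [Algebra a L] [Algebra b L] [IsScalarTower a b L]

theorem ker_map_le :
    LinearMap.ker (KaehlerDifferential.map a b L L) ≤
      Submodule.span L (Set.range fun c : b => KaehlerDifferential.D a L (algebraMap b L c)) := by
  intro y hy
  obtain ⟨t, rfl⟩ := ((KaehlerDifferential.exact_mapBaseChange_map a b L) y).1 hy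
  clear hy
  refine tk_induction a (K := b) (L := L)
    (P := fun t => KaehlerDifferential.mapBaseChange a b L t ∈
      Submodule.span L (Set.range fun c : b => KaehlerDifferential.D a L (algebraMap b L c)))
    ?_ ?_ ?_ t
  · rw [map_zero]; exact Submodule.zero_mem _
  · intro x y hx hy; rw [map_add]; exact add_mem hx hy
  · intro l c
    rw [KaehlerDifferential.mapBaseChange_tmul, KaehlerDifferential.map_D]
    exact Submodule.smul_mem _ _ (Submodule.subset_span ⟨c, rfl⟩)

end TowerL

section Tower

variable (a : Type u) (b : Type u') (K : Type v) (L : Type w) [CommRing a] [CommRing b]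
  [CommRing K] [CommRing L] [Algebra a b] [Algebra a K] [Algebra b K] [IsScalarTower a b K]
  [Algebra K L]

/-- The transition map `L ⊗ Ω_{K/a} → L ⊗ Ω_{K/b}`. -/
noncomputable abbrev phi : L ⊗[K] Ω[K⁄a] →ₗ[L] L ⊗[K] Ω[K⁄b] :=
  (KaehlerDifferential.map a b K K).baseChange L

theorem phi_tmul_D (l : L) (x : K) :
    phi a b K L (l ⊗ₜ KaehlerDifferential.D a K x) = l ⊗ₜ KaehlerDifferential.D b K x := by
  rw [phi, LinearMap.baseChange_tmul, KaehlerDifferential.map_D]
  rfl

theorem ker_phi_le :
    LinearMap.ker (phi a b K L) ≤ Submodule.span L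
      (Set.range fun c : b => (1 : L) ⊗ₜ[K] KaehlerDifferential.D a K (algebraMap b K c)) := by
  intro w hw
  have hex : Function.Exact ((KaehlerDifferential.mapBaseChange a b K).lTensor L)
      ((KaehlerDifferential.map a b K K).lTensor L) :=
    lTensor_exact L (KaehlerDifferential.exact_mapBaseChange_map a b K)
      (KaehlerDifferential.map_surjective a b K)
  have hw' : ((KaehlerDifferential.map a b K K).lTensor L) w = 0 := hw
  obtain ⟨t, rfl⟩ := (hex w).1 hw'
  clear hw hw'
  induction t using TensorProduct.induction_on with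
  | zero => rw [map_zero]; exact Submodule.zero_mem _
  | add x y hx hy => rw [map_add]; exact add_mem hx hy
  | tmul l u =>
    rw [LinearMap.lTensor_tmul]
    refine tk_induction a (K := b) (L := K)
      (P := fun u => l ⊗ₜ[K] (KaehlerDifferential.mapBaseChange a b K u) ∈ Submodule.span L
        (Set.range fun c : b => (1 : L) ⊗ₜ[K] KaehlerDifferential.D a K (algebraMap b K c)))
      ?_ ?_ ?_ u
    · rw [map_zero, tmul_zero]; exact Submodule.zero_mem _
    · intro x y hx hy; rw [map_add, tmul_add]; exact add_mem hx hy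
    · intro κ c
      rw [KaehlerDifferential.mapBaseChange_tmul, KaehlerDifferential.map_D]
      have h1 : l ⊗ₜ[K] (κ • KaehlerDifferential.D a K (algebraMap b K c)) =
          (κ • l) • ((1 : L) ⊗ₜ[K] KaehlerDifferential.D a K (algebraMap b K c)) := by
        rw [TensorProduct.smul_tmul', smul_eq_mul, mul_one, TensorProduct.smul_tmul]
      rw [h1]
      exact Submodule.smul_mem _ _ (Submodule.subset_span ⟨c, rfl⟩)

variable [Algebra a L] [Algebra b L] [IsScalarTower a K L] [IsScalarTower b K L]
  [IsScalarTower a b L]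

theorem map_mapBaseChange (t : L ⊗[K] Ω[K⁄a]) :
    KaehlerDifferential.map a b L L (KaehlerDifferential.mapBaseChange a K L t) =
      KaehlerDifferential.mapBaseChange b K L (phi a b K L t) := by
  refine tk_induction a
    (P := fun t => KaehlerDifferential.map a b L L (KaehlerDifferential.mapBaseChange a K L t) =
      KaehlerDifferential.mapBaseChange b K L (phi a b K L t)) ?_ ?_ ?_ t
  · rw [map_zero, map_zero, map_zero, map_zero]
  · intro x y hx hy; rw [map_add, map_add, map_add, map_add, hx, hy]
  · intro l x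
    rw [phi_tmul_D, KaehlerDifferential.mapBaseChange_tmul, KaehlerDifferential.mapBaseChange_tmul,
      map_smul, KaehlerDifferential.map_D, KaehlerDifferential.map_D, KaehlerDifferential.map_D]
    rfl

end Tower

section Main

variable (k : Type u) (k' : Type u') (k'' : Type u'') (K L : Type w)
  [Field k] [Field k'] [Field k''] [Field K] [Field L]
  [Algebra k k'] [Algebra k k''] [Algebra k' k''] [IsScalarTower k k' k'']
  [Algebra k K] [Algebra k' K] [Algebra k'' K] [IsScalarTower k k' K] [IsScalarTower k' k'' K]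
  [IsScalarTower k k'' K] [Algebra K L] [Algebra k L] [Algebra k' L] [Algebra k'' L]
  [IsScalarTower k K L] [IsScalarTower k' K L] [IsScalarTower k'' K L]

theorem exists_lift (w : L ⊗[K] Ω[K⁄k']) (hw : w ∈ EGA41.imperfection k' K L)
    (hw2 : phi k' k'' K L w = 0) :
    ∃ z : L ⊗[K] Ω[K⁄k], z ∈ EGA41.imperfection k K L ∧ phi k k'' K L z = 0 ∧
      phi k k' K L z = w := by
  haveI : IsScalarTower k k' L := IsScalarTower.of_algebraMap_eq (fun x => by
    rw [IsScalarTower.algebraMap_apply k K L, IsScalarTower.algebraMap_apply k k' K,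
      ← IsScalarTower.algebraMap_apply k' K L])
  have h1 := ker_phi_le k' k'' K L (LinearMap.mem_ker.2 hw2)
  have hS₀map : Submodule.span L (Set.range fun c : k'' =>
      (1 : L) ⊗ₜ[K] KaehlerDifferential.D k' K (algebraMap k'' K c)) ≤
      Submodule.map (phi k k' K L) (Submodule.span L (Set.range fun c : k'' =>
        (1 : L) ⊗ₜ[K] KaehlerDifferential.D k K (algebraMap k'' K c))) := by
    rw [Submodule.span_le]
    rintro _ ⟨c, rfl⟩
    exact ⟨_, Submodule.subset_span ⟨c, rfl⟩, phi_tmul_D k k' K L 1 _⟩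
  obtain ⟨z₀, hz₀S, hz₀w⟩ := hS₀map h1
  have hS₀ker : Submodule.span L (Set.range fun c : k'' =>
      (1 : L) ⊗ₜ[K] KaehlerDifferential.D k K (algebraMap k'' K c)) ≤
      LinearMap.ker (phi k k'' K L) := by
    rw [Submodule.span_le]
    rintro _ ⟨c, rfl⟩
    rw [SetLike.mem_coe, LinearMap.mem_ker, phi_tmul_D, Derivation.map_algebraMap, tmul_zero]
  have hy : KaehlerDifferential.mapBaseChange k K L z₀ ∈
      LinearMap.ker (KaehlerDifferential.map k k' L L) := by
    rw [LinearMap.mem_ker, map_mapBaseChange, hz₀w]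
    exact hw
  have h2 := ker_map_le k k' L hy
  have hS₁map : Submodule.span L (Set.range fun c : k' =>
      KaehlerDifferential.D k L (algebraMap k' L c)) ≤
      Submodule.map (KaehlerDifferential.mapBaseChange k K L) (Submodule.span L
        (Set.range fun c : k' =>
          (1 : L) ⊗ₜ[K] KaehlerDifferential.D k K (algebraMap k' K c))) := by
    rw [Submodule.span_le]
    rintro _ ⟨c, rfl⟩
    refine ⟨_, Submodule.subset_span ⟨c, rfl⟩, ?_⟩
    rw [KaehlerDifferential.mapBaseChange_tmul, KaehlerDifferential.map_D, one_smul,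
      ← IsScalarTower.algebraMap_apply]
  obtain ⟨z₁, hz₁S, hz₁y⟩ := hS₁map h2
  have hS₁ker : Submodule.span L (Set.range fun c : k' =>
      (1 : L) ⊗ₜ[K] KaehlerDifferential.D k K (algebraMap k' K c)) ≤
      LinearMap.ker (phi k k' K L) := by
    rw [Submodule.span_le]
    rintro _ ⟨c, rfl⟩
    rw [SetLike.mem_coe, LinearMap.mem_ker, phi_tmul_D, Derivation.map_algebraMap, tmul_zero]
  have hS₁ker2 : Submodule.span L (Set.range fun c : k' =>
      (1 : L) ⊗ₜ[K] KaehlerDifferential.D k K (algebraMap k' K c)) ≤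
      LinearMap.ker (phi k k'' K L) := by
    rw [Submodule.span_le]
    rintro _ ⟨c, rfl⟩
    rw [SetLike.mem_coe, LinearMap.mem_ker, phi_tmul_D, IsScalarTower.algebraMap_apply k' k'' K,
      Derivation.map_algebraMap, tmul_zero]
  refine ⟨z₀ - z₁, ?_, ?_, ?_⟩
  · show z₀ - z₁ ∈ LinearMap.ker (KaehlerDifferential.mapBaseChange k K L)
    rw [LinearMap.mem_ker, map_sub, hz₁y, sub_self]
  · rw [map_sub, LinearMap.mem_ker.1 (hS₀ker hz₀S), LinearMap.mem_ker.1 (hS₁ker2 hz₁S), sub_zero]
  · rw [map_sub, LinearMap.mem_ker.1 (hS₁ker hz₁S), sub_zero]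
    exact hz₀w

theorem phi_comp (t : L ⊗[K] Ω[K⁄k]) :
    phi k' k'' K L (phi k k' K L t) = phi k k'' K L t := by
  refine tk_induction k
    (P := fun t => phi k' k'' K L (phi k k' K L t) = phi k k'' K L t) ?_ ?_ ?_ t
  · rw [map_zero, map_zero, map_zero]
  · intro x y hx hy; rw [map_add, map_add, map_add, hx, hy]
  · intro l x; rw [phi_tmul_D, phi_tmul_D, phi_tmul_D]

theorem rank_eq :
    Module.rank L ↥(EGA41.imperfection k K L ⊓ LinearMap.ker (phi k k'' K L)) =
      Module.rank L ↥(EGA41.imperfection k' K L ⊓ LinearMap.ker (phi k' k'' K L)) +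
        Module.rank L ↥(EGA41.imperfection k K L ⊓ LinearMap.ker (phi k k' K L)) := by
  haveI : IsScalarTower k k' L := IsScalarTower.of_algebraMap_eq (fun x => by
    rw [IsScalarTower.algebraMap_apply k K L, IsScalarTower.algebraMap_apply k k' K,
      ← IsScalarTower.algebraMap_apply k' K L])
  have hmaps : ∀ x ∈ EGA41.imperfection k K L ⊓ LinearMap.ker (phi k k'' K L),
      phi k k' K L x ∈ EGA41.imperfection k' K L ⊓ LinearMap.ker (phi k' k'' K L) := by
    rintro x ⟨hx1, hx2⟩
    refine ⟨?_, ?_⟩
    · show _ ∈ LinearMap.ker (KaehlerDifferential.mapBaseChange k' K L)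
      have hx1' : KaehlerDifferential.mapBaseChange k K L x = 0 := hx1
      rw [LinearMap.mem_ker, ← map_mapBaseChange, hx1', map_zero]
    · have hx2' : phi k k'' K L x = 0 := hx2
      rw [SetLike.mem_coe, LinearMap.mem_ker, phi_comp k k' k'' K L, hx2']
  let g : ↥(EGA41.imperfection k K L ⊓ LinearMap.ker (phi k k'' K L)) →ₗ[L]
      ↥(EGA41.imperfection k' K L ⊓ LinearMap.ker (phi k' k'' K L)) :=
    (phi k k' K L).restrict hmaps
  have hg : Function.Surjective g := by
    rintro ⟨w, hw1, hw2⟩
    obtain ⟨z, hz1, hz2, hz3⟩ := exists_lift k k' k'' K L w hw1 hw2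
    exact ⟨⟨z, hz1, hz2⟩, Subtype.ext hz3⟩
  have hle : EGA41.imperfection k K L ⊓ LinearMap.ker (phi k k' K L) ≤
      EGA41.imperfection k K L ⊓ LinearMap.ker (phi k k'' K L) := by
    rintro x ⟨hx1, hx2⟩
    refine ⟨hx1, ?_⟩
    have hx2' : phi k k' K L x = 0 := hx2
    rw [SetLike.mem_coe, LinearMap.mem_ker, ← phi_comp k k' k'' K L, hx2', map_zero]
  have hker : LinearMap.ker g = Submodule.comap
      (EGA41.imperfection k K L ⊓ LinearMap.ker (phi k k'' K L)).subtype
      (EGA41.imperfection k K L ⊓ LinearMap.ker (phi k k' K L)) := by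
    ext x
    rw [LinearMap.mem_ker, Submodule.mem_comap]
    constructor
    · intro hx
      have h3 : phi k k' K L x.1 = 0 := congrArg Subtype.val hx
      exact ⟨x.2.1, h3⟩
    · intro hx
      exact Subtype.ext hx.2
  have hrank := @LinearMap.rank_eq_of_surjective L
    ↥(EGA41.imperfection k K L ⊓ LinearMap.ker (phi k k'' K L))
    ↥(EGA41.imperfection k' K L ⊓ LinearMap.ker (phi k' k'' K L)) _ _ _ _ _ _ g hg
  rw [hrank, hker, (Submodule.comapSubtypeEquivOfLe hle).rank_eq]

end Main

end Groth.Agent.H29.Imperf
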