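import Mathlib
import Groth.Agent.H34.FibDepthMod
import Groth.Agent.H29.FinDimDepth
import Groth.Agent.H29.KollarFlat2
import Groth.Agent.S18708

/-!
# Kollár's four-term flatness criterion, localized at a prime

Transport of `S18708` (local form) to the localization `A_p → B_n` of a finite type map at a prime
`n` of `B`, with pointwise fibre-depth hypotheses.
-/

set_option autoImplicit false
set_option linter.style.haveILetI false
set_option maxHeartbeats 400000

universe u

open IsLocalRing

namespace Groth.Agent.H29.KollarLoc

section LL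

/-- Localizing `S⁻¹N` at a prime `q'` of `S⁻¹R` is the localization of `N` at the contraction. -/
theorem nonempty_locLocEquiv {R : Type u} [CommRing R] (S : Submonoid R) (N : Type u)
    [AddCommGroup N] [Module R N] (q' : Ideal (Localization S)) [q'.IsPrime] :
    Nonempty (LocalizedModule (q'.comap (algebraMap R (Localization S))).primeCompl N ≃ₗ[R]
      LocalizedModule q'.primeCompl (LocalizedModule S N)) := by
  let R' := Localization S
  let N' := LocalizedModule S N
  let T := Localization.AtPrime q'
  let O := LocalizedModule q'.primeCompl N'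
  let q := q'.comap (algebraMap R R')
  let f1 : N →ₗ[R] N' := LocalizedModule.mkLinearMap S N
  let f2 : N' →ₗ[R'] O := LocalizedModule.mkLinearMap q'.primeCompl N'
  have h1 : IsBaseChange R' f1 := IsLocalizedModule.isBaseChange S R' f1
  have h2 : IsBaseChange T f2 := IsLocalizedModule.isBaseChange q'.primeCompl T f2
  have h3 : IsBaseChange T ((f2.restrictScalars R).comp f1) := h1.comp h2
  haveI : IsLocalizedModule q.primeCompl ((f2.restrictScalars R).comp f1) :=
    (isLocalizedModule_iff_isBaseChange q.primeCompl T _).mpr h3
  exact ⟨IsLocalizedModule.iso q.primeCompl ((f2.restrictScalars R).comp f1)⟩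

theorem flat_locLoc {A B : Type u} [CommRing A] [CommRing B] [Algebra A B] (n : Ideal B)
    [n.IsPrime] (G : Type u) [AddCommGroup G] [Module B G] [Module A G] [IsScalarTower A B G]
    (Q : Ideal (Localization.AtPrime n)) [Q.IsPrime]
    (h : Module.Flat A
      (LocalizedModule (Q.comap (algebraMap B (Localization.AtPrime n))).primeCompl G)) :
    Module.Flat A (LocalizedModule Q.primeCompl (LocalizedModule n.primeCompl G)) := by
  obtain ⟨l⟩ := nonempty_locLocEquiv n.primeCompl G Q
  exact Module.Flat.of_linearEquiv (l.restrictScalars A).symm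

end LL

section Trans

variable {A B : Type u} [CommRing A] [CommRing B] [IsNoetherianRing B]
  [Algebra A B]

/-- Pointwise fibre depths at the generizations of `n` containing `J` bound the `J`-depth of the
fibre stalk at `n`. -/
theorem le_idealDepth_fibLocMod (n : Ideal B) [n.IsPrime] (J : Ideal B) (X : Type u)
    [AddCommGroup X] [Module B X] [Module.Finite B X] (k : ℕ)
    (h : ∀ q : PrimeSpectrum B, J ≤ q.asIdeal → q.asIdeal ≤ n →
      (k : ℕ∞) ≤ LocCoh.idealDepth (q.asIdeal.map (algebraMap B (EGA4.FibLocRing A B q.asIdeal)))
        (EGA4.FibLocMod A B q.asIdeal X)) :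
    (k : ℕ∞) ≤ LocCoh.idealDepth (J.map (algebraMap B (Localization.AtPrime n)))
      (EGA4.FibLocMod A B n X) := by
  set I : Ideal B := (n.comap (algebraMap A B)).map (algebraMap A B) with hI
  let Y := X ⧸ (I • (⊤ : Submodule B X))
  have hIn : I.map (algebraMap B (Localization.AtPrime n)) =
      (n.comap (algebraMap A B)).map (algebraMap A (Localization.AtPrime n)) := by
    rw [hI, Ideal.map_map, ← IsScalarTower.algebraMap_eq]
  let e1 : LocalizedModule n.primeCompl Y ≃ₗ[Localization.AtPrime n] EGA4.FibLocMod A B n X :=
    Groth.Agent.H29.LocQuot.locQuotIdealEquiv n.primeCompl I X ≪≫ₗ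
      Submodule.quotEquivOfEq _ _ (by rw [hIn])
  rw [← Groth.Agent.H26.DepthQuot.idealDepth_congr _ e1,
    Groth.Agent.H29.LocQuot.idealDepth_eq_iInf]
  refine le_iInf₂ fun Q hQ => ?_
  obtain ⟨hd, -⟩ := Groth.Agent.H29.FinDimDepth.depth_localization_localization n.primeCompl Y
    Q.asIdeal
  rw [hd]
  set q : Ideal B := Q.asIdeal.comap (algebraMap B (Localization n.primeCompl)) with hq
  have hJq : J ≤ q := Ideal.map_le_iff_le_comap.mp hQ
  have hqn : q ≤ n := by
    intro x hx
    by_contra hxn
    have hu : IsUnit (algebraMap B (Localization n.primeCompl) x) :=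
      IsLocalization.map_units _ (⟨x, hxn⟩ : n.primeCompl)
    exact Q.isPrime.ne_top (Ideal.eq_top_of_isUnit_mem _ (Ideal.mem_comap.mp hx) hu)
  by_cases hc : q.comap (algebraMap A B) = n.comap (algebraMap A B)
  · have hIq : I.map (algebraMap B (Localization.AtPrime q)) =
        (q.comap (algebraMap A B)).map (algebraMap A (Localization.AtPrime q)) := by
      rw [hc, hI, Ideal.map_map, ← IsScalarTower.algebraMap_eq]
    let e2 : LocalizedModule q.primeCompl Y ≃ₗ[Localization.AtPrime q] EGA4.FibLocMod A B q X :=
      Groth.Agent.H29.LocQuot.locQuotIdealEquiv q.primeCompl I X ≪≫ₗ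
        Submodule.quotEquivOfEq _ _ (by rw [hIq])
    have hloc : IsLocalRing (EGA4.FibLocRing A B q) :=
      Groth.Agent.H34.FibDepth.isLocalRing_fib (A := A) q
    have hsurj : Function.Surjective
        (algebraMap (Localization.AtPrime q) (EGA4.FibLocRing A B q)) :=
      Ideal.Quotient.mk_surjective
    have hh := h ⟨q, inferInstance⟩ hJq hqn
    rw [Groth.Agent.H34.FibDepth.map_eq_maximalIdeal_fib] at hh
    have h5 : LocCoh.depth (EGA4.FibLocRing A B q) (EGA4.FibLocMod A B q X) =
        LocCoh.depth (Localization.AtPrime q) (EGA4.FibLocMod A B q X) :=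
      Groth.Agent.H29.FlatCM.depth_eq_of_surjective hsurj _
    have h6 : LocCoh.depth (Localization.AtPrime q) (LocalizedModule q.primeCompl Y) =
        LocCoh.depth (Localization.AtPrime q) (EGA4.FibLocMod A B q X) :=
      Groth.Agent.H26.DepthQuot.idealDepth_congr _ e2
    rw [h6, ← h5]
    exact hh
  · have hlt : q.comap (algebraMap A B) < n.comap (algebraMap A B) :=
      lt_of_le_of_ne (Ideal.comap_mono hqn) hc
    obtain ⟨a, han, haq⟩ := SetLike.exists_of_lt hlt
    have hbI : algebraMap A B a ∈ I := Ideal.mem_map_of_mem _ han
    have hbq : algebraMap A B a ∉ q := haq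
    haveI : Subsingleton (LocalizedModule q.primeCompl Y) := by
      rw [LocalizedModule.subsingleton_iff]
      intro y
      refine ⟨algebraMap A B a, hbq, ?_⟩
      obtain ⟨x, rfl⟩ := Submodule.Quotient.mk_surjective _ y
      rw [← Submodule.Quotient.mk_smul, Submodule.Quotient.mk_eq_zero]
      exact Submodule.smul_mem_smul hbI Submodule.mem_top
    rw [Groth.Agent.H29.LocQuot.depth_eq_top_of_subsingleton q Y]
    exact le_top

/-- The `J`-depth of the fibre stalk at `n ⊇ J` bounds its depth. -/
theorem le_depth_fibLocMod_of_le (n : Ideal B) [n.IsPrime] (J : Ideal B) (hJ : J ≤ n)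
    (X : Type u) [AddCommGroup X] [Module B X] [Module.Finite B X] (k : ℕ∞)
    (h : k ≤ LocCoh.idealDepth (J.map (algebraMap B (Localization.AtPrime n)))
      (EGA4.FibLocMod A B n X)) :
    k ≤ LocCoh.idealDepth (n.map (algebraMap B (EGA4.FibLocRing A B n)))
      (EGA4.FibLocMod A B n X) := by
  have hloc : IsLocalRing (EGA4.FibLocRing A B n) :=
    Groth.Agent.H34.FibDepth.isLocalRing_fib (A := A) n
  rw [Groth.Agent.H34.FibDepth.map_eq_maximalIdeal_fib]
  have hsurj : Function.Surjective
      (algebraMap (Localization.AtPrime n) (EGA4.FibLocRing A B n)) :=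
    Ideal.Quotient.mk_surjective
  have h5 : LocCoh.depth (EGA4.FibLocRing A B n) (EGA4.FibLocMod A B n X) =
      LocCoh.depth (Localization.AtPrime n) (EGA4.FibLocMod A B n X) :=
    Groth.Agent.H29.FlatCM.depth_eq_of_surjective hsurj _
  show k ≤ LocCoh.depth (EGA4.FibLocRing A B n) (EGA4.FibLocMod A B n X)
  rw [h5]
  refine le_trans h (Groth.Agent.H15.DepthSpread.le_idealDepth_of_le ?_)
  rw [Ideal.map_le_iff_le_comap]
  intro x hx
  rw [Ideal.mem_comap, IsLocalization.AtPrime.to_map_mem_maximal_iff (Localization.AtPrime n) n]
  exact hJ hx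

end Trans

section Core

set_option maxHeartbeats 1600000 in
/-- Kollár's criterion at a prime `n` of `B`, with pointwise fibre-depth hypotheses. -/
theorem core (A B : Type u) [CommRing A] [CommRing B]
    [IsNoetherianRing A] [IsNoetherianRing B] [Algebra A B] (J : Ideal B)
    (F E0 E1 G : Type u) [AddCommGroup F] [Module B F] [Module A F] [IsScalarTower A B F]
    [Module.Finite B F]
    [AddCommGroup E0] [Module B E0] [Module A E0] [IsScalarTower A B E0] [Module.Finite B E0]
    [Module.Flat A E0]
    [AddCommGroup E1] [Module B E1] [Module A E1] [IsScalarTower A B E1] [Module.Finite B E1]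
    [Module.Flat A E1]
    [AddCommGroup G] [Module B G] [Module A G] [IsScalarTower A B G] [Module.Finite B G]
    (f : F →ₗ[B] E0) (u : E0 →ₗ[B] E1) (v : E1 →ₗ[B] G)
    (hf : Function.Injective f) (hfu : Function.Exact f u) (huv : Function.Exact u v)
    (hv : Function.Surjective v)
    (hGU : ∀ q : PrimeSpectrum B, ¬ J ≤ q.asIdeal → FlatCA.FlatAt A q.asIdeal G)
    (n : Ideal B) [n.IsPrime]
    (h0 : ∀ q : PrimeSpectrum B, J ≤ q.asIdeal → q.asIdeal ≤ n →
      2 ≤ LocCoh.idealDepth (q.asIdeal.map (algebraMap B (EGA4.FibLocRing A B q.asIdeal)))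
        (EGA4.FibLocMod A B q.asIdeal E0))
    (h1 : ∀ q : PrimeSpectrum B, J ≤ q.asIdeal → q.asIdeal ≤ n →
      1 ≤ LocCoh.idealDepth (q.asIdeal.map (algebraMap B (EGA4.FibLocRing A B q.asIdeal)))
        (EGA4.FibLocMod A B q.asIdeal E1)) :
    (FlatCA.FlatAt A n G → FlatCA.FlatAt A n F ∧
      (J ≤ n → 2 ≤ LocCoh.idealDepth (n.map (algebraMap B (EGA4.FibLocRing A B n)))
        (EGA4.FibLocMod A B n F))) ∧
    ((∀ q : PrimeSpectrum B, J ≤ q.asIdeal → q.asIdeal ≤ n →
      2 ≤ LocCoh.idealDepth (q.asIdeal.map (algebraMap B (EGA4.FibLocRing A B q.asIdeal)))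
        (EGA4.FibLocMod A B q.asIdeal F)) → FlatCA.FlatAt A n G) := by
  letI alg : Algebra (Localization.AtPrime (n.comap (algebraMap A B))) (Localization.AtPrime n) :=
    (Localization.localRingHom (n.comap (algebraMap A B)) n (algebraMap A B) rfl).toAlgebra
  haveI hloc : IsLocalHom (algebraMap (Localization.AtPrime (n.comap (algebraMap A B)))
      (Localization.AtPrime n)) :=
    Localization.isLocalHom_localRingHom _ _ _ rfl
  haveI tower0 : IsScalarTower A (Localization.AtPrime (n.comap (algebraMap A B)))
      (Localization.AtPrime n) :=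
    .of_algebraMap_eq fun x => (Localization.localRingHom_to_map _ _ _ rfl x).symm
  -- module structures over `A_p`
  letI modF : Module (Localization.AtPrime (n.comap (algebraMap A B)))
      (LocalizedModule n.primeCompl F) :=
    Module.compHom _ (algebraMap (Localization.AtPrime (n.comap (algebraMap A B)))
      (Localization.AtPrime n))
  letI modE0 : Module (Localization.AtPrime (n.comap (algebraMap A B)))
      (LocalizedModule n.primeCompl E0) :=
    Module.compHom _ (algebraMap (Localization.AtPrime (n.comap (algebraMap A B)))
      (Localization.AtPrime n))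
  letI modE1 : Module (Localization.AtPrime (n.comap (algebraMap A B)))
      (LocalizedModule n.primeCompl E1) :=
    Module.compHom _ (algebraMap (Localization.AtPrime (n.comap (algebraMap A B)))
      (Localization.AtPrime n))
  letI modG : Module (Localization.AtPrime (n.comap (algebraMap A B)))
      (LocalizedModule n.primeCompl G) :=
    Module.compHom _ (algebraMap (Localization.AtPrime (n.comap (algebraMap A B)))
      (Localization.AtPrime n))
  haveI t1F : IsScalarTower (Localization.AtPrime (n.comap (algebraMap A B)))
      (Localization.AtPrime n) (LocalizedModule n.primeCompl F) :=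
    IsScalarTower.of_algebraMap_smul fun r x => rfl
  haveI t1E0 : IsScalarTower (Localization.AtPrime (n.comap (algebraMap A B)))
      (Localization.AtPrime n) (LocalizedModule n.primeCompl E0) :=
    IsScalarTower.of_algebraMap_smul fun r x => rfl
  haveI t1E1 : IsScalarTower (Localization.AtPrime (n.comap (algebraMap A B)))
      (Localization.AtPrime n) (LocalizedModule n.primeCompl E1) :=
    IsScalarTower.of_algebraMap_smul fun r x => rfl
  haveI t1G : IsScalarTower (Localization.AtPrime (n.comap (algebraMap A B)))
      (Localization.AtPrime n) (LocalizedModule n.primeCompl G) :=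
    IsScalarTower.of_algebraMap_smul fun r x => rfl
  haveI t2F : IsScalarTower A (Localization.AtPrime (n.comap (algebraMap A B)))
      (LocalizedModule n.primeCompl F) :=
    IsScalarTower.of_algebraMap_smul fun a x => by
      show algebraMap (Localization.AtPrime (n.comap (algebraMap A B))) (Localization.AtPrime n)
        (algebraMap A _ a) • x = a • x
      rw [← IsScalarTower.algebraMap_apply A _ (Localization.AtPrime n), algebraMap_smul]
  haveI t2E0 : IsScalarTower A (Localization.AtPrime (n.comap (algebraMap A B)))
      (LocalizedModule n.primeCompl E0) :=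
    IsScalarTower.of_algebraMap_smul fun a x => by
      show algebraMap (Localization.AtPrime (n.comap (algebraMap A B))) (Localization.AtPrime n)
        (algebraMap A _ a) • x = a • x
      rw [← IsScalarTower.algebraMap_apply A _ (Localization.AtPrime n), algebraMap_smul]
  haveI t2E1 : IsScalarTower A (Localization.AtPrime (n.comap (algebraMap A B)))
      (LocalizedModule n.primeCompl E1) :=
    IsScalarTower.of_algebraMap_smul fun a x => by
      show algebraMap (Localization.AtPrime (n.comap (algebraMap A B))) (Localization.AtPrime n)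
        (algebraMap A _ a) • x = a • x
      rw [← IsScalarTower.algebraMap_apply A _ (Localization.AtPrime n), algebraMap_smul]
  haveI t2G : IsScalarTower A (Localization.AtPrime (n.comap (algebraMap A B)))
      (LocalizedModule n.primeCompl G) :=
    IsScalarTower.of_algebraMap_smul fun a x => by
      show algebraMap (Localization.AtPrime (n.comap (algebraMap A B))) (Localization.AtPrime n)
        (algebraMap A _ a) • x = a • x
      rw [← IsScalarTower.algebraMap_apply A _ (Localization.AtPrime n), algebraMap_smul]
  -- flatness over `A_p` versus over `A`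
  have hflat : ∀ (X : Type u) [AddCommGroup X]
      [Module A X] [Module (Localization.AtPrime (n.comap (algebraMap A B))) X]
      [IsScalarTower A (Localization.AtPrime (n.comap (algebraMap A B))) X],
      Module.Flat (Localization.AtPrime (n.comap (algebraMap A B))) X ↔ Module.Flat A X :=
    fun X _ _ _ _ => Module.flat_iff_of_isLocalization
      (Localization.AtPrime (n.comap (algebraMap A B))) (n.comap (algebraMap A B)).primeCompl X
  haveI flE0 : Module.Flat (Localization.AtPrime (n.comap (algebraMap A B)))
      (LocalizedModule n.primeCompl E0) :=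
    (hflat _).mpr (Groth.Agent.H34.FibDepthMod.flat_localizedModule n.primeCompl E0)
  haveI flE1 : Module.Flat (Localization.AtPrime (n.comap (algebraMap A B)))
      (LocalizedModule n.primeCompl E1) :=
    (hflat _).mpr (Groth.Agent.H34.FibDepthMod.flat_localizedModule n.primeCompl E1)
  -- closed fibre of the localization versus the fibre stalk
  have hmB : EGA4.mB (Localization.AtPrime (n.comap (algebraMap A B))) (Localization.AtPrime n) =
      (n.comap (algebraMap A B)).map (algebraMap A (Localization.AtPrime n)) :=
    Groth.Agent.H34.FibDepth.map_localRingHom_maximalIdeal n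
  have hdepth : ∀ (X : Type u) [AddCommGroup X] [Module B X] (k : ℕ∞),
      k ≤ LocCoh.idealDepth (J.map (algebraMap B (Localization.AtPrime n)))
        (EGA4.FibMod (Localization.AtPrime (n.comap (algebraMap A B))) (Localization.AtPrime n)
          (LocalizedModule n.primeCompl X)) ↔
      k ≤ LocCoh.idealDepth (J.map (algebraMap B (Localization.AtPrime n)))
        (EGA4.FibLocMod A B n X) := by
    intro X _ _ k
    rw [Groth.Agent.H26.DepthQuot.idealDepth_congr _
      (Submodule.quotEquivOfEq _ _ (by rw [hmB]) :
        EGA4.FibMod (Localization.AtPrime (n.comap (algebraMap A B))) (Localization.AtPrime n)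
          (LocalizedModule n.primeCompl X) ≃ₗ[Localization.AtPrime n] EGA4.FibLocMod A B n X)]
  -- hypotheses of the local statement
  have hGU' : ∀ Q : PrimeSpectrum (Localization.AtPrime n),
      ¬ J.map (algebraMap B (Localization.AtPrime n)) ≤ Q.asIdeal →
      FlatCA.FlatAt (Localization.AtPrime (n.comap (algebraMap A B))) Q.asIdeal
        (LocalizedModule n.primeCompl G) := by
    intro Q hQ
    have hq : ¬ J ≤ Q.asIdeal.comap (algebraMap B (Localization.AtPrime n)) :=
      fun h => hQ (Ideal.map_le_iff_le_comap.mpr h)
    have h1 : Module.Flat A (LocalizedModule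
        (Q.asIdeal.comap (algebraMap B (Localization.AtPrime n))).primeCompl G) :=
      hGU ⟨Q.asIdeal.comap (algebraMap B (Localization.AtPrime n)), inferInstance⟩ hq
    have h2 : Module.Flat A (LocalizedModule Q.asIdeal.primeCompl
        (LocalizedModule n.primeCompl G)) := flat_locLoc n G Q.asIdeal h1
    haveI t3 : IsScalarTower A (Localization.AtPrime (n.comap (algebraMap A B)))
        (LocalizedModule Q.asIdeal.primeCompl (LocalizedModule n.primeCompl G)) :=
      IsScalarTower.of_algebraMap_smul fun a x => by
        induction x using LocalizedModule.induction_on with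
        | h m s =>
          rw [LocalizedModule.smul'_mk, LocalizedModule.smul'_mk, algebraMap_smul]
    exact (hflat _).mpr h2
  have h0' : 2 ≤ LocCoh.idealDepth (J.map (algebraMap B (Localization.AtPrime n)))
      (EGA4.FibMod (Localization.AtPrime (n.comap (algebraMap A B))) (Localization.AtPrime n)
        (LocalizedModule n.primeCompl E0)) := by
    rw [hdepth]
    have := le_idealDepth_fibLocMod (A := A) n J E0 2 (fun q hq hqn => by
      exact_mod_cast h0 q hq hqn)
    exact_mod_cast this
  have h1' : 1 ≤ LocCoh.idealDepth (J.map (algebraMap B (Localization.AtPrime n)))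
      (EGA4.FibMod (Localization.AtPrime (n.comap (algebraMap A B))) (Localization.AtPrime n)
        (LocalizedModule n.primeCompl E1)) := by
    rw [hdepth]
    have := le_idealDepth_fibLocMod (A := A) n J E1 1 (fun q hq hqn => by
      exact_mod_cast h1 q hq hqn)
    exact_mod_cast this
  obtain ⟨hiff, -, hGF⟩ := Groth.Agent.S18708.result
    (Localization.AtPrime (n.comap (algebraMap A B))) (Localization.AtPrime n)
    (J.map (algebraMap B (Localization.AtPrime n)))
    (LocalizedModule n.primeCompl F) (LocalizedModule n.primeCompl E0)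
    (LocalizedModule n.primeCompl E1) (LocalizedModule n.primeCompl G)
    (LocalizedModule.map n.primeCompl f) (LocalizedModule.map n.primeCompl u)
    (LocalizedModule.map n.primeCompl v)
    (LocalizedModule.map_injective _ f hf) (LocalizedModule.map_exact _ f u hfu)
    (LocalizedModule.map_exact _ u v huv) (LocalizedModule.map_surjective _ v hv)
    hGU' h0' h1'
  rw [hdepth] at hiff
  refine ⟨fun hG => ?_, fun hF => ?_⟩
  · have hG' : Module.Flat (Localization.AtPrime (n.comap (algebraMap A B)))
        (LocalizedModule n.primeCompl G) := (hflat _).mpr hG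
    refine ⟨(hflat _).mp (hGF hG'), fun hJn => ?_⟩
    exact le_depth_fibLocMod_of_le (A := A) n J hJn F 2 (hiff.mpr hG')
  · have h2 : 2 ≤ LocCoh.idealDepth (J.map (algebraMap B (Localization.AtPrime n)))
        (EGA4.FibLocMod A B n F) := by
      have := le_idealDepth_fibLocMod (A := A) n J F 2 (fun q hq hqn => by
        exact_mod_cast hF q hq hqn)
      exact_mod_cast this
    exact (hflat _).mp (hiff.mp h2)

end Core

end Groth.Agent.H29.KollarLoc
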