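import Mathlib
import Groth.Agent.H29.KollarLoc
import Groth.Agent.H59.FibFlat
import Groth.Agent.H29.FlatDepthMod
import Groth.Agent.H29.DepthChange
import Groth.Agent.S2612
import Groth.Agent.S18707
import Groth.Agent.S18722

/-!
# Kollár's four-term criterion: global form and base change of fibre depth
-/

set_option autoImplicit false
set_option linter.style.haveILetI false
set_option maxHeartbeats 400000

universe u v

open TensorProduct IsLocalRing Function
open Groth.Agent.H15.Depth Groth.Agent.H15.DepthSpread

namespace Groth.Agent.H29.KollarBC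

section Surj

variable {R A' : Type u} [CommRing R] [CommRing A'] [Algebra R A']

theorem mem_map_smul_top_iff (hsurj : Function.Surjective (algebraMap R A')) (I : Ideal R)
    (M : Type v) [AddCommGroup M] [Module A' M] [Module R M] [IsScalarTower R A' M] (x : M) :
    x ∈ (I.map (algebraMap R A')) • (⊤ : Submodule A' M) ↔ x ∈ I • (⊤ : Submodule R M) := by
  constructor
  · intro hx
    refine Submodule.smul_induction_on hx (fun b hb m _ => ?_) (fun a b ha hb => add_mem ha hb)
    obtain ⟨a, ha, rfl⟩ := (Ideal.mem_map_iff_of_surjective _ hsurj).mp hb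
    rw [algebraMap_smul]
    exact Submodule.smul_mem_smul ha Submodule.mem_top
  · intro hx
    refine Submodule.smul_induction_on hx (fun a ha m _ => ?_) (fun a b ha hb => add_mem ha hb)
    rw [← algebraMap_smul A' a m]
    exact Submodule.smul_mem_smul (Ideal.mem_map_of_mem _ ha) Submodule.mem_top

/-- Ideal depth along a surjection of rings. -/
theorem idealDepth_map_of_surjective (hsurj : Function.Surjective (algebraMap R A')) (I : Ideal R)
    (M : Type v) [AddCommGroup M] [Module A' M] [Module R M] [IsScalarTower R A' M] :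
    LocCoh.idealDepth (I.map (algebraMap R A')) M = LocCoh.idealDepth I M := by
  have htop : (I.map (algebraMap R A')) • (⊤ : Submodule A' M) = ⊤ ↔
      I • (⊤ : Submodule R M) = ⊤ := by
    rw [Submodule.eq_top_iff', Submodule.eq_top_iff']
    exact forall_congr' fun x => mem_map_smul_top_iff hsurj I M x
  by_cases h : I • (⊤ : Submodule R M) = ⊤
  · rw [idealDepth_eq_top_of_smul_top_eq_top h,
      idealDepth_eq_top_of_smul_top_eq_top (htop.mpr h)]
  · have h' : (I.map (algebraMap R A')) • (⊤ : Submodule A' M) ≠ ⊤ := fun e => h (htop.mp e)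
    apply le_antisymm
    · rw [← ENat.forall_natCast_le_iff_le]
      intro n hn
      refine (le_idealDepth_iff h n).mpr
        (Groth.Agent.H29.DepthChange.hasSeq_of_algebraMap (I := I)
          (I' := I.map (algebraMap R A')) (fun y hy => ?_) n M ((le_idealDepth_iff h' n).mp hn))
      obtain ⟨a, ha, rfl⟩ := (Ideal.mem_map_iff_of_surjective _ hsurj).mp hy
      exact ⟨a, ha, rfl⟩
    · rw [← ENat.forall_natCast_le_iff_le]
      intro n hn
      exact (le_idealDepth_iff h' n).mpr
        (Groth.Agent.H29.DepthChange.hasSeq_map n M ((le_idealDepth_iff h n).mp hn))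

end Surj

section BaseChangeQuot

theorem isBaseChange_mkQ {R : Type u} [CommRing R] (I : Ideal R) (M : Type v) [AddCommGroup M]
    [Module R M] : IsBaseChange (R ⧸ I) (Submodule.mkQ (I • (⊤ : Submodule R M))) := by
  refine IsBaseChange.of_equiv
    ((quotTensorEquivQuotSMul M I).extendScalarsOfSurjective Ideal.Quotient.mk_surjective)
    (fun x => ?_)
  show quotTensorEquivQuotSMul M I ((1 : R ⧸ I) ⊗ₜ x) = _
  rw [← map_one (Ideal.Quotient.mk I), quotTensorEquivQuotSMul_mk_tmul, one_smul]
  rfl

end BaseChangeQuot

section Fib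

variable (A B : Type u) [CommRing A] [CommRing B] [Algebra A B]

/-- The fibre stalk module is the base change of the module to the fibre local ring. -/
theorem isBaseChange_fibLocMod (q : Ideal B) [q.IsPrime] (X : Type u) [AddCommGroup X]
    [Module B X] :
    IsBaseChange (EGA4.FibLocRing A B q)
      ((((Submodule.mkQ (((q.comap (algebraMap A B)).map
          (algebraMap A (Localization.AtPrime q))) •
          (⊤ : Submodule (Localization.AtPrime q) (LocalizedModule q.primeCompl X)))).restrictScalars
          B) ∘ₗ (LocalizedModule.mkLinearMap q.primeCompl X) :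
        X →ₗ[B] EGA4.FibLocMod A B q X)) :=
  (IsLocalizedModule.isBaseChange q.primeCompl (Localization.AtPrime q)
    (LocalizedModule.mkLinearMap q.primeCompl X)).comp
    (isBaseChange_mkQ ((q.comap (algebraMap A B)).map (algebraMap A (Localization.AtPrime q)))
      (LocalizedModule q.primeCompl X))

variable [IsNoetherianRing B]

/-- The fibre stalk of a finite projective module has at least the depth of the fibre local
ring. -/
theorem le_depth_fibLocMod_of_projective (q : Ideal B) [q.IsPrime] (E : Type u) [AddCommGroup E]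
    [Module B E] [Module.Finite B E] [Module.Projective B E] (k : ℕ∞)
    (h : k ≤ LocCoh.idealDepth (q.map (algebraMap B (EGA4.FibLocRing A B q)))
      (EGA4.FibLocRing A B q)) :
    k ≤ LocCoh.idealDepth (q.map (algebraMap B (EGA4.FibLocRing A B q)))
      (EGA4.FibLocMod A B q E) := by
  haveI hloc : IsLocalRing (EGA4.FibLocRing A B q) :=
    Groth.Agent.H34.FibDepth.isLocalRing_fib (A := A) q
  let e1 : EGA4.FibLocRing A B q ⊗[B] E ≃ₗ[EGA4.FibLocRing A B q] EGA4.FibLocMod A B q E :=
    (isBaseChange_fibLocMod A B q E).equiv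
  haveI : Module.Free (EGA4.FibLocRing A B q) (EGA4.FibLocRing A B q ⊗[B] E) :=
    Module.free_of_flat_of_isLocalRing
  let e2 := (Module.finBasis (EGA4.FibLocRing A B q) (EGA4.FibLocRing A B q ⊗[B] E)).equivFun
  rw [Groth.Agent.H29.CM.idealDepth_congr (e1.symm ≪≫ₗ e2)]
  exact Groth.Agent.S2612.le_depth_pi _ _ k h _

end Fib

section BC

variable {A B A' B' : Type u} [CommRing A] [CommRing B] [CommRing A'] [CommRing B']
  [Algebra A A'] [Algebra A B] [Algebra A' B'] [Algebra B B'] [Algebra A B']
  [IsScalarTower A A' B'] [IsScalarTower A B B'] [Algebra.IsPushout A B A' B']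
  [IsNoetherianRing B] [IsNoetherianRing B']

set_option synthInstance.maxHeartbeats 400000 in
/-- The depth of the fibre local ring does not drop under base change. -/
theorem le_depth_fibLocRing_baseChange (q' : Ideal B') [q'.IsPrime] (k : ℕ∞)
    (h : k ≤ LocCoh.idealDepth ((q'.comap (algebraMap B B')).map
        (algebraMap B (EGA4.FibLocRing A B (q'.comap (algebraMap B B')))))
      (EGA4.FibLocRing A B (q'.comap (algebraMap B B')))) :
    k ≤ LocCoh.idealDepth (q'.map (algebraMap B' (EGA4.FibLocRing A' B' q')))
      (EGA4.FibLocRing A' B' q') := by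
  haveI hloc : IsLocalRing (EGA4.FibLocRing A B (q'.comap (algebraMap B B'))) :=
    Groth.Agent.H34.FibDepth.isLocalRing_fib (A := A) _
  haveI hloc' : IsLocalRing (EGA4.FibLocRing A' B' q') :=
    Groth.Agent.H34.FibDepth.isLocalRing_fib (A := A') q'
  rw [Groth.Agent.H34.FibDepth.map_eq_maximalIdeal_fib] at h ⊢
  letI alg : Algebra (EGA4.FibLocRing A B (q'.comap (algebraMap B B')))
      (EGA4.FibLocRing A' B' q') :=
    (Groth.Agent.H59.FibFlat.fibMap (R := A) (R' := A') (q'.comap (algebraMap B B')) q'
      rfl).toAlgebra
  haveI hlh : IsLocalHom (algebraMap (EGA4.FibLocRing A B (q'.comap (algebraMap B B')))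
      (EGA4.FibLocRing A' B' q')) :=
    Groth.Agent.H59.FibFlat.isLocalHom_fibMap (R := A) (R' := A') _ q' rfl
  haveI hfl : Module.Flat (EGA4.FibLocRing A B (q'.comap (algebraMap B B')))
      (EGA4.FibLocRing A' B' q') :=
    Groth.Agent.H59.FibFlat.flat_fibMap (R := A) (R' := A') _ q' rfl
  have hd := Groth.Agent.H29.FlatDepthMod.depth_tensor
    (R := EGA4.FibLocRing A B (q'.comap (algebraMap B B'))) (S := EGA4.FibLocRing A' B' q')
    (EGA4.FibLocRing A B (q'.comap (algebraMap B B'))) (EGA4.FibLocRing A' B' q')
  have he : LocCoh.depth (EGA4.FibLocRing A' B' q')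
      (EGA4.FibLocRing A' B' q' ⊗[EGA4.FibLocRing A B (q'.comap (algebraMap B B'))]
        EGA4.FibLocRing A B (q'.comap (algebraMap B B'))) =
      LocCoh.depth (EGA4.FibLocRing A' B' q') (EGA4.FibLocRing A' B' q') :=
    Groth.Agent.H29.CM.idealDepth_congr
      (TensorProduct.AlgebraTensorModule.rid (EGA4.FibLocRing A B (q'.comap (algebraMap B B')))
        (EGA4.FibLocRing A' B' q') (EGA4.FibLocRing A' B' q'))
  rw [he] at hd
  show k ≤ LocCoh.depth (EGA4.FibLocRing A' B' q') (EGA4.FibLocRing A' B' q')
  rw [hd]
  exact le_trans h le_self_add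

end BC

section LocBC

/-- Localizations of projective modules are projective. -/
theorem projective_localizedModule {B : Type u} [CommRing B] (S : Submonoid B) (E : Type u)
    [AddCommGroup E] [Module B E] [Module.Projective B E] :
    Module.Projective (Localization S) (LocalizedModule S E) :=
  Module.Projective.of_equiv
    (IsLocalizedModule.isBaseChange S (Localization S) (LocalizedModule.mkLinearMap S E)).equiv

/-- Flatness at a prime is preserved under base change of the ring. -/
theorem flat_localizedModule_baseChange {B B' : Type u} [CommRing B] [CommRing B'] [Algebra B B']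
    (G : Type u) [AddCommGroup G] [Module B G] (q' : Ideal B') [q'.IsPrime]
    (h : Module.Flat (Localization.AtPrime (q'.comap (algebraMap B B')))
      (LocalizedModule (q'.comap (algebraMap B B')).primeCompl G)) :
    Module.Flat (Localization.AtPrime q') (LocalizedModule q'.primeCompl (B' ⊗[B] G)) := by
  letI alg : Algebra (Localization.AtPrime (q'.comap (algebraMap B B')))
      (Localization.AtPrime q') :=
    (Localization.localRingHom (q'.comap (algebraMap B B')) q' (algebraMap B B') rfl).toAlgebra
  haveI tow : IsScalarTower B (Localization.AtPrime (q'.comap (algebraMap B B')))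
      (Localization.AtPrime q') := .of_algebraMap_eq fun x => by
    rw [RingHom.algebraMap_toAlgebra, Localization.localRingHom_to_map,
      ← IsScalarTower.algebraMap_apply]
  have h1 : IsBaseChange B' (TensorProduct.mk B B' G 1) := TensorProduct.isBaseChange B G B'
  have h2 : IsBaseChange (Localization.AtPrime q')
      (LocalizedModule.mkLinearMap q'.primeCompl (B' ⊗[B] G)) :=
    IsLocalizedModule.isBaseChange q'.primeCompl (Localization.AtPrime q') _
  have h3 := h1.comp h2
  have g1 : IsBaseChange (Localization.AtPrime (q'.comap (algebraMap B B')))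
      (LocalizedModule.mkLinearMap (q'.comap (algebraMap B B')).primeCompl G) :=
    IsLocalizedModule.isBaseChange (q'.comap (algebraMap B B')).primeCompl
      (Localization.AtPrime (q'.comap (algebraMap B B'))) _
  have g2 : IsBaseChange (Localization.AtPrime q')
      (TensorProduct.mk (Localization.AtPrime (q'.comap (algebraMap B B')))
        (Localization.AtPrime q')
        (LocalizedModule (q'.comap (algebraMap B B')).primeCompl G) 1) :=
    TensorProduct.isBaseChange _ _ _
  have g3 := g1.comp g2
  haveI : Module.Flat (Localization.AtPrime q')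
      (Localization.AtPrime q' ⊗[Localization.AtPrime (q'.comap (algebraMap B B'))]
        LocalizedModule (q'.comap (algebraMap B B')).primeCompl G) :=
    Module.Flat.baseChange _ _ _
  exact Module.Flat.of_linearEquiv (h3.equiv.symm ≪≫ₗ g3.equiv)

end LocBC

section Proj

theorem projective_of_fourTerm {R : Type u} [Ring R] {K P0 P1 G : Type v} [AddCommGroup K]
    [AddCommGroup P0] [AddCommGroup P1] [AddCommGroup G] [Module R K] [Module R P0] [Module R P1]
    [Module R G] [Module.Projective R P0] [Module.Projective R P1] [Module.Projective R G]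
    (f : K →ₗ[R] P0) (u : P0 →ₗ[R] P1) (v : P1 →ₗ[R] G)
    (hf : Injective f) (hfu : Exact f u) (huv : Exact u v) (hv : Surjective v) :
    Module.Projective R K := by
  obtain ⟨s, hs⟩ := Module.projective_lifting_property v LinearMap.id hv
  have hs' : ∀ y, v (s y) = y := fun y => LinearMap.congr_fun hs y
  let r1 : P1 →ₗ[R] LinearMap.ker v :=
    LinearMap.codRestrict (LinearMap.ker v) (LinearMap.id - s ∘ₗ v) (fun x => by
      rw [LinearMap.mem_ker, LinearMap.sub_apply, map_sub, LinearMap.id_apply,
        LinearMap.comp_apply, hs', sub_self])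
  haveI : Module.Projective R (LinearMap.ker v) :=
    Module.Projective.of_split (LinearMap.ker v).subtype r1 (by
      ext x
      have hx : v x.1 = 0 := x.2
      simp [r1, hx])
  let u' : P0 →ₗ[R] LinearMap.ker v :=
    LinearMap.codRestrict _ u (fun x => (huv (u x)).mpr ⟨x, rfl⟩)
  have hu' : Surjective u' := by
    rintro ⟨y, hy⟩
    obtain ⟨x, hx⟩ := (huv y).mp hy
    exact ⟨x, Subtype.ext hx⟩
  obtain ⟨t, ht⟩ := Module.projective_lifting_property u' LinearMap.id hu'
  have ht' : ∀ y, u' (t y) = y := fun y => LinearMap.congr_fun ht y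
  let r0 : P0 →ₗ[R] LinearMap.ker u :=
    LinearMap.codRestrict (LinearMap.ker u) (LinearMap.id - t ∘ₗ u') (fun x => by
      rw [LinearMap.mem_ker, LinearMap.sub_apply, map_sub, LinearMap.id_apply,
        LinearMap.comp_apply]
      have h1 : u (t (u' x)) = (u' (t (u' x))).1 := rfl
      rw [h1, ht']
      exact sub_self _)
  haveI : Module.Projective R (LinearMap.ker u) :=
    Module.Projective.of_split (LinearMap.ker u).subtype r0 (by
      ext x
      have hx : u x.1 = 0 := x.2
      have hx' : u' x.1 = 0 := Subtype.ext hx
      simp [r0, hx'])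
  have hker : LinearMap.ker u = LinearMap.range f := (LinearMap.exact_iff.mp hfu)
  let e : K ≃ₗ[R] LinearMap.ker u :=
    LinearEquiv.ofInjective f hf ≪≫ₗ LinearEquiv.ofEq _ _ hker.symm
  exact Module.Projective.of_equiv e.symm

end Proj

section Core

theorem isScalarTower_loc (A : Type u) {B : Type u} [CommRing A] [CommRing B] [Algebra A B]
    (S : Submonoid B) (G : Type u) [AddCommGroup G] [Module B G] [Module A G]
    [IsScalarTower A B G] : IsScalarTower A (Localization S) (LocalizedModule S G) :=
  IsScalarTower.of_algebraMap_smul fun a x => by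
    induction x using LocalizedModule.induction_on with
    | h m s =>
      rw [IsScalarTower.algebraMap_apply A B (Localization S), ← Localization.mk_one_eq_algebraMap,
        LocalizedModule.mk_smul_mk, one_mul, LocalizedModule.smul'_mk, algebraMap_smul]

set_option maxHeartbeats 1600000 in
/-- Global form of Kollár's four-term criterion with projective middle terms. -/
theorem core2 (A B : Type u) [CommRing A] [CommRing B] [IsNoetherianRing A] [IsNoetherianRing B]
    [Algebra A B] [Module.Flat A B] (J : Ideal B)
    (hZ : ∀ q : PrimeSpectrum B, J ≤ q.asIdeal →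
      2 ≤ LocCoh.idealDepth (q.asIdeal.map (algebraMap B (EGA4.FibLocRing A B q.asIdeal)))
        (EGA4.FibLocRing A B q.asIdeal))
    (F E0 E1 G : Type u) [AddCommGroup F] [Module B F] [Module A F] [IsScalarTower A B F]
    [Module.Finite B F]
    [AddCommGroup E0] [Module B E0] [Module A E0] [IsScalarTower A B E0] [Module.Finite B E0]
    [Module.Projective B E0]
    [AddCommGroup E1] [Module B E1] [Module A E1] [IsScalarTower A B E1] [Module.Finite B E1]
    [Module.Projective B E1]
    [AddCommGroup G] [Module B G] [Module A G] [IsScalarTower A B G] [Module.Finite B G]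
    (f : F →ₗ[B] E0) (u : E0 →ₗ[B] E1) (v : E1 →ₗ[B] G)
    (hf : Function.Injective f) (hfu : Function.Exact f u) (huv : Function.Exact u v)
    (hv : Function.Surjective v)
    (hGU : ∀ q : PrimeSpectrum B, ¬ J ≤ q.asIdeal →
      Module.Flat (Localization.AtPrime q.asIdeal) (LocalizedModule q.asIdeal.primeCompl G)) :
    Module.IsReflexive B F ∧ 2 ≤ LocCoh.idealDepth J F ∧
    ((∀ q : PrimeSpectrum B, FlatCA.FlatAt A q.asIdeal F ∧
        2 ≤ LocCoh.idealDepth (J.map (algebraMap B (EGA4.FibLocRing A B q.asIdeal)))
          (EGA4.FibLocMod A B q.asIdeal F)) ↔ Module.Flat A G) := by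
  haveI flE0 : Module.Flat A E0 := Module.Flat.trans A B E0
  haveI flE1 : Module.Flat A E1 := Module.Flat.trans A B E1
  have hGU' : ∀ q : PrimeSpectrum B, ¬ J ≤ q.asIdeal → FlatCA.FlatAt A q.asIdeal G := by
    intro q hq
    haveI := hGU q hq
    haveI := isScalarTower_loc A q.asIdeal.primeCompl G
    exact Module.Flat.trans A (Localization.AtPrime q.asIdeal)
      (LocalizedModule q.asIdeal.primeCompl G)
  have h0 : ∀ q : PrimeSpectrum B, J ≤ q.asIdeal →
      2 ≤ LocCoh.idealDepth (q.asIdeal.map (algebraMap B (EGA4.FibLocRing A B q.asIdeal)))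
        (EGA4.FibLocMod A B q.asIdeal E0) := fun q hq =>
    le_depth_fibLocMod_of_projective A B q.asIdeal E0 2 (hZ q hq)
  have h1 : ∀ q : PrimeSpectrum B, J ≤ q.asIdeal →
      1 ≤ LocCoh.idealDepth (q.asIdeal.map (algebraMap B (EGA4.FibLocRing A B q.asIdeal)))
        (EGA4.FibLocMod A B q.asIdeal E1) := fun q hq =>
    le_depth_fibLocMod_of_projective A B q.asIdeal E1 1
      (le_trans (by norm_num) (hZ q hq))
  have hdF : 2 ≤ LocCoh.idealDepth J F :=
    Groth.Agent.S18707.result A B J F E0 E1 G f u v hf hfu huv hv hGU' h0 h1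
  have hU : ∀ q : PrimeSpectrum B, ¬ J ≤ q.asIdeal →
      Module.IsReflexive (Localization.AtPrime q.asIdeal)
        (LocalizedModule q.asIdeal.primeCompl F) := by
    intro q hq
    haveI := hGU q hq
    haveI : Module.Finite (Localization.AtPrime q.asIdeal)
        (LocalizedModule q.asIdeal.primeCompl G) :=
      Module.Finite.of_isLocalizedModule q.asIdeal.primeCompl
        (LocalizedModule.mkLinearMap q.asIdeal.primeCompl G)
    haveI : Module.Finite (Localization.AtPrime q.asIdeal)
        (LocalizedModule q.asIdeal.primeCompl F) :=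
      Module.Finite.of_isLocalizedModule q.asIdeal.primeCompl
        (LocalizedModule.mkLinearMap q.asIdeal.primeCompl F)
    haveI : Module.Free (Localization.AtPrime q.asIdeal)
        (LocalizedModule q.asIdeal.primeCompl G) := Module.free_of_flat_of_isLocalRing
    haveI := projective_localizedModule q.asIdeal.primeCompl E0
    haveI := projective_localizedModule q.asIdeal.primeCompl E1
    haveI : Module.Projective (Localization.AtPrime q.asIdeal)
        (LocalizedModule q.asIdeal.primeCompl F) :=
      projective_of_fourTerm (LocalizedModule.map q.asIdeal.primeCompl f)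
        (LocalizedModule.map q.asIdeal.primeCompl u) (LocalizedModule.map q.asIdeal.primeCompl v)
        (LocalizedModule.map_injective _ f hf) (LocalizedModule.map_exact _ f u hfu)
        (LocalizedModule.map_exact _ u v huv) (LocalizedModule.map_surjective _ v hv)
    infer_instance
  have hZ1 : ∀ q : PrimeSpectrum B, J ≤ q.asIdeal →
      1 ≤ LocCoh.idealDepth (q.asIdeal.map (algebraMap B (EGA4.FibLocRing A B q.asIdeal)))
        (EGA4.FibLocRing A B q.asIdeal) := fun q hq => le_trans (by norm_num) (hZ q hq)
  refine ⟨(Groth.Agent.S18722.result A B J hZ1 F).1 hU hdF, hdF, ?_⟩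
  have hcore := fun (n : Ideal B) (hn : n.IsPrime) =>
    Groth.Agent.H29.KollarLoc.core A B J F E0 E1 G f u v hf hfu huv hv hGU' n
      (fun q hq _ => h0 q hq) (fun q hq _ => h1 q hq)
  have hconv : ∀ (q : Ideal B) [q.IsPrime],
      LocCoh.idealDepth (J.map (algebraMap B (EGA4.FibLocRing A B q)))
        (EGA4.FibLocMod A B q F) =
      LocCoh.idealDepth (J.map (algebraMap B (Localization.AtPrime q)))
        (EGA4.FibLocMod A B q F) := by
    intro q _
    rw [← idealDepth_map_of_surjective (R := Localization.AtPrime q)
      (A' := EGA4.FibLocRing A B q) Ideal.Quotient.mk_surjective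
      (J.map (algebraMap B (Localization.AtPrime q))) (EGA4.FibLocMod A B q F), Ideal.map_map,
      ← IsScalarTower.algebraMap_eq]
  constructor
  · intro hall
    refine Module.flat_of_isLocalized_maximal B G (fun P _ => LocalizedModule P.primeCompl G)
      (fun P _ => LocalizedModule.mkLinearMap P.primeCompl G) ?_
    intro P hP
    haveI := hP.isPrime
    refine (hcore P inferInstance).2 (fun q hq _ => ?_)
    obtain ⟨-, hd⟩ := hall q
    rw [hconv] at hd
    exact Groth.Agent.H29.KollarLoc.le_depth_fibLocMod_of_le (A := A) q.asIdeal J hq F 2 hd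
  · intro hG q
    have hGq : ∀ q1 : PrimeSpectrum B, FlatCA.FlatAt A q1.asIdeal G := fun q1 =>
      Groth.Agent.H34.FibDepthMod.flat_localizedModule q1.asIdeal.primeCompl G
    obtain ⟨hFq, -⟩ := (hcore q.asIdeal inferInstance).1 (hGq q)
    refine ⟨hFq, ?_⟩
    rw [hconv]
    have := Groth.Agent.H29.KollarLoc.le_idealDepth_fibLocMod (A := A) q.asIdeal J F 2
      (fun q1 hq1 _ => by
        have := ((hcore q1.asIdeal inferInstance).1 (hGq q1)).2 hq1
        exact_mod_cast this)
    exact_mod_cast this

end Core

end Groth.Agent.H29.KollarBC
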