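import Mathlib
import Groth.Agent.H29.KollarBC
import Groth.Agent.H34.ReflDepth2
import Groth.Agent.H71.SkReflexive
import Groth.Agent.H29.LocQuot

/-!
# Double duals and base change (for Kollár's criterion)
-/

set_option autoImplicit false
set_option linter.style.haveILetI false
set_option maxHeartbeats 400000

universe u v

open TensorProduct IsLocalRing Function
open Groth.Agent.H15.Depth Groth.Agent.H15.DepthSpread
open scoped Pointwise

namespace Groth.Agent.H29.KollarBC2

section Unif

variable {B : Type u} [CommRing B]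

/-- Uniform powers over a finite module. -/
theorem exists_pow_forall_of_finite {N : Type v} [AddCommGroup N] [Module B N] [Module.Finite B N]
    (I : Ideal B) (S : Submodule B N) (h : ∀ x : N, ∃ n : ℕ, ∀ c ∈ I ^ n, c • x ∈ S) :
    ∃ n : ℕ, ∀ c ∈ I ^ n, ∀ x : N, c • x ∈ S := by
  classical
  obtain ⟨s, hs⟩ := (Module.Finite.fg_top : (⊤ : Submodule B N).FG)
  choose n hn using h
  refine ⟨s.sup n, fun c hc x => ?_⟩
  have hx : x ∈ Submodule.span B (s : Set N) := by rw [hs]; trivial
  induction hx using Submodule.span_induction with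
  | mem g hg => exact hn g c (Ideal.pow_le_pow_right (Finset.le_sup hg) hc)
  | zero => rw [smul_zero]; exact S.zero_mem
  | add a b _ _ ha hb => rw [smul_add]; exact S.add_mem ha hb
  | smul r a _ ha => rw [smul_comm]; exact S.smul_mem r ha

end Unif

section QuasiInv

variable {R : Type u} [CommRing R] {P Q : Type v} [AddCommGroup P] [Module R P] [AddCommGroup Q]
  [Module R Q]

/-- The ideal of scalars `z` such that `φ` has an inverse up to `z`. -/
def quasiInvIdeal (φ : P →ₗ[R] Q) : Ideal R where
  carrier := {z | ∃ ρ : Q →ₗ[R] P, φ ∘ₗ ρ = z • LinearMap.id ∧ ρ ∘ₗ φ = z • LinearMap.id}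
  zero_mem' := ⟨0, by simp, by simp⟩
  add_mem' := by
    rintro a b ⟨ρ, h1, h2⟩ ⟨σ, h3, h4⟩
    exact ⟨ρ + σ, by rw [LinearMap.comp_add, h1, h3, add_smul],
      by rw [LinearMap.add_comp, h2, h4, add_smul]⟩
  smul_mem' := by
    rintro c a ⟨ρ, h1, h2⟩
    exact ⟨c • ρ, by rw [LinearMap.comp_smul, h1, smul_eq_mul, mul_smul],
      by rw [LinearMap.smul_comp, h2, smul_eq_mul, mul_smul]⟩

theorem mem_quasiInvIdeal (φ : P →ₗ[R] Q) (z : R) :
    z ∈ quasiInvIdeal φ ↔
      ∃ ρ : Q →ₗ[R] P, φ ∘ₗ ρ = z • LinearMap.id ∧ ρ ∘ₗ φ = z • LinearMap.id := Iff.rfl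

/-- If `φ` is invertible up to all elements of an ideal `I` with `depth_I R ≥ 2`, then the dual of
`φ` is bijective. -/
theorem dualMap_bijective_of_quasiInv (φ : P →ₗ[R] Q) (I : Ideal R) (hI : I ≤ quasiInvIdeal φ)
    (h2 : 2 ≤ LocCoh.idealDepth I R) : Function.Bijective φ.dualMap := by
  have hA : ∀ z ∈ I, ∀ l : Module.Dual R Q, φ.dualMap l = 0 → z • l = 0 := by
    intro z hz l hl
    obtain ⟨ρ, h1, -⟩ := hI hz
    have : l ∘ₗ (φ ∘ₗ ρ) = 0 := by
      rw [← LinearMap.comp_assoc]
      have hl' : l ∘ₗ φ = 0 := hl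
      rw [hl', LinearMap.zero_comp]
    rw [h1, LinearMap.comp_smul, LinearMap.comp_id] at this
    exact this
  have hB : ∀ z ∈ I, ∀ m : Module.Dual R P, ∃ l : Module.Dual R Q, φ.dualMap l = z • m := by
    intro z hz m
    obtain ⟨ρ, -, h2⟩ := hI hz
    refine ⟨m ∘ₗ ρ, ?_⟩
    show (m ∘ₗ ρ) ∘ₗ φ = z • m
    rw [LinearMap.comp_assoc, h2, LinearMap.comp_smul, LinearMap.comp_id]
  by_cases htop : I • (⊤ : Submodule R R) = ⊤
  · have h1 : (1 : R) ∈ I := by
      have : I = ⊤ := by rwa [smul_eq_mul, Ideal.mul_top] at htop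
      rw [this]; trivial
    constructor
    · intro a b hab
      have := hA 1 h1 (a - b) (by rw [map_sub, hab, sub_self])
      rwa [one_smul, sub_eq_zero] at this
    · intro m
      obtain ⟨l, hl⟩ := hB 1 h1 m
      exact ⟨l, by rw [hl, one_smul]⟩
  · have hseq : HasSeq I R 2 := (le_idealDepth_iff htop 2).mp (by exact_mod_cast h2)
    obtain ⟨x, hx, hxr, hseq'⟩ := hasSeq_succ_iff.mp hseq
    obtain ⟨y, hy, hyr, -⟩ := hasSeq_succ_iff.mp hseq'
    rw [Groth.Agent.H71.SK.isSMulRegular_quotSMulTop_iff] at hyr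
    have hinj : Function.Injective φ.dualMap := by
      rw [← LinearMap.ker_eq_bot, LinearMap.ker_eq_bot']
      intro l hl
      have h0 := hA x hx l hl
      refine LinearMap.ext fun q => ?_
      have h1 : x • l q = 0 := by
        have := LinearMap.congr_fun h0 q
        rwa [LinearMap.smul_apply] at this
      exact hxr.right_eq_zero_of_smul h1
    refine ⟨hinj, fun m => ?_⟩
    obtain ⟨l1, hl1⟩ := hB x hx m
    obtain ⟨l2, hl2⟩ := hB y hy m
    have hrel : y • l1 = x • l2 := by
      apply hinj
      rw [map_smul, map_smul, hl1, hl2, smul_comm]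
    have hdiv : ∀ q : Q, ∃ t : R, x • t = l1 q := by
      intro q
      have h1 : y • l1 q ∈ x • (⊤ : Submodule R R) := by
        rw [Groth.Agent.H15.DepthOne.mem_smul_top_iff]
        refine ⟨l2 q, ?_⟩
        have := LinearMap.congr_fun hrel q
        rw [LinearMap.smul_apply, LinearMap.smul_apply] at this
        exact this.symm
      exact (Groth.Agent.H15.DepthOne.mem_smul_top_iff x _).mp (hyr _ h1)
    choose θ hθ using hdiv
    let l : Module.Dual R Q :=
      { toFun := θ
        map_add' := fun a b => by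
          apply hxr
          show x • θ (a + b) = x • (θ a + θ b)
          rw [smul_add, hθ, hθ, hθ, map_add]
        map_smul' := fun r a => by
          apply hxr
          show x • θ (r • a) = x • (r • θ a)
          rw [smul_comm, hθ, hθ, map_smul] }
    have hl : x • l = l1 := LinearMap.ext fun q => hθ q
    refine ⟨l, ?_⟩
    have h3 : x • (φ.dualMap l - m) = 0 := by
      rw [smul_sub, ← map_smul, hl, hl1, sub_self]
    have h4 := LinearMap.ext_iff.mp h3
    refine sub_eq_zero.mp (LinearMap.ext fun p => ?_)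
    have h5 := h4 p
    rw [LinearMap.smul_apply, LinearMap.zero_apply] at h5
    exact hxr.right_eq_zero_of_smul h5

/-- The double dual of a map whose dual is bijective is bijective. -/
theorem dualMap_dualMap_bijective (φ : P →ₗ[R] Q) (h : Function.Bijective φ.dualMap) :
    Function.Bijective φ.dualMap.dualMap :=
  (LinearEquiv.ofBijective φ.dualMap h).dualMap.bijective

end QuasiInv

section Eval

variable {B : Type u} [CommRing B] [IsNoetherianRing B]

/-- Powers of `J` make the evaluation map into the double dual invertible up to scalars, when the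
module is reflexive off `V(J)`. -/
theorem exists_pow_le_quasiInvIdeal_eval (J : Ideal B) (F : Type u) [AddCommGroup F] [Module B F]
    [Module.Finite B F]
    (hU : ∀ q : PrimeSpectrum B, ¬ J ≤ q.asIdeal →
      Module.IsReflexive (Localization.AtPrime q.asIdeal)
        (LocalizedModule q.asIdeal.primeCompl F)) :
    ∃ n : ℕ, ∀ a ∈ J ^ n, a * a ∈ quasiInvIdeal (Module.Dual.eval B F) := by
  classical
  have hK : ∀ x : LinearMap.ker (Module.Dual.eval B F),
      ∃ n : ℕ, ∀ c ∈ J ^ n, c • x ∈ (⊥ : Submodule B (LinearMap.ker (Module.Dual.eval B F))) := by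
    intro x
    obtain ⟨n, hn⟩ := Groth.Agent.H34.ReflDepth2.exists_pow_smul_eq_zero J x.1 (fun p hp => by
      have := hU p hp
      exact Groth.Agent.H34.ReflDepth2.L1 F p.asIdeal x.1 x.2)
    refine ⟨n, fun c hc => ?_⟩
    rw [Submodule.mem_bot]
    exact Subtype.ext (hn c hc)
  haveI : Module.Finite B (Module.Dual B F) := Module.Finite.of_injective
    (LinearMap.dualMap (Module.Finite.exists_fin' B F).choose_spec.choose)
    (LinearMap.dualMap_injective_of_surjective (Module.Finite.exists_fin' B F).choose_spec.choose_spec)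
  haveI : Module.Finite B (Module.Dual B (Module.Dual B F)) := Module.Finite.of_injective
    (LinearMap.dualMap (Module.Finite.exists_fin' B (Module.Dual B F)).choose_spec.choose)
    (LinearMap.dualMap_injective_of_surjective
      (Module.Finite.exists_fin' B (Module.Dual B F)).choose_spec.choose_spec)
  have hQ : ∀ y : Module.Dual B (Module.Dual B F),
      ∃ n : ℕ, ∀ c ∈ J ^ n, c • y ∈ LinearMap.range (Module.Dual.eval B F) := by
    intro y
    obtain ⟨n, hn⟩ := Groth.Agent.H34.ReflDepth2.exists_pow_smul_eq_zero J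
      ((LinearMap.range (Module.Dual.eval B F)).mkQ y) (fun p hp => by
        have := hU p hp
        obtain ⟨s, hs, hsy⟩ := Groth.Agent.H34.ReflDepth2.L2 F p.asIdeal y
        exact ⟨s, hs, by
          rw [← map_smul, Submodule.mkQ_apply, Submodule.Quotient.mk_eq_zero]; exact hsy⟩)
    exact ⟨n, fun c hc => by
      have := hn c hc
      rwa [← map_smul, Submodule.mkQ_apply, Submodule.Quotient.mk_eq_zero] at this⟩
  obtain ⟨n1, hn1⟩ := exists_pow_forall_of_finite J _ hK
  obtain ⟨n2, hn2⟩ := exists_pow_forall_of_finite J _ hQ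
  refine ⟨max n1 n2, fun a ha => ?_⟩
  have ha1 : ∀ x : F, Module.Dual.eval B F x = 0 → a • x = 0 := by
    intro x hx
    have := hn1 a (Ideal.pow_le_pow_right (le_max_left _ _) ha) ⟨x, hx⟩
    rw [Submodule.mem_bot] at this
    exact congrArg Subtype.val this
  have ha2 : ∀ y : Module.Dual B (Module.Dual B F),
      ∃ x : F, Module.Dual.eval B F x = a • y := fun y =>
    hn2 a (Ideal.pow_le_pow_right (le_max_right _ _) ha) y
  choose g hg using ha2
  have key : ∀ x x' : F, Module.Dual.eval B F x = Module.Dual.eval B F x' → a • x = a • x' := by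
    intro x x' h
    have := ha1 (x - x') (by rw [map_sub, h, sub_self])
    rwa [smul_sub, sub_eq_zero] at this
  let ρ : Module.Dual B (Module.Dual B F) →ₗ[B] F :=
    { toFun := fun y => a • g y
      map_add' := fun y1 y2 => by
        rw [← smul_add]
        exact key _ _ (by rw [map_add, hg, hg, hg, smul_add])
      map_smul' := fun r y => by
        rw [RingHom.id_apply, smul_comm]
        exact key _ _ (by rw [map_smul, hg, hg, smul_comm]) }
  refine ⟨ρ, ?_, ?_⟩
  · refine LinearMap.ext fun y => ?_
    show Module.Dual.eval B F (a • g y) = (a * a) • y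
    rw [map_smul, hg, mul_smul]
  · refine LinearMap.ext fun x => ?_
    show a • g (Module.Dual.eval B F x) = (a * a) • x
    rw [mul_smul]
    exact key _ _ (by rw [hg, map_smul])

end Eval

section BCIdeal

variable {B B' : Type u} [CommRing B] [CommRing B'] [Algebra B B'] {P Q : Type u} [AddCommGroup P]
  [Module B P] [AddCommGroup Q] [Module B Q]

theorem map_quasiInvIdeal_le (φ : P →ₗ[B] Q) :
    (quasiInvIdeal φ).map (algebraMap B B') ≤ quasiInvIdeal (φ.baseChange B') := by
  rw [Ideal.map_le_iff_le_comap]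
  rintro z ⟨ρ, h1, h2⟩
  refine ⟨ρ.baseChange B', ?_, ?_⟩
  · rw [← LinearMap.baseChange_comp, h1, LinearMap.baseChange_smul, LinearMap.baseChange_id,
      algebraMap_smul]
  · rw [← LinearMap.baseChange_comp, h2, LinearMap.baseChange_smul, LinearMap.baseChange_id,
      algebraMap_smul]

end BCIdeal

section PowDepth

theorem le_idealDepth_pow_succ {R : Type u} [CommRing R] [IsNoetherianRing R] (I : Ideal R)
    (N : ℕ) (M : Type u) [AddCommGroup M] [Module R M] [Module.Finite R M] (k : ℕ∞)
    (h : k ≤ LocCoh.idealDepth I M) : k ≤ LocCoh.idealDepth (I ^ (N + 1)) M := by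
  rw [Groth.Agent.H29.LocQuot.idealDepth_eq_iInf] at h ⊢
  refine le_iInf₂ fun p hp => ?_
  exact le_trans h (iInf₂_le p (Ideal.IsPrime.le_of_pow_le hp))

end PowDepth

section ModBC

variable {A B A' B' : Type u} [CommRing A] [CommRing B] [CommRing A'] [CommRing B']
  [Algebra A A'] [Algebra A B] [Algebra A' B'] [Algebra B B'] [Algebra A B']
  [IsScalarTower A A' B'] [IsScalarTower A B B'] [Algebra.IsPushout A B A' B']
  [IsNoetherianRing B] [IsNoetherianRing B']

set_option synthInstance.maxHeartbeats 400000 in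
set_option maxHeartbeats 1600000 in
/-- The depth of the fibre stalk module does not drop under base change. -/
theorem le_depth_fibLocMod_baseChange (q' : Ideal B') [q'.IsPrime] (X : Type u) [AddCommGroup X]
    [Module B X] [Module.Finite B X] (k : ℕ∞)
    (h : k ≤ LocCoh.idealDepth ((q'.comap (algebraMap B B')).map
        (algebraMap B (EGA4.FibLocRing A B (q'.comap (algebraMap B B')))))
      (EGA4.FibLocMod A B (q'.comap (algebraMap B B')) X)) :
    k ≤ LocCoh.idealDepth (q'.map (algebraMap B' (EGA4.FibLocRing A' B' q')))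
      (EGA4.FibLocMod A' B' q' (B' ⊗[B] X)) := by
  haveI hloc : IsLocalRing (EGA4.FibLocRing A B (q'.comap (algebraMap B B'))) :=
    Groth.Agent.H34.FibDepth.isLocalRing_fib (A := A) _
  haveI hloc' : IsLocalRing (EGA4.FibLocRing A' B' q') :=
    Groth.Agent.H34.FibDepth.isLocalRing_fib (A := A') q'
  rw [Groth.Agent.H34.FibDepth.map_eq_maximalIdeal_fib] at h ⊢
  letI alg : Algebra (EGA4.FibLocRing A B (q'.comap (algebraMap B B')))
      (EGA4.FibLocRing A' B' q') :=
    (Groth.Agent.H59.FibFlat.fibMap (R := A) (R' := A') (q'.comap (algebraMap B B')) q'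
      rfl).toAlgebra
  haveI hlh : IsLocalHom (algebraMap (EGA4.FibLocRing A B (q'.comap (algebraMap B B')))
      (EGA4.FibLocRing A' B' q')) :=
    Groth.Agent.H59.FibFlat.isLocalHom_fibMap (R := A) (R' := A') _ q' rfl
  haveI hfl : Module.Flat (EGA4.FibLocRing A B (q'.comap (algebraMap B B')))
      (EGA4.FibLocRing A' B' q') :=
    Groth.Agent.H59.FibFlat.flat_fibMap (R := A) (R' := A') _ q' rfl
  haveI tow : IsScalarTower B (EGA4.FibLocRing A B (q'.comap (algebraMap B B')))
      (EGA4.FibLocRing A' B' q') := IsScalarTower.of_algebraMap_eq (fun x => by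
    show algebraMap B (EGA4.FibLocRing A' B' q') x =
      Groth.Agent.H59.FibFlat.fibMap (R := A) (R' := A') (q'.comap (algebraMap B B')) q' rfl
        (algebraMap B (EGA4.FibLocRing A B (q'.comap (algebraMap B B'))) x)
    rw [Groth.Agent.H59.FibFlat.fibMap_algebraMap, ← IsScalarTower.algebraMap_apply])
  have hb1 := (TensorProduct.isBaseChange B X B').comp
    (Groth.Agent.H29.KollarBC.isBaseChange_fibLocMod A' B' q' (B' ⊗[B] X))
  have hb2 := (Groth.Agent.H29.KollarBC.isBaseChange_fibLocMod A B
    (q'.comap (algebraMap B B')) X).comp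
    (TensorProduct.isBaseChange (EGA4.FibLocRing A B (q'.comap (algebraMap B B')))
      (EGA4.FibLocMod A B (q'.comap (algebraMap B B')) X) (EGA4.FibLocRing A' B' q'))
  haveI hfin : Module.Finite (EGA4.FibLocRing A B (q'.comap (algebraMap B B')))
      (EGA4.FibLocMod A B (q'.comap (algebraMap B B')) X) :=
    Module.Finite.equiv (Groth.Agent.H29.KollarBC.isBaseChange_fibLocMod A B
      (q'.comap (algebraMap B B')) X).equiv
  have hd := Groth.Agent.H29.FlatDepthMod.depth_tensor
    (R := EGA4.FibLocRing A B (q'.comap (algebraMap B B'))) (S := EGA4.FibLocRing A' B' q')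
    (EGA4.FibLocMod A B (q'.comap (algebraMap B B')) X) (EGA4.FibLocRing A' B' q')
  show k ≤ LocCoh.depth (EGA4.FibLocRing A' B' q') (EGA4.FibLocMod A' B' q' (B' ⊗[B] X))
  have he : LocCoh.depth (EGA4.FibLocRing A' B' q') (EGA4.FibLocMod A' B' q' (B' ⊗[B] X)) =
      LocCoh.depth (EGA4.FibLocRing A' B' q')
        (EGA4.FibLocRing A' B' q' ⊗[EGA4.FibLocRing A B (q'.comap (algebraMap B B'))]
          EGA4.FibLocMod A B (q'.comap (algebraMap B B')) X) :=
    Groth.Agent.H29.CM.idealDepth_congr (hb1.equiv.symm ≪≫ₗ hb2.equiv)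
  rw [he, hd]
  exact le_trans h le_self_add

end ModBC

section Refl

theorem subsingleton_fibLocMod_punit (A B : Type u) [CommRing A] [CommRing B] [Algebra A B]
    (q : Ideal B) [q.IsPrime] : Subsingleton (EGA4.FibLocMod A B q PUnit.{u + 1}) := by
  haveI : Subsingleton (LocalizedModule q.primeCompl PUnit.{u + 1}) := by
    rw [LocalizedModule.subsingleton_iff]
    intro m
    exact ⟨1, q.primeCompl.one_mem, Subsingleton.elim _ _⟩
  exact (Submodule.mkQ_surjective _).subsingleton

/-- A flat module with fibrewise depth `≥ 2` along `J`, reflexive off `V(J)`, is reflexive. -/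
theorem isReflexive_of_flat_fibre_depth (A B : Type u) [CommRing A] [CommRing B]
    [IsNoetherianRing A] [IsNoetherianRing B] [Algebra A B] [Module.Flat A B] (J : Ideal B)
    (hZ1 : ∀ q : PrimeSpectrum B, J ≤ q.asIdeal →
      1 ≤ LocCoh.idealDepth (q.asIdeal.map (algebraMap B (EGA4.FibLocRing A B q.asIdeal)))
        (EGA4.FibLocRing A B q.asIdeal))
    (F : Type u) [AddCommGroup F] [Module B F] [Module A F] [IsScalarTower A B F]
    [Module.Finite B F] [Module.Flat A F]
    (hU : ∀ q : PrimeSpectrum B, ¬ J ≤ q.asIdeal →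
      Module.IsReflexive (Localization.AtPrime q.asIdeal)
        (LocalizedModule q.asIdeal.primeCompl F))
    (hF : ∀ q : PrimeSpectrum B, J ≤ q.asIdeal →
      2 ≤ LocCoh.idealDepth (q.asIdeal.map (algebraMap B (EGA4.FibLocRing A B q.asIdeal)))
        (EGA4.FibLocMod A B q.asIdeal F)) : Module.IsReflexive B F := by
  have hd : 2 ≤ LocCoh.idealDepth J F :=
    Groth.Agent.H34.FibDepthMod.main A B J F F PUnit.{u + 1} LinearMap.id 0
      (fun _ _ h => h) (fun y => ⟨fun _ => ⟨y, rfl⟩, fun _ => rfl⟩) hF
      (fun q _ => by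
        haveI := subsingleton_fibLocMod_punit A B q.asIdeal
        rw [idealDepth_eq_top_of_subsingleton]
        exact le_top)
  exact (Groth.Agent.S18722.result A B J hZ1 F).1 hU hd

end Refl

section Final

variable (A B A' B' : Type u) [CommRing A] [CommRing B] [CommRing A'] [CommRing B']
  [IsNoetherianRing A] [IsNoetherianRing B] [IsNoetherianRing A'] [IsNoetherianRing B']
  [Algebra A A'] [Algebra A B] [Algebra A' B'] [Algebra B B'] [Algebra A B']
  [IsScalarTower A A' B'] [IsScalarTower A B B'] [Algebra.IsPushout A B A' B']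

theorem flat_of_isPushout [Module.Flat A B] : Module.Flat A' B' := by
  haveI hps : Algebra.IsPushout A A' B B' :=
    Algebra.IsPushout.symm (inferInstance : Algebra.IsPushout A B A' B')
  exact Module.Flat.isBaseChange A A' B B'
    (Algebra.IsPushout.out (R := A) (S := A') (R' := B) (S' := B'))

theorem flat_tensor_of_isPushout (F : Type u) [AddCommGroup F] [Module B F] [Module A F]
    [IsScalarTower A B F] [Module.Flat A F] : Module.Flat A' (B' ⊗[B] F) := by
  haveI hps : Algebra.IsPushout A A' B B' :=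
    Algebra.IsPushout.symm (inferInstance : Algebra.IsPushout A B A' B')
  haveI : Module.Flat A' (A' ⊗[A] F) := Module.Flat.baseChange A A' F
  exact Module.Flat.of_linearEquiv (Algebra.IsPushout.cancelBaseChange A A' B B' F)

variable {A B A' B'}

/-- Base change of the fibre-depth hypothesis on the ring. -/
theorem hZ_baseChange (J : Ideal B) (k : ℕ∞)
    (hZ : ∀ q : PrimeSpectrum B, J ≤ q.asIdeal →
      k ≤ LocCoh.idealDepth (q.asIdeal.map (algebraMap B (EGA4.FibLocRing A B q.asIdeal)))
        (EGA4.FibLocRing A B q.asIdeal)) :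
    ∀ q' : PrimeSpectrum B', J.map (algebraMap B B') ≤ q'.asIdeal →
      k ≤ LocCoh.idealDepth (q'.asIdeal.map (algebraMap B' (EGA4.FibLocRing A' B' q'.asIdeal)))
        (EGA4.FibLocRing A' B' q'.asIdeal) := by
  intro q' hq'
  refine Groth.Agent.H29.KollarBC.le_depth_fibLocRing_baseChange (A := A) (B := B) q'.asIdeal k ?_
  exact hZ ⟨q'.asIdeal.comap (algebraMap B B'), inferInstance⟩ (Ideal.map_le_iff_le_comap.mp hq')

/-- The double dual of the base change of the evaluation map is bijective. -/
theorem bijective_dualMap_dualMap_eval_baseChange (J : Ideal B) (F : Type u) [AddCommGroup F]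
    [Module B F] [Module.Finite B F]
    (hU : ∀ q : PrimeSpectrum B, ¬ J ≤ q.asIdeal →
      Module.IsReflexive (Localization.AtPrime q.asIdeal)
        (LocalizedModule q.asIdeal.primeCompl F))
    (h2 : 2 ≤ LocCoh.idealDepth (J.map (algebraMap B B')) B') :
    Function.Bijective (((Module.Dual.eval B F).baseChange B').dualMap.dualMap) := by
  obtain ⟨n, hn⟩ := exists_pow_le_quasiInvIdeal_eval J F hU
  have hrad : J ≤ (quasiInvIdeal (Module.Dual.eval B F)).radical := by
    intro j hj
    refine ⟨n + n, ?_⟩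
    rw [pow_add]
    exact hn _ (Ideal.pow_mem_pow hj n)
  obtain ⟨N, hN⟩ := Ideal.exists_pow_le_of_le_radical_of_fg hrad (IsNoetherian.noetherian J)
  have hle : (J.map (algebraMap B B')) ^ (N + 1) ≤
      quasiInvIdeal ((Module.Dual.eval B F).baseChange B') := by
    rw [← Ideal.map_pow]
    refine le_trans (Ideal.map_mono ?_) (map_quasiInvIdeal_le _)
    exact le_trans (Ideal.pow_le_pow_right (Nat.le_succ N)) hN
  exact dualMap_dualMap_bijective _
    (dualMap_bijective_of_quasiInv _ _ hle (le_idealDepth_pow_succ _ N B' 2 h2))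

end Final

end Groth.Agent.H29.KollarBC2
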