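import Mathlib
import Groth.Prelude.Def_Tame

/-!
# (HC) for S1851 (helper34's squad): length of the localized range of `y` on `R ⧸ Pp p t`.
-/

set_option autoImplicit false
set_option linter.style.haveILetI false
set_option maxHeartbeats 400000

open IsLocalRing Pointwise

universe u

namespace Groth.Agent.H29.KatoHC

/-- the `p`-primary component of `(t)` : kernel of `R → R_p / t R_p`. -/
abbrev Pp {R : Type u} [CommRing R] (p : Ideal R) [p.IsPrime] (t : R) : Ideal R :=
  Ideal.comap (algebraMap R (Localization.AtPrime p))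
    (Ideal.span {algebraMap R (Localization.AtPrime p) t})

/-- ring-level computation: `(T : Y) = (π^(n-k))` for `Y ~ π^k`, `T ~ π^n`, `π` a nonzerodivisor. -/
theorem mul_mem_span_iff {S : Type*} [CommRing S] (π : S) (hπ : π ∈ nonZeroDivisors S) (Y T : S)
    (k n : ℕ) (hkn : k ≤ n) (hY : Associated Y (π ^ k)) (hT : Associated T (π ^ n)) (z : S) :
    Y * z ∈ Ideal.span {T} ↔ z ∈ Ideal.span {π ^ (n - k)} := by
  obtain ⟨b, hb⟩ := hT
  rw [← Ideal.span_singleton_mul_right_unit b.isUnit T, hb]
  obtain ⟨a, ha⟩ := hY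
  have hYe : Y = π ^ k * ↑a⁻¹ := by rw [← ha, mul_assoc, Units.mul_inv, mul_one]
  rw [hYe, mul_right_comm, Ideal.mul_unit_mem_iff_mem _ a⁻¹.isUnit, Ideal.mem_span_singleton',
    Ideal.mem_span_singleton']
  have hπk : π ^ k ∈ nonZeroDivisors S := pow_mem hπ k
  constructor
  · rintro ⟨v, hv⟩
    refine ⟨v, ?_⟩
    have h1 : π ^ k * (v * π ^ (n - k)) = π ^ k * z := by
      rw [← hv, ← pow_sub_mul_pow π hkn]; ring
    exact (mul_cancel_left_mem_nonZeroDivisors hπk).mp h1
  · rintro ⟨v, rfl⟩
    exact ⟨v, by rw [← pow_sub_mul_pow π hkn]; ring⟩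

section Herb
variable (R : Type u) [CommRing R] [IsNoetherianRing R] [IsLocalRing R] (p : Ideal R) [p.IsPrime]

/-- (HC) -/
theorem length_localized_range (t : R) (π₁ : R)
    (hπ : algebraMap R (Localization.AtPrime p) π₁ ∈ nonZeroDivisors (Localization.AtPrime p))
    (y c w : R) (k : ℕ) (hc : c ∉ p) (hw : w ∉ p) (hy : c * y = w * π₁ ^ k)
    (c' w' : R) (n : ℕ) (hc' : c' ∉ p) (hw' : w' ∉ p) (ht : c' * t = w' * π₁ ^ n) (hkn : k ≤ n) :
    Module.length (Localization.AtPrime p) (LocalizedModule p.primeCompl
      ↥(LinearMap.range (y • LinearMap.id : (R ⧸ Pp p t) →ₗ[R] (R ⧸ Pp p t)))) =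
      (n - k) • Ring.ord (Localization.AtPrime p) (algebraMap R (Localization.AtPrime p) π₁) := by
  classical
  have hunit : ∀ r : R, r ∉ p → IsUnit (algebraMap R (Localization.AtPrime p) r) := fun r hr =>
    IsLocalization.map_units (Localization.AtPrime p) (⟨r, hr⟩ : p.primeCompl)
  -- associatedness in `S`
  have hY : Associated (algebraMap R (Localization.AtPrime p) y)
      (algebraMap R (Localization.AtPrime p) π₁ ^ k) := by
    have h1 := congrArg (algebraMap R (Localization.AtPrime p)) hy
    simp only [map_mul, map_pow] at h1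
    have h2 : Associated (algebraMap R (Localization.AtPrime p) c *
        algebraMap R (Localization.AtPrime p) y) (algebraMap R (Localization.AtPrime p) y) :=
      associated_unit_mul_left _ _ (hunit c hc)
    have h3 : Associated (algebraMap R (Localization.AtPrime p) w *
        algebraMap R (Localization.AtPrime p) π₁ ^ k) (algebraMap R (Localization.AtPrime p) π₁ ^ k) :=
      associated_unit_mul_left _ _ (hunit w hw)
    exact h2.symm.trans (h1 ▸ h3)
  have hT : Associated (algebraMap R (Localization.AtPrime p) t)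
      (algebraMap R (Localization.AtPrime p) π₁ ^ n) := by
    have h1 := congrArg (algebraMap R (Localization.AtPrime p)) ht
    simp only [map_mul, map_pow] at h1
    have h2 : Associated (algebraMap R (Localization.AtPrime p) c' *
        algebraMap R (Localization.AtPrime p) t) (algebraMap R (Localization.AtPrime p) t) :=
      associated_unit_mul_left _ _ (hunit c' hc')
    have h3 : Associated (algebraMap R (Localization.AtPrime p) w' *
        algebraMap R (Localization.AtPrime p) π₁ ^ n) (algebraMap R (Localization.AtPrime p) π₁ ^ n) :=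
      associated_unit_mul_left _ _ (hunit w' hw')
    exact h2.symm.trans (h1 ▸ h3)
  have hcrit := mul_mem_span_iff (algebraMap R (Localization.AtPrime p) π₁) hπ _ _ k n hkn hY hT
  -- the surjection `R → range (y • id)`
  let ψ : R →ₗ[R] LinearMap.range (y • LinearMap.id : (R ⧸ Pp p t) →ₗ[R] (R ⧸ Pp p t)) :=
    (y • LinearMap.id : (R ⧸ Pp p t) →ₗ[R] (R ⧸ Pp p t)).rangeRestrict ∘ₗ (Pp p t).mkQ
  have hψ : Function.Surjective ψ :=
    (LinearMap.surjective_rangeRestrict _).comp (Submodule.mkQ_surjective _)
  have hψ0 : ∀ r : R, ψ r = 0 ↔ algebraMap R (Localization.AtPrime p) y *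
      algebraMap R (Localization.AtPrime p) r ∈
      Ideal.span {algebraMap R (Localization.AtPrime p) t} := by
    intro r
    rw [← map_mul, ← Ideal.mem_comap, ← Submodule.coe_eq_zero]
    show y • (Ideal.Quotient.mk (Pp p t) r) = 0 ↔ _
    rw [← Ideal.Quotient.mk_eq_mk, ← Submodule.Quotient.mk_smul]
    rw [Submodule.Quotient.mk_eq_zero]
    rfl
  let Ψ : Localization.AtPrime p →ₗ[Localization.AtPrime p] LocalizedModule p.primeCompl
      (LinearMap.range (y • LinearMap.id : (R ⧸ Pp p t) →ₗ[R] (R ⧸ Pp p t))) :=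
    IsLocalizedModule.mapExtendScalars p.primeCompl (Algebra.linearMap R (Localization.AtPrime p))
      (LocalizedModule.mkLinearMap p.primeCompl _) (Localization.AtPrime p) ψ
  have hΨ : Function.Surjective Ψ :=
    IsLocalizedModule.map_surjective p.primeCompl (Algebra.linearMap R (Localization.AtPrime p))
      (LocalizedModule.mkLinearMap p.primeCompl _) ψ hψ
  have hΨalg : ∀ r : R, Ψ (algebraMap R (Localization.AtPrime p) r) =
      LocalizedModule.mkLinearMap p.primeCompl _ (ψ r) := fun r =>
    IsLocalizedModule.map_apply p.primeCompl (Algebra.linearMap R (Localization.AtPrime p))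
      (LocalizedModule.mkLinearMap p.primeCompl _) ψ r
  have hker : ∀ z, Ψ z = 0 ↔ z ∈ Ideal.span {algebraMap R (Localization.AtPrime p) π₁ ^ (n - k)} := by
    intro z
    rw [← hcrit]
    obtain ⟨⟨r, s⟩, hrs⟩ := IsLocalization.surj p.primeCompl z
    have hs := hunit s s.2
    have e1 : Ψ z = 0 ↔ Ψ (algebraMap R (Localization.AtPrime p) r) = 0 := by
      rw [← hrs, mul_comm, ← smul_eq_mul, map_smul]
      exact (hs.smul_eq_zero).symm
    have e2 : algebraMap R (Localization.AtPrime p) y * z ∈
        Ideal.span {algebraMap R (Localization.AtPrime p) t} ↔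
        algebraMap R (Localization.AtPrime p) y * algebraMap R (Localization.AtPrime p) r ∈
        Ideal.span {algebraMap R (Localization.AtPrime p) t} := by
      rw [← hrs, ← mul_assoc, Ideal.mul_unit_mem_iff_mem _ hs]
    rw [e1, e2, hΨalg, IsLocalizedModule.eq_zero_iff p.primeCompl]
    constructor
    · rintro ⟨u, hu⟩
      rw [Submonoid.smul_def, ← map_smul, hψ0, smul_eq_mul, map_mul, mul_left_comm,
        Ideal.unit_mul_mem_iff_mem _ (hunit u u.2)] at hu
      exact hu
    · intro h
      exact ⟨1, by rw [one_smul]; exact (hψ0 r).mpr h⟩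
  have hkerEq : LinearMap.ker Ψ =
      Ideal.span {algebraMap R (Localization.AtPrime p) π₁ ^ (n - k)} := by
    ext z
    exact hker z
  rw [← Ring.ord_pow hπ, Ring.ord, ← (LinearMap.quotKerEquivOfSurjective Ψ hΨ).length_eq]
  exact (Submodule.quotEquivOfEq _ _ hkerEq).length_eq

end Herb

end Groth.Agent.H29.KatoHC
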