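import Mathlib
import Groth.Prelude.Def_Tame

/-!
# (LEN) for S1851 (helper34's squad): length over `A'` equals length over `B'` when the residue
field extension is trivial.
-/

set_option autoImplicit false
set_option linter.style.haveILetI false

open IsLocalRing Pointwise

universe u

namespace Groth.Agent.H29.KatoLEN

/-- `κ(B')` has length one over `κ(A')` when `A' → κ(B')` is surjective. -/
theorem length_residueField_eq_one {A' B' : Type*} [CommRing A'] [CommRing B']
    [IsLocalRing A'] [IsLocalRing B'] [Algebra A' B'] [IsLocalHom (algebraMap A' B')]
    (hres : Function.Surjective (algebraMap A' (ResidueField B'))) :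
    Module.length (ResidueField A') (ResidueField B') = 1 := by
  have hsurj : Function.Surjective (algebraMap (ResidueField A') (ResidueField B')) := by
    intro y
    obtain ⟨a, rfl⟩ := hres y
    refine ⟨residue A' a, ?_⟩
    rw [IsScalarTower.algebraMap_apply A' B' (ResidueField B')]
    rfl
  have hbij : Function.Bijective (Algebra.linearMap (ResidueField A') (ResidueField B')) :=
    ⟨(algebraMap (ResidueField A') (ResidueField B')).injective, hsurj⟩
  rw [← (LinearEquiv.ofBijective _ hbij).length_eq]
  rw [Module.length_eq_finrank, Module.finrank_self]
  rfl

/-- (LEN) -/
theorem length_eq_of_residue_surjective (A' B' : Type u) [CommRing A'] [CommRing B']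
    [IsLocalRing A'] [IsLocalRing B'] [Algebra A' B'] [IsLocalHom (algebraMap A' B')]
    (hres : Function.Surjective (algebraMap A' (ResidueField B')))
    (N : Type u) [AddCommGroup N] [Module B' N] [Module A' N] [IsScalarTower A' B' N] :
    Module.length A' N = Module.length B' N := by
  rw [IsLocalRing.length_restrictScalars A' B' N, length_residueField_eq_one hres, mul_one]

end Groth.Agent.H29.KatoLEN
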