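import Mathlib
import Groth.Prelude.Def_Tame
import Groth.Agent.S14503
import Groth.Agent.H29.KatoLEN

/-!
# (NL) for S1851 (helper34's squad)
-/

set_option autoImplicit false
set_option linter.style.haveILetI false
set_option maxHeartbeats 400000

open IsLocalRing Pointwise

universe u

namespace Groth.Agent.H29.KatoNL

section Gen

/-- For `S` a localization of `B` at the prime `p`, the residue field of `S` is the fraction field
of `B ⧸ p` (for the obvious map). -/
theorem isFractionRing_residueField {B : Type*} [CommRing B] (p : Ideal B) [p.IsPrime]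
    (S : Type*) [CommRing S] [IsLocalRing S] [Algebra B S] [IsLocalization.AtPrime S p]
    [Algebra (B ⧸ p) (ResidueField S)]
    (h : ∀ b : B, algebraMap (B ⧸ p) (ResidueField S) (Ideal.Quotient.mk p b) =
      residue S (algebraMap B S b)) :
    IsFractionRing (B ⧸ p) (ResidueField S) := by
  have hinj : Function.Injective (algebraMap (B ⧸ p) (ResidueField S)) := by
    rw [injective_iff_map_eq_zero]
    intro z hz
    obtain ⟨b, rfl⟩ := Ideal.Quotient.mk_surjective z
    rw [h, residue_eq_zero_iff, IsLocalization.AtPrime.to_map_mem_maximal_iff S p] at hz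
    exact Ideal.Quotient.eq_zero_iff_mem.mpr hz
  have : FaithfulSMul (B ⧸ p) (ResidueField S) := (faithfulSMul_iff_algebraMap_injective _ _).mpr hinj
  refine IsFractionRing.of_field _ _ fun z => ?_
  obtain ⟨y, rfl⟩ := residue_surjective z
  obtain ⟨b, s, rfl⟩ := IsLocalization.exists_mk'_eq p.primeCompl y
  refine ⟨Ideal.Quotient.mk p b, Ideal.Quotient.mk p s, ?_⟩
  rw [h, h]
  have hs : residue S (algebraMap B S s) ≠ 0 := by
    rw [Ne, residue_eq_zero_iff, IsLocalization.AtPrime.to_map_mem_maximal_iff S p]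
    exact s.2
  rw [eq_div_iff hs, ← map_mul, IsLocalization.mk'_spec]

end Gen

section Sym
variable {A B : Type u} [CommRing A] [CommRing B] [Algebra A B] (q : Ideal A) [q.IsPrime]
  (Q : Type u) [CommRing Q] [Algebra B Q]
  [IsLocalization (Algebra.algebraMapSubmonoid B q.primeCompl) Q]

variable [Algebra (Localization.AtPrime q) Q] [Algebra A Q]
  [IsScalarTower A (Localization.AtPrime q) Q] [IsScalarTower A B Q]

omit [IsLocalization (Algebra.algebraMapSubmonoid B q.primeCompl) Q] in
/-- `𝔫 ∩ A = q`. -/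
theorem comap_eq (𝔫 : MaximalSpectrum Q)
    [IsLocalHom (algebraMap (Localization.AtPrime q) (Localization.AtPrime 𝔫.asIdeal))] :
    (𝔫.asIdeal.comap (algebraMap B Q)).comap (algebraMap A B) = q := by
  have h1 : (maximalIdeal (Localization.AtPrime 𝔫.asIdeal)).comap
      (algebraMap (Localization.AtPrime q) (Localization.AtPrime 𝔫.asIdeal)) =
      maximalIdeal (Localization.AtPrime q) :=
    ((IsLocalRing.local_hom_TFAE
      (algebraMap (Localization.AtPrime q) (Localization.AtPrime 𝔫.asIdeal))).out 0 4).mp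
      ‹_›
  have h2 : (maximalIdeal (Localization.AtPrime 𝔫.asIdeal)).comap
      (algebraMap Q (Localization.AtPrime 𝔫.asIdeal)) = 𝔫.asIdeal :=
    Localization.AtPrime.under_maximalIdeal ..
  have h3 : (maximalIdeal (Localization.AtPrime q)).comap (algebraMap A (Localization.AtPrime q))
      = q := Localization.AtPrime.under_maximalIdeal ..
  rw [Ideal.comap_comap, ← IsScalarTower.algebraMap_eq A B Q,
    IsScalarTower.algebraMap_eq A (Localization.AtPrime q) Q, ← Ideal.comap_comap]
  conv_rhs => rw [← h3, ← h1]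
  rw [IsScalarTower.algebraMap_eq (Localization.AtPrime q) Q (Localization.AtPrime 𝔫.asIdeal),
    ← Ideal.comap_comap, h2]

/-- (NL) -/
theorem normlen [IsNoetherianRing A] [IsLocalRing A] [IsLocalRing B] [Module.Finite A B]
    (hinj : Function.Injective (algebraMap A B))
    (hres : Function.Surjective (algebraMap A (ResidueField B)))
    (hq : ringKrullDim (A ⧸ q) = 1)
    (𝔫 : MaximalSpectrum Q)
    [IsLocalHom (algebraMap (Localization.AtPrime q) (Localization.AtPrime 𝔫.asIdeal))]
    (x : B) (hx : x ∉ 𝔫.asIdeal.comap (algebraMap B Q)) :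
    CycAlg.ordFrac (A ⧸ q) q.ResidueField (Algebra.norm q.ResidueField
      (residue (Localization.AtPrime 𝔫.asIdeal) (algebraMap B (Localization.AtPrime 𝔫.asIdeal) x))) =
      ((Ring.ord (B ⧸ 𝔫.asIdeal.comap (algebraMap B Q))
        (Ideal.Quotient.mk (𝔫.asIdeal.comap (algebraMap B Q)) x)).toNat : ℤ) := by
  have hpq := comap_eq (B := B) q Q 𝔫
  haveI hpp : (𝔫.asIdeal.comap (algebraMap B Q)).IsPrime := Ideal.comap_isPrime _ _
  haveI : IsLocalization.AtPrime (Localization.AtPrime 𝔫.asIdeal)
      (𝔫.asIdeal.comap (algebraMap B Q)) :=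
    IsLocalization.isLocalization_isLocalization_atPrime_isLocalization
      (Algebra.algebraMapSubmonoid B q.primeCompl) _ 𝔫.asIdeal
  set p : Ideal B := 𝔫.asIdeal.comap (algebraMap B Q) with hp
  haveI : p.LiesOver q := ⟨hpq.symm⟩
  haveI : IsLocalRing (A ⧸ q) :=
    IsLocalRing.of_surjective' (Ideal.Quotient.mk q) Ideal.Quotient.mk_surjective
  haveI : IsLocalRing (B ⧸ p) :=
    IsLocalRing.of_surjective' (Ideal.Quotient.mk p) Ideal.Quotient.mk_surjective
  haveI : IsLocalHom (algebraMap (A ⧸ q) (B ⧸ p)) := inferInstance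
  haveI : Module.Finite (A ⧸ q) (B ⧸ p) := inferInstance
  -- the algebra structure of `L = κ(Q_𝔫)` over `B ⧸ p`
  let φ : B ⧸ p →+* ResidueField (Localization.AtPrime 𝔫.asIdeal) :=
    Ideal.Quotient.lift p ((residue (Localization.AtPrime 𝔫.asIdeal)).comp
      (algebraMap B (Localization.AtPrime 𝔫.asIdeal))) (by
        intro b hb
        rw [RingHom.comp_apply, residue_eq_zero_iff,
          IsLocalization.AtPrime.to_map_mem_maximal_iff _ p]
        exact hb)
  letI : Algebra (B ⧸ p) (ResidueField (Localization.AtPrime 𝔫.asIdeal)) := φ.toAlgebra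
  haveI : IsFractionRing (B ⧸ p) (ResidueField (Localization.AtPrime 𝔫.asIdeal)) :=
    isFractionRing_residueField p _ (fun b => rfl)
  letI : Algebra (A ⧸ q) (ResidueField (Localization.AtPrime 𝔫.asIdeal)) :=
    ((algebraMap q.ResidueField (ResidueField (Localization.AtPrime 𝔫.asIdeal))).comp
      (algebraMap (A ⧸ q) q.ResidueField)).toAlgebra
  haveI : IsScalarTower (A ⧸ q) q.ResidueField (ResidueField (Localization.AtPrime 𝔫.asIdeal)) :=
    IsScalarTower.of_algebraMap_eq fun _ => rfl
  haveI : IsScalarTower (A ⧸ q) (B ⧸ p) (ResidueField (Localization.AtPrime 𝔫.asIdeal)) := by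
    refine IsScalarTower.of_algebraMap_eq fun z => ?_
    obtain ⟨a, rfl⟩ := Ideal.Quotient.mk_surjective z
    rw [Ideal.Quotient.algebraMap_mk_of_liesOver]
    show algebraMap q.ResidueField (ResidueField (Localization.AtPrime 𝔫.asIdeal))
      (algebraMap (A ⧸ q) q.ResidueField (Ideal.Quotient.mk q a)) =
      residue (Localization.AtPrime 𝔫.asIdeal)
        (algebraMap B (Localization.AtPrime 𝔫.asIdeal) (algebraMap A B a))
    rw [Ideal.algebraMap_quotient_residueField_mk]
    show residue (Localization.AtPrime 𝔫.asIdeal)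
      (algebraMap (Localization.AtPrime q) (Localization.AtPrime 𝔫.asIdeal)
        (algebraMap A (Localization.AtPrime q) a)) = _
    rw [← IsScalarTower.algebraMap_apply, ← IsScalarTower.algebraMap_apply]
  haveI : FiniteDimensional q.ResidueField (ResidueField (Localization.AtPrime 𝔫.asIdeal)) :=
    Module.Finite.of_isLocalization (A ⧸ q) (B ⧸ p) (nonZeroDivisors (A ⧸ q))
  have key := Groth.Agent.S14503.result (A ⧸ q) hq (B ⧸ p)
    (FaithfulSMul.algebraMap_injective _ _) q.ResidueField
    (ResidueField (Localization.AtPrime 𝔫.asIdeal)) (Ideal.Quotient.mk p x)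
    (by rwa [Ne, Ideal.Quotient.eq_zero_iff_mem])
  have hres' : Function.Surjective (algebraMap (A ⧸ q) (ResidueField (B ⧸ p))) := by
    intro z
    obtain ⟨z', rfl⟩ := residue_surjective z
    obtain ⟨b, rfl⟩ := Ideal.Quotient.mk_surjective z'
    obtain ⟨a, ha⟩ := hres (residue B b)
    refine ⟨Ideal.Quotient.mk q a, ?_⟩
    rw [IsScalarTower.algebraMap_apply (A ⧸ q) (B ⧸ p) (ResidueField (B ⧸ p)),
      Ideal.Quotient.algebraMap_mk_of_liesOver]
    have h1 : algebraMap A B a - b ∈ maximalIdeal B := by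
      rw [IsScalarTower.algebraMap_apply A B (ResidueField B)] at ha
      rw [← residue_eq_zero_iff, map_sub, sub_eq_zero]
      exact ha
    have h2 : Ideal.Quotient.mk p (algebraMap A B a - b) ∈ maximalIdeal (B ⧸ p) := by
      haveI : IsLocalHom (Ideal.Quotient.mk p) := .of_surjective _ Ideal.Quotient.mk_surjective
      rw [mem_maximalIdeal, mem_nonunits_iff]
      intro hu
      exact (mem_nonunits_iff.mp ((mem_maximalIdeal _).mp h1))
        (isUnit_of_map_unit (Ideal.Quotient.mk p) _ hu)
    show residue (B ⧸ p) _ = residue (B ⧸ p) _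
    rw [← sub_eq_zero, ← map_sub, ← map_sub]
    exact (residue_eq_zero_iff _).mpr h2
  have hlen := Groth.Agent.H29.KatoLEN.length_eq_of_residue_surjective (A ⧸ q) (B ⧸ p) hres'
    ((B ⧸ p) ⧸ Ideal.span {Ideal.Quotient.mk p x})
  rw [show residue (Localization.AtPrime 𝔫.asIdeal)
      (algebraMap B (Localization.AtPrime 𝔫.asIdeal) x) =
      algebraMap (B ⧸ p) (ResidueField (Localization.AtPrime 𝔫.asIdeal))
        (Ideal.Quotient.mk p x) from rfl, ← key.2, hlen]
  rfl

end Sym

end Groth.Agent.H29.KatoNL
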