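import Mathlib
import Groth.Agent.H12.RGamHDI_A
import Groth.Agent.H58.LCLes

/-!
# LD-B for helper71's local-duality squad: `LocCoh.H I i M ≃ colim_n Hom_{D(A)}(A/I^n, M[i])`.
-/

set_option autoImplicit false
set_option linter.style.haveILetI false
set_option maxHeartbeats 400000

open CategoryTheory Limits Opposite

universe u

attribute [local instance] HasDerivedCategory.standard

namespace Groth.Agent.LDB

open Groth.Agent.H12 Groth.Agent.H58

variable (A : Type u) [CommRing A] (I : Ideal A) (M : Type u) [AddCommGroup M] [Module A M] (i : ℕ)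

/-- `Ext^i(A/I^n, M) ≃ Hom_{D(A)}(A/I^n, M[i])`. -/
noncomputable def e (n : ℕ) : Abelian.Ext (LC.Q I n) (ModuleCat.of A M) i ≃ₗ[A]
    ((RGamHDI.QDI I).obj (op n) ⟶ (Dual.inD A M)⟦(i : ℤ)⟧) :=
  Abelian.Ext.homLinearEquiv

/-- compatibility of `e` with the transition maps. -/
theorem e_comp {n m : ℕ} (h : n ≤ m) (x : Abelian.Ext (LC.Q I n) (ModuleCat.of A M) i) :
    e A I M i m ((Abelian.Ext.mk₀ (LC.π I h)).comp x (zero_add i)) =
      RGamHDI.tr I h ≫ e A I M i n x := by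
  show ((Abelian.Ext.mk₀ (LC.π I h)).comp x (zero_add i)).hom = _
  rw [Abelian.Ext.comp_hom, Abelian.Ext.mk₀_hom, ShiftedHom.mk₀_comp]
  rfl

/-- the cocone leg `Hom(A/I^n, M[i]) → H^i_I(M)` (lifted to the larger universe). -/
noncomputable def leg (n : ℕ) :
    ((RGamHDI.QDI I).obj (op n) ⟶ (Dual.inD A M)⟦(i : ℤ)⟧) →ₗ[A]
      ULift.{u + 1} (LocCoh.H I i M) :=
  (ULift.moduleEquiv.symm.toLinearMap : LocCoh.H I i M →ₗ[A] ULift.{u + 1} (LocCoh.H I i M)) ∘ₗ
    LC.ι I i (ModuleCat.of A M) n ∘ₗ (e A I M i n).symm.toLinearMap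

theorem leg_apply (n : ℕ) (y : (RGamHDI.QDI I).obj (op n) ⟶ (Dual.inD A M)⟦(i : ℤ)⟧) :
    leg A I M i n y = ULift.up (LC.ι I i (ModuleCat.of A M) n ((e A I M i n).symm y)) := rfl

theorem leg_res {n m : ℕ} (h : n ≤ m)
    (y : (RGamHDI.QDI I).obj (op n) ⟶ (Dual.inD A M)⟦(i : ℤ)⟧) :
    leg A I M i m (RGamHDI.tr I h ≫ y) = leg A I M i n y := by
  rw [leg_apply, leg_apply]
  congr 1
  obtain ⟨x, rfl⟩ := (e A I M i n).surjective y
  rw [← e_comp, LinearEquiv.symm_apply_apply, LinearEquiv.symm_apply_apply, LC.ι_comp_π]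

/-- the cocone with point `H^i_I(M)`. -/
noncomputable def cocone : Cocone (RGamHDI.FDI I ((Dual.inD A M)⟦(i : ℤ)⟧)) where
  pt := ModuleCat.of A (ULift.{u + 1} (LocCoh.H I i M))
  ι :=
    { app := fun j => ModuleCat.ofHom (leg A I M i j.unop.unop)
      naturality := by
        intro j k f
        have hle : j.unop.unop ≤ k.unop.unop := leOfHom f.unop.unop
        have hf : f = (homOfLE hle).op.op := Subsingleton.elim _ _
        subst hf
        refine ModuleCat.hom_ext (LinearMap.ext fun y => ?_)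
        exact leg_res A I M i hle y }

/-- the comparison map. -/
noncomputable def Φ : RGamHDI.HYI I ((Dual.inD A M)⟦(i : ℤ)⟧) ⟶
    ModuleCat.of A (ULift.{u + 1} (LocCoh.H I i M)) :=
  colimit.desc _ (cocone A I M i)

theorem Φ_ι (n : ℕ) (y : (RGamHDI.QDI I).obj (op n) ⟶ (Dual.inD A M)⟦(i : ℤ)⟧) :
    (Φ A I M i).hom (RGamHDI.ι I _ n y) = leg A I M i n y := by
  have h := colimit.ι_desc (cocone A I M i) (op (op n))
  exact congrArg (fun t => t.hom y) h

theorem Φ_bijective : Function.Bijective (Φ A I M i).hom := by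
  constructor
  · refine (injective_iff_map_eq_zero (Φ A I M i).hom).2 (fun x hx => ?_)
    obtain ⟨n, y, rfl⟩ := RGamHDI.exists_rep I _ x
    rw [Φ_ι, leg_apply] at hx
    have hx' : LC.ι I i (ModuleCat.of A M) n ((e A I M i n).symm y) = 0 :=
      congrArg ULift.down hx
    obtain ⟨m, h, hm⟩ := LC.exists_of_ι_eq_zero I i _ n _ hx'
    have h1 : RGamHDI.tr I h ≫ y = 0 := by
      have h2 := congrArg (e A I M i m) hm
      rw [e_comp, LinearEquiv.apply_symm_apply, map_zero] at h2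
      exact h2
    rw [← RGamHDI.ι_res I _ h y, h1, map_zero]
  · intro z
    obtain ⟨n, x, hx⟩ := LC.exists_rep I i (ModuleCat.of A M) z.down
    refine ⟨RGamHDI.ι I _ n (e A I M i n x), ?_⟩
    rw [Φ_ι, leg_apply, LinearEquiv.symm_apply_apply, hx]

/-- (LD-B) -/
theorem bridge (A : Type u) [CommRing A] (I : Ideal A) (M : Type u) [AddCommGroup M] [Module A M]
    (i : ℕ) :
    Nonempty (LocCoh.H I i M ≃ₗ[A]
      ↑(Groth.Agent.H12.RGamHDI.HYI I ((Dual.inD A M)⟦(i : ℤ)⟧))) :=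
  ⟨((LinearEquiv.ofBijective (Φ A I M i).hom (Φ_bijective A I M i)).trans
    ULift.moduleEquiv).symm⟩

end Groth.Agent.LDB
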