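import Mathlib

set_option autoImplicit false
universe u v w

namespace Groth.Agent.H29.LeftInv

section Algebraic

variable {R : Type u} [CommRing R]

/-- Lifting property of a module which is projective over `R ⧸ J`, for `R`-linear maps between
`R`-modules killed by `J`. -/
theorem exists_lift_of_projective_quotient (J : Ideal R) {P : Type*} {X : Type*} {Y : Type*}
    [AddCommGroup P] [Module R P] [Module (R ⧸ J) P] [IsScalarTower R (R ⧸ J) P]
    [Module.Projective (R ⧸ J) P]
    [AddCommGroup X] [Module R X] [AddCommGroup Y] [Module R Y]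
    (hX : ∀ j ∈ J, ∀ x : X, j • x = 0) (hY : ∀ j ∈ J, ∀ y : Y, j • y = 0)
    (f : X →ₗ[R] Y) (hf : Function.Surjective f) (g : P →ₗ[R] Y) :
    ∃ h : P →ₗ[R] X, f ∘ₗ h = g := by
  have hX' : Module.IsTorsionBySet R X (J : Set R) := fun x j => hX j.1 j.2 x
  have hY' : Module.IsTorsionBySet R Y (J : Set R) := fun y j => hY j.1 j.2 y
  letI : Module (R ⧸ J) X := hX'.module
  letI : Module (R ⧸ J) Y := hY'.module
  have hsurj : Function.Surjective (algebraMap R (R ⧸ J)) := Ideal.Quotient.mk_surjective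
  obtain ⟨h, hh⟩ := Module.projective_lifting_property (f.extendScalarsOfSurjective hsurj)
    (g.extendScalarsOfSurjective hsurj) hf
  refine ⟨h.restrictScalars R, ?_⟩
  ext p
  exact LinearMap.congr_fun hh p

theorem smul_quotient_eq_zero {M : Type v} [AddCommGroup M] [Module R M] {J I : Ideal R}
    (hJI : J ≤ I) (j : R) (hj : j ∈ J) (x : M ⧸ (I • ⊤ : Submodule R M)) : j • x = 0 := by
  obtain ⟨m, rfl⟩ := Submodule.Quotient.mk_surjective _ x
  rw [← Submodule.Quotient.mk_smul, Submodule.Quotient.mk_eq_zero]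
  exact Submodule.smul_mem_smul (hJI hj) Submodule.mem_top

theorem smul_top_le_ker {N : Type w} {X : Type*} [AddCommGroup N] [Module R N] [AddCommGroup X]
    [Module R X] {J : Ideal R} (hX : ∀ j ∈ J, ∀ x : X, j • x = 0) (f : N →ₗ[R] X) :
    (J • ⊤ : Submodule R N) ≤ LinearMap.ker f := by
  intro y hy
  refine Submodule.smul_induction_on hy ?_ ?_
  · intro j hj n' _
    rw [LinearMap.mem_ker, map_smul]
    exact hX j hj _
  · intro a b ha hb
    exact add_mem ha hb

/-- Lifting a left inverse modulo `𝔏` to a left inverse modulo `J`, when `𝔏` is nilpotent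
modulo `J`. -/
theorem exists_leftInverse_mod_of_nilpotent {M : Type v} {N : Type w} [AddCommGroup M] [Module R M]
    [AddCommGroup N] [Module R N] (u : M →ₗ[R] N) (J 𝔏 : Ideal R) (hJ𝔏 : J ≤ 𝔏) (n : ℕ)
    (hn : 𝔏 ^ n ≤ J) [Module.Projective (R ⧸ J) (N ⧸ (J • (⊤ : Submodule R N)))]
    (w₀ : N →ₗ[R] M ⧸ (𝔏 • ⊤ : Submodule R M))
    (hw₀ : ∀ x, w₀ (u x) = Submodule.Quotient.mk x) :
    ∃ w : N →ₗ[R] M ⧸ (J • ⊤ : Submodule R M), ∀ x, w (u x) = Submodule.Quotient.mk x := by
  have hle : (J • ⊤ : Submodule R M) ≤ 𝔏 • ⊤ := Submodule.smul_mono_left hJ𝔏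
  have hf : Function.Surjective (Submodule.factor hle) := Submodule.factor_surjective hle
  have hXJ : ∀ j ∈ J, ∀ x : M ⧸ (J • ⊤ : Submodule R M), j • x = 0 :=
    fun j hj x => smul_quotient_eq_zero le_rfl j hj x
  have hYJ : ∀ j ∈ J, ∀ y : M ⧸ (𝔏 • ⊤ : Submodule R M), j • y = 0 :=
    fun j hj y => smul_quotient_eq_zero hJ𝔏 j hj y
  obtain ⟨h, hh⟩ := exists_lift_of_projective_quotient J hXJ hYJ (Submodule.factor hle) hf
    ((J • ⊤ : Submodule R N).liftQ w₀ (smul_top_le_ker hYJ w₀))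
  have hker2 := smul_top_le_ker hXJ ((h.comp (Submodule.mkQ _)).comp u)
  let θ : Module.End R (M ⧸ (J • ⊤ : Submodule R M)) :=
    (J • ⊤ : Submodule R M).liftQ ((h.comp (Submodule.mkQ _)).comp u) hker2
  have hθ : ∀ m : M, θ (Submodule.Quotient.mk m) = h (Submodule.Quotient.mk (u m)) := fun m => rfl
  have key : ∀ m' : M, m' ∈ (𝔏 • ⊤ : Submodule R M) →
      (Submodule.Quotient.mk m' : M ⧸ (J • ⊤ : Submodule R M)) ∈
        (𝔏 • ⊤ : Submodule R (M ⧸ (J • ⊤ : Submodule R M))) := by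
    intro m' hm'
    have h1 : (Submodule.mkQ (J • ⊤ : Submodule R M)) m' ∈
        Submodule.map (Submodule.mkQ (J • ⊤ : Submodule R M)) (𝔏 • ⊤ : Submodule R M) :=
      Submodule.mem_map_of_mem hm'
    rwa [Submodule.map_smul'', Submodule.map_top, Submodule.range_mkQ] at h1
  have hε : ∀ x : M ⧸ (J • ⊤ : Submodule R M),
      (θ - 1) x ∈ (𝔏 • ⊤ : Submodule R (M ⧸ (J • ⊤ : Submodule R M))) := by
    intro x
    obtain ⟨m, rfl⟩ := Submodule.Quotient.mk_surjective _ x
    obtain ⟨m₁, hm₁⟩ := Submodule.Quotient.mk_surjective _ (h (Submodule.Quotient.mk (u m)))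
    have h1 : Submodule.factor hle (h (Submodule.Quotient.mk (u m))) = w₀ (u m) :=
      LinearMap.congr_fun hh (Submodule.Quotient.mk (u m))
    rw [← hm₁, hw₀] at h1
    have h2 : (Submodule.Quotient.mk m₁ : M ⧸ (𝔏 • ⊤ : Submodule R M)) =
        Submodule.Quotient.mk m := h1
    rw [Submodule.Quotient.eq] at h2
    have h3 : (θ - 1) (Submodule.Quotient.mk m) =
        (Submodule.Quotient.mk (m₁ - m) : M ⧸ (J • ⊤ : Submodule R M)) := by
      rw [LinearMap.sub_apply, hθ, ← hm₁, Submodule.Quotient.mk_sub]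
      rfl
    rw [h3]
    exact key _ h2
  have hpow : ∀ k : ℕ, ∀ x : M ⧸ (J • ⊤ : Submodule R M),
      ((θ - 1) ^ k) x ∈ (𝔏 ^ k • ⊤ : Submodule R (M ⧸ (J • ⊤ : Submodule R M))) := by
    intro k
    induction k with
    | zero =>
      intro x
      rw [pow_zero, Ideal.one_eq_top, Submodule.top_smul]
      exact Submodule.mem_top
    | succ k ih =>
      intro x
      rw [pow_succ' (θ - 1) k]
      show (θ - 1) (((θ - 1) ^ k) x) ∈
        (𝔏 ^ (k + 1) • ⊤ : Submodule R (M ⧸ (J • ⊤ : Submodule R M)))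
      refine Submodule.smul_induction_on
        (p := fun z => (θ - 1) z ∈
          (𝔏 ^ (k + 1) • ⊤ : Submodule R (M ⧸ (J • ⊤ : Submodule R M)))) (ih x) ?_ ?_
      · intro a ha y _
        rw [map_smul, pow_succ 𝔏 k, Submodule.mul_smul]
        exact Submodule.smul_mem_smul ha (hε y)
      · intro a b ha hb
        rw [map_add]
        exact add_mem ha hb
  have hnil : (θ - 1) ^ n = 0 := by
    apply LinearMap.ext
    intro x
    have h1 := hpow n x
    have h2 : (𝔏 ^ n • ⊤ : Submodule R (M ⧸ (J • ⊤ : Submodule R M))) ≤ ⊥ := by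
      intro z hz
      refine Submodule.smul_induction_on hz ?_ ?_
      · intro a ha y _
        rw [Submodule.mem_bot]
        exact hXJ a (hn ha) y
      · intro a b ha hb
        exact add_mem ha hb
    exact (Submodule.mem_bot R).1 (h2 h1)
  have hunit : IsUnit θ := by
    have h1 := IsNilpotent.isUnit_one_add (⟨n, hnil⟩ : IsNilpotent (θ - 1))
    rwa [add_sub_cancel] at h1
  obtain ⟨ψ, hψ⟩ := hunit.exists_left_inv
  refine ⟨ψ.comp (h.comp (Submodule.mkQ _)), fun m => ?_⟩
  show ψ (h (Submodule.Quotient.mk (u m))) = Submodule.Quotient.mk m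
  rw [← hθ]
  exact LinearMap.congr_fun hψ (Submodule.Quotient.mk m)

/-- Correcting a left inverse modulo `J'` so that it becomes compatible with a given left inverse
modulo `J ≥ J'`, when the cokernel is projective modulo `J'`. -/
theorem exists_compatible_lift {M : Type v} {N : Type w} [AddCommGroup M] [Module R M]
    [AddCommGroup N] [Module R N] (u : M →ₗ[R] N) (J J' : Ideal R) (hJ : J' ≤ J)
    [Module.Projective (R ⧸ J') ((N ⧸ LinearMap.range u) ⧸
      (J' • (⊤ : Submodule R (N ⧸ LinearMap.range u))))]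
    (w : N →ₗ[R] M ⧸ (J • ⊤ : Submodule R M)) (hw : ∀ x, w (u x) = Submodule.Quotient.mk x)
    (w' : N →ₗ[R] M ⧸ (J' • ⊤ : Submodule R M)) (hw' : ∀ x, w' (u x) = Submodule.Quotient.mk x) :
    ∃ w'' : N →ₗ[R] M ⧸ (J' • ⊤ : Submodule R M), (∀ x, w'' (u x) = Submodule.Quotient.mk x) ∧
      ∀ y, Submodule.factor (Submodule.smul_mono_left hJ : (J' • ⊤ : Submodule R M) ≤ J • ⊤)
        (w'' y) = w y := by
  have hle : (J' • ⊤ : Submodule R M) ≤ J • ⊤ := Submodule.smul_mono_left hJ
  have hXJ' : ∀ j ∈ J', ∀ x : M ⧸ (J • ⊤ : Submodule R M), j • x = 0 :=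
    fun j hj x => smul_quotient_eq_zero hJ j hj x
  have hX'J' : ∀ j ∈ J', ∀ x : M ⧸ (J' • ⊤ : Submodule R M), j • x = 0 :=
    fun j hj x => smul_quotient_eq_zero le_rfl j hj x
  have hd : LinearMap.range u ≤ LinearMap.ker ((Submodule.factor hle).comp w' - w) := by
    rintro _ ⟨x, rfl⟩
    rw [LinearMap.mem_ker]
    show Submodule.factor hle (w' (u x)) - w (u x) = 0
    rw [hw', hw]
    exact sub_self _
  obtain ⟨δ, hδ⟩ := exists_lift_of_projective_quotient J' hX'J' hXJ' (Submodule.factor hle)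
    (Submodule.factor_surjective hle)
    ((J' • ⊤ : Submodule R (N ⧸ LinearMap.range u)).liftQ
      ((LinearMap.range u).liftQ ((Submodule.factor hle).comp w' - w) hd)
      (smul_top_le_ker hXJ' _))
  refine ⟨w' - δ.comp ((Submodule.mkQ _).comp (Submodule.mkQ (LinearMap.range u))), ?_, ?_⟩
  · intro x
    show w' (u x) - δ (Submodule.Quotient.mk (Submodule.Quotient.mk (u x))) = _
    have h0 : (Submodule.Quotient.mk (u x) : N ⧸ LinearMap.range u) = 0 :=
      (Submodule.Quotient.mk_eq_zero _).2 ⟨x, rfl⟩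
    rw [h0, Submodule.Quotient.mk_zero, map_zero, sub_zero, hw']
  · intro y
    show Submodule.factor hle
      (w' y - δ (Submodule.Quotient.mk (Submodule.Quotient.mk y))) = w y
    rw [map_sub]
    have h1 : Submodule.factor hle (δ (Submodule.Quotient.mk (Submodule.Quotient.mk y))) =
        Submodule.factor hle (w' y) - w y :=
      LinearMap.congr_fun hδ (Submodule.Quotient.mk (Submodule.Quotient.mk y))
    rw [h1, sub_sub_cancel]

/-- If `u` has a left inverse modulo `J` and `N/JN` is projective over `R/J`, then so is the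
reduction modulo `J` of the cokernel of `u`. -/
theorem projective_coker_of_leftInverse {M : Type v} {N : Type w} [AddCommGroup M] [Module R M]
    [AddCommGroup N] [Module R N] (u : M →ₗ[R] N) (J : Ideal R)
    [Module.Projective (R ⧸ J) (N ⧸ (J • (⊤ : Submodule R N)))]
    (w : N →ₗ[R] M ⧸ (J • ⊤ : Submodule R M)) (hw : ∀ x, w (u x) = Submodule.Quotient.mk x) :
    Module.Projective (R ⧸ J) ((N ⧸ LinearMap.range u) ⧸
      (J • (⊤ : Submodule R (N ⧸ LinearMap.range u)))) := by
  have hNJ : ∀ j ∈ J, ∀ x : N ⧸ (J • ⊤ : Submodule R N), j • x = 0 :=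
    fun j hj x => smul_quotient_eq_zero le_rfl j hj x
  have hCJ : ∀ j ∈ J, ∀ x : (N ⧸ LinearMap.range u) ⧸
      (J • (⊤ : Submodule R (N ⧸ LinearMap.range u))), j • x = 0 :=
    fun j hj x => smul_quotient_eq_zero le_rfl j hj x
  -- the map induced by `u` modulo `J`
  let ubar : (M ⧸ (J • ⊤ : Submodule R M)) →ₗ[R] (N ⧸ (J • ⊤ : Submodule R N)) :=
    (J • ⊤ : Submodule R M).liftQ ((Submodule.mkQ _).comp u) (smul_top_le_ker hNJ _)
  -- the natural surjection
  let s : (N ⧸ (J • ⊤ : Submodule R N)) →ₗ[R] ((N ⧸ LinearMap.range u) ⧸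
      (J • (⊤ : Submodule R (N ⧸ LinearMap.range u)))) :=
    (J • ⊤ : Submodule R N).liftQ ((Submodule.mkQ _).comp (Submodule.mkQ (LinearMap.range u)))
      (smul_top_le_ker hCJ _)
  -- the splitting
  have hi0 : LinearMap.range u ≤
      LinearMap.ker ((Submodule.mkQ (J • ⊤ : Submodule R N)) - ubar.comp w) := by
    rintro _ ⟨x, rfl⟩
    rw [LinearMap.mem_ker]
    show (Submodule.Quotient.mk (u x) : N ⧸ (J • ⊤ : Submodule R N)) - ubar (w (u x)) = 0
    rw [hw]
    exact sub_self _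
  let i : ((N ⧸ LinearMap.range u) ⧸ (J • (⊤ : Submodule R (N ⧸ LinearMap.range u)))) →ₗ[R]
      (N ⧸ (J • ⊤ : Submodule R N)) :=
    (J • ⊤ : Submodule R (N ⧸ LinearMap.range u)).liftQ
      ((LinearMap.range u).liftQ ((Submodule.mkQ (J • ⊤ : Submodule R N)) - ubar.comp w) hi0)
      (smul_top_le_ker hNJ _)
  have hsu : ∀ z, s (ubar z) = 0 := by
    intro z
    obtain ⟨m, rfl⟩ := Submodule.Quotient.mk_surjective _ z
    show (Submodule.Quotient.mk (Submodule.Quotient.mk (u m)) :
      (N ⧸ LinearMap.range u) ⧸ (J • (⊤ : Submodule R (N ⧸ LinearMap.range u)))) = 0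
    have h0 : (Submodule.Quotient.mk (u m) : N ⧸ LinearMap.range u) = 0 :=
      (Submodule.Quotient.mk_eq_zero _).2 ⟨m, rfl⟩
    rw [h0, Submodule.Quotient.mk_zero]
  have hsi : ∀ c, s (i c) = c := by
    intro c
    obtain ⟨c', rfl⟩ := Submodule.Quotient.mk_surjective _ c
    obtain ⟨y, rfl⟩ := Submodule.Quotient.mk_surjective _ c'
    show s ((Submodule.Quotient.mk y : N ⧸ (J • ⊤ : Submodule R N)) - ubar (w y)) = _
    rw [map_sub, hsu, sub_zero]
    rfl
  have hsurj : Function.Surjective (algebraMap R (R ⧸ J)) := Ideal.Quotient.mk_surjective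
  refine Module.Projective.of_split (i.extendScalarsOfSurjective hsurj)
    (s.extendScalarsOfSurjective hsurj) ?_
  ext c
  exact hsi c

end Algebraic

end Groth.Agent.H29.LeftInv
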