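import Groth.Prelude.Def_TopMod
import Mathlib.Topology.Algebra.Group.Basic
import Mathlib.Topology.DenseEmbedding

set_option autoImplicit false
universe u v w

namespace Groth.Agent.H29.TopModAux

/-- An additive map from a topological group to a discrete group whose kernel is a neighbourhood
of zero is continuous. -/
theorem continuous_of_ker_mem_nhds {G : Type u} {H : Type v} [AddCommGroup G] [TopologicalSpace G]
    [IsTopologicalAddGroup G] [AddCommGroup H] [TopologicalSpace H] [DiscreteTopology H]
    (f : G →+ H) (h : {x | f x = 0} ∈ nhds (0 : G)) : Continuous f := by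
  rw [continuous_discrete_rng]
  intro b
  rw [isOpen_iff_mem_nhds]
  intro x hx
  have hcont : Filter.Tendsto (fun y : G => y - x) (nhds x) (nhds 0) := by
    have h1 : ContinuousAt (fun y : G => y - x) x :=
      (continuous_id.sub continuous_const).continuousAt
    have h2 : Filter.Tendsto (fun y : G => y - x) (nhds x) (nhds (x - x)) := h1
    rwa [sub_self] at h2
  refine Filter.mem_of_superset (hcont h) ?_
  intro y hy
  have hy' : f (y - x) = 0 := hy
  change f y = b
  rw [map_sub, sub_eq_zero] at hy'
  rw [hy']
  exact hx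

variable {A : Type u} {M : Type v} [CommRing A] [TopologicalSpace A] [AddCommGroup M] [Module A M]
  [TopologicalSpace M]

theorem smul_top_mem_nhds (hM : TopMod.IsDeduced A M) (J : Ideal A) (hJ : IsOpen (J : Set A)) :
    ((J • ⊤ : Submodule A M) : Set M) ∈ nhds (0 : M) :=
  hM.2.mem_of_mem hJ

theorem exists_smul_top_subset (hM : TopMod.IsDeduced A M) (S : Set M) (hS : S ∈ nhds (0 : M)) :
    ∃ J : Ideal A, IsOpen (J : Set A) ∧ ((J • ⊤ : Submodule A M) : Set M) ⊆ S :=
  hM.2.mem_iff.1 hS

/-- The quotient map onto `M/JM` (with the discrete topology) is continuous. -/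
theorem continuous_mkQ (hM : TopMod.IsDeduced A M) (J : Ideal A) (hJ : IsOpen (J : Set A))
    (t : TopologicalSpace (M ⧸ (J • ⊤ : Submodule A M)))
    (ht : @DiscreteTopology (M ⧸ (J • ⊤ : Submodule A M)) t) :
    @Continuous M (M ⧸ (J • ⊤ : Submodule A M)) _ t (Submodule.mkQ (J • ⊤ : Submodule A M)) := by
  haveI := hM.1
  letI := t
  haveI := ht
  refine continuous_of_ker_mem_nhds (Submodule.mkQ (J • ⊤ : Submodule A M)).toAddMonoidHom ?_
  refine Filter.mem_of_superset (smul_top_mem_nhds hM J hJ) (fun x hx => ?_)
  exact (Submodule.Quotient.mk_eq_zero _).2 hx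

end Groth.Agent.H29.TopModAux
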