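import Groth.Agent.H29.LeftInvAlg
import Groth.Agent.H29.TopModAux
import Groth.Agent.S5826
import Groth.Prelude.Def_LinTop

set_option autoImplicit false
universe u v w

namespace Groth.Agent.H29.LeftInv

open Groth.Agent.H29.TopModAux

section S5827

theorem formallyLeftInvertible_iff_mod {A : Type u} {M : Type v} {N : Type w} [CommRing A]
    [TopologicalSpace A] [AddCommGroup M] [Module A M] [TopologicalSpace M] [AddCommGroup N]
    [Module A N] [TopologicalSpace N] (𝔏 : Ideal A) (h𝔏 : LinTop.IsIdealOfDefinition A 𝔏)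
    (hM : TopMod.IsDeduced A M) (hN : TopMod.IsDeduced A N)
    (hproj : ∀ J : Ideal A, IsOpen (J : Set A) →
      Module.Projective (A ⧸ J) (N ⧸ (J • (⊤ : Submodule A N)))) (u : M →L[A] N) :
    TopMod.IsFormallyLeftInvertible u ↔
      ∃ w : N →ₗ[A] M ⧸ (𝔏 • ⊤ : Submodule A M), ∀ x : M, w (u x) = Submodule.Quotient.mk x := by
  rw [Groth.Agent.S5826.result hM hN u]
  constructor
  · intro H
    exact H 𝔏 h𝔏.1
  · rintro ⟨w₀, hw₀⟩ J hJ
    have hJ' : IsOpen ((J ⊓ 𝔏 : Ideal A) : Set A) := by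
      have h1 : ((J ⊓ 𝔏 : Ideal A) : Set A) = (J : Set A) ∩ (𝔏 : Set A) := rfl
      rw [h1]
      exact hJ.inter h𝔏.1
    obtain ⟨n, hn0, hn⟩ := h𝔏.2 (J : Set A) (hJ.mem_nhds J.zero_mem)
    have hn' : 𝔏 ^ n ≤ J ⊓ 𝔏 := le_inf (fun x hx => hn hx) (Ideal.pow_le_self hn0.ne')
    haveI := hproj (J ⊓ 𝔏) hJ'
    obtain ⟨w, hw⟩ := exists_leftInverse_mod_of_nilpotent u.toLinearMap (J ⊓ 𝔏) 𝔏 inf_le_right n
      hn' w₀ hw₀
    have hle : ((J ⊓ 𝔏) • ⊤ : Submodule A M) ≤ J • ⊤ := Submodule.smul_mono_left inf_le_left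
    refine ⟨(Submodule.factor hle).comp w, fun x => ?_⟩
    show Submodule.factor hle (w (u x)) = _
    rw [show w (u x) = Submodule.Quotient.mk x from hw x]
    rfl

end S5827

section Complete

variable {A : Type u} {M : Type v} [CommRing A] [TopologicalSpace A] [AddCommGroup M] [Module A M]
  [UniformSpace M] [IsUniformAddGroup M] (𝔍 : ℕ → Ideal A)

theorem exists_smul_top_subset_nat
    (h𝔍basis : (nhds (0 : A)).HasBasis (fun _ : ℕ => True) (fun n => (𝔍 n : Set A)))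
    (hM : TopMod.IsDeduced A M) (S : Set M) (hS : S ∈ nhds (0 : M)) :
    ∃ n, ((𝔍 n • ⊤ : Submodule A M) : Set M) ⊆ S := by
  obtain ⟨J, hJ, hJS⟩ := exists_smul_top_subset hM S hS
  obtain ⟨n, -, hn⟩ := h𝔍basis.mem_iff.1 (hJ.mem_nhds J.zero_mem)
  exact ⟨n, fun x hx => hJS (Submodule.smul_mono_left (fun a ha => hn ha) hx)⟩

theorem eq_of_forall_mk_eq [T2Space M]
    (h𝔍basis : (nhds (0 : A)).HasBasis (fun _ : ℕ => True) (fun n => (𝔍 n : Set A)))
    (hM : TopMod.IsDeduced A M) (m m' : M)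
    (h : ∀ n, (Submodule.Quotient.mk m : M ⧸ (𝔍 n • ⊤ : Submodule A M)) =
      Submodule.Quotient.mk m') : m = m' := by
  by_contra hne
  have hsub : m - m' ≠ 0 := sub_ne_zero.2 hne
  have hopen : {y : M | y ≠ m - m'} ∈ nhds (0 : M) := isOpen_ne.mem_nhds (Ne.symm hsub)
  obtain ⟨n, hn⟩ := exists_smul_top_subset_nat 𝔍 h𝔍basis hM _ hopen
  have h1 : m - m' ∈ (𝔍 n • ⊤ : Submodule A M) := (Submodule.Quotient.eq _).1 (h n)
  exact hn h1 rfl

theorem exists_limit [CompleteSpace M] (h𝔍open : ∀ n, IsOpen (𝔍 n : Set A)) (h𝔍anti : Antitone 𝔍)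
    (h𝔍basis : (nhds (0 : A)).HasBasis (fun _ : ℕ => True) (fun n => (𝔍 n : Set A)))
    (hM : TopMod.IsDeduced A M) (x : ∀ n, M ⧸ (𝔍 n • ⊤ : Submodule A M))
    (hx : ∀ n, Submodule.factor (Submodule.smul_mono_left (h𝔍anti (Nat.le_succ n)) :
      (𝔍 (n + 1) • ⊤ : Submodule A M) ≤ 𝔍 n • ⊤) (x (n + 1)) = x n) :
    ∃ m : M, ∀ n, (Submodule.Quotient.mk m : M ⧸ (𝔍 n • ⊤ : Submodule A M)) = x n := by
  choose m hm using fun n => Submodule.Quotient.mk_surjective _ (x n)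
  have hstep : ∀ k, m (k + 1) - m k ∈ (𝔍 k • ⊤ : Submodule A M) := by
    intro k
    have h1 := hx k
    rw [← hm (k + 1), ← hm k] at h1
    exact (Submodule.Quotient.eq _).1 h1
  have hmono : ∀ n k, n ≤ k → m k - m n ∈ (𝔍 n • ⊤ : Submodule A M) := by
    intro n k hnk
    induction k, hnk using Nat.le_induction with
    | base => rw [sub_self]; exact Submodule.zero_mem _
    | succ k hk ih =>
      have h2 : m (k + 1) - m k ∈ (𝔍 n • ⊤ : Submodule A M) :=
        Submodule.smul_mono_left (h𝔍anti hk) (hstep k)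
      have h3 : m (k + 1) - m n = (m (k + 1) - m k) + (m k - m n) := by abel
      rw [h3]
      exact add_mem h2 ih
  have hC : CauchySeq m := by
    rw [cauchySeq_iff_tendsto, uniformity_eq_comap_nhds_zero M, Filter.tendsto_comap_iff,
      Filter.tendsto_def]
    intro S hS
    obtain ⟨n, hn⟩ := exists_smul_top_subset_nat 𝔍 h𝔍basis hM S hS
    rw [Filter.mem_atTop_sets]
    refine ⟨(n, n), fun b hb => ?_⟩
    have hb1 : n ≤ b.1 := hb.1
    have hb2 : n ≤ b.2 := hb.2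
    show m b.2 - m b.1 ∈ S
    apply hn
    have h3 : m b.2 - m b.1 = (m b.2 - m n) - (m b.1 - m n) := by abel
    rw [h3]
    exact sub_mem (hmono n b.2 hb2) (hmono n b.1 hb1)
  obtain ⟨a, ha⟩ := cauchySeq_tendsto_of_complete hC
  refine ⟨a, fun n => ?_⟩
  rw [← hm n, Submodule.Quotient.eq]
  have hnhds : ((𝔍 n • ⊤ : Submodule A M) : Set M) ∈ nhds (0 : M) :=
    smul_top_mem_nhds hM (𝔍 n) (h𝔍open n)
  have hopen : IsOpen (((𝔍 n • ⊤ : Submodule A M).toAddSubgroup : AddSubgroup M) : Set M) :=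
    AddSubgroup.isOpen_of_mem_nhds _ (g := 0) hnhds
  have hclosed : IsClosed ((𝔍 n • ⊤ : Submodule A M) : Set M) :=
    AddSubgroup.isClosed_of_isOpen _ hopen
  have htend : Filter.Tendsto (fun k => m k - m n) Filter.atTop (nhds (a - m n)) :=
    ha.sub_const (m n)
  refine hclosed.mem_of_tendsto htend ?_
  rw [Filter.eventually_atTop]
  exact ⟨n, fun k hk => hmono n k hk⟩

end Complete

section S5838

variable {A : Type u} {M : Type v} {N : Type w}
  [CommRing A] [TopologicalSpace A] [AddCommGroup M] [Module A M] [UniformSpace M]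
  [IsUniformAddGroup M] [CompleteSpace M] [T2Space M] [AddCommGroup N] [Module A N]
  [TopologicalSpace N]

theorem formallyLeftInvertible_iff_exists_leftInverse
    (𝔍 : ℕ → Ideal A) (h𝔍open : ∀ n, IsOpen (𝔍 n : Set A)) (h𝔍anti : Antitone 𝔍)
    (h𝔍basis : (nhds (0 : A)).HasBasis (fun _ : ℕ => True) (fun n => (𝔍 n : Set A)))
    (hM : TopMod.IsDeduced A M) (hN : TopMod.IsDeduced A N) (u : M →L[A] N)
    (hcoker : ∀ n, Module.Projective (A ⧸ 𝔍 n)
      ((N ⧸ LinearMap.range u.toLinearMap) ⧸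
        (𝔍 n • (⊤ : Submodule A (N ⧸ LinearMap.range u.toLinearMap))))) :
    TopMod.IsFormallyLeftInvertible u ↔ ∃ w : N →ₗ[A] M, ∀ x : M, w (u x) = x := by
  rw [Groth.Agent.S5826.result hM hN u]
  constructor
  · intro H
    have h0 : ∀ n, ∃ w : N →ₗ[A] M ⧸ (𝔍 n • ⊤ : Submodule A M),
        ∀ x, w (u x) = Submodule.Quotient.mk x := fun n => H (𝔍 n) (h𝔍open n)
    have hstep : ∀ n (w : {w : N →ₗ[A] M ⧸ (𝔍 n • ⊤ : Submodule A M) //
          ∀ x, w (u x) = Submodule.Quotient.mk x}),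
        ∃ w' : {w : N →ₗ[A] M ⧸ (𝔍 (n + 1) • ⊤ : Submodule A M) //
            ∀ x, w (u x) = Submodule.Quotient.mk x},
          ∀ y, Submodule.factor (Submodule.smul_mono_left (h𝔍anti (Nat.le_succ n)) :
            (𝔍 (n + 1) • ⊤ : Submodule A M) ≤ 𝔍 n • ⊤) (w'.1 y) = w.1 y := by
      intro n w
      obtain ⟨w', hw'⟩ := h0 (n + 1)
      haveI := hcoker (n + 1)
      obtain ⟨w'', h1, h2⟩ := exists_compatible_lift u.toLinearMap (𝔍 n) (𝔍 (n + 1))
        (h𝔍anti (Nat.le_succ n)) w.1 w.2 w' hw'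
      exact ⟨⟨w'', h1⟩, h2⟩
    let seq : ∀ n, {w : N →ₗ[A] M ⧸ (𝔍 n • ⊤ : Submodule A M) //
        ∀ x, w (u x) = Submodule.Quotient.mk x} :=
      fun n => Nat.rec
        (motive := fun n => {w : N →ₗ[A] M ⧸ (𝔍 n • ⊤ : Submodule A M) //
          ∀ x, w (u x) = Submodule.Quotient.mk x})
        ⟨Classical.choose (h0 0), Classical.choose_spec (h0 0)⟩
        (fun k wk => Classical.choose (hstep k wk)) n
    have hseq : ∀ n y, Submodule.factor (Submodule.smul_mono_left (h𝔍anti (Nat.le_succ n)) :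
        (𝔍 (n + 1) • ⊤ : Submodule A M) ≤ 𝔍 n • ⊤) ((seq (n + 1)).1 y) = (seq n).1 y :=
      fun n => Classical.choose_spec (hstep n (seq n))
    have hex : ∀ y : N, ∃ m : M, ∀ n,
        (Submodule.Quotient.mk m : M ⧸ (𝔍 n • ⊤ : Submodule A M)) = (seq n).1 y :=
      fun y => exists_limit 𝔍 h𝔍open h𝔍anti h𝔍basis hM (fun n => (seq n).1 y) (fun n => hseq n y)
    choose wf hwf using hex
    have huniq := eq_of_forall_mk_eq (M := M) 𝔍 h𝔍basis hM
    refine ⟨{ toFun := wf, map_add' := ?_, map_smul' := ?_ }, ?_⟩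
    · intro y y'
      apply huniq
      intro n
      rw [Submodule.Quotient.mk_add, hwf, hwf, hwf, map_add]
    · intro a y
      apply huniq
      intro n
      rw [RingHom.id_apply, Submodule.Quotient.mk_smul, hwf, hwf, map_smul]
    · intro x
      apply huniq
      intro n
      show Submodule.Quotient.mk (wf (u x)) = _
      rw [hwf]
      exact (seq n).2 x
  · rintro ⟨w, hw⟩ J hJ
    refine ⟨(Submodule.mkQ _).comp w, fun x => ?_⟩
    show Submodule.Quotient.mk (w (u x)) = _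
    rw [hw]

theorem exists_leftInverse_iff_mod
    (𝔍 : ℕ → Ideal A) (h𝔍open : ∀ n, IsOpen (𝔍 n : Set A)) (h𝔍anti : Antitone 𝔍)
    (h𝔍basis : (nhds (0 : A)).HasBasis (fun _ : ℕ => True) (fun n => (𝔍 n : Set A)))
    (hM : TopMod.IsDeduced A M) (hN : TopMod.IsDeduced A N) (u : M →L[A] N)
    (𝔏 : Ideal A) (h𝔏 : LinTop.IsIdealOfDefinition A 𝔏)
    (hproj : ∀ J : Ideal A, IsOpen (J : Set A) →
      Module.Projective (A ⧸ J) (N ⧸ (J • (⊤ : Submodule A N)))) :
    (∃ w : N →ₗ[A] M, ∀ x : M, w (u x) = x) ↔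
      ∃ w₀ : N →ₗ[A] M ⧸ (𝔏 • ⊤ : Submodule A M),
        ∀ x : M, w₀ (u x) = Submodule.Quotient.mk x := by
  constructor
  · rintro ⟨w, hw⟩
    refine ⟨(Submodule.mkQ _).comp w, fun x => ?_⟩
    show Submodule.Quotient.mk (w (u x)) = _
    rw [hw]
  · intro h
    have hfl : TopMod.IsFormallyLeftInvertible u :=
      (formallyLeftInvertible_iff_mod 𝔏 h𝔏 hM hN hproj u).2 h
    have hfl' := (Groth.Agent.S5826.result hM hN u).1 hfl
    have hcoker : ∀ n, Module.Projective (A ⧸ 𝔍 n)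
        ((N ⧸ LinearMap.range u.toLinearMap) ⧸
          (𝔍 n • (⊤ : Submodule A (N ⧸ LinearMap.range u.toLinearMap)))) := by
      intro n
      obtain ⟨w, hw⟩ := hfl' (𝔍 n) (h𝔍open n)
      haveI := hproj (𝔍 n) (h𝔍open n)
      exact projective_coker_of_leftInverse u.toLinearMap (𝔍 n) w hw
    exact (formallyLeftInvertible_iff_exists_leftInverse 𝔍 h𝔍open h𝔍anti h𝔍basis hM hN u
      hcoker).1 hfl

end S5838

end Groth.Agent.H29.LeftInv
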