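import Groth.Agent.H29.LocHilbHfin_HFD0
import Groth.Agent.H73.LocHilbHfin_HFC

/-!
# (HFD) for the S12261 squad (helper29), closed form (uses helper73's (HFC))
-/

set_option autoImplicit false
set_option maxHeartbeats 400000
universe u
open CategoryTheory CategoryTheory.Limits AlgebraicGeometry TopologicalSpace Opposite

namespace Groth.Agent.H29.LocHilbHfin_HFD

/-- (HFD) -/
theorem HFD {k : Type u} [Field k] {Y : Scheme.{u}} [Y.Over (Spec (CommRingCat.of k))]
    (I₀ : Y.IdealSheafData) [I₀.subscheme.Over (Spec (CommRingCat.of k))]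
    (hX : I₀.subscheme ↘ Spec (CommRingCat.of k) =
      I₀.subschemeι ≫ (Y ↘ Spec (CommRingCat.of k))) :
    ∃ e : Coh.HH I₀.subscheme (RefHull.homSh
        ((Scheme.Modules.pullback I₀.subschemeι).obj (ClSub.idealMod I₀.subschemeι.ker))
        (Coh.structureModule I₀.subscheme)) 0 ≃+ (ClSub.idealMod I₀ ⟶ ClSub.quotMod I₀),
      ∀ (c : k) (h : Coh.HH I₀.subscheme (RefHull.homSh
        ((Scheme.Modules.pullback I₀.subschemeι).obj (ClSub.idealMod I₀.subschemeι.ker))
        (Coh.structureModule I₀.subscheme)) 0) (U : Y.Opens) (t : Γ(ClSub.idealMod I₀, U)),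
        (e (c • h)).app U t =
          (((Y ↘ Spec (CommRingCat.of k)).appLE ⊤ U le_top).hom
            ((Scheme.ΓSpecIso (CommRingCat.of k)).inv.hom c)) • ((e h).app U t) :=
  HFD_of I₀ hX (Groth.Agent.H73.LocHilbHfin_HFC.HFC _ _)

end Groth.Agent.H29.LocHilbHfin_HFD
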