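import Groth.Agent.H22.LocHilb_HDL
import Groth.Prelude.Def_RefHull
import Groth.Prelude.Def_CohB1

/-!
# (HFD) for the S12261 squad (helper29), hypothesis form on (HFC)

`H⁰(X, 𝓗om(i^*I, O_X)) ≃+ Hom(I, O_Y/I)` compatible with the `k`-actions, with the explicit
sheaf Hom `RefHull.homSh`, given the statement (HFC) (global sections of `homSh F G` are
morphisms `F ⟶ G`, compatibly with multiplication by global functions).
-/

set_option autoImplicit false
set_option maxHeartbeats 400000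
set_option linter.style.haveILetI false
universe u
open CategoryTheory CategoryTheory.Limits AlgebraicGeometry TopologicalSpace Opposite

namespace Groth.Agent.H29.LocHilbHfin_HFD

open Groth.Agent.H22.LocHilbHDL

/-- the statement (HFC) for a fixed pair of modules -/
def HFCAt {X : Scheme.{u}} (F G : X.Modules) : Prop :=
  ∃ e : Γ(RefHull.homSh F G, ⊤) ≃+ (F ⟶ G),
    ∀ (r : Γ(X, ⊤)) (g : Γ(RefHull.homSh F G, ⊤)) (U : X.Opens) (m : Γ(F, U)),
      (e (r • g)).app U m = (X.presheaf.map (homOfLE (le_top : U ≤ ⊤)).op r) • (e g).app U m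

section
variable {Y : Scheme.{u}} (I₀ : Y.IdealSheafData)

/-- `i^* I` -/
noncomputable abbrev NN : I₀.subscheme.Modules :=
  (Scheme.Modules.pullback I₀.subschemeι).obj (ClSub.idealMod I₀.subschemeι.ker)

/-- `O_X` -/
noncomputable abbrev OO : I₀.subscheme.Modules := Coh.structureModule I₀.subscheme

/-- `𝓗om(i^* I, O_X)` -/
noncomputable abbrev GG : I₀.subscheme.Modules := RefHull.homSh (NN I₀) (OO I₀)

lemma evAdd_smul {X : Scheme.{u}} (G : X.Modules) (φ : Coh.structureModule X ⟶ G)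
    (r : Coh.Γtop X) :
    evAdd X G (φ ≫ Formal.smulModΓ G r) = (show Γ(X, ⊤) from r) • evAdd X G φ := by
  rw [evAdd_apply, evAdd_apply]
  change (Formal.smulModΓ G r).app ⊤ (φ.app ⊤ _) = _
  rw [Groth.Agent.S0835.smulModΓ_app]
  congr 1
  change (X.ringCatSheaf.obj.map (homOfLE (le_top (a := (⊤ : X.Opens)))).op).hom r = r
  have : (homOfLE (le_top (a := (⊤ : X.Opens)))).op = 𝟙 (op (⊤ : X.Opens)) := rfl
  rw [this, CategoryTheory.Functor.map_id]
  rfl

variable (eC : Γ(GG I₀, ⊤) ≃+ (NN I₀ ⟶ OO I₀))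

/-- the chain -/
noncomputable def ch : Coh.HH I₀.subscheme (GG I₀) 0 ≃+ (ClSub.idealMod I₀ ⟶ ClSub.quotMod I₀) :=
  (hh0AddEquiv I₀.subscheme (GG I₀)).trans ((evAdd I₀.subscheme (GG I₀)).trans (eC.trans (e45 I₀)))

variable (heC : ∀ (r : Γ(I₀.subscheme, ⊤)) (g : Γ(GG I₀, ⊤)) (U : I₀.subscheme.Opens)
    (m : Γ(NN I₀, U)), (eC (r • g)).app U m =
      (I₀.subscheme.presheaf.map (homOfLE (le_top : U ≤ ⊤)).op r) • (eC g).app U m)

include heC in
lemma eC_smul (r : Coh.Γtop I₀.subscheme) (g : Γ(GG I₀, ⊤)) :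
    eC ((show Γ(I₀.subscheme, ⊤) from r) • g) = eC g ≫ Formal.smulModΓ (OO I₀) r := by
  ext U m
  change (eC ((show Γ(I₀.subscheme, ⊤) from r) • g)).app U m =
    (Formal.smulModΓ (OO I₀) r).app U ((eC g).app U m)
  rw [heC, Groth.Agent.S0835.smulModΓ_app]
  rfl

include heC in
lemma ch_smul (r : Coh.Γtop I₀.subscheme) (h : Coh.HH I₀.subscheme (GG I₀) 0) :
    ch I₀ eC (r • h) = ch I₀ eC h ≫ (Scheme.Modules.pushforward I₀.subschemeι).map
      (Formal.smulModΓ (OO I₀) r) := by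
  change e45 I₀ (eC (evAdd I₀.subscheme (GG I₀) (hh0AddEquiv I₀.subscheme (GG I₀) (r • h)))) =
    e45 I₀ (eC (evAdd I₀.subscheme (GG I₀) (hh0AddEquiv I₀.subscheme (GG I₀) h))) ≫ _
  rw [hh0AddEquiv_smul, evAdd_smul, eC_smul I₀ eC heC]
  exact e45_comp I₀ _ _

end

theorem HFD_of {k : Type u} [Field k] {Y : Scheme.{u}} [Y.Over (Spec (CommRingCat.of k))]
    (I₀ : Y.IdealSheafData) [I₀.subscheme.Over (Spec (CommRingCat.of k))]
    (hX : I₀.subscheme ↘ Spec (CommRingCat.of k) =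
      I₀.subschemeι ≫ (Y ↘ Spec (CommRingCat.of k)))
    (hfc : HFCAt ((Scheme.Modules.pullback I₀.subschemeι).obj (ClSub.idealMod I₀.subschemeι.ker))
        (Coh.structureModule I₀.subscheme)) :
    ∃ e : Coh.HH I₀.subscheme (RefHull.homSh
        ((Scheme.Modules.pullback I₀.subschemeι).obj (ClSub.idealMod I₀.subschemeι.ker))
        (Coh.structureModule I₀.subscheme)) 0 ≃+ (ClSub.idealMod I₀ ⟶ ClSub.quotMod I₀),
      ∀ (c : k) (h : Coh.HH I₀.subscheme (RefHull.homSh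
        ((Scheme.Modules.pullback I₀.subschemeι).obj (ClSub.idealMod I₀.subschemeι.ker))
        (Coh.structureModule I₀.subscheme)) 0) (U : Y.Opens) (t : Γ(ClSub.idealMod I₀, U)),
        (e (c • h)).app U t =
          (((Y ↘ Spec (CommRingCat.of k)).appLE ⊤ U le_top).hom
            ((Scheme.ΓSpecIso (CommRingCat.of k)).inv.hom c)) • ((e h).app U t) := by
  obtain ⟨eC, heC⟩ := hfc
  refine ⟨ch I₀ eC, fun c h U t => ?_⟩
  change (ch I₀ eC ((Coh.toGlobal (I₀.subscheme ↘ Spec (CommRingCat.of k)) c) • h)).app U t = _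
  rw [ch_smul I₀ eC heC, hX, toGlobal_comp, Groth.Agent.S0835.pushforward_smulModΓ]
  change (Formal.smulModΓ _ _).app U ((ch I₀ eC h).app U t) = _
  rw [Groth.Agent.S0835.smulModΓ_app, resTop_toGlobal]

end Groth.Agent.H29.LocHilbHfin_HFD
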