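import Mathlib
import Groth.Agent.H29.HilbNF

/-!
# Constancy of the numerical characters of a normally flat module

Ring level: associated graded pieces commute with localisation; "relative freeness"
of a module spreads out from a prime to a basic open neighbourhood.
-/

set_option autoImplicit false
set_option maxHeartbeats 400000
set_option linter.style.haveILetI false
universe u
open IsLocalRing
open Groth.Agent.H29.GrStep Groth.Agent.H29.HilbNF

namespace Groth.Agent.H29.NFConst

section GrLoc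

variable {B : Type u} [CommRing B] (S : Submonoid B) (A : Type u) [CommRing A] [Algebra B A]
  [IsLocalization S A]
variable {M : Type u} [AddCommGroup M] [Module B M] {M' : Type u} [AddCommGroup M'] [Module B M']
  [Module A M'] [IsScalarTower B A M']
variable (f : M →ₗ[B] M') [IsLocalizedModule S f]
variable (K : Ideal B)

theorem localized'_Mn (j : ℕ) :
    (Mn K M j).localized' A S f = Mn (K.map (algebraMap B A)) M' j := by
  unfold Mn
  rw [Submodule.localized'_smul, Ideal.localized'_eq_map, Submodule.localized'_top, Ideal.map_pow]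

variable {K} in
omit [IsLocalization S A] [IsLocalizedModule S f] in
theorem map_mem_Mn {j : ℕ} {x : M} (hx : x ∈ Mn K M j) :
    f x ∈ Mn (K.map (algebraMap B A)) M' j := by
  refine Submodule.smul_induction_on hx ?_ ?_
  · intro a ha m _
    rw [map_smul, ← algebraMap_smul A a (f m)]
    refine Submodule.smul_mem_smul ?_ Submodule.mem_top
    rw [← Ideal.map_pow]
    exact Ideal.mem_map_of_mem _ ha
  · intro x y hx hy
    rw [map_add]
    exact add_mem hx hy

variable {K} in
theorem exists_of_mem_Mn {j : ℕ} {y : M'} (hy : y ∈ Mn (K.map (algebraMap B A)) M' j) :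
    ∃ s : S, ∃ x ∈ Mn K M j, (s : B) • y = f x := by
  rw [← localized'_Mn S A f K j] at hy
  obtain ⟨m, hm, s, rfl⟩ := hy
  refine ⟨s, m, hm, ?_⟩
  rw [← Submonoid.smul_def, IsLocalizedModule.mk'_cancel']

variable {K} in
theorem exists_smul_mem_Mn {j : ℕ} {x : M} (hx : f x ∈ Mn (K.map (algebraMap B A)) M' j) :
    ∃ s : S, (s : B) • x ∈ Mn K M j := by
  obtain ⟨s, m, hm, hs⟩ := exists_of_mem_Mn S A f hx
  have h1 : f ((s : B) • x) = f m := by rw [map_smul]; exact hs
  obtain ⟨t, ht⟩ := IsLocalizedModule.exists_of_eq (S := S) (f := f) h1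
  refine ⟨t * s, ?_⟩
  have h2 : ((t * s : S) : B) • x = (t : B) • m := by
    rw [Submonoid.coe_mul, mul_smul]
    exact ht
  rw [h2]
  exact Submodule.smul_mem _ _ hm

/-- The restriction of the localisation map to `K^j M → K'^j M'`. -/
def mnMap (j : ℕ) : ↥(Mn K M j) →ₗ[B] ↥(Mn (K.map (algebraMap B A)) M' j) where
  toFun x := ⟨f x, map_mem_Mn A f x.2⟩
  map_add' x y := Subtype.ext (by simp)
  map_smul' c x := Subtype.ext (by simp)

@[simp] theorem mnMap_coe (j : ℕ) (x : ↥(Mn K M j)) :
    ((mnMap A f K j x : ↥(Mn (K.map (algebraMap B A)) M' j)) : M') = f x := rfl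

/-- The localisation map on graded pieces. -/
def grMap (k : ℕ) : Gr K M k →ₗ[B] Gr (K.map (algebraMap B A)) M' k :=
  Submodule.liftQ _
    (((Submodule.mkQ (K.map (algebraMap B A) • ⊤ :
      Submodule A ↥(Mn (K.map (algebraMap B A)) M' k))).restrictScalars B) ∘ₗ mnMap A f K k)
    (by
      intro x hx
      rw [LinearMap.mem_ker, LinearMap.comp_apply, LinearMap.restrictScalars_apply,
        Submodule.mkQ_apply, mk_eq_zero_iff, mnMap_coe]
      exact map_mem_Mn A f ((coe_mem_succ_iff K M k x).mp hx))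

theorem grMap_mk (k : ℕ) (x : ↥(Mn K M k)) :
    grMap A f K k (Submodule.Quotient.mk x) = Submodule.Quotient.mk (mnMap A f K k x) := rfl

omit [IsLocalizedModule S f] in
theorem isUnit_algebraMap_end (N : Type u) [AddCommGroup N] [Module B N] [Module A N]
    [IsScalarTower B A N] (s : S) :
    IsUnit (algebraMap B (Module.End B N) s) := by
  obtain ⟨u, hu⟩ := IsLocalization.map_units A s
  rw [Module.End.isUnit_iff]
  have key : ∀ x : N, (s : B) • x = (u : A) • x := fun x => by
    rw [hu, algebraMap_smul]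
  constructor
  · intro x y hxy
    simp only [Module.algebraMap_end_apply, key] at hxy
    have := congrArg (fun z => ((u⁻¹ : Aˣ) : A) • z) hxy
    simpa [smul_smul] using this
  · intro x
    refine ⟨((u⁻¹ : Aˣ) : A) • x, ?_⟩
    simp only [Module.algebraMap_end_apply, key]
    simp [smul_smul]

instance isLocalizedModule_grMap (k : ℕ) : IsLocalizedModule S (grMap A f K k) where
  map_units s := isUnit_algebraMap_end S A _ s
  surj y := by
    obtain ⟨y', rfl⟩ := Submodule.Quotient.mk_surjective _ y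
    obtain ⟨s, x, hx, hs⟩ := exists_of_mem_Mn S A f y'.2
    refine ⟨⟨Submodule.Quotient.mk ⟨x, hx⟩, s⟩, ?_⟩
    show (s : B) • (Submodule.Quotient.mk y' : Gr (K.map (algebraMap B A)) M' k) = _
    rw [grMap_mk, ← Submodule.Quotient.mk_smul]
    congr 1
    apply Subtype.ext
    rw [mnMap_coe]
    exact hs
  exists_of_eq {x₁ x₂} h := by
    obtain ⟨n₁, rfl⟩ := Submodule.Quotient.mk_surjective _ x₁
    obtain ⟨n₂, rfl⟩ := Submodule.Quotient.mk_surjective _ x₂
    rw [grMap_mk, grMap_mk, ← sub_eq_zero, ← Submodule.Quotient.mk_sub, ← map_sub,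
      mk_eq_zero_iff, mnMap_coe] at h
    obtain ⟨s, hs⟩ := exists_smul_mem_Mn S A f h
    refine ⟨s, ?_⟩
    rw [← sub_eq_zero, Submonoid.smul_def, Submonoid.smul_def, ← smul_sub,
      ← Submodule.Quotient.mk_sub, ← Submodule.Quotient.mk_smul, mk_eq_zero_iff]
    exact hs

end GrLoc

section RelFree

/-- `G` has a "basis relative to `K`" with `ν` elements: a generating family all of whose
relations have coefficients in `K` (i.e. `G ≃ (A/K)^ν`). -/
def RelFree {A : Type u} [CommRing A] (K : Ideal A) (G : Type u) [AddCommGroup G] [Module A G]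
    (ν : ℕ) : Prop :=
  ∃ e : Fin ν → G, Submodule.span A (Set.range e) = ⊤ ∧
    ∀ a : Fin ν → A, ∑ i, a i • e i = 0 → ∀ i, a i ∈ K

theorem nu_eq_of_relFree {A : Type u} [CommRing A] [IsLocalRing A] {K : Ideal A}
    (hK : K ≤ maximalIdeal A) {G : Type u} [AddCommGroup G] [Module A G] {ν : ℕ}
    (h : RelFree K G ν) : nu A G = ν := by
  obtain ⟨e, hspan, hrel⟩ := h
  unfold nu
  let ē : Fin ν → G ⧸ (maximalIdeal A • ⊤ : Submodule A G) := fun i => Submodule.Quotient.mk (e i)
  have hli : LinearIndependent (A ⧸ maximalIdeal A) ē := by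
    rw [Fintype.linearIndependent_iff]
    intro c hc
    choose a ha using fun i => Ideal.Quotient.mk_surjective (c i)
    have h1 : (Submodule.Quotient.mk (∑ i, a i • e i) :
        G ⧸ (maximalIdeal A • ⊤ : Submodule A G)) = 0 := by
      rw [← hc, ← Submodule.mkQ_apply, map_sum]
      refine Finset.sum_congr rfl fun i _ => ?_
      rw [← ha i]
      rfl
    rw [Submodule.Quotient.mk_eq_zero, ← hspan,
      Submodule.mem_ideal_smul_span_iff_exists_sum] at h1
    obtain ⟨μ, hμ, hsum⟩ := h1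
    rw [Finsupp.sum_fintype _ _ (fun i => zero_smul A (e i))] at hsum
    have h2 : ∑ i, (a i - μ i) • e i = 0 := by
      simp only [sub_smul, Finset.sum_sub_distrib, hsum, sub_self]
    intro i
    have h3 := hK (hrel _ h2 i)
    have h4 : a i ∈ maximalIdeal A := by
      have := Ideal.add_mem _ h3 (hμ i)
      simpa using this
    rw [← ha i]
    exact Ideal.Quotient.eq_zero_iff_mem.mpr h4
  have hsp : ⊤ ≤ Submodule.span (A ⧸ maximalIdeal A) (Set.range ē) := by
    intro v _
    obtain ⟨g, rfl⟩ := Submodule.Quotient.mk_surjective _ v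
    have hg : g ∈ Submodule.span A (Set.range e) := by rw [hspan]; trivial
    obtain ⟨a, rfl⟩ := (Submodule.mem_span_range_iff_exists_fun A).mp hg
    rw [← Submodule.mkQ_apply, map_sum]
    refine Submodule.sum_mem _ fun i _ => ?_
    rw [Submodule.mkQ_apply]
    have : (Submodule.Quotient.mk (a i • e i) : G ⧸ (maximalIdeal A • ⊤ : Submodule A G)) =
        Ideal.Quotient.mk (maximalIdeal A) (a i) • ē i := rfl
    rw [this]
    exact Submodule.smul_mem _ _ (Submodule.subset_span (Set.mem_range_self i))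
  have := Module.finrank_eq_card_basis (Module.Basis.mk hli hsp)
  rw [this, Fintype.card_fin]

theorem relFree_of_flat {A : Type u} [CommRing A] [IsLocalRing A] (K : Ideal A)
    (hK : K ≤ maximalIdeal A) (G : Type u) [AddCommGroup G] [Module A G] [Module (A ⧸ K) G]
    [IsScalarTower A (A ⧸ K) G] [Module.Finite A G] [Module.Flat (A ⧸ K) G] :
    RelFree K G (nu A G) := by
  haveI : Nontrivial (A ⧸ K) := Ideal.Quotient.nontrivial_iff.mpr
    (ne_top_of_le_ne_top (IsLocalRing.maximalIdeal.isMaximal A).ne_top hK)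
  haveI : IsLocalRing (A ⧸ K) :=
    IsLocalRing.of_surjective' (Ideal.Quotient.mk K) Ideal.Quotient.mk_surjective
  haveI : Module.Finite (A ⧸ K) G := Module.Finite.of_restrictScalars_finite A (A ⧸ K) G
  haveI : Module.Free (A ⧸ K) G := Module.free_of_flat_of_isLocalRing
  let b := Module.finBasis (A ⧸ K) G
  have hrel : RelFree K G (Module.finrank (A ⧸ K) G) := by
    refine ⟨b, ?_, ?_⟩
    · rw [eq_top_iff]
      intro g _
      have hg := b.sum_repr g
      choose a ha using fun i => Ideal.Quotient.mk_surjective (b.repr g i)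
      rw [← hg]
      refine Submodule.sum_mem _ fun i _ => ?_
      rw [← ha i]
      have : (Ideal.Quotient.mk K (a i)) • b i = a i • b i := by
        rw [← Ideal.Quotient.algebraMap_eq, algebraMap_smul]
      rw [this]
      exact Submodule.smul_mem _ _ (Submodule.subset_span (Set.mem_range_self i))
    · intro a ha i
      have h1 : ∑ i, (Ideal.Quotient.mk K (a i)) • b i = 0 := by
        rw [← ha]
        refine Finset.sum_congr rfl fun i _ => ?_
        rw [← Ideal.Quotient.algebraMap_eq, algebraMap_smul]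
      have h2 := Fintype.linearIndependent_iff.mp b.linearIndependent _ h1 i
      exact Ideal.Quotient.eq_zero_iff_mem.mp h2
  rw [nu_eq_of_relFree hK hrel]
  exact hrel

end RelFree

section Spread

variable {B : Type u} [CommRing B]

/-- finitely many local denominators can be combined -/
theorem exists_common_mult {N : Type u} [AddCommGroup N] [Module B N] [Module.Finite B N]
    (q₀ : Ideal B) [q₀.IsPrime] (P : Submodule B N)
    (h : ∀ y : N, ∃ s : B, s ∉ q₀ ∧ s • y ∈ P) :
    ∃ g : B, g ∉ q₀ ∧ ∀ y : N, g • y ∈ P := by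
  classical
  obtain ⟨T, hT⟩ := (Module.Finite.fg_top : (⊤ : Submodule B N).FG)
  choose s hs hsP using h
  refine ⟨∏ t ∈ T, s t, ?_, ?_⟩
  · have : ∏ t ∈ T, s t ∈ q₀.primeCompl := Submonoid.prod_mem _ (fun t _ => hs t)
    exact this
  · have hle : (⊤ : Submodule B N) ≤
        Submodule.comap (LinearMap.lsmul B N (∏ t ∈ T, s t)) P := by
      rw [← hT, Submodule.span_le]
      intro t ht
      rw [SetLike.mem_coe, Submodule.mem_comap, LinearMap.lsmul_apply,
        ← Finset.mul_prod_erase T s ht, mul_comm, mul_smul]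
      exact Submodule.smul_mem _ _ (hsP t)
    intro y
    exact hle Submodule.mem_top

theorem exists_global_family {K : Ideal B} {G : Type u} [AddCommGroup G] [Module B G]
    (S : Submonoid B) (A₀ : Type u) [CommRing A₀] [Algebra B A₀] [IsLocalization S A₀]
    {G₀ : Type u} [AddCommGroup G₀] [Module B G₀] [Module A₀ G₀] [IsScalarTower B A₀ G₀]
    (φ₀ : G →ₗ[B] G₀) [IsLocalizedModule S φ₀] {ν : ℕ}
    (h₀ : RelFree (K.map (algebraMap B A₀)) G₀ ν) :
    ∃ x : Fin ν → G, Submodule.span A₀ (Set.range (fun i => φ₀ (x i))) = ⊤ ∧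
      ∀ a : Fin ν → A₀, ∑ i, a i • φ₀ (x i) = 0 → ∀ i, a i ∈ K.map (algebraMap B A₀) := by
  obtain ⟨e, hspan, hrel⟩ := h₀
  choose xs hxs using fun i => IsLocalizedModule.surj S φ₀ (e i)
  have hu : ∀ i, IsUnit (algebraMap B A₀ ((xs i).2 : B)) :=
    fun i => IsLocalization.map_units A₀ (xs i).2
  have hxs' : ∀ i, φ₀ (xs i).1 = algebraMap B A₀ ((xs i).2 : B) • e i := fun i => by
    rw [algebraMap_smul, ← hxs i]
    rfl
  refine ⟨fun i => (xs i).1, ?_, ?_⟩
  · rw [eq_top_iff, ← hspan, Submodule.span_le]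
    rintro _ ⟨i, rfl⟩
    obtain ⟨u, hu'⟩ := hu i
    have : e i = ((u⁻¹ : A₀ˣ) : A₀) • φ₀ (xs i).1 := by
      rw [hxs' i, ← hu', smul_smul, Units.inv_mul, one_smul]
    rw [SetLike.mem_coe, this]
    exact Submodule.smul_mem _ _ (Submodule.subset_span ⟨i, rfl⟩)
  · intro a ha i
    have h1 : ∑ i, (a i * algebraMap B A₀ ((xs i).2 : B)) • e i = 0 := by
      rw [← ha]
      refine Finset.sum_congr rfl fun i _ => ?_
      rw [hxs' i, smul_smul]
    have h2 := hrel _ h1 i
    exact (Ideal.mul_unit_mem_iff_mem _ (hu i)).mp h2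

theorem exists_mult_span {G : Type u} [AddCommGroup G] [Module B G] [Module.Finite B G]
    (q₀ : Ideal B) [q₀.IsPrime] (A₀ : Type u) [CommRing A₀] [Algebra B A₀]
    [IsLocalization.AtPrime A₀ q₀]
    {G₀ : Type u} [AddCommGroup G₀] [Module B G₀] [Module A₀ G₀] [IsScalarTower B A₀ G₀]
    (φ₀ : G →ₗ[B] G₀) [IsLocalizedModule q₀.primeCompl φ₀] {ν : ℕ} (x : Fin ν → G)
    (hspan : Submodule.span A₀ (Set.range (fun i => φ₀ (x i))) = ⊤) :
    ∃ g : B, g ∉ q₀ ∧ ∀ y : G, ∃ a : Fin ν → B, g • y = ∑ i, a i • x i := by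
  have key : ∀ y : G, ∃ s : B, s ∉ q₀ ∧
      s • y ∈ LinearMap.range (Fintype.linearCombination B x) := by
    intro y
    have hy : φ₀ y ∈ Submodule.span A₀ (Set.range fun i => φ₀ (x i)) := by
      rw [hspan]; trivial
    obtain ⟨c, hc⟩ := (Submodule.mem_span_range_iff_exists_fun A₀).mp hy
    obtain ⟨t, ht⟩ := IsLocalization.exist_integer_multiples_of_finite q₀.primeCompl c
    have ht' : ∀ i, ∃ b : B, algebraMap B A₀ b = (t : B) • c i := fun i => ht i
    choose a ha using ht'
    have h1 : φ₀ ((t : B) • y) = φ₀ (∑ i, a i • x i) := by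
      rw [map_smul, ← hc, Finset.smul_sum, map_sum]
      refine Finset.sum_congr rfl fun i _ => ?_
      rw [map_smul, ← algebraMap_smul A₀ (a i), ha i, smul_assoc]
    obtain ⟨u, hu⟩ := IsLocalizedModule.exists_of_eq (S := q₀.primeCompl) (f := φ₀) h1
    refine ⟨(u : B) * (t : B), q₀.primeCompl.mul_mem u.2 t.2, ?_⟩
    rw [mul_smul]
    have hu' : (u : B) • ((t : B) • y) = (u : B) • ∑ i, a i • x i := hu
    rw [hu']
    refine ⟨fun i => (u : B) * a i, ?_⟩
    rw [Fintype.linearCombination_apply, Finset.smul_sum]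
    exact Finset.sum_congr rfl fun i _ => mul_smul _ _ _
  obtain ⟨g, hg, hgP⟩ := exists_common_mult q₀ _ key
  refine ⟨g, hg, fun y => ?_⟩
  obtain ⟨a, ha⟩ := hgP y
  exact ⟨a, by rw [← ha, Fintype.linearCombination_apply]⟩

theorem exists_mult_rel [IsNoetherianRing B] {K : Ideal B} {G : Type u} [AddCommGroup G]
    [Module B G] (q₀ : Ideal B) [q₀.IsPrime] (A₀ : Type u) [CommRing A₀] [Algebra B A₀]
    [IsLocalization.AtPrime A₀ q₀]
    {G₀ : Type u} [AddCommGroup G₀] [Module B G₀] [Module A₀ G₀] [IsScalarTower B A₀ G₀]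
    (φ₀ : G →ₗ[B] G₀) {ν : ℕ} (x : Fin ν → G)
    (hrel : ∀ a : Fin ν → A₀, ∑ i, a i • φ₀ (x i) = 0 → ∀ i, a i ∈ K.map (algebraMap B A₀)) :
    ∃ g : B, g ∉ q₀ ∧ ∀ a : Fin ν → B, ∑ i, a i • x i = 0 → ∀ i, g * a i ∈ K := by
  classical
  let R : Submodule B (Fin ν → B) := LinearMap.ker (Fintype.linearCombination B x)
  let P : Submodule B ↥R := Submodule.comap R.subtype (Submodule.pi Set.univ (fun _ => K))
  have key : ∀ a : ↥R, ∃ s : B, s ∉ q₀ ∧ s • a ∈ P := by
    intro a
    have ha : ∑ i, (a : Fin ν → B) i • x i = 0 := by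
      have := a.2
      rwa [LinearMap.mem_ker, Fintype.linearCombination_apply] at this
    have h1 : ∑ i, algebraMap B A₀ ((a : Fin ν → B) i) • φ₀ (x i) = 0 := by
      have := congrArg φ₀ ha
      rw [map_sum, map_zero] at this
      rw [← this]
      refine Finset.sum_congr rfl fun i _ => ?_
      rw [map_smul, algebraMap_smul]
    have h2 := hrel _ h1
    have h3 : ∀ i, ∃ m : B, m ∈ q₀.primeCompl ∧ m * (a : Fin ν → B) i ∈ K := fun i =>
      (IsLocalization.algebraMap_mem_map_algebraMap_iff q₀.primeCompl A₀ K _).mp (h2 i)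
    choose m hm hmK using h3
    refine ⟨∏ i, m i, ?_, ?_⟩
    · exact Submonoid.prod_mem q₀.primeCompl (fun i _ => hm i)
    · rw [Submodule.mem_comap, Submodule.mem_pi]
      intro i _
      show (∏ j, m j) * (a : Fin ν → B) i ∈ K
      rw [← Finset.mul_prod_erase Finset.univ m (Finset.mem_univ i), mul_comm (m i), mul_assoc]
      exact Ideal.mul_mem_left _ _ (hmK i)
  obtain ⟨g, hg, hgP⟩ := exists_common_mult q₀ P key
  refine ⟨g, hg, fun a ha i => ?_⟩
  have haR : a ∈ R := by
    rw [LinearMap.mem_ker, Fintype.linearCombination_apply]; exact ha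
  have := hgP ⟨a, haR⟩
  rw [Submodule.mem_comap, Submodule.mem_pi] at this
  exact this i (Set.mem_univ i)

theorem relFree_spread [IsNoetherianRing B] (K : Ideal B) (G : Type u) [AddCommGroup G]
    [Module B G] [Module.Finite B G]
    (q₀ : Ideal B) [q₀.IsPrime] (A₀ : Type u) [CommRing A₀] [Algebra B A₀]
    [IsLocalization.AtPrime A₀ q₀]
    {G₀ : Type u} [AddCommGroup G₀] [Module B G₀] [Module A₀ G₀] [IsScalarTower B A₀ G₀]
    (φ₀ : G →ₗ[B] G₀) [IsLocalizedModule q₀.primeCompl φ₀] {ν : ℕ}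
    (h₀ : RelFree (K.map (algebraMap B A₀)) G₀ ν) :
    ∃ g : B, g ∉ q₀ ∧ ∀ (q : Ideal B) [q.IsPrime], g ∉ q →
      ∀ (A : Type u) [CommRing A] [Algebra B A] [IsLocalization.AtPrime A q]
        (G' : Type u) [AddCommGroup G'] [Module B G'] [Module A G'] [IsScalarTower B A G']
        (φ : G →ₗ[B] G') [IsLocalizedModule q.primeCompl φ],
        RelFree (K.map (algebraMap B A)) G' ν := by
  obtain ⟨x, hspan, hrel⟩ := exists_global_family q₀.primeCompl A₀ φ₀ h₀
  obtain ⟨g₁, hg₁, hB⟩ := exists_mult_span q₀ A₀ φ₀ x hspan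
  obtain ⟨g₂, hg₂, hC⟩ := exists_mult_rel q₀ A₀ φ₀ x hrel
  refine ⟨g₁ * g₂, q₀.primeCompl.mul_mem hg₁ hg₂, ?_⟩
  intro q _ hgq A _ _ _ G' _ _ _ _ φ _
  have hg₁q : g₁ ∉ q := fun h => hgq (Ideal.mul_mem_right _ _ h)
  have hg₂q : g₂ ∉ q := fun h => hgq (Ideal.mul_mem_left _ _ h)
  refine ⟨fun i => φ (x i), ?_, ?_⟩
  · rw [eq_top_iff]
    intro y' _
    obtain ⟨⟨y, s⟩, hs⟩ := IsLocalizedModule.surj q.primeCompl φ y'
    obtain ⟨a, ha⟩ := hB y
    have hunit : IsUnit (algebraMap B A (g₁ * s)) := IsLocalization.map_units A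
      (⟨g₁ * s, q.primeCompl.mul_mem hg₁q s.2⟩ : q.primeCompl)
    obtain ⟨u, hu⟩ := hunit
    have h1 : (u : A) • y' = ∑ i, algebraMap B A (a i) • φ (x i) := by
      rw [hu, algebraMap_smul, mul_smul]
      have : (s : B) • y' = φ y := hs
      rw [this, ← map_smul, ha, map_sum]
      refine Finset.sum_congr rfl fun i _ => ?_
      rw [map_smul, algebraMap_smul]
    have h2 : y' = ((u⁻¹ : Aˣ) : A) • ∑ i, algebraMap B A (a i) • φ (x i) := by
      rw [← h1, smul_smul, Units.inv_mul, one_smul]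
    rw [h2]
    exact Submodule.smul_mem _ _ (Submodule.sum_mem _ fun i _ =>
      Submodule.smul_mem _ _ (Submodule.subset_span ⟨i, rfl⟩))
  · intro c hc i
    obtain ⟨t, ht⟩ := IsLocalization.exist_integer_multiples_of_finite q.primeCompl c
    have ht' : ∀ i, ∃ b : B, algebraMap B A b = (t : B) • c i := fun i => ht i
    choose a ha using ht'
    have h1 : φ (∑ i, a i • x i) = 0 := by
      rw [map_sum]
      have : ∑ i, φ (a i • x i) = (t : B) • ∑ i, c i • φ (x i) := by
        rw [Finset.smul_sum]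
        refine Finset.sum_congr rfl fun i _ => ?_
        rw [map_smul, ← algebraMap_smul A (a i), ha i, smul_assoc]
      rw [this, hc, smul_zero]
    have h1' : φ (∑ i, a i • x i) = φ 0 := by rw [h1, map_zero]
    obtain ⟨v, hv⟩ := IsLocalizedModule.exists_of_eq (S := q.primeCompl) (f := φ) h1'
    have h2 : ∑ i, ((v : B) * a i) • x i = 0 := by
      have hv' : (v : B) • ∑ i, a i • x i = 0 := by
        have := hv
        rw [smul_zero] at this
        exact this
      rw [← hv', Finset.smul_sum]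
      exact Finset.sum_congr rfl fun i _ => mul_smul _ _ _
    have h3 := hC _ h2 i
    have h4 : algebraMap B A (g₂ * ((v : B) * a i)) ∈ K.map (algebraMap B A) :=
      Ideal.mem_map_of_mem _ h3
    have h5 : algebraMap B A (g₂ * ((v : B) * a i)) =
        c i * algebraMap B A (g₂ * (v : B) * (t : B)) := by
      rw [map_mul, map_mul, ha i, Algebra.smul_def]
      simp only [map_mul]
      ring
    rw [h5] at h4
    have hunit : IsUnit (algebraMap B A (g₂ * (v : B) * (t : B))) := IsLocalization.map_units A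
      (⟨g₂ * (v : B) * (t : B),
        q.primeCompl.mul_mem (q.primeCompl.mul_mem hg₂q v.2) t.2⟩ : q.primeCompl)
    exact (Ideal.mul_unit_mem_iff_mem _ hunit).mp h4

end Spread

section Main

variable {B : Type u} [CommRing B] [IsNoetherianRing B] (K : Ideal B) (M : Type u)
  [AddCommGroup M] [Module B M] [Module.Finite B M]

omit [IsNoetherianRing B] in
theorem map_le_maximalIdeal {q : Ideal B} [q.IsPrime] (hKq : K ≤ q) (A : Type u) [CommRing A]
    [IsLocalRing A] [Algebra B A] [IsLocalization.AtPrime A q] :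
    K.map (algebraMap B A) ≤ maximalIdeal A := by
  rw [Ideal.map_le_iff_le_comap]
  have h := IsLocalization.AtPrime.under_maximalIdeal A q
  rw [Ideal.under_def] at h
  rw [h]
  exact hKq

/-- Local constancy of the numerical character `ν_k` of a module normally flat at a prime. -/
theorem nu_locally_constant (k : ℕ) (q₀ : Ideal B) [q₀.IsPrime] (hKq₀ : K ≤ q₀)
    (A₀ : Type u) [CommRing A₀] [IsLocalRing A₀] [Algebra B A₀] [IsLocalization.AtPrime A₀ q₀]
    (M₀ : Type u) [AddCommGroup M₀] [Module B M₀] [Module A₀ M₀] [IsScalarTower B A₀ M₀]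
    (f₀ : M →ₗ[B] M₀) [IsLocalizedModule q₀.primeCompl f₀]
    (K₀ : Ideal A₀) (hK₀ : K₀ = K.map (algebraMap B A₀))
    (hflat : Module.Flat (A₀ ⧸ K₀) (Gr K₀ M₀ k)) :
    ∃ g : B, g ∉ q₀ ∧ ∀ (q : Ideal B) [q.IsPrime], K ≤ q → g ∉ q →
      ∀ (A : Type u) [CommRing A] [IsLocalRing A] [Algebra B A] [IsLocalization.AtPrime A q]
        (M' : Type u) [AddCommGroup M'] [Module B M'] [Module A M'] [IsScalarTower B A M']
        (f : M →ₗ[B] M') [IsLocalizedModule q.primeCompl f]
        (K' : Ideal A) (_ : K' = K.map (algebraMap B A)),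
        nu A (Gr K' M' k) = nu A₀ (Gr K₀ M₀ k) := by
  subst hK₀
  have hK₀m := map_le_maximalIdeal K hKq₀ A₀
  haveI : IsNoetherianRing A₀ := IsLocalization.isNoetherianRing q₀.primeCompl A₀ inferInstance
  haveI : Module.Finite A₀ M₀ := Module.Finite.of_isLocalizedModule q₀.primeCompl f₀
  haveI : Module.Finite A₀ (Gr (K.map (algebraMap B A₀)) M₀ k) := inferInstance
  have hrf := relFree_of_flat (K.map (algebraMap B A₀)) hK₀m (Gr (K.map (algebraMap B A₀)) M₀ k)
  haveI : Module.Finite B (Gr K M k) := inferInstance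
  obtain ⟨g, hg, hspread⟩ := relFree_spread K (Gr K M k) q₀ A₀ (grMap A₀ f₀ K k) hrf
  refine ⟨g, hg, ?_⟩
  intro q _ hKq hgq A _ _ _ _ M' _ _ _ _ f _ K' hK'
  subst hK'
  have h1 := hspread q hgq A (Gr (K.map (algebraMap B A)) M' k) (grMap A f K k)
  rw [nu_eq_of_relFree (map_le_maximalIdeal K hKq A) h1, nu_eq_of_relFree hK₀m hrf]

end Main

end Groth.Agent.H29.NFConst
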