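import Mathlib
import Groth.Agent.H69.DirColim
import Groth.Agent.H15.NilPair.Base
import Groth.Agent.H15.NilPair.Defs
import Groth.Agent.H15.NilPair.Sys
import Groth.Agent.H15.NilPair.Lemmas

/-!
# (KB) for the S18016 squad (helper29): kernel of `colim B_j → B`
-/

set_option autoImplicit false
set_option maxHeartbeats 400000
universe u
open CategoryTheory MvPolynomial Limits
open Groth.Agent.H69 Groth.Agent.H15.NilPair
open scoped Classical

namespace Groth.Agent.H29.NilPair_KB

variable {R B D D' P : Type u} [CommRing R] [CommRing B] [CommRing D] [CommRing D'] [CommRing P]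
  [Algebra R B] [Algebra R D] [Algebra R D'] [Algebra R P]
variable {f : B →ₐ[R] D} {i : D' →ₐ[R] D} {q₁ : P →ₐ[R] B} {q₂ : P →ₐ[R] D'}

/-- (KB) -/
theorem ker_B (hw : ∀ p, f (q₁ p) = i (q₂ p))
    (hnil : ∀ x ∈ RingHom.ker i.toRingHom, IsNilpotent x) :
    ∀ (j : J f i q₁ q₂) (x : FB j), toB j x = 0 → ∃ (k : J f i q₁ q₂) (h : j ≤ k), trB h x = 0 := by
  intro j x hx
  obtain ⟨⟨g, hg⟩, rfl⟩ := mkq_surjective _ _ x
  obtain ⟨c1, c2, c3, c4, c5, c6, c7⟩ := j.2
  have hB : evB q₁ D' g = 0 := hx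
  have hD : evD i q₂ g = 0 := by
    rw [evD_eq_f_evB hw g hg, hB, map_zero]
  have hker : evD' q₂ g ∈ RingHom.ker i.toRingHom := by
    rw [RingHom.mem_ker]
    exact hD
  obtain ⟨n, hn⟩ := hnil _ hker
  have hn1 : (evD' q₂ g) ^ (n + 1) = 0 := by rw [pow_succ, hn, zero_mul]
  have hgD : g ∈ PS R j.1.WD := PS_mono Raw.WB_sub_WD hg
  -- the new index
  let kr : Raw R P D' :=
    { Z := j.1.Z, S := j.1.S, TB := insert g j.1.TB, T' := insert (g ^ (n + 1)) j.1.T', N := j.1.N }
  have hle : j.1 ≤ kr :=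
    ⟨subset_rfl, subset_rfl, Finset.subset_insert _ _, Finset.subset_insert _ _, subset_rfl⟩
  have hWB : kr.WB = j.1.WB := rfl
  have hWD : kr.WD = j.1.WD := rfl
  have hvalid : Valid f i q₁ q₂ kr := by
    refine ⟨?_, ?_, ?_, ?_, ?_, ?_, ?_⟩
    · intro t ht
      rcases Finset.mem_insert.mp ht with rfl | ht
      · exact ⟨hg, hB, hD⟩
      · exact c1 t ht
    · intro t ht
      rcases Finset.mem_insert.mp ht with rfl | ht
      · refine ⟨Subalgebra.pow_mem _ hgD _, ?_⟩
        rw [map_pow, hn1]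
      · exact c2 t ht
    · exact c3
    · intro y hy
      have hy' : (y : MvPolynomial (P ⊕ D') R) = g ∨
          (y : MvPolynomial (P ⊕ D') R) ∈ j.1.TB ∪ j.1.N := by
        rcases Finset.mem_union.mp hy with h | h
        · rcases Finset.mem_insert.mp h with h | h
          · exact Or.inl h
          · exact Or.inr (Finset.mem_union_left _ h)
        · exact Or.inr (Finset.mem_union_right _ h)
      rcases hy' with h | h
      · refine ⟨n + 1, ?_⟩
        rw [← map_pow]
        refine mkq_eq_zero _ ?_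
        show ((y ^ (n + 1) : PS R kr.WD) : MvPolynomial (P ⊕ D') R) ∈ insert (g ^ (n + 1)) j.1.T'
        rw [SubmonoidClass.coe_pow, h]
        exact Finset.mem_insert_self _ _
      · exact nil_transfer_D' hle (y : MvPolynomial (P ⊕ D') R) y.2 (c4 y h)
    · exact c5
    · intro hs hfn y hy
      have hy' : (y : MvPolynomial (P ⊕ D') R) = g ^ (n + 1) ∨
          (y : MvPolynomial (P ⊕ D') R) ∈ j.1.T' ∪ j.1.N := by
        rcases Finset.mem_union.mp hy with h | h
        · rcases Finset.mem_insert.mp h with h | h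
          · exact Or.inl h
          · exact Or.inr (Finset.mem_union_left _ h)
        · exact Or.inr (Finset.mem_union_right _ h)
      rcases hy' with h | h
      · have e : y = (⟨g, hg⟩ : PS R kr.WB) ^ (n + 1) := by
          apply Subtype.ext
          rw [SubmonoidClass.coe_pow]
          exact h
        have hz : mkq kr.WB kr.TB (⟨g, hg⟩ : PS R kr.WB) = 0 :=
          mkq_eq_zero _ (Finset.mem_insert_self _ _)
        rw [e, map_pow, hz, zero_pow (Nat.succ_ne_zero n)]
        exact IsNilpotent.zero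
      · exact nil_transfer_B hle (y : MvPolynomial (P ⊕ D') R) y.2 (c6 hs hfn y h)
    · intro hint s hs
      exact int_transfer hle (X (Sum.inr s)) (X_mem_PS (Finset.inr_mem_disjSum.mpr hs))
        (c7 hint s hs)
  refine ⟨⟨kr, hvalid⟩, hle, ?_⟩
  show tr _ _ (mkq j.1.WB j.1.TB ⟨g, hg⟩) = 0
  rw [tr_mkq]
  exact mkq_eq_zero _ (Finset.mem_insert_self _ _)

end Groth.Agent.H29.NilPair_KB
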