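import Mathlib
import Groth.Agent.S2612
import Groth.Agent.H29.GenDepth
import Groth.Agent.H29.FlatCM

/-!
# Normal flatness along a nilpotent ideal, localized at primes (towards S4734)

For a Noetherian ring `A`, a nilpotent ideal `I` and a finite `A`-module `M` normally flat along `I`,
`depth M_q = depth (A/I)_q` for all primes `q` in the support of `M`.
-/

set_option autoImplicit false
set_option linter.style.haveILetI false
set_option linter.unusedSectionVars false
set_option maxHeartbeats 400000

universe u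

open Function IsLocalRing
open Groth.Agent.H29.GenDepth

namespace Groth.Agent.H29.NormFlatLoc

variable {A : Type u} [CommRing A] [IsNoetherianRing A]

theorem dep_ideal_congr (q q' : Ideal A) [q.IsPrime] [q'.IsPrime] (h : q = q') (N : Type u)
    [AddCommGroup N] [Module A N] : dep q N = dep q' N := by
  subst h; rfl

theorem nontrivial_ideal_congr (q q' : Ideal A) [q.IsPrime] [q'.IsPrime] (h : q = q') (N : Type u)
    [AddCommGroup N] [Module A N] (hn : Nontrivial (LocalizedModule q.primeCompl N)) :
    Nontrivial (LocalizedModule q'.primeCompl N) := by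
  subst h; exact hn

section SES

variable {N₁ N₂ N₃ : Type u} [AddCommGroup N₁] [Module A N₁] [Module.Finite A N₁]
  [AddCommGroup N₂] [Module A N₂] [Module.Finite A N₂]
  [AddCommGroup N₃] [Module A N₃] [Module.Finite A N₃]
  (f : N₁ →ₗ[A] N₂) (g : N₂ →ₗ[A] N₃)

theorem le_dep_mid' (hf : Injective f) (hfg : Function.Exact f g) (hg : Surjective g)
    (q : Ideal A) [q.IsPrime] (δ : ℕ∞) (h₁ : δ ≤ dep q N₁) (h₃ : δ ≤ dep q N₃) :
    δ ≤ dep q N₂ :=
  Groth.Agent.S2612.le_depth_mid (maximalIdeal (Localization.AtPrime q))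
    (LocalizedModule.map q.primeCompl f) (LocalizedModule.map q.primeCompl g)
    (LocalizedModule.map_injective _ f hf) (LocalizedModule.map_exact _ f g hfg)
    (LocalizedModule.map_surjective _ g hg) δ h₁ h₃

theorem dep_eq_mid (hf : Injective f) (hfg : Function.Exact f g) (hg : Surjective g)
    (q : Ideal A) [q.IsPrime] (h₁ : dep q N₁ ≤ dep q N₃) : dep q N₂ = dep q N₁ :=
  Groth.Agent.S2612.depth_eq_mid (maximalIdeal (Localization.AtPrime q))
    (LocalizedModule.map q.primeCompl f) (LocalizedModule.map q.primeCompl g)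
    (LocalizedModule.map_injective _ f hf) (LocalizedModule.map_exact _ f g hfg)
    (LocalizedModule.map_surjective _ g hg) h₁

/-- If `(N₁)_q = 0` then `N₂` and `N₃` have the same depth at `q`. -/
theorem dep_eq_of_subsingleton (hfg : Function.Exact f g) (hg : Surjective g)
    (q : Ideal A) [q.IsPrime] (h₁ : Subsingleton (LocalizedModule q.primeCompl N₁)) :
    dep q N₂ = dep q N₃ := by
  have hex := LocalizedModule.map_exact q.primeCompl f g hfg
  have hsurj := LocalizedModule.map_surjective q.primeCompl g hg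
  have hinj : Injective (LocalizedModule.map q.primeCompl g) := by
    rw [injective_iff_map_eq_zero]
    intro x hx
    obtain ⟨y, rfl⟩ := (hex x).mp hx
    rw [Subsingleton.elim y 0, map_zero]
  exact Groth.Agent.H29.CM.idealDepth_congr
    (LinearEquiv.ofBijective (LocalizedModule.map q.primeCompl g) ⟨hinj, hsurj⟩)

end SES

section Transfer

variable (I : Ideal A) (qb : Ideal (A ⧸ I)) [qb.IsPrime]

theorem algebraMapSubmonoid_primeCompl :
    Algebra.algebraMapSubmonoid (A ⧸ I) (qb.comap (Ideal.Quotient.mk I)).primeCompl =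
      qb.primeCompl := by
  ext x
  constructor
  · rintro ⟨a, ha, rfl⟩
    exact ha
  · intro hx
    obtain ⟨a, rfl⟩ := Ideal.Quotient.mk_surjective x
    exact ⟨a, hx, rfl⟩

/-- Depth at a prime of `A/I` of an `A/I`-module equals the depth at the preimage prime of `A`. -/
theorem dep_eq_depth_quot (N : Type u) [AddCommGroup N] [Module A N] [Module (A ⧸ I) N]
    [IsScalarTower A (A ⧸ I) N] [Module.Finite A N] :
    dep (qb.comap (Ideal.Quotient.mk I)) N =
      LocCoh.depth (Localization.AtPrime qb) (LocalizedModule qb.primeCompl N) := by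
  set q := qb.comap (Ideal.Quotient.mk I) with hq
  let φ : Localization.AtPrime q →+* Localization.AtPrime qb :=
    Localization.localRingHom q qb (Ideal.Quotient.mk I) rfl
  letI : Algebra (Localization.AtPrime q) (Localization.AtPrime qb) := φ.toAlgebra
  have hφ : Function.Surjective (algebraMap (Localization.AtPrime q) (Localization.AtPrime qb)) :=
    RingHom.surjective_localRingHom_of_surjective (Ideal.Quotient.mk I)
      Ideal.Quotient.mk_surjective qb
  letI : Module (Localization.AtPrime q) (LocalizedModule qb.primeCompl N) :=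
    Module.compHom _ φ
  haveI : IsScalarTower (Localization.AtPrime q) (Localization.AtPrime qb)
      (LocalizedModule qb.primeCompl N) :=
    IsScalarTower.of_algebraMap_smul fun _ _ => rfl
  haveI : IsScalarTower A (Localization.AtPrime q) (LocalizedModule qb.primeCompl N) := by
    refine IsScalarTower.of_algebraMap_smul fun a x => ?_
    show φ (algebraMap A (Localization.AtPrime q) a) • x = a • x
    rw [Localization.localRingHom_to_map]
    show algebraMap (A ⧸ I) (Localization.AtPrime qb) (Ideal.Quotient.mk I a) • x = a • x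
    rw [algebraMap_smul]
    exact algebraMap_smul (A ⧸ I) a x
  haveI h1 : IsLocalizedModule (Algebra.algebraMapSubmonoid (A ⧸ I) q.primeCompl)
      (LocalizedModule.mkLinearMap qb.primeCompl N) := by
    rw [algebraMapSubmonoid_primeCompl]
    infer_instance
  haveI h2 : IsLocalizedModule q.primeCompl
      ((LocalizedModule.mkLinearMap qb.primeCompl N).restrictScalars A) :=
    IsLocalizedModule.restrictScalars q.primeCompl _
  let e₀ : LocalizedModule q.primeCompl N ≃ₗ[A] LocalizedModule qb.primeCompl N :=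
    IsLocalizedModule.iso q.primeCompl
      ((LocalizedModule.mkLinearMap qb.primeCompl N).restrictScalars A)
  let e : LocalizedModule q.primeCompl N ≃ₗ[Localization.AtPrime q]
      LocalizedModule qb.primeCompl N :=
    e₀.extendScalarsOfIsLocalization q.primeCompl (Localization.AtPrime q)
  haveI : Module.Finite (A ⧸ I) N := Module.Finite.of_restrictScalars_finite A (A ⧸ I) N
  haveI : Module.Finite (Localization.AtPrime q) (LocalizedModule qb.primeCompl N) :=
    Module.Finite.equiv e
  have h3 := Groth.Agent.H29.FlatCM.depth_eq_of_surjective hφ (LocalizedModule qb.primeCompl N)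
  rw [h3]
  exact Groth.Agent.H29.CM.idealDepth_congr e

end Transfer

section Flat

variable (I : Ideal A)

/-- A finite `A/I`-flat module has, at each prime `q ⊇ I`, depth at least that of `A/I`, with
equality if its localization at `q` is nonzero. -/
theorem dep_flat_quot_aux (qb : Ideal (A ⧸ I)) [qb.IsPrime] (N : Type u) [AddCommGroup N]
    [Module A N] [Module (A ⧸ I) N] [IsScalarTower A (A ⧸ I) N] [Module.Finite A N]
    [Module.Flat (A ⧸ I) N] :
    dep (qb.comap (Ideal.Quotient.mk I)) (A ⧸ I) ≤ dep (qb.comap (Ideal.Quotient.mk I)) N ∧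
      (Nontrivial (LocalizedModule (qb.comap (Ideal.Quotient.mk I)).primeCompl N) →
        dep (qb.comap (Ideal.Quotient.mk I)) N = dep (qb.comap (Ideal.Quotient.mk I)) (A ⧸ I)) := by
  haveI : Module.Finite (A ⧸ I) N := Module.Finite.of_restrictScalars_finite A (A ⧸ I) N
  have hN := dep_eq_depth_quot I qb N
  have hA := dep_eq_depth_quot I qb (A ⧸ I)
  -- `(A/I)_qb` as a localized module of `A/I`
  let e₁ : LocalizedModule qb.primeCompl (A ⧸ I) ≃ₗ[A ⧸ I] Localization.AtPrime qb :=
    IsLocalizedModule.iso qb.primeCompl (Algebra.linearMap (A ⧸ I) (Localization.AtPrime qb))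
  let e₂ : LocalizedModule qb.primeCompl (A ⧸ I) ≃ₗ[Localization.AtPrime qb]
      Localization.AtPrime qb :=
    e₁.extendScalarsOfIsLocalization qb.primeCompl (Localization.AtPrime qb)
  have hA' : dep (qb.comap (Ideal.Quotient.mk I)) (A ⧸ I) =
      LocCoh.depth (Localization.AtPrime qb) (Localization.AtPrime qb) := by
    exact hA.trans (Groth.Agent.H29.CM.idealDepth_congr e₂)
  haveI : Module.Free (Localization.AtPrime qb) (LocalizedModule qb.primeCompl N) :=
    Module.free_of_flat_of_isLocalRing
  let e₃ := (Module.finBasis (Localization.AtPrime qb) (LocalizedModule qb.primeCompl N)).equivFun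
  have hN' : dep (qb.comap (Ideal.Quotient.mk I)) N =
      LocCoh.idealDepth (maximalIdeal (Localization.AtPrime qb))
        (Fin (Module.finrank (Localization.AtPrime qb) (LocalizedModule qb.primeCompl N)) →
          Localization.AtPrime qb) := by
    rw [hN]
    exact Groth.Agent.H29.CM.idealDepth_congr e₃
  refine ⟨?_, fun hnt => ?_⟩
  · rw [hA', hN']
    exact Groth.Agent.S2612.le_depth_pi _ _ _ le_rfl _
  · rw [hA', hN']
    obtain ⟨r, hr⟩ : ∃ r, Module.finrank (Localization.AtPrime qb)
        (LocalizedModule qb.primeCompl N) = r + 1 := by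
      refine ⟨_, (Nat.succ_pred_eq_of_pos ?_).symm⟩
      rw [Module.finrank_pos_iff_of_free]
      by_contra hsub
      rw [not_nontrivial_iff_subsingleton] at hsub
      have h0 : dep (qb.comap (Ideal.Quotient.mk I)) N = ⊤ := by
        rw [hN]; exact Groth.Agent.H15.Depth.idealDepth_eq_top_of_subsingleton
      obtain ⟨k, hk⟩ := exists_nat_dep N (qb.comap (Ideal.Quotient.mk I)) hnt
      rw [hk] at h0
      exact ENat.natCast_ne_top _ h0
    rw [hr]
    exact Groth.Agent.S2612.depth_pi_succ _ _ r

theorem dep_flat_quot (q : Ideal A) [q.IsPrime] (hIq : I ≤ q) (N : Type u) [AddCommGroup N]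
    [Module A N] [Module (A ⧸ I) N] [IsScalarTower A (A ⧸ I) N] [Module.Finite A N]
    [Module.Flat (A ⧸ I) N] :
    dep q (A ⧸ I) ≤ dep q N ∧
      (Nontrivial (LocalizedModule q.primeCompl N) → dep q N = dep q (A ⧸ I)) := by
  haveI hqb : (q.map (Ideal.Quotient.mk I)).IsPrime :=
    Ideal.map_isPrime_of_surjective Ideal.Quotient.mk_surjective (by rwa [Ideal.mk_ker])
  have hcm : (q.map (Ideal.Quotient.mk I)).comap (Ideal.Quotient.mk I) = q := by
    rw [Ideal.comap_map_of_surjective _ Ideal.Quotient.mk_surjective, ← RingHom.ker_eq_comap_bot,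
      Ideal.mk_ker, sup_eq_left.mpr hIq]
  obtain ⟨h1, h2⟩ := dep_flat_quot_aux I (q.map (Ideal.Quotient.mk I)) N
  have c1 := dep_ideal_congr _ q hcm N
  have c2 := dep_ideal_congr _ q hcm (A ⧸ I)
  rw [c1, c2] at h1 h2
  exact ⟨h1, fun hnt => h2 (nontrivial_ideal_congr q _ hcm.symm N hnt)⟩

end Flat

section Main

open Groth.Agent.S2612

theorem subsingleton_loc_of_injective {N N' : Type u} [AddCommGroup N] [Module A N]
    [AddCommGroup N'] [Module A N'] (S : Submonoid A) (f : N →ₗ[A] N') (hf : Injective f)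
    (h : Subsingleton (LocalizedModule S N')) : Subsingleton (LocalizedModule S N) :=
  (LocalizedModule.map_injective S f hf).subsingleton

theorem nontrivial_loc_of_injective {N N' : Type u} [AddCommGroup N] [Module A N]
    [AddCommGroup N'] [Module A N'] (S : Submonoid A) (f : N →ₗ[A] N') (hf : Injective f)
    (h : Nontrivial (LocalizedModule S N)) : Nontrivial (LocalizedModule S N') :=
  (LocalizedModule.map_injective S f hf).nontrivial

variable (I : Ideal A) (M : Type u) [AddCommGroup M] [Module A M] [Module.Finite A M]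

theorem le_of_isNilpotent (hI : IsNilpotent I) (q : Ideal A) [hq : q.IsPrime] : I ≤ q := by
  obtain ⟨k, hk⟩ := hI
  intro x hx
  have h := Ideal.pow_mem_pow hx k
  rw [hk, Ideal.zero_eq_bot, Ideal.mem_bot] at h
  exact hq.mem_of_pow_mem k (h ▸ q.zero_mem)

omit [IsNoetherianRing A] [Module.Finite A M] in
theorem exists_injective_to_succ (n : ℕ) :
    ∃ j : ↥(I • ⊤ : Submodule A ↥(Mn I M n)) →ₗ[A] ↥(Mn I M (n + 1)), Injective j := by
  let j : ↥(I • ⊤ : Submodule A ↥(Mn I M n)) →ₗ[A] ↥(Mn I M (n + 1)) :=
    LinearMap.codRestrict (Mn I M (n + 1))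
      ((Mn I M n).subtype ∘ₗ (I • ⊤ : Submodule A ↥(Mn I M n)).subtype)
      (fun x => coe_mem_succ I M n x.1 x.2)
  have hjval : ∀ x, ((j x : ↥(Mn I M (n + 1))) : M) = ((x : ↥(Mn I M n)) : M) := fun x => rfl
  refine ⟨j, fun x y hxy => ?_⟩
  have h3 : ((x : ↥(Mn I M n)) : M) = ((y : ↥(Mn I M n)) : M) := by
    rw [← hjval x, ← hjval y, hxy]
  exact Subtype.ext (Subtype.ext h3)

/-- **Depth of a normally flat module at a prime** (nilpotent ideal). -/
theorem dep_eq_of_normallyFlat (hI : IsNilpotent I) (hM : EGA4.IsNormallyFlat I M) (q : Ideal A)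
    [q.IsPrime] (hq : Nontrivial (LocalizedModule q.primeCompl M)) :
    dep q M = dep q (A ⧸ I) := by
  classical
  have hIq : I ≤ q := le_of_isNilpotent I hI q
  obtain ⟨δ, hδ⟩ : ∃ δ : ℕ∞, δ = dep q (A ⧸ I) := ⟨_, rfl⟩
  have hG : ∀ n, δ ≤ dep q (Gr I M n) ∧
      (Nontrivial (LocalizedModule q.primeCompl (Gr I M n)) → dep q (Gr I M n) = δ) := fun n => by
    haveI : Module.Flat (A ⧸ I) (Gr I M n) := hM n
    rw [hδ]
    exact dep_flat_quot I q hIq (Gr I M n)
  have hMn0 : Mn I M 0 = ⊤ := by
    show I ^ 0 • (⊤ : Submodule A M) = ⊤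
    rw [pow_zero, Ideal.one_eq_top, Submodule.top_smul]
  have hP : ∀ n, δ ≤ dep q (M ⧸ Mn I M n) := by
    intro n
    induction n with
    | zero =>
      haveI : Subsingleton (M ⧸ Mn I M 0) := Submodule.Quotient.subsingleton_iff.mpr hMn0
      rw [dep_eq_top_of_subsingleton _ q inferInstance]
      exact le_top
    | succ n ih =>
      exact le_dep_mid' (α I M n) (β I M n) (α_injective I M n) (αβ_exact I M n)
        (β_surjective I M n) q δ (hG n).1 ih
  obtain ⟨k, hk⟩ := hI
  have hex : ∃ n, Subsingleton (LocalizedModule q.primeCompl ↥(Mn I M (n + 1))) := ⟨k, by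
    have hbot : Mn I M (k + 1) = ⊥ := by
      show I ^ (k + 1) • (⊤ : Submodule A M) = ⊥
      rw [pow_succ, hk, zero_mul, Ideal.zero_eq_bot, Submodule.bot_smul]
    rw [hbot]
    infer_instance⟩
  obtain ⟨n₀, h0, hmin⟩ : ∃ n₀, Subsingleton (LocalizedModule q.primeCompl ↥(Mn I M (n₀ + 1))) ∧
      ∀ m < n₀, ¬ Subsingleton (LocalizedModule q.primeCompl ↥(Mn I M (m + 1))) :=
    ⟨Nat.find hex, Nat.find_spec hex, fun m hm => Nat.find_min hex hm⟩
  have h1 : Nontrivial (LocalizedModule q.primeCompl ↥(Mn I M n₀)) := by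
    rcases Nat.eq_zero_or_pos n₀ with hz | hpos
    · rw [hz]
      let e : M ≃ₗ[A] ↥(Mn I M 0) :=
        (Submodule.topEquiv.symm).trans (LinearEquiv.ofEq _ _ hMn0.symm)
      exact nontrivial_loc_of_injective q.primeCompl e.toLinearMap e.injective hq
    · have h2 := hmin (n₀ - 1) (by omega)
      rw [Nat.sub_add_cancel hpos] at h2
      exact not_subsingleton_iff_nontrivial.mp h2
  -- the kernel of `I^{n₀}M → gr_{n₀}` vanishes at `q`
  have hK : Subsingleton (LocalizedModule q.primeCompl
      ↥(I • ⊤ : Submodule A ↥(Mn I M n₀))) := by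
    obtain ⟨j, hj⟩ := exists_injective_to_succ I M n₀
    exact subsingleton_loc_of_injective q.primeCompl j hj h0
  have h2 : dep q ↥(Mn I M n₀) = dep q (Gr I M n₀) :=
    dep_eq_of_subsingleton (I • ⊤ : Submodule A ↥(Mn I M n₀)).subtype
      (I • ⊤ : Submodule A ↥(Mn I M n₀)).mkQ (LinearMap.exact_subtype_mkQ _)
      (Submodule.mkQ_surjective _) q hK
  have h3 : Nontrivial (LocalizedModule q.primeCompl (Gr I M n₀)) := by
    by_contra hsub
    rw [not_nontrivial_iff_subsingleton] at hsub
    have h4 : dep q (Gr I M n₀) = ⊤ := dep_eq_top_of_subsingleton _ q hsub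
    obtain ⟨d, hd⟩ := exists_nat_dep ↥(Mn I M n₀) q h1
    rw [h2, h4] at hd
    exact ENat.top_ne_natCast _ hd
  have h5 : dep q ↥(Mn I M n₀) = δ := h2.trans ((hG n₀).2 h3)
  rw [← hδ, ← h5]
  exact dep_eq_mid (Mn I M n₀).subtype (Mn I M n₀).mkQ (Mn I M n₀).injective_subtype
    (LinearMap.exact_subtype_mkQ _) (Submodule.mkQ_surjective _) q (by rw [h5]; exact hP n₀)

end Main

section Dim

omit [IsNoetherianRing A] in
theorem height_congr (S S' : Set (PrimeSpectrum A)) (h : S = S') (x : PrimeSpectrum A)
    (hx : x ∈ S) (hx' : x ∈ S') :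
    Order.height (⟨x, hx⟩ : ↥S) = Order.height (⟨x, hx'⟩ : ↥S') := by
  subst h; rfl

omit [IsNoetherianRing A] in
/-- The dimension of the localization only depends on the support. -/
theorem sdim_eq_of_support_eq (N N' : Type u) [AddCommGroup N] [Module A N]
    [AddCommGroup N'] [Module A N']
    (h : Module.support A N = Module.support A N') (q : Ideal A) [hq : q.IsPrime] :
    sdim q N = sdim q N' := by
  by_cases hqN : (⟨q, hq⟩ : PrimeSpectrum A) ∈ Module.support A N
  · have hqN' : (⟨q, hq⟩ : PrimeSpectrum A) ∈ Module.support A N' := h ▸ hqN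
    have h1 := Groth.Agent.H29.FinDimDepth.supportDim_atPrime_eq_height (M := N) ⟨q, hq⟩ hqN
    have h2 := Groth.Agent.H29.FinDimDepth.supportDim_atPrime_eq_height (M := N') ⟨q, hq⟩ hqN'
    show Module.supportDim _ _ = Module.supportDim _ _
    rw [h1, h2, height_congr _ _ h ⟨q, hq⟩ hqN hqN']
  · have hqN' : (⟨q, hq⟩ : PrimeSpectrum A) ∉ Module.support A N' := h ▸ hqN
    rw [Module.mem_support_iff, not_nontrivial_iff_subsingleton] at hqN hqN'
    show Module.supportDim _ _ = Module.supportDim _ _
    rw [Module.supportDim_eq_bot_of_subsingleton, Module.supportDim_eq_bot_of_subsingleton]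

omit [IsNoetherianRing A] in
theorem support_quotient_of_isNilpotent (I : Ideal A) (hI : IsNilpotent I) :
    Module.support A (A ⧸ I) = Set.univ := by
  ext p
  simp only [Set.mem_univ, iff_true]
  rw [Module.mem_support_iff_of_finite, Ideal.annihilator_quotient]
  obtain ⟨k, hk⟩ := hI
  intro x hx
  have h := Ideal.pow_mem_pow hx k
  rw [hk, Ideal.zero_eq_bot, Ideal.mem_bot] at h
  exact p.isPrime.mem_of_pow_mem k (h ▸ p.asIdeal.zero_mem)

end Dim

/-- **S4734 core**: for `M` normally flat along a nilpotent ideal `I` with full support, dimension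
and depth of `M_q` agree with those of `(A/I)_q` for every prime `q`. -/
theorem sdim_dep_eq (I : Ideal A) (hI : IsNilpotent I) (M : Type u) [AddCommGroup M] [Module A M]
    [Module.Finite A M] (hsupp : Module.support A M = Set.univ) (hM : EGA4.IsNormallyFlat I M)
    (q : Ideal A) [hq : q.IsPrime] :
    sdim q M = sdim q (A ⧸ I) ∧ dep q M = dep q (A ⧸ I) := by
  refine ⟨sdim_eq_of_support_eq M (A ⧸ I)
    (hsupp.trans (support_quotient_of_isNilpotent I hI).symm) q, ?_⟩
  have hqM : (⟨q, hq⟩ : PrimeSpectrum A) ∈ Module.support A M := hsupp ▸ Set.mem_univ _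
  exact dep_eq_of_normallyFlat I M hI hM q (Module.mem_support_iff.mp hqM)

end Groth.Agent.H29.NormFlatLoc
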