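import Mathlib
import Groth.Prelude.Def_DRing2
import Groth.Agent.H35.TorBridge
import Groth.Agent.H82.TorLib
import Groth.Agent.H71.SerreRegular
import Groth.Agent.H71.Vasconcelos

/-!
# (SE) for helper3's S2206/S6503 squad: Serre's regularity criterion in Tor form.
-/

set_option autoImplicit false
set_option linter.style.haveILetI false
set_option maxHeartbeats 400000

universe u

open TensorProduct CategoryTheory CategoryTheory.Limits

namespace Groth.Agent.H29.PD_SE

open DRing

/-- Dimension shifting for Tor-dimension: the kernel of a surjection from a flat module onto a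
module of Tor-dimension `≤ d + 1` has Tor-dimension `≤ d`. -/
theorem hasTorDimLE_of_ses {R : Type u} [CommRing R] {N F M : Type u}
    [AddCommGroup N] [Module R N] [AddCommGroup F] [Module R F] [AddCommGroup M] [Module R M]
    (f : N →ₗ[R] F) (g : F →ₗ[R] M) (hinj : Function.Injective f) (hex : Function.Exact f g)
    (hsurj : Function.Surjective g) [Module.Flat R F] (d : ℕ)
    (hM : HasTorDimLE R (d + 1) M) : HasTorDimLE R d N := by
  intro X _ _ p hp
  let S := ModuleCat.shortComplexOfCompEqZero f g hex.linearMap_comp_eq_zero
  have hS : S.ShortExact := ModuleCat.shortComplex_shortExact S hex hinj hsurj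
  obtain ⟨-, -, δ, w₁, w₂, e1, e2⟩ :=
    Groth.Agent.H82.TorLib.hasLES_tor_flip (ModuleCat.of R X) S hS p
  have h1 : IsZero (((Tor (ModuleCat.{u} R) (p + 1)).obj (ModuleCat.of R M)).obj
      (ModuleCat.of R X)) := by
    haveI : Subsingleton (((Tor (ModuleCat.{u} R) (p + 1)).obj (ModuleCat.of R M)).obj
      (ModuleCat.of R X)) := hM X (p + 1) (by omega)
    exact ModuleCat.isZero_of_subsingleton _
  have h3 : IsZero (((Tor (ModuleCat.{u} R) p).obj (ModuleCat.of R F)).obj
      (ModuleCat.of R X)) := by
    haveI : Subsingleton (((Tor (ModuleCat.{u} R) p).obj (ModuleCat.of R F)).obj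
      (ModuleCat.of R X)) :=
      (Groth.Agent.H35.TorAmp.hasTorDimLE_zero_iff_flat F).mpr inferInstance X p (by omega)
    exact ModuleCat.isZero_of_subsingleton _
  have h2 := e2.isZero_of_both_zeros (h1.eq_of_src _ _) (h3.eq_of_tgt _ _)
  exact ModuleCat.subsingleton_of_isZero h2

/-- finite modules of finite Tor-dimension over a Noetherian local ring have finite projective
dimension. -/
theorem finPD_of_hasTorDimLE (R : Type u) [CommRing R] [IsLocalRing R] [IsNoetherianRing R] :
    ∀ (d : ℕ) (M : Type u) [AddCommGroup M] [Module R M] [Module.Finite R M],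
      HasTorDimLE R d M → Groth.Agent.H71.SR.FinPD R M := by
  intro d
  induction d with
  | zero =>
    intro M _ _ _ hM
    haveI : Module.Flat R M := (Groth.Agent.H35.TorAmp.hasTorDimLE_zero_iff_flat M).mp hM
    haveI : Module.Free R M := Module.free_of_flat_of_isLocalRing
    refine ⟨1, ?_⟩
    rw [← projective_iff_hasProjectiveDimensionLT_one]
    exact (IsProjective.iff_projective (R := R) M).mp inferInstance
  | succ d ih =>
    intro M _ _ _ hM
    obtain ⟨n, g, hg⟩ := Module.Finite.exists_fin' R M
    have hN : Groth.Agent.H71.SR.FinPD R (LinearMap.ker g) :=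
      ih (LinearMap.ker g) (hasTorDimLE_of_ses (LinearMap.ker g).subtype g
        (Submodule.injective_subtype _) (LinearMap.exact_subtype_ker_map g) hg d hM)
    have hF : Groth.Agent.H71.SR.FinPD R (Fin n → R) := by
      refine ⟨1, ?_⟩
      rw [← projective_iff_hasProjectiveDimensionLT_one]
      exact (IsProjective.iff_projective (R := R) (Fin n → R)).mp inferInstance
    exact Groth.Agent.H71.VAS.finPD_of_ses_right (LinearMap.ker g).subtype g
      (Submodule.injective_subtype _) (LinearMap.exact_subtype_ker_map g) hg hN hF

/-- (SE) -/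
theorem isRegularLocalRing_of_hasFiniteTorDim_residueField (R : Type u) [CommRing R] [IsLocalRing R]
    [IsNoetherianRing R] (h : DRing.HasFiniteTorDim R (IsLocalRing.ResidueField R)) :
    IsRegularLocalRing R := by
  obtain ⟨d, hd⟩ := h
  exact Groth.Agent.H71.SR.regular_of_finPD R (finPD_of_hasTorDimLE R d _ hd)

end Groth.Agent.H29.PD_SE
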