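import Mathlib.RingTheory.Regular.RegularSequence

set_option autoImplicit false
universe u v v' v''

namespace Groth.Agent.H29

open RingTheory.Sequence Function Submodule QuotSMulTop
open scoped Pointwise

/-- A sequence weakly regular on the two ends of a short exact sequence is weakly regular on the middle. -/
theorem isWeaklyRegular_of_exact {R : Type u} [CommRing R] (rs : List R) :
    ∀ {M' : Type v} {M : Type v} {M'' : Type v} [AddCommGroup M'] [Module R M'] [AddCommGroup M]
      [Module R M] [AddCommGroup M''] [Module R M''] (f : M' →ₗ[R] M) (g : M →ₗ[R] M'')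
      (_ : Injective f) (_ : Exact f g) (_ : Surjective g)
      (_ : IsWeaklyRegular M' rs) (_ : IsWeaklyRegular M'' rs), IsWeaklyRegular M rs := by
  induction rs with
  | nil => intros; exact IsWeaklyRegular.nil R _
  | cons r rs ih =>
    intro M' M M'' _ _ _ _ _ _ f g hf hfg hg h' h''
    rw [isWeaklyRegular_cons_iff] at h' h'' ⊢
    refine ⟨isSMulRegular_of_range_eq_ker hf hfg.linearMap_ker_eq.symm h'.1 h''.1, ?_⟩
    refine ih (QuotSMulTop.map r f) (QuotSMulTop.map r g) ?_ (map_exact r hfg hg)
      (map_surjective r hg) h'.2 h''.2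
    have h0 : Exact (0 : PUnit.{v+1} →ₗ[R] M') f := by
      intro x
      constructor
      · intro hx
        exact ⟨0, by simpa using (hf (hx.trans (map_zero f).symm)).symm⟩
      · rintro ⟨y, rfl⟩
        simp
    have := map_first_exact_on_four_term_exact_of_isSMulRegular_last h0 hfg h''.1
    intro x y hxy
    have hx : (QuotSMulTop.map r f) (x - y) = 0 := by rw [map_sub, hxy, sub_self]
    obtain ⟨z, hz⟩ := (this (x - y)).mp hx
    have hz0 : z = 0 := Subsingleton.elim _ _
    rw [hz0, map_zero] at hz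
    exact sub_eq_zero.mp hz.symm

/-- If `a :: rs` and `b :: rs` are weakly regular then so is `(a * b) :: rs`. -/
theorem isWeaklyRegular_mul_cons {R : Type u} [CommRing R] {M : Type v} [AddCommGroup M] [Module R M]
    (a b : R) (rs : List R) (ha : IsWeaklyRegular M (a :: rs)) (hb : IsWeaklyRegular M (b :: rs)) :
    IsWeaklyRegular M ((a * b) :: rs) := by
  rw [isWeaklyRegular_cons_iff] at ha hb ⊢
  refine ⟨ha.1.mul hb.1, ?_⟩
  have h1 : a • (⊤ : Submodule R M) ≤ ((a * b) • (⊤ : Submodule R M)).comap (LinearMap.lsmul R M b) := by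
    intro x hx
    rw [Submodule.mem_smul_pointwise_iff_exists] at hx
    obtain ⟨y, -, rfl⟩ := hx
    rw [Submodule.mem_comap, Submodule.mem_smul_pointwise_iff_exists]
    exact ⟨y, trivial, by simp [mul_smul, smul_comm a b y]⟩
  have h2 : (a * b) • (⊤ : Submodule R M) ≤ (b • (⊤ : Submodule R M)).comap (LinearMap.id) := by
    intro x hx
    rw [Submodule.mem_smul_pointwise_iff_exists] at hx
    obtain ⟨y, -, rfl⟩ := hx
    rw [Submodule.mem_comap, Submodule.mem_smul_pointwise_iff_exists]
    exact ⟨a • y, trivial, by simp [mul_smul, smul_comm a b y]⟩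
  let φ : QuotSMulTop a M →ₗ[R] QuotSMulTop (a * b) M := Submodule.mapQ _ _ (LinearMap.lsmul R M b) h1
  let ψ : QuotSMulTop (a * b) M →ₗ[R] QuotSMulTop b M := Submodule.mapQ _ _ LinearMap.id h2
  refine isWeaklyRegular_of_exact rs φ ψ ?_ ?_ ?_ ha.2 hb.2
  · rw [← LinearMap.ker_eq_bot, eq_bot_iff]
    intro x hx
    obtain ⟨x, rfl⟩ := Submodule.Quotient.mk_surjective _ x
    rw [LinearMap.mem_ker] at hx
    change Submodule.Quotient.mk (b • x) = (0 : QuotSMulTop (a * b) M) at hx
    rw [Submodule.Quotient.mk_eq_zero, Submodule.mem_smul_pointwise_iff_exists] at hx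
    obtain ⟨y, -, hy⟩ := hx
    rw [mul_comm, mul_smul] at hy
    have := hb.1 hy
    rw [Submodule.mem_bot, Submodule.Quotient.mk_eq_zero, Submodule.mem_smul_pointwise_iff_exists]
    exact ⟨y, trivial, this⟩
  · intro x
    obtain ⟨x, rfl⟩ := Submodule.Quotient.mk_surjective _ x
    change Submodule.Quotient.mk x = (0 : QuotSMulTop b M) ↔ _
    rw [Submodule.Quotient.mk_eq_zero, Submodule.mem_smul_pointwise_iff_exists]
    constructor
    · rintro ⟨y, -, rfl⟩
      exact ⟨Submodule.Quotient.mk y, rfl⟩
    · rintro ⟨y, hy⟩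
      obtain ⟨y, rfl⟩ := Submodule.Quotient.mk_surjective _ y
      change Submodule.Quotient.mk (b • y) = (Submodule.Quotient.mk x : QuotSMulTop (a * b) M) at hy
      rw [Submodule.Quotient.eq, Submodule.mem_smul_pointwise_iff_exists] at hy
      obtain ⟨z, -, hz⟩ := hy
      refine ⟨y - a • z, trivial, ?_⟩
      rw [smul_sub, ← mul_smul, mul_comm b a, hz]
      abel
  · intro x
    obtain ⟨x, rfl⟩ := Submodule.Quotient.mk_surjective _ x
    exact ⟨Submodule.Quotient.mk x, rfl⟩

/-- If `r :: rs` is weakly regular then so is `r ^ (n + 1) :: rs`. -/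
theorem isWeaklyRegular_pow_cons {R : Type u} [CommRing R] {M : Type v} [AddCommGroup M] [Module R M]
    (r : R) (rs : List R) (h : IsWeaklyRegular M (r :: rs)) (n : ℕ) :
    IsWeaklyRegular M (r ^ (n + 1) :: rs) := by
  induction n with
  | zero => simpa using h
  | succ n ih =>
    rw [pow_succ]
    exact isWeaklyRegular_mul_cons _ _ rs ih h

/-- Powers of a weakly regular sequence form a weakly regular sequence. -/
theorem isWeaklyRegular_ofFn_pow {R : Type u} [CommRing R] (n : ℕ) :
    ∀ {M : Type v} [AddCommGroup M] [Module R M] (f : Fin n → R) (v : Fin n → ℕ) (_ : ∀ i, 1 ≤ v i)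
      (_ : IsWeaklyRegular M (List.ofFn f)), IsWeaklyRegular M (List.ofFn fun i => f i ^ v i) := by
  induction n with
  | zero => intros; simp
  | succ n ih =>
    intro M _ _ f v hv hf
    rw [List.ofFn_succ] at hf ⊢
    obtain ⟨k, hk⟩ := Nat.exists_eq_add_of_le (hv 0)
    have h1 : IsWeaklyRegular M (f 0 ^ v 0 :: List.ofFn fun i : Fin n => f i.succ) := by
      rw [hk, add_comm 1 k]
      exact isWeaklyRegular_pow_cons _ _ hf k
    rw [isWeaklyRegular_cons_iff] at h1 ⊢
    exact ⟨h1.1, ih (fun i => f i.succ) (fun i => v i.succ) (fun i => hv i.succ) h1.2⟩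

end Groth.Agent.H29
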