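import Groth.Agent.H58.LCBSeq

/-!
# Vanishing of local cohomology along an ordered list of elements (WP2 for S19758)
-/

set_option autoImplicit false
universe u

open CategoryTheory Limits
open Groth.Agent.H58.LC Groth.Agent.H58.LCBridge

namespace Groth.Agent.H29.SegWP2

theorem span_cons {T : Type u} [CommRing T] (b : T) (l' : List T) :
    Ideal.span {c | c ∈ b :: l'} = Ideal.span {c | c ∈ l'} ⊔ Ideal.span {b} := by
  have : {c | c ∈ b :: l'} = insert b {c | c ∈ l'} := by
    ext c
    simp [List.mem_cons]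
  rw [this, Ideal.span_insert, sup_comm]

theorem exists_div_pow {T : Type u} [CommRing T] (W : Type u) [AddCommGroup W] [Module T W]
    (a : Ideal T) (b : T)
    (h : ∀ x ∈ DRing.torsionSub a W, ∃ y ∈ DRing.torsionSub a W, ∃ t : ℕ,
      b ^ (t + 1) • y = b ^ t • x) (n : ℕ) :
    ∀ x ∈ DRing.torsionSub a W, ∃ y ∈ DRing.torsionSub a W, ∃ t : ℕ,
      b ^ (t + n) • y = b ^ t • x := by
  induction n with
  | zero => exact fun x hx => ⟨x, hx, 0, rfl⟩
  | succ n ih =>
    intro x hx
    obtain ⟨y, hy, t, hyt⟩ := ih x hx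
    obtain ⟨y', hy', t', hyt'⟩ := h y hy
    refine ⟨y', hy', t' + t, ?_⟩
    have e1 : b ^ (t' + t + (n + 1)) = b ^ (t + n) * b ^ (t' + 1) := by ring
    rw [e1, mul_smul, hyt', ← mul_smul, mul_comm, mul_smul, hyt, ← mul_smul, ← pow_add]

theorem mkLinearMap_surjective_torsionSub' {T : Type u} [CommRing T] (W : Type u)
    [AddCommGroup W] [Module T W] (a : Ideal T) (b : T)
    (h : ∀ x ∈ DRing.torsionSub a W, ∃ y ∈ DRing.torsionSub a W, ∃ t : ℕ,
      b ^ (t + 1) • y = b ^ t • x) :
    Function.Surjective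
      (LocalizedModule.mkLinearMap (Submonoid.powers b) (DRing.torsionSub a W)) := by
  intro z
  induction z using LocalizedModule.induction_on with
  | h x s =>
    obtain ⟨s, hs⟩ := s
    obtain ⟨n, rfl⟩ := (Submonoid.mem_powers_iff s b).1 hs
    obtain ⟨y, hymem, t, hy⟩ := exists_div_pow W a b h n x.1 x.2
    refine ⟨⟨y, hymem⟩, ?_⟩
    rw [LocalizedModule.mkLinearMap_apply, LocalizedModule.mk_eq]
    refine ⟨⟨b ^ t, (Submonoid.mem_powers_iff _ b).2 ⟨t, rfl⟩⟩, ?_⟩
    rw [Subtype.ext_iff]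
    simp only [Submonoid.smul_def, Submodule.coe_smul, Submonoid.coe_one, one_smul]
    rw [← mul_smul, ← pow_add, hy]

theorem subsingleton_H_span_list {T : Type u} [CommRing T] [IsNoetherianRing T]
    (W : Type u) [AddCommGroup W] [Module T W] (l : List T)
    (h : ∀ (b : T) (l' : List T), (b :: l') <:+ l →
      ∀ x ∈ DRing.torsionSub (Ideal.span {c | c ∈ l'}) W,
        ∃ y ∈ DRing.torsionSub (Ideal.span {c | c ∈ l'}) W, ∃ t : ℕ,
          b ^ (t + 1) • y = b ^ t • x) :
    ∀ i, 0 < i → Subsingleton (LocCoh.H (Ideal.span {c | c ∈ l}) i W) := by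
  induction l with
  | nil =>
    intro i hi
    have : ({c | c ∈ ([] : List T)} : Set T) = ∅ := by
      ext c
      simp
    rw [this, Ideal.span_empty]
    exact subsingleton_H_bot W i hi
  | cons b l' ih =>
    have ih' := ih (fun b0 l0 hsuf => h b0 l0 (hsuf.trans (List.suffix_cons b l')))
    intro i hi
    obtain ⟨i', rfl⟩ : ∃ i', i = i' + 1 := ⟨i - 1, by omega⟩
    rw [span_cons]
    refine subsingleton_H_sup_span _ b W i' ?_ (ih' (i' + 1) (Nat.succ_pos _))
    rcases Nat.eq_zero_or_pos i' with h0 | hpos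
    · subst h0
      haveI := subsingleton_H1_of_mkLinearMap_surjective b _
        (mkLinearMap_surjective_torsionSub' W (Ideal.span {c | c ∈ l'}) b
          (h b l' (List.suffix_refl _)))
      exact (Hcongr (Ideal.span {b}) 1 (H0equiv (Ideal.span {c | c ∈ l'}) W)).injective.subsingleton
    · haveI := ih' i' hpos
      exact subsingleton_H_of_subsingleton _ 1

end Groth.Agent.H29.SegWP2
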