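import Mathlib
import Groth.Agent.H29.FlatModSk
import Groth.Agent.H29.NormFlatLoc
import Groth.Agent.Lead.CompleteNoetherian

/-!
# Dimension of the Jacobson-adic completion of a finite module over a semi-local Noetherian ring
(towards S5811)
-/

set_option autoImplicit false
set_option linter.style.haveILetI false
set_option linter.unusedSectionVars false
set_option maxHeartbeats 400000

universe u

open Function IsLocalRing TensorProduct
open Groth.Agent.H29.GenDepth

namespace Groth.Agent.H29.SemiLocCplDim

section SupportDim

variable {R : Type u} [CommRing R] (X : Type u) [AddCommGroup X] [Module R X]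

/-- The dimension of a localization is at most the dimension. -/
theorem sdim_le_supportDim (q : Ideal R) [hq : q.IsPrime] : sdim q X ≤ Module.supportDim R X := by
  by_cases hqX : (⟨q, hq⟩ : PrimeSpectrum R) ∈ Module.support R X
  · have h1 := Groth.Agent.H29.FinDimDepth.supportDim_atPrime_eq_height (M := X) ⟨q, hq⟩ hqX
    show Module.supportDim _ _ ≤ _
    rw [h1]
    exact Order.height_le_krullDim _
  · rw [Module.mem_support_iff, not_nontrivial_iff_subsingleton] at hqX
    show Module.supportDim _ _ ≤ _
    rw [Module.supportDim_eq_bot_of_subsingleton]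
    exact bot_le

/-- The dimension is bounded by the dimensions at the maximal ideals. -/
theorem supportDim_le_of_forall_maximal (D : WithBot ℕ∞)
    (h : ∀ (m : Ideal R) [m.IsMaximal], sdim m X ≤ D) : Module.supportDim R X ≤ D := by
  unfold Module.supportDim
  by_cases hne : Nonempty ↥(Module.support R X)
  · rw [Order.krullDim_eq_iSup_height]
    apply iSup_le
    rintro ⟨P, hP⟩
    obtain ⟨m, hm, hPm⟩ := Ideal.exists_le_maximal P.asIdeal P.2.ne_top
    have hmX : (⟨m, hm.isPrime⟩ : PrimeSpectrum R) ∈ Module.support R X :=
      Module.mem_support_mono (show P ≤ ⟨m, hm.isPrime⟩ from hPm) hP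
    have h1 := Groth.Agent.H29.FinDimDepth.supportDim_atPrime_eq_height (M := X)
      ⟨m, hm.isPrime⟩ hmX
    have h2 : sdim m X ≤ D := h m
    change Module.supportDim _ _ ≤ D at h2
    rw [h1] at h2
    refine le_trans ?_ h2
    have h3 : Order.height (⟨P, hP⟩ : ↥(Module.support R X)) ≤
        Order.height (⟨⟨m, hm.isPrime⟩, hmX⟩ : ↥(Module.support R X)) :=
      Order.height_mono (show (⟨P, hP⟩ : ↥(Module.support R X)) ≤ ⟨⟨m, hm.isPrime⟩, hmX⟩ from hPm)
    exact_mod_cast h3
  · rw [not_nonempty_iff] at hne
    rw [Order.krullDim_eq_bot]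
    exact bot_le

end SupportDim

section Semilocal

variable {A : Type u} [CommRing A]

/-- In a semi-local ring, a prime containing the Jacobson radical is maximal. -/
theorem isMaximal_of_jacobson_le [Finite (MaximalSpectrum A)] (p : Ideal A) [hp : p.IsPrime]
    (h : Ring.jacobson A ≤ p) : p.IsMaximal := by
  classical
  haveI : Fintype (MaximalSpectrum A) := Fintype.ofFinite _
  have h1 : (Finset.univ : Finset (MaximalSpectrum A)).inf (fun m => m.asIdeal) ≤
      Ring.jacobson A := by
    rw [Ring.jacobson_eq_sInf_isMaximal]
    apply le_sInf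
    intro J hJ
    exact Finset.inf_le (f := fun m : MaximalSpectrum A => m.asIdeal)
      (Finset.mem_univ (⟨J, hJ⟩ : MaximalSpectrum A))
  have h2 : (Finset.univ : Finset (MaximalSpectrum A)).prod (fun m => m.asIdeal) ≤ p :=
    (Ideal.prod_le_inf.trans h1).trans h
  obtain ⟨m, -, hm⟩ := (Ideal.IsPrime.prod_le hp).mp h2
  have : m.asIdeal = p := m.isMaximal.eq_of_le hp.ne_top hm
  rw [← this]
  exact m.isMaximal

theorem jacobson_le_of_isMaximal (m : Ideal A) [hm : m.IsMaximal] : Ring.jacobson A ≤ m := by
  rw [Ring.jacobson_eq_sInf_isMaximal]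
  exact sInf_le hm

end Semilocal

section Krull

variable {R : Type u} [CommRing R] [IsLocalRing R]

/-- A module killed by the maximal ideal has dimension `≤ 0`. -/
theorem supportDim_quot_maximalIdeal_le (Y : Type u) [AddCommGroup Y] [Module R Y] :
    Module.supportDim R (Y ⧸ (maximalIdeal R • (⊤ : Submodule R Y))) ≤ 0 := by
  unfold Module.supportDim
  haveI : Subsingleton ↥(Module.support R (Y ⧸ (maximalIdeal R • (⊤ : Submodule R Y)))) := by
    have key : ∀ P ∈ Module.support R (Y ⧸ (maximalIdeal R • (⊤ : Submodule R Y))),
        P = closedPoint R := by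
      intro P hP
      have h1 : maximalIdeal R ≤ P.asIdeal := by
        have h2 := Module.annihilator_le_of_mem_support hP
        refine le_trans ?_ h2
        intro a ha
        rw [Module.mem_annihilator]
        intro y
        obtain ⟨y, rfl⟩ := Submodule.Quotient.mk_surjective _ y
        rw [← Submodule.Quotient.mk_smul, Submodule.Quotient.mk_eq_zero]
        exact Submodule.smul_mem_smul ha Submodule.mem_top
      exact PrimeSpectrum.ext ((maximalIdeal.isMaximal R).eq_of_le P.2.ne_top h1).symm
    exact ⟨fun a b => Subtype.ext ((key a.1 a.2).trans (key b.1 b.2).symm)⟩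
  exact Order.krullDim_nonpos_of_subsingleton

end Krull

section Main

theorem supportDim_quot_le_of_eq {R : Type u} [CommRing R] [IsLocalRing R] (Y : Type u)
    [AddCommGroup Y] [Module R Y] (J : Ideal R) (hJ : J = maximalIdeal R) :
    Module.supportDim R (Y ⧸ (J • (⊤ : Submodule R Y))) ≤ 0 := by
  subst hJ
  exact supportDim_quot_maximalIdeal_le Y

theorem nontrivial_quot_of_eq {R : Type u} [CommRing R] [IsLocalRing R] (Y : Type u)
    [AddCommGroup Y] [Module R Y] [Module.Finite R Y] [Nontrivial Y] (J : Ideal R)
    (hJ : J = maximalIdeal R) : Nontrivial (Y ⧸ (J • (⊤ : Submodule R Y))) := by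
  subst hJ
  exact Submodule.Quotient.nontrivial_iff.mpr (Groth.Agent.H29.maximalIdeal_smul_top_ne_top R Y)

variable (A : Type u) [CommRing A] [IsNoetherianRing A] (I : Ideal A)
  (M : Type u) [AddCommGroup M] [Module A M] [Module.Finite A M]

/-- **Dimension of the completion** of a finite module along an ideal `I` contained in all maximal
ideals and such that `V(I)` consists of maximal ideals. -/
theorem supportDim_completion (hI1 : ∀ (m : Ideal A) [m.IsMaximal], I ≤ m)
    (hI2 : ∀ (p : Ideal A) [p.IsPrime], I ≤ p → p.IsMaximal) :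
    Module.supportDim (AdicCompletion I A) (AdicCompletion I M) = Module.supportDim A M := by
  have fg : I.FG := I.fg_of_isNoetherianRing
  haveI hN : IsNoetherianRing (AdicCompletion I A) :=
    Groth.Agent.Lead.isNoetherianRing_adicCompletion I fg
  haveI : Module.Flat A (AdicCompletion I A) := AdicCompletion.flat_of_isNoetherian I
  haveI hcomp : IsAdicComplete (I.map (algebraMap A (AdicCompletion I A))) (AdicCompletion I A) :=
    AdicCompletion.isAdicComplete_self I fg
  have hjac : I.map (algebraMap A (AdicCompletion I A)) ≤ Ideal.jacobson ⊥ :=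
    IsAdicComplete.le_jacobson_bot _
  rw [← Module.supportDim_eq_of_equiv (AdicCompletion.ofTensorProductEquivOfFiniteNoetherian I M)]
  -- facts about maximal ideals of the completion
  have hmax : ∀ (Q : Ideal (AdicCompletion I A)) [Q.IsMaximal],
      (Q.comap (algebraMap A (AdicCompletion I A))).IsMaximal ∧
        (Q.comap (algebraMap A (AdicCompletion I A))).map (algebraMap A (AdicCompletion I A)) = Q := by
    intro Q hQ
    have h1 : I.map (algebraMap A (AdicCompletion I A)) ≤ Q :=
      hjac.trans (sInf_le ⟨bot_le, hQ⟩)
    have h2 : I ≤ Q.comap (algebraMap A (AdicCompletion I A)) := Ideal.le_comap_of_map_le h1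
    haveI h3 : (Q.comap (algebraMap A (AdicCompletion I A))).IsMaximal := hI2 _ h2
    refine ⟨h3, ?_⟩
    haveI h4 := AdicCompletion.isMaximal_map_of_le I
      (Q.comap (algebraMap A (AdicCompletion I A))) h2 fg
    exact h4.eq_of_le hQ.ne_top Ideal.map_comap_le
  have hfib : ∀ (Q : Ideal (AdicCompletion I A)) [Q.IsMaximal],
      (Q.comap (algebraMap A (AdicCompletion I A))).map
        (algebraMap A (Localization.AtPrime Q)) = maximalIdeal (Localization.AtPrime Q) := by
    intro Q hQ
    rw [IsScalarTower.algebraMap_eq A (AdicCompletion I A) (Localization.AtPrime Q),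
      ← Ideal.map_map, (hmax Q).2, Localization.AtPrime.map_eq_maximalIdeal]
  apply le_antisymm
  · apply supportDim_le_of_forall_maximal
    intro Q hQ
    obtain ⟨-, h2, -⟩ := Groth.Agent.H29.FlatModSk.flat_mod_data A (AdicCompletion I A) M
      (AdicCompletion I A) Q
    refine h2.trans ?_
    have h3 : Module.supportDim (Localization.AtPrime Q)
        (EGA4.FibLocMod A (AdicCompletion I A) Q (AdicCompletion I A)) ≤ 0 :=
      supportDim_quot_le_of_eq _ _ (hfib Q)
    have h4 := sdim_le_supportDim M (Q.comap (algebraMap A (AdicCompletion I A)))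
    calc _ ≤ Module.supportDim A M + 0 := add_le_add h4 h3
      _ = _ := add_zero _
  · apply supportDim_le_of_forall_maximal
    intro m hm
    by_cases hnt : Nontrivial (LocalizedModule m.primeCompl M)
    swap
    · rw [not_nontrivial_iff_subsingleton] at hnt
      show Module.supportDim _ _ ≤ _
      rw [Module.supportDim_eq_bot_of_subsingleton]
      exact bot_le
    haveI hQ : (m.map (algebraMap A (AdicCompletion I A))).IsMaximal :=
      AdicCompletion.isMaximal_map_of_le I m (hI1 m) fg
    have hcm : (m.map (algebraMap A (AdicCompletion I A))).comap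
        (algebraMap A (AdicCompletion I A)) = m :=
      (hm.eq_of_le (Ideal.comap_ne_top _ hQ.ne_top) Ideal.le_comap_map).symm
    obtain ⟨-, -, h3⟩ := Groth.Agent.H29.FlatModSk.flat_mod_data A (AdicCompletion I A) M
      (AdicCompletion I A) (m.map (algebraMap A (AdicCompletion I A)))
    have h4 := h3
      (Groth.Agent.H29.NormFlatLoc.nontrivial_ideal_congr m _ hcm.symm M hnt) inferInstance
    have h5 : sdim m M = sdim ((m.map (algebraMap A (AdicCompletion I A))).comap
        (algebraMap A (AdicCompletion I A))) M := sdim_congr M _ _ hcm.symm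
    haveI : Nontrivial (EGA4.FibLocMod A (AdicCompletion I A)
        (m.map (algebraMap A (AdicCompletion I A))) (AdicCompletion I A)) :=
      nontrivial_quot_of_eq _ _ (hfib _)
    have h6 : (0 : WithBot ℕ∞) ≤ Module.supportDim
        (Localization.AtPrime (m.map (algebraMap A (AdicCompletion I A))))
        (EGA4.FibLocMod A (AdicCompletion I A)
          (m.map (algebraMap A (AdicCompletion I A))) (AdicCompletion I A)) := by
      have hne := (Module.supportDim_ne_bot_iff_nontrivial
        (Localization.AtPrime (m.map (algebraMap A (AdicCompletion I A))))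
        (EGA4.FibLocMod A (AdicCompletion I A)
          (m.map (algebraMap A (AdicCompletion I A))) (AdicCompletion I A))).mpr inferInstance
      obtain ⟨y, hy⟩ := WithBot.ne_bot_iff_exists.mp hne
      rw [← hy]
      exact WithBot.coe_le_coe.mpr zero_le
    rw [h5]
    refine le_trans (le_add_of_nonneg_right h6) ?_
    rw [← h4]
    exact sdim_le_supportDim _ _

end Main

end Groth.Agent.H29.SemiLocCplDim
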