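import Mathlib.RingTheory.KrullDimension.Regular
import Mathlib.RingTheory.Support
import Mathlib.RingTheory.Spectrum.Prime.Module
import Mathlib.RingTheory.Localization.AtPrime.Basic
import Mathlib.Algebra.Module.LocalizedModule.Basic

set_option autoImplicit false
universe u v

namespace Groth.Agent.H29

open PrimeSpectrum

/-- The support of a localized module, as a module over the original ring, lies in the support. -/
theorem support_localizedModule_subset {A : Type u} [CommRing A] {M : Type v} [AddCommGroup M]
    [Module A M] (S : Submonoid A) :
    Module.support A (LocalizedModule S M) ⊆ Module.support A M := by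
  intro q hq
  rw [Module.mem_support_iff'] at hq ⊢
  obtain ⟨x, hx⟩ := hq
  induction x using LocalizedModule.induction_on with
  | h m s =>
    refine ⟨m, fun r hr h0 => hx r hr ?_⟩
    rw [LocalizedModule.smul'_mk, h0, LocalizedModule.zero_mk]

/-- Primes in the support of `M_p` over `A_p` contract to primes in the support of `M` contained in `p`. -/
theorem comap_mem_support_of_mem_support_localizedModule {A : Type u} [CommRing A] {M : Type v}
    [AddCommGroup M] [Module A M] (p : Ideal A) [p.IsPrime]
    (Q : PrimeSpectrum (Localization.AtPrime p))
    (hQ : Q ∈ Module.support (Localization.AtPrime p) (LocalizedModule p.primeCompl M)) :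
    comap (algebraMap A (Localization.AtPrime p)) Q ∈ Module.support A M ∧
      (comap (algebraMap A (Localization.AtPrime p)) Q).asIdeal ≤ p := by
  constructor
  · apply support_localizedModule_subset p.primeCompl
    exact Module.support_subset_preimage_comap (R := A) (A := Localization.AtPrime p)
      (M := LocalizedModule p.primeCompl M) hQ
  · have h1 : Q.asIdeal ≤ IsLocalRing.maximalIdeal (Localization.AtPrime p) :=
      IsLocalRing.le_maximalIdeal Q.isPrime.ne_top
    have h2 := Ideal.comap_mono (f := algebraMap A (Localization.AtPrime p)) h1
    have h3 : (IsLocalRing.maximalIdeal (Localization.AtPrime p)).comap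
        (algebraMap A (Localization.AtPrime p)) = p := Localization.AtPrime.under_maximalIdeal
    rw [h3] at h2
    exact h2

end Groth.Agent.H29
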