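import Groth.Agent.H29.TopDim

set_option autoImplicit false
universe u

namespace Groth.Agent.H29

open TopologicalSpace Topology Set

/-- Comparing dimensions of iterated subspaces of one ambient space. -/
theorem dim_le_of_forall_mem {X : Type u} [TopologicalSpace X] (S : Set X) (W : Set S) (T : Set X)
    (V : Set T) (h : ∀ a : S, a ∈ W → ∃ (ha : (a : X) ∈ T), (⟨a, ha⟩ : T) ∈ V) :
    topologicalKrullDim W ≤ topologicalKrullDim V := by
  let g : W → V := fun a => ⟨⟨a.1.1, (h a.1 a.2).1⟩, (h a.1 a.2).2⟩
  have hg : Continuous g :=
    Continuous.subtype_mk (Continuous.subtype_mk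
      (continuous_subtype_val.comp continuous_subtype_val) _) _
  have hv : Continuous (fun b : V => (b.1.1 : X)) :=
    continuous_subtype_val.comp continuous_subtype_val
  have hind : IsInducing ((fun b : V => (b.1.1 : X)) ∘ g) := by
    have : ((fun b : V => (b.1.1 : X)) ∘ g) = (fun a : W => (a.1.1 : X)) := rfl
    rw [this]
    exact IsInducing.subtypeVal.comp IsInducing.subtypeVal
  exact (IsInducing.of_comp hg hv hind).topologicalKrullDim_le

/-- A subspace of a subspace has dimension at most that of a set of the ambient space containing it. -/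
theorem dim_le_of_forall_mem' {X : Type u} [TopologicalSpace X] (S : Set X) (W : Set S) (T : Set X)
    (h : ∀ a : S, a ∈ W → (a : X) ∈ T) :
    topologicalKrullDim W ≤ topologicalKrullDim T := by
  let g : W → T := fun a => ⟨a.1.1, h a.1 a.2⟩
  have hg : Continuous g :=
    Continuous.subtype_mk (continuous_subtype_val.comp continuous_subtype_val) _
  have hind : IsInducing ((Subtype.val : T → X) ∘ g) := by
    have : ((Subtype.val : T → X) ∘ g) = (fun a : W => (a.1.1 : X)) := rfl
    rw [this]
    exact IsInducing.subtypeVal.comp IsInducing.subtypeVal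
  exact (IsInducing.of_comp hg continuous_subtype_val hind).topologicalKrullDim_le

/-- Dimension of a space covered by a locally finite family of closed subsets is bounded by any common bound. -/
theorem dim_le_of_locallyFinite_closed_cover {X : Type u} [TopologicalSpace X]
    {ι : Type*} (Y : ι → Set X) (hY : ∀ i, IsClosed (Y i)) (hlf : LocallyFinite Y)
    (hcov : ⋃ i, Y i = Set.univ) (c : WithBot ℕ∞) (hc : ∀ i, topologicalKrullDim (Y i) ≤ c) :
    topologicalKrullDim X ≤ c := by
  unfold topologicalKrullDim Order.krullDim
  apply iSup_le
  intro p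
  obtain ⟨i, hi⟩ := last_subset_of_locallyFinite p Y hY hlf hcov
  exact (length_le_dim_of_subset p (Y i) hi).trans (hc i)

end Groth.Agent.H29
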