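import Groth.Agent.H29.TopDim

set_option autoImplicit false
universe u

namespace Groth.Agent.H29

open TopologicalSpace Topology Set

theorem topDim_nonneg_of_nonempty (X : Type u) [TopologicalSpace X] [Nonempty X] :
    0 ≤ topologicalKrullDim X := by
  obtain ⟨x⟩ := ‹Nonempty X›
  have : Nonempty (IrreducibleCloseds X) :=
    ⟨⟨closure {x}, isIrreducible_singleton.closure, isClosed_closure⟩⟩
  exact Order.krullDim_nonneg

theorem isClosed_singleton_of_topDim_nonpos (X : Type u) [TopologicalSpace X]
    [NoetherianSpace X] [T0Space X] (h : topologicalKrullDim X ≤ 0) (x : X) :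
    IsClosed ({x} : Set X) := by
  have hmax := Order.krullDim_nonpos_iff_forall_isMax.mp h
  obtain ⟨y, hy, hyc⟩ := (isClosed_closure (s := ({x} : Set X))).exists_closed_singleton
    ⟨x, subset_closure rfl⟩
  let Z : IrreducibleCloseds X := ⟨closure {x}, isIrreducible_singleton.closure, isClosed_closure⟩
  let Y : IrreducibleCloseds X := ⟨{y}, isIrreducible_singleton, hyc⟩
  have hYZ : Y ≤ Z := fun a ha => by
    have : a = y := ha
    subst this
    exact hy
  have hZY : Z ≤ Y := hmax Y hYZ
  have hx : x ∈ ({y} : Set X) := hZY (subset_closure rfl : x ∈ closure {x})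
  have : x = y := hx
  subst this
  exact hyc

theorem finite_and_discrete_of_topDim_nonpos (X : Type u) [TopologicalSpace X]
    [NoetherianSpace X] [T0Space X] (h : topologicalKrullDim X ≤ 0) :
    Finite X ∧ DiscreteTopology X := by
  have hmax := Order.krullDim_nonpos_iff_forall_isMax.mp h
  have hcl := isClosed_singleton_of_topDim_nonpos X h
  have hfin : Finite X := by
    rw [← Set.finite_univ_iff, ← sUnion_irreducibleComponents]
    refine Set.Finite.sUnion NoetherianSpace.finite_irreducibleComponents ?_
    intro Z hZ
    have hZirr : IsIrreducible Z := hZ.1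
    have hZcl : IsClosed Z := isClosed_of_mem_irreducibleComponents Z hZ
    obtain ⟨x, hx⟩ := hZirr.nonempty
    let Z' : IrreducibleCloseds X := ⟨Z, hZirr, hZcl⟩
    let Y : IrreducibleCloseds X := ⟨{x}, isIrreducible_singleton, hcl x⟩
    have hYZ : Y ≤ Z' := fun a ha => by
      have : a = x := ha
      subst this
      exact hx
    have hZY : Z' ≤ Y := hmax Y hYZ
    exact (Set.finite_singleton x).subset hZY
  exact ⟨hfin, DiscreteTopology.of_finite_of_isClosed_singleton hcl⟩

end Groth.Agent.H29
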